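import Cfsg.Agent.H16.C9q

/-! Tables of conjugation maps; transport of the presentation. -/

set_option autoImplicit false
set_option linter.unusedSectionVars false

namespace H16.C9
open H26 (frc frc_eq)
open Subgroup H25 H25.FS H4.G3

variable {Γ Δ : Type*} [Group Γ] [Group Δ] {y w : ℕ → Γ} {x : ℕ → Δ} {U E : Subgroup Γ}
  {e k m n L L' M T : ℕ} {g h : Γ} {f : ℕ → ℕ}

theorem map_evk (f : Δ →* Γ) (h : ∀ j < k, f (x j) = y j) : ∀ e, f (evk x k e) = evk y k e := by
  induction k with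
  | zero => intro e; exact map_one f
  | succ k ih =>
    intro e
    rw [evk, evk, map_mul, map_pow, h k k.lt_succ_self, ih fun j hj => h j (by omega)]

theorem map_ev (f : Δ →* Γ) (h : ∀ j < 9, f (x j) = y j) (e : ℕ) : f (ev x e) = ev y e := map_evk f h e

theorem Md.comap (r : Md y) (f : Δ →* Γ) (hf : Function.Injective f) (h : ∀ j < 9, f (x j) = y j) :
    Md x where
  cj k hk j hj := hf (by
    rw [map_mul, map_mul, map_ev f h, h k hk, h j (by omega)]; exact r.cj k hk j hj)
  pw k hk := hf (by rw [map_pow, map_ev f h, h k hk]; exact r.pw k hk)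
  ne e := r.ne (by rw [← h 0 (by decide), e, map_one])

theorem Md.map (r : Md x) (f : Δ →* Γ) (hf : Function.Injective f) : Md fun k => f (x k) where
  cj k hk j hj := by
    rw [← map_ev f fun _ _ => rfl, ← map_mul, ← map_mul]; exact congrArg f (r.cj k hk j hj)
  pw k hk := by rw [← map_ev f fun _ _ => rfl, ← map_pow]; exact congrArg f (r.pw k hk)
  ne e := r.ne (hf (e.trans (map_one f).symm))

theorem Md.lift (r : Md y) {H : Subgroup Γ} (h : gen y 9 ≤ H) : ∃ x : ℕ → H, Md x :=
  ⟨fun k => if hk : k < 9 then ⟨y k, h (mem_gen y hk)⟩ else 1,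
    r.comap H.subtype H.subtype_injective fun j hj => by simp [hj]⟩

theorem Md.hom [Finite Δ] [Finite Γ] (r : Md x) (r' : Md y) : ∃ f : gen x 9 →* Γ, Function.Injective f ∧
    ∀ e (he : e < 19683), f ⟨ev x e, ev_mem he⟩ = ev y e := by
  choose c h1 h2 using fun s : gen x 9 => r.ex s.2
  have a : ∀ e (he : e < 19683), c ⟨ev x e, ev_mem he⟩ = e := fun e he => r.inj (h1 _) he (h2 _)
  refine ⟨MonoidHom.mk' (fun s => ev y (c s)) fun s t => ?_, fun s t e => Subtype.ext ?_,
    fun e he => congrArg (ev y) (a e he)⟩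
  · rw [← r'.ev_mul (h1 s) (h1 t), ← a _ (r.mul_lt (h1 s) (h1 t))]
    exact congrArg (fun s => ev y (c s)) (Subtype.ext (by
      simp only [r.ev_mul (h1 s) (h1 t), h2, coe_mul]))
  · rw [← h2, ← h2, r'.inj (h1 s) (h1 t) e]

/-- the nonzero entries give the values -/
def Tb (y w : ℕ → Γ) (L : ℕ) : Prop := ∀ k < 9, tg L k < 19683 ∧ (tg L k ≠ 0 → w k = ev y (tg L k))

/-- conjugation by `g` has table `L` -/
def At (y : ℕ → Γ) (g : Γ) (L : ℕ) : Prop := Tb y (fun k => g * y k * g⁻¹) L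

/-- image of a code, or `19683` -/
noncomputable def apk (L k : ℕ) : ℕ → ℕ :=
  Nat.rec (motive := fun _ => ℕ → ℕ) (fun _ => nat_lit 0) (fun k ih e =>
    frc (Nat.pow (nat_lit 3) k) fun n => frc (Nat.div e n) fun d => frc (Nat.mod e n) fun v =>
      iz d (ih v) (frc (tg L k) fun t => iz t (nat_lit 19683) (frc (ih v) fun r =>
        iz (Nat.xor r (nat_lit 19683)) (nat_lit 19683)
          (frc (iz (Nat.pred d) r (mul t r)) (mul t))))) k

theorem apk_succ (L k e : ℕ) : apk L (k + 1) e = if e / 3 ^ k = 0 then apk L k (e % 3 ^ k) else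
    if tg L k = 0 then 19683 else if Nat.xor (apk L k (e % 3 ^ k)) 19683 = 0 then 19683 else
      mul (tg L k) (if (e / 3 ^ k).pred = 0 then apk L k (e % 3 ^ k) else
        mul (tg L k) (apk L k (e % 3 ^ k))) := by
  simp only [← iz_eq]; rfl

/-- image of a code, or zero -/
noncomputable def ap (L e : ℕ) : ℕ := Nat.mod (apk L (nat_lit 9) e) (nat_lit 19683)

theorem ap_lt (L e : ℕ) : ap L e < 19683 := Nat.mod_lt _ (by decide)

/-- a table from its entries -/
noncomputable def tbk (f : ℕ → ℕ) (m : ℕ) : ℕ :=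
  Nat.rec (motive := fun _ => ℕ) (nat_lit 0) (fun k ih => frc (f k) fun v => frc ih fun T => ins T k v) m

noncomputable def tb (f : ℕ → ℕ) : ℕ := tbk f (nat_lit 9)

theorem tg_tbk (h : ∀ k < m, f k < 19683) (j : ℕ) : tg (tbk f m) j = if j < m then f j else 0 := by
  induction m generalizing j with
  | zero => exact tg_zero j
  | succ m ih =>
    have := fun j => ih (fun k hk => h k (by omega)) j
    rw [show tbk f (m + 1) = ins (tbk f m) m (f m) from rfl, tg_ins (h m (by omega)) (by simp [this]), this]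
    split_ifs <;> first | rfl | omega | simp_all

theorem tg_tb (h : ∀ k < 9, f k < 19683) (hk : k < 9) : tg (tb f) k = f k := by
  rw [tb, tg_tbk h, if_pos hk]

/-- composition -/
noncomputable def cmp (L L' : ℕ) : ℕ := tb fun k => frc (tg L' k) (ap L)
/-- composition with an inner automorphism -/
noncomputable def inn (M n : ℕ) : ℕ := frc (inv n) fun s => tb fun k => frc (tg M k) fun t =>
  iz t (nat_lit 0) (cjn t s)
/-- a word in tables, first letter first -/
noncomputable def wd (Ls : List ℕ) (W : List ℕ) (M : ℕ) : ℕ :=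
  foL (fun i T => frc (nth (nat_lit 0) Ls i) fun L => cmp L T) W M
/-- `0` iff both tables agree and do not vanish on the support of `M` -/
noncomputable def eqOn (M L L' : ℕ) : ℕ :=
  s10 fun k => iz (tg M k) (nat_lit 0) (frc (tg L k) fun t => iz t (nat_lit 1) (Nat.xor t (tg L' k)))
/-- `0` iff the table respects the relations -/
noncomputable def rlCk (L : ℕ) : ℕ := s10 fun k => frc (tg L k) fun t =>
  Nat.add (Nat.add (cd t) (iz t (nat_lit 1) (Nat.xor (cu t) (apk L (nat_lit 9) (tg TP k)))))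
    (loop1 (fun j => frc (apk L (nat_lit 9) (tg TR (Nat.add (Nat.mul (nat_lit 10) k) j))) fun v =>
      Nat.add (cd v) (Nat.xor (frc (tg L j) fun s => mul s t) (mul t v))) (nat_lit 0) k)

theorem eqOn_zero (h : eqOn M L L' = 0) (hk : k < 9) (h0 : tg M k ≠ 0) :
    tg L k ≠ 0 ∧ tg L k = tg L' k := by
  have := s10_zero h k hk
  rw [iz_eq, if_neg h0, frc_eq, iz_eq] at this
  split_ifs at this with h1
  exact ⟨h1, xor_zero this⟩

theorem at_YT : At y 1 YT := fun k hk => by
  rw [tg_YT k hk, ev_gen hk]; exact ⟨pow3_lt hk, fun _ => by simp⟩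

theorem at_zero : At y g 0 := fun k _ => by simp [tg_zero]

theorem At.sub (h : At y g L) (h0 : eqOn M M L = 0) : At y g M := fun k hk => by
  by_cases h1 : tg M k = 0
  · simp [h1]
  · rw [(eqOn_zero h0 hk h1).2]; exact h k hk

theorem at_one (h0 : eqOn M M YT = 0) : At y 1 M := at_YT.sub h0

theorem ev_of_one (h : At y 1 M) (hk : k < 9) : ev y (tg M k) = if tg M k = 0 then 1 else y k := by
  split_ifs with h1
  · rw [h1, ev_zero]
  · simpa using ((h k hk).2 h1).symm

theorem At.agree (hg : At y g L) (hh : At y h L') (hM : At y 1 M) (h0 : eqOn M L L' = 0) :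
    Agree (sp y M) g h := agree_iff.2 (le_cz_comm.1 (sp_le.2 fun k hk => by
  rw [ev_of_one hM hk]
  split_ifs with h1
  · exact one_mem _
  · obtain ⟨h2, h3⟩ := eqOn_zero h0 hk h1
    have := ((hg k hk).2 h2).trans (h3 ▸ ((hh k hk).2 (h3 ▸ h2)).symm)
    refine mem_cz_zpowers.2 ?_
    calc _ = y k * h⁻¹ * (g * y k * g⁻¹)⁻¹ * g := by group
      _ = _ := by rw [show g * y k * g⁻¹ = h * y k * h⁻¹ from this]; group) (mem_zpowers _))

theorem At.congr (hg : At y g L) (e : Agree U h g) (hU : ∀ k < 9, tg L k ≠ 0 → y k ∈ U) : At y h L :=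
  fun k hk => ⟨(hg k hk).1, fun h0 => (e _ (hU k hk h0)).trans ((hg k hk).2 h0)⟩

theorem At.map {a : Δ} (hg : At x a L) (f : Δ →* Γ) (h : ∀ j < 9, f (x j) = y j) : At y (f a) L :=
  fun k hk => ⟨(hg k hk).1, fun h0 => by
    rw [← map_ev f h, ← (hg k hk).2 h0]; simp [h k hk]⟩

theorem At.cj (hg : At y g L) (h : Γ) : At (fun k => h * y k * h⁻¹) (h * g * h⁻¹) L :=
  hg.map (MulAut.conj h).toMonoidHom fun _ _ => rfl

theorem foL_cons (F : ℕ → ℕ → ℕ) (c : ℕ) (W : List ℕ) (A : ℕ) : foL F (c :: W) A = foL F W (F c A) :=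
  frc_eq _ _

namespace Rl
variable (r : Rl y)
include r

theorem apk_ok (h : Tb y w L) (hk : k ≤ 9) : ∀ e < 3 ^ k, apk L k e = 19683 ∨
    apk L k e < 19683 ∧ evk w k e = ev y (apk L k e) := by
  induction k with
  | zero => intro e _; exact Or.inr ⟨show 0 < 19683 by decide, ev_zero.symm⟩
  | succ k ih =>
    intro e he
    have h0 : 0 < 3 ^ k := by positivity
    have h1 := ih (by omega) _ (Nat.mod_lt e h0)
    have h2 : e / 3 ^ k < 3 := (Nat.div_lt_iff_lt_mul h0).2 (by rw [pow_succ] at he; omega)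
    obtain ⟨h3, h4⟩ := h k hk
    rw [apk_succ, evk]
    split_ifs with c1 c2 c3 c4
    · rw [c1]; simpa using h1
    · exact Or.inl rfl
    · exact Or.inl rfl
    all_goals obtain ⟨h5, h6⟩ := h1.resolve_left fun e => c3 (by rw [e]; rfl)
    · exact Or.inr ⟨r.mul_lt h3 h5, by
        rw [r.ev_mul h3 h5, show e / 3 ^ k = 1 by
          rw [Nat.pred_eq_sub_one] at c4; generalize e / 3 ^ k = d at *; omega, h6, h4 c2, pow_one]⟩
    · exact Or.inr ⟨r.mul_lt h3 (r.mul_lt h3 h5), by
        rw [r.ev_mul h3 (r.mul_lt h3 h5), r.ev_mul h3 h5, show e / 3 ^ k = 2 by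
          rw [Nat.pred_eq_sub_one] at c4; omega, h6,
          h4 c2, pow_two, mul_assoc]⟩

theorem ev_ap (h : At y g L) (he : e < 19683) (h0 : ap L e ≠ 0) : g * ev y e * g⁻¹ = ev y (ap L e) := by
  have := map_ev (y := fun k => g * y k * g⁻¹) (MulAut.conj g).toMonoidHom (fun _ _ => rfl) e
  refine this.trans ?_
  rcases r.apk_ok h le_rfl e he with h1 | h1
  · exact absurd (by rw [ap, h1]) h0
  · exact h1.2.trans (congrArg _ (Nat.mod_eq_of_lt h1.1).symm)

theorem at_cmp (hg : At y g L) (hh : At y h L') : At y (g * h) (cmp L L') := fun k hk => by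
  rw [cmp, tg_tb (fun k _ => by rw [frc_eq]; exact ap_lt _ _) hk, frc_eq]
  refine ⟨ap_lt _ _, fun h0 => ?_⟩
  rw [← r.ev_ap hg (hh k hk).1 h0, ← (hh k hk).2 fun e => h0 (by rw [e]; rfl)]
  simp [mul_assoc]

theorem at_inn (hg : At y g L) (hn : n < 19683) : At y (ev y n * g) (inn L n) := fun k hk => by
  have a := fun k hk => r.cjn_lt (hg k hk).1 (r.inv_lt hn)
  rw [inn, frc_eq, tg_tb (fun k hk => by
    rw [frc_eq, iz_eq]; split_ifs; exacts [by decide, a k hk]) hk, frc_eq, iz_eq]
  split_ifs with h1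
  · exact ⟨by decide, fun h => absurd rfl h⟩
  refine ⟨a k hk, fun _ => ?_⟩
  rw [r.ev_cjn (hg k hk).1 (r.inv_lt hn), r.ev_inv hn, ← (hg k hk).2 h1]
  simp [mul_assoc]

theorem at_wd {Ls W : List ℕ} (h : ∀ i ∈ W, At y (w i) (nth 0 Ls i)) :
    ∀ g M, At y g M → At y (evA w W * g) (wd Ls W M) := by
  unfold wd
  induction W with
  | nil => intro g M h; rw [evA_nil, one_mul]; exact h
  | cons i W ih =>
    intro g M h1
    rw [evA_cons, mul_assoc, foL_cons, frc_eq]
    exact ih (fun j hj => h j (List.mem_cons_of_mem _ hj)) _ _ (r.at_cmp (h i List.mem_cons_self) h1)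

end Rl

theorem Md.of_tab [Finite Γ] (r : Md y) (h : rlCk L = 0) :
    Md (fun k => ev y (tg L k)) ∧ ∀ k < 9, tg L k < 19683 := by
  have a := fun k hk => s10_zero h k hk
  simp only [frc_eq, iz_eq, Nat.add_eq, Nat.add_eq_zero_iff] at a
  have b := fun k hk => cd_zero (a k hk).1.1
  have c : Tb y (fun k => ev y (tg L k)) L := fun k hk => ⟨b k hk, fun _ => rfl⟩
  have d : ∀ k < 9, tg TP k < 19683 ∧ ∀ j < k, tg TR (10 * k + j) < 19683 := by decide +kernel
  refine ⟨⟨⟨fun k hk j hj => ?_, fun k hk => ?_⟩, fun e => ?_⟩, b⟩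
  · have := loop1_zero (a k hk).2 j hj
    simp only [Nat.zero_add, Nat.add_eq_zero_iff] at this
    have h2 := cd_zero this.1
    rw [← r.ev_mul (b j (by omega)) (b k hk), xor_zero this.2, r.ev_mul (b k hk) h2]
    exact congrArg _ ((r.apk_ok c le_rfl _ ((d k hk).2 j hj)).resolve_left h2.ne).2.symm
  · have := (a k hk).1.2
    split_ifs at this
    rcases r.apk_ok c le_rfl _ (d k hk).1 with h1 | h1
    · exact absurd ((xor_zero this).trans h1) (r.cu_lt (b k hk)).ne
    · rw [← r.ev_cu (b k hk), xor_zero this]; exact h1.2.symm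
  · have := (a 0 (by decide)).1.2
    rw [if_pos ((r.eq_one (b 0 (by decide))).1 e)] at this
    exact absurd this (by decide)

end H16.C9
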