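import Cfsg.Agent.H16.C9f

/-! The normal form of the generators of the fusion systems, and models. -/

set_option autoImplicit false
set_option maxRecDepth 100000

namespace H16.C9
open Subgroup H25

/-- the diagonal automorphisms -/
def DG : List ℕ := [nat_lit 0x19a1088b02d900f30051001b000900030001,
  nat_lit 0x3342088b05b200f300510036000900060001,
  nat_lit 0x19a1111605b200f300a20036000900030001,
  nat_lit 0x3342111602d900f300a2001b000900060001,
  nat_lit 0x19a1088b02d901e600a20036001200060002,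
  nat_lit 0x3342088b05b201e600a2001b001200030002,
  nat_lit 0x19a1111605b201e60051001b001200060002,
  nat_lit 0x3342111602d901e600510036001200030002]
/-- `b>b c>bc d>d e>e f>ef u>u v>u2v z>uvz` -/
def V1 : ℕ := nat_lit 0x88b0b6400f30051006c00090015000d
/-- `a>a c>ac d>d e>de f>f u>de2u v>f2v z>z` -/
def V20 : ℕ := nat_lit 0x19a100001c7a00f30144001b019e00390001
/-- `a>a c>ac d>d e>dez f>f u>de2uz v>f2v z>z` -/
def V21 : ℕ := nat_lit 0x19a100001c7a00f30145001b019f00390001
/-- `a>a c>ac d>d e>dez2 f>f u>de2uz2 v>f2v z>z` -/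
def V22 : ℕ := nat_lit 0x19a100001c7a00f30146001b01a000390001
/-- `a>a b>b c>c e>beu2 f>cfz2 u>u v>v z>z` -/
def V3 : ℕ := nat_lit 0x19a1088b02d9000008ee02f6000900030001
/-- `a>a b>b c>c d>dz e>e f>f u>u v>v z>z` -/
def Dl : ℕ := nat_lit 0x19a1088b02d900f40051001b000900030001

/-- the tables of the letters `9, …, 14` -/
noncomputable def TL (V : ℕ) : List ℕ := [nth 0 DG 1, nth 0 DG 2, V1, V, V3, nth 0 DG 4]

/-- a group with Sylow subgroup given by the presentation and fusion in normal form -/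
def Mo {G : Type*} [Group G] (H : Subgroup G) (ε : Prop) (V : ℕ) : Prop := ∃ y : ℕ → G, Md y ∧
  Syl 3 (gen y 9) H ∧ (∀ i < 5, ∃ g ∈ H, At y g (nth 0 (TL V) i)) ∧ (ε → ∃ g ∈ H, At y g (nth 0 DG 4)) ∧
    (¬ ε → ∀ g ∈ H, g * y 0 * g⁻¹ ≠ (y 0)⁻¹)

/-- the relations as pairs of words -/
noncomputable def LP (V : ℕ) : List (List ℕ × List ℕ) :=
  (((List.range 9).flatMap fun k => (List.range k).map fun j =>
    ([k, j], wdk 9 (tg TR (10 * k + j)) ++ [k])) ++ (List.range 9).map fun k => ([k, k, k], wdk 9 (tg TP k))) ++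
  (List.range 6).flatMap fun i => (List.range 9).map fun k => if tg (nth 0 (TL V) i) k = 0 then ([], [])
    else ([k, 9 + i], (9 + i) :: wdk 9 (tg (nth 0 (TL V) i) k))

theorem of_LP {G : Type*} [Group G] {y : ℕ → G} {V : ℕ} (hV : ∀ i < 6, ∀ k < 9, tg (nth 0 (TL V) i) k < 19683)
    (h : ∀ p ∈ LP V, evA y p.1 = evA y p.2) : Rl y ∧ ∀ i < 6, At y (y (9 + i)) (nth 0 (TL V) i) := by
  refine ⟨⟨fun k hk j hj => ?_, fun k hk => ?_⟩, fun i hi k hk => ⟨hV i hi k hk, fun h0 => ?_⟩⟩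
  · have := h _ (List.mem_append_left _ (List.mem_append_left _
      (List.mem_flatMap.2 ⟨k, List.mem_range.2 hk, List.mem_map.2 ⟨j, List.mem_range.2 hj, rfl⟩⟩)))
    simpa [evA_append, evA_wdk, ev] using this
  · have := h _ (List.mem_append_left _ (List.mem_append_right _ (List.mem_map.2 ⟨k, List.mem_range.2 hk, rfl⟩)))
    simpa [evA_wdk, ev, pow_three, mul_assoc] using this
  · have := h _ (List.mem_append_right _
      (List.mem_flatMap.2 ⟨i, List.mem_range.2 hi, List.mem_map.2 ⟨k, List.mem_range.2 hk, rfl⟩⟩))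
    rw [if_neg h0] at this
    simpa [evA_wdk, ev, mul_inv_eq_iff_eq_mul] using this

theorem ex_nth {α : Type} (d : α) {L : List α} {a : α} (h : a ∈ L) : ∃ i < L.length, nth d L i = a := by
  obtain ⟨i, hi, rfl⟩ := List.getElem_of_mem h
  exact ⟨i, hi, by simp [nth_eq_getD, hi]⟩

theorem syl_of_card {G : Type*} [Group G] {U H : Subgroup G} {m : ℕ} (h : U ≤ H) (h1 : Nat.card U = 3 ^ 9)
    (h2 : Nat.card H = 3 ^ 9 * m) (h3 : ¬ 3 ∣ m) : Syl 3 U H := ⟨h, by
  have := (U.subgroupOf H).card_mul_index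
  rw [Nat.card_congr (subgroupOfEquivOfLe h).toEquiv, h1, h2] at this
  rwa [relIndex, Nat.eq_of_mul_eq_mul_left (by decide) this]⟩

end H16.C9
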