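import Cfsg.Agent.H16.C9y

/-! Enumeration of the possible generators of the automizers. -/

set_option autoImplicit false
set_option maxRecDepth 100000
set_option maxHeartbeats 0
set_option Elab.async false

namespace H16.C9
open H26 (frc frc_eq)

/-- a listed table up to an inner automorphism -/
noncomputable def acc (T L : ℕ) (X Z : List ℕ) : ℕ := anyL (fun n => Nat.add (Nat.add (cd n) (sift T n))
  (frc (inn L n) fun L' => anyL (Nat.xor L') Z)) X

def P1 : List ℕ := [10002, 10102, 10104, 10204, 10205, 20202, 20101, 604, 20000, 704, 20000]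
def Z1 : List ℕ := [4, 7, 5, 0, 2, 11, 12, 13, 99]
def P2 : List ℕ := [10104, 20000, 10305, 20000, 10207]
def Z2 : List ℕ := [0, 1, 5, 3, 6, 7, 8, 99, 9]
def P3' : List ℕ := [10102, 20000, 10204, 20000, 10405, 10503, 20000, 10305]
def Z3 : List ℕ := [0, 1, 3, 4, 8, 99, 6, 9, 10]
def P4 : List ℕ := [10102, 10103, 10104, 20101, 10006, 20202, 6, 3, 3, 20808, 1]
def Z4 : List ℕ := [6, 7, 2, 11, 0, 12, 99, 99, 99]
def LB : List ℕ := [2187, 2217, 2247, 2286, 2316, 2346, 2358, 2388, 2418]
def LC : List ℕ := [2916, 2948, 2977, 3018, 3050, 3070, 3093, 3116, 3145]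
def LD : List ℕ := [243, 244, 245, 246, 247, 248, 249, 250, 251, 252, 253, 254, 255, 256, 257, 258, 259, 260,
  261, 262, 263, 264, 265, 266, 267, 268, 269]
def LA : List ℕ := [6561, 6566, 6568, 6588, 6593, 6595, 6615, 6620, 6622]
def LC' : List ℕ := [7290, 7295, 7297, 7319, 7321, 7323, 7345, 7347, 7352]
def LN : List ℕ := [0, 9, 18, 81, 90, 99, 162, 171, 180, 243, 252, 261, 324, 333, 342, 405, 414, 423, 486, 495,
  504, 567, 576, 585, 648, 657, 666]
def LJ : List ℕ := [0, 1, 2, 9, 10, 11, 18, 19, 20, 81, 82, 83, 90, 91, 92, 99, 100, 101, 162, 163, 164, 171, 172,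
  173, 180, 181, 182, 243, 244, 245, 252, 253, 254, 261, 262, 263, 324, 325, 326, 333, 334, 335, 342, 343, 344,
  405, 406, 407, 414, 415, 416, 423, 424, 425, 486, 487, 488, 495, 496, 497, 504, 505, 506, 567, 568, 569, 576,
  577, 578, 585, 586, 587, 648, 649, 650, 657, 658, 659, 666, 667, 668]
def PF (c : ℕ) : List ℕ := [10001, 10002, 10104, 10305, 10006, c]
/-- the possible generators for the first subgroup, with a change of generators -/
def VC : List (ℕ × ℕ) := [(V1, YT), (0x88b0b6400ff0051006c00090015000d, 0x19a1088b02d900f50051001b000900030001),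
  (0x88b0b64010b0051006c00090015000d, Dl)]
/-- the possible generators for the fourth subgroup -/
def L9 : List ℕ := [0xf301a80140014500660045, 0x12401a9013e014600660045, 0x13a01a7013f014400660045,
  0x1560100014501cb007b0045, 0x16c0101014601cc007b0045, 0x18200ff014401cd007b0045, 0x19e017101cd013f00870045,
  0x1b4017201cb014000870045, 0x1e5017301cc013e00870045]
/-- the tables of `a`, `b` -/
noncomputable def tA : ℕ := inn tJ 6561
noncomputable def tB' : ℕ := inn tJ 2187
/-- some word has order divisible by nine -/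
noncomputable def kl (Ls : List ℕ) (K : List (List ℕ)) : ℕ := anyL (fun W => frc (wd Ls W tJ) o9) K

theorem en1 : frc tA (fun S => sumL (fun B => sumL (fun C => iz (zs [10001] [0] [B, C]) (sumL (fun D =>
    frc (tabP P1 Z1 [D, C, B]) fun L => tst tE1 0xf300000000000000000000 S L
      (acc tE1 L [0, 243, 486] (VC.map Prod.fst))) LD) 0) LC) LB) = 0 := by decide +kernel

/-- filtering a list -/
noncomputable def flt (p : ℕ → ℕ) (L : List ℕ) : (List ℕ → ℕ) → ℕ :=
  List.rec (motive := fun _ => (List ℕ → ℕ) → ℕ) (fun k => k [])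
    (fun x _ ih k => iz (p x) (ih fun A => k (x :: A)) (ih k)) L

theorem flt_eq (p : ℕ → ℕ) (L : List ℕ) : ∀ k, flt p L k = k (L.filter fun x => p x = 0) := by
  induction L with
  | nil => exact fun _ => rfl
  | cons x L ih =>
    intro k
    rw [show flt p (x :: L) k = iz (p x) (flt p L fun A => k (x :: A)) (flt p L k) from rfl, iz_eq, ih, ih]
    split_ifs with h <;> simp [h]

noncomputable def g2 (A : ℕ) : ℕ := frc (inn tJ 4374) fun S => sumL (fun C => iz (zs [10001] [0] [A, C])
  (flt (fun D => zs (PF 8) [0, 3, 4] [D, A, C, 1]) LJ fun X => flt (fun E => zs (PF 208) [0, 1, 4] [E, A, C, 1]) LJ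
    fun Y => flt (fun U => zs (PF 308) [0, 1, 3] [U, A, C, 1]) LJ fun Z => sumL (fun D => sumL (fun E =>
      sumL (fun U => frc (tabP P2 Z2 [U, E, D, C, A]) fun L =>
        tst tE2 0xf300510000000900000000 S L (acc tE2 L LN [V20, V21, V22])) Z) Y) X) 0) LC'

theorem en2 : ∀ A ∈ LA, g2 A = 0 := by
  simp only [LA, List.forall_mem_cons]
  refine ⟨?_, ?_, ?_, ?_, ?_, ?_, ?_, ?_, ?_, by simp⟩ <;> decide +kernel

noncomputable def g4 (D : ℕ) : ℕ := iz (frc (mul 486 D) (sift tQ4)) (frc (inn tJ 729) fun S => en tQ4 0 (fun F =>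
  frc (tabP P4 Z4 [F, D, 8748]) fun L => tst tE4 0xf30000001b000000000000 S L (iz (anyL (Nat.xor L) L9) 0
    (kl [tA, tB', L] [[0, 0, 2, 0, 2, 1, 2, 2], [0, 2, 2, 0, 2, 2, 1, 2], [0, 0, 2, 0, 2, 1, 2],
      [0, 2, 1, 2, 1, 1, 2]]))) 9 270) 0

theorem en4' : ∀ i < 27, allZ g4 (i * 27) 27 = true := by
  intro i hi
  interval_cases i <;> decide +kernel

theorem en4 (D : ℕ) (h : D < 729) : g4 D = 0 :=
  allZ_sound (en4' (D / 27) (by omega)) D (by omega) (by omega)

end H16.C9
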