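import Cfsg.Agent.H16.C9z

/-! Generators of the automizers in normal form. -/

set_option autoImplicit false
set_option linter.unusedSectionVars false
set_option maxRecDepth 100000
set_option Elab.async false
set_option synthInstance.maxSize 4000

namespace H16.C9
open H26 (frc frc_eq)
open Subgroup H25 H25.FS H4.G3 H4 Matrix

variable {Γ : Type*} [Group Γ] [Finite Γ] {y : ℕ → Γ} {F : FS Γ} {H U W : Subgroup Γ}
  {a k m n o G L T : ℕ} {g v : Γ} {X Z : List ℕ} {f : ℕ → ℕ}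

/-- the table is realized in `H` -/
def Ra (y : ℕ → Γ) (H : Subgroup Γ) (L : ℕ) : Prop := ∃ g ∈ H, At y g L

theorem cd1 : cdk tJ (cv [729, 2187] fun i => Lw i 1) (tf (nth 0 DG 2) 1) LB = 0 ∧
    cdk tJ (cv [729, 2187] fun i => Lw i 0) (tf (nth 0 DG 2) 1) LC = 0 ∧
    cdk (cut YT 5) 243 (tf (nth 0 DG 2) 0) LD = 0 ∧
    (∀ p ∈ [(2187, 1), (729, 1), (243, 0)], ap (nth 0 DG 2) p.1 ≠ 0 ∧ tf (nth 0 DG 2) p.2 p.1 = 0) ∧
    zs [10001] [0] [2187, 729] = 0 ∧ frc (tabP P1 Z1 [243, 729, 2187]) (fun M => eqOn M M YT) = 0 ∧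
    eqOn 0xf300000000000000000000 0xf300000000000000000000 tJ = 0 := by decide +kernel

theorem cd2 : cdk tJ (cv [729, 6561] fun i => Lw i 1) (tf (nth 0 DG 1) 1) LA = 0 ∧
    cdk tJ (cv [729, 6561] fun i => Lw i 0) (tf (nth 0 DG 1) 1) LC' = 0 ∧ cdk tJ 0 (tf (nth 0 DG 1) 0) LJ = 0 ∧
    (∀ p ∈ [(6561, 1), (729, 1), (243, 0), (81, 0), (9, 0)], sift tE2 p.1 = 0 ∧
      ap (nth 0 DG 1) p.1 ≠ 0 ∧ tf (nth 0 DG 1) p.2 p.1 = 0) ∧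
    zs [10001] [0] [6561, 729] = 0 ∧ frc (tabP P2 Z2 [9, 81, 243, 729, 6561]) (fun M => eqOn M M YT) = 0 ∧
    eqOn 0xf300510000000900000000 0xf300510000000900000000 tJ = 0 ∧ zs (PF 8) [0, 3, 4] [243, 6561, 729, 1] = 0 ∧
    zs (PF 208) [0, 1, 4] [81, 6561, 729, 1] = 0 ∧ zs (PF 308) [0, 1, 3] [9, 6561, 729, 1] = 0 := by decide +kernel

theorem cd3 : cdk tR 6561 (fun e => tf (nth 0 DG 1) 1 e + tf (nth 0 DG 2) 0 e) [6561, 6566, 6568] = 0 ∧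
    cdk tQ3 (cv [81, 2187] fun i => Lw i 1) (fun e => tf (nth 0 DG 1) 0 e + tf (nth 0 DG 2) 1 e) [2187] = 0 ∧
    cdk tQ3 (cv [81, 2187] fun i => Lw i 0) (fun e => tf (nth 0 DG 1) 0 e + tf (nth 0 DG 2) 1 e) [2286] = 0 ∧
    (∀ p ∈ [(6561, 1, 0), (2187, 0, 1), (81, 0, 1)], sift tE3 p.1 = 0 ∧
      (ap (nth 0 DG 1) p.1 ≠ 0 ∧ tf (nth 0 DG 1) p.2.1 p.1 = 0) ∧
      ap (nth 0 DG 2) p.1 ≠ 0 ∧ tf (nth 0 DG 2) p.2.2 p.1 = 0) ∧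
    frc (tabP P3' Z3 [81, 2187, 6561]) (fun M => eqOn M M YT) = 0 ∧
    ∀ A ∈ [6561, 6566, 6568], ∀ B ∈ [2187], ∀ E ∈ [2286], acc tE3 (tabP P3' Z3 [E, B, A]) [0, 9, 18] [V3] = 0 := by
  decide +kernel

theorem cd4 : en tJ 0 (fun e => iz (zs [0, 1] [0] [e]) (anyL (fun i => frc (3 * (i % 9) + 81 * (i / 9)) fun n =>
      Nat.xor (cjn e n) 8748) (List.range 81)) 0) 9 8748 = 0 ∧ zs [0, 1] [0] [8748] = 0 ∧ sift tE4 8748 = 0 ∧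
    ent tE4 (sift (add tJ 8748)) = 0 ∧ cv [27, 243] (fun i => Lw i 0) = 270 ∧
    cv [27, 243] (fun i => Lw i 1) = 243 ∧ inv 243 = 486 ∧
    frc (tabP P4 Z4 [27, 243, 8748]) (fun M => eqOn M M YT) = 0 ∧
    eqOn 0xf30000001b000000000000 0xf30000001b000000000000 tJ = 0 := by decide +kernel

theorem m12 : ∀ L ∈ L9, anyL (fun W => frc (wd [tA, tB', L] W tJ) fun G =>
      aiCk G tE1 [0, 729, 1458, 2187, 2916, 3645, 4374, 5103, 5832] + (3 ^ 1 - tg G 0))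
      [[2, 0, 2, 1, 2, 0, 2, 1, 1, 2, 0, 2], [2, 0, 2, 0, 2, 0, 2, 2, 1, 2, 2, 1, 2],
        [2, 0, 2, 0, 2, 1, 2, 0, 2, 1, 2, 0, 2]] = 0 ∧
    anyL (fun W => frc (wd [tA, tB', L] W tJ) fun G =>
      aiCk G tE2 [0, 729, 1458, 6561, 7290, 8019, 13122, 13851, 14580] + (3 ^ 3 - tg G 2))
      [[2, 1, 2, 0, 0, 2, 1, 2, 0, 2, 1, 2], [2, 0, 2, 2, 0, 2, 2, 1, 2, 1, 2, 1, 2],
        [2, 0, 1, 0, 2, 0, 2, 0, 2, 1, 2, 0, 2]] = 0 := by decide +kernel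

namespace Md
variable (r : Md y)
include r

theorem cand0 (h : Ech y U T) (ha : a < 19683) (ho : o < 19683) (hx : (ev y a)⁻¹ * (v * ev y o * v⁻¹) ∈ U)
    (h0 : en T 0 f 9 a = 0) : ∃ x, Pr y v o x ∧ f x = 0 := by
  obtain ⟨e, he, h1, b, hb, h2⟩ := r.en_ok h bot_le low_zero (fun k _ => .inl (tg_zero k)) le_rfl a ha h0 _
    ⟨hx, h.le hx⟩
  exact ⟨e, ⟨ho, he, by rw [mem_bot.1 hb, mul_one, mul_inv_cancel_left] at h2; exact h2.symm⟩, h1⟩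

theorem at_in (hn : n < 19683) : At y (ev y n) (inn tJ n) := mul_one (ev y n) ▸ r.at_inn at_J hn

theorem ra_wd (h : ∀ L ∈ X, Ra y H L) (Z : List ℕ) : Ra y H (wd X Z tJ) := by
  choose w h1 h2 using fun i => show Ra y H (nth 0 X i) from
    (nth_mem 0 X i).elim (fun e => ⟨1, one_mem _, by rw [e]; exact at_zero⟩) (h _)
  exact ⟨_, mul_mem (evA_mem w fun i _ => h1 i) (one_mem _), r.at_wd (fun i _ => h2 i) 1 _ at_J⟩

theorem h1 (hx : (ev y 8748)⁻¹ * (g * ev y 8748 * g⁻¹) ∈ gen y 6) : ∃ n ∈ gen y 6, Pr y (n * g) 8748 8748 := by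
  obtain ⟨x, p, h⟩ := r.cand0 r.eJ (by decide) (by decide) hx cd4.1
  obtain ⟨i, hi, h2⟩ := anyL_zero (iz_l h (r.zs_ok (.cons p .nil) cd4.2.1))
  rw [frc_eq] at h2
  have a := List.mem_range.1 hi
  refine ⟨_, inv_mem (ev_mem_gen (by decide) (3 * (i % 9) + 81 * (i / 9)) (by omega)), p.1, p.1, ?_⟩
  conv_rhs => rw [← xor0 h2, r.ev_cjn p.2.1 (by omega), ← p.2.2]
  group

theorem x4 : ev y 8748 ∈ sp y tE4 := r.mem_of_sift r.e4.low (by decide) cd4.2.2.1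

theorem h1' (h : g ∈ nz (sp y tE4)) (h' : g ∈ cz (gen y 6)) : g ∈ ai (sp y tE4) (sp y tE4) := by
  have a := r.nzL (k := 6) (by decide) (r.e4.le r.x4)
  obtain ⟨n, hn, -, -, e⟩ := r.h1 (g := g) (r.czJ.le ⟨r.e4.le (mul_mem (inv_mem r.x4) (conj_mem_of_mem_nz h r.x4)),
    by simpa [mul_assoc] using mul_mem (conj_mem_of_mem_nz' (mem_nz_cz a) h') (inv_mem h')⟩)
  refine ⟨h, _, inv_mem (r.chr4.2.1 hn), agree_iff.2 (cz_anti (r.le_of_sift r.e4 (r.low_add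
    (r.eJ.low.mono le_sup_left) ⟨by decide, mem_sup_right (mem_zpowers _)⟩) cd4.2.2.2.1) ?_)⟩
  rw [cz_sup, inv_inv]
  exact ⟨mul_mem (r.abJ hn) h', mem_cz_zpowers.2 e⟩

variable (hF : F.Sat 3) (hS : F.S = gen y 9)
include hF hS

theorem kl_ne {K : List (List ℕ)} (h : ∀ L ∈ X, Ra y (F.A (gen y 6)) L) : kl X K ≠ 0 := fun h0 => by
  obtain ⟨W, -, h1⟩ := anyL_zero h0
  rw [frc_eq] at h1
  obtain ⟨g, hg, h2⟩ := r.ra_wd h W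
  exact r.o9_ne hF hS hg h2 h1

omit hF in
theorem ra_in (hn : n < 19683) : Ra y (F.A (gen y 6)) (inn tJ n) :=
  ⟨_, F.N_le_A _ ⟨hS ▸ ev_mem hn, r.nzL (by decide) (ev_mem hn)⟩, r.at_in hn⟩

omit hF in
theorem ra_J (h : W ≤ gen y 9) (h1 : Chr W (gen y 6)) (h2 : Ra y (F.A W) L) : Ra y (F.A (gen y 6)) L :=
  have ⟨g, h3, h4⟩ := h2
  ⟨g, mem_A_of_le (hS ▸ h) h3 h1.1 (h1.2 (F.A_le_nz W h3)), h4⟩

theorem v1 (h2 : Dg F y 2) (h : Mv F (gen y 8)) : ∃ p ∈ VC, Ra y (F.A (gen y 8)) p.1 := by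
  obtain ⟨s, co, ρ, q, hs⟩ := r.se1 hF hS
  obtain ⟨τ, hτ, t⟩ := h2
  obtain ⟨c1, c2, c3, c4, c5, c6, c7⟩ := cd1
  obtain ⟨v, a1, a2, -⟩ := q.sl2 h
  obtain ⟨v, a1, a2, a3, -⟩ := r.fix hS q (r.chrS.1 8 (by decide)) (by decide) r.eJ.low a1 a2 (j := 0) (by decide)
    (by decide) hτ t (dgc.2.1 ▸ at_YT) (tck.1.2 2 (by decide)).1 (.inr tck.2.2.1.1) (by simp [Agree.refl])
  have m := ev_mem_gen (y := y) (k := 8) (by decide)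
  obtain ⟨b1, b2⟩ := q.c.cos r.toRl (by decide) a1 1
  obtain ⟨B, hB, pB⟩ := r.cand (o := 2187) r.eJ b1 (by decide) b2
    (fun _ => r.tf_ok t a3 (m _ (by decide)) (c4 (_, 1) (by simp))) c1
  obtain ⟨b1, b2⟩ := q.c.cos r.toRl (by decide) a1 0
  obtain ⟨C, hC, pC⟩ := r.cand (o := 729) r.eJ b1 (by decide) b2
    (fun _ => r.tf_ok t a3 (m _ (by decide)) (c4 (_, 1) (by simp))) c2
  obtain ⟨D, hD, pD⟩ := r.cand (r.echL (by decide)) (by decide) (by decide)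
    (a2.2 _ (ev_mem_gen (by decide) 243 (by decide)))
    (fun _ => r.tf_ok t a3 (m _ (by decide)) (c4 (_, 0) (by simp))) c3
  have e := en1
  rw [frc_eq] at e
  replace e := sumL_zero (iz_l (sumL_zero (sumL_zero e B hB) C hC) (r.zs_ok (.cons pB (.cons pC .nil)) c5)) D hD
  rw [frc_eq] at e
  have l := r.at_tab (.cons pD (.cons pC (.cons pB .nil))) c6
  obtain ⟨V, hV, b⟩ := r.acc_ok hS r.e1 v.2 l
    (r.tst_ok q r.e1 (gen_mono y (by decide)) c7 (hs ▸ r.at_in (by decide)) l a1 a2 e)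
  obtain ⟨p, hp, rfl⟩ := List.mem_map.1 hV
  exact ⟨p, hp, b⟩

theorem v2 (h2 : Dg F y 1) (h : Mv F (sp y tE2)) : ∃ V ∈ [V20, V21, V22], Ra y (F.A (sp y tE2)) V := by
  obtain ⟨s, co, ρ, q, hs⟩ := r.se2 hF hS
  obtain ⟨τ, hτ, t⟩ := h2
  obtain ⟨c1, c2, c3, c4, c5, c6, c7, c8, c9, c0⟩ := cd2
  obtain ⟨v, a1, a2, -⟩ := q.sl2 h
  obtain ⟨v, a1, a2, a3, -⟩ := r.fix hS q r.chrS.2.1 (by decide) r.eJ.low a1 a2 (j := 0) (by decide)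
    (by decide) hτ t (dgc.2.1 ▸ at_YT) (tck.2.1.2 1 (by decide)).1 (.inr tck.2.2.1.2.1) (by simp [Agree.refl])
  have m : ∀ o b, (o, b) ∈ [(6561, 1), (729, 1), (243, 0), (81, 0), (9, 0)] → ∀ x, Pr y v o x →
      tf (nth 0 DG 1) b x = 0 := fun o b h x p =>
    r.tf_ok t a3 (r.mem_of_sift r.e2.low p.1 (c4 _ h).1) (c4 _ h).2 p
  obtain ⟨b1, b2⟩ := q.c.cos r.toRl (by decide) a1 1
  obtain ⟨A, hA, pA⟩ := r.cand r.eJ b1 (by decide) b2 (m 6561 1 (by simp)) c1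
  obtain ⟨b1, b2⟩ := q.c.cos r.toRl (by decide) a1 0
  obtain ⟨C, hC, pC⟩ := r.cand r.eJ b1 (by decide) b2 (m 729 1 (by simp)) c2
  have n : ∀ o < 729, (ev y 0)⁻¹ * (v * ev y o * (v : Γ)⁻¹) ∈ gen y 6 := fun o ho => by
    simpa using conj_mem_of_mem_nz (r.chr2.2.2.2 (F.A_le_nz _ v.2)) (ev_mem_gen (by decide) o ho)
  obtain ⟨D, hD, pD⟩ := r.cand r.eJ (by decide) (by decide) (n 243 (by decide)) (m 243 0 (by simp)) c3
  obtain ⟨E, hE, pE⟩ := r.cand r.eJ (by decide) (by decide) (n 81 (by decide)) (m 81 0 (by simp)) c3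
  obtain ⟨U, hU, pU⟩ := r.cand r.eJ (by decide) (by decide) (n 9 (by decide)) (m 9 0 (by simp)) c3
  have z : List.Forall₂ (Pr y v) [6561, 729, 1] [A, C, 1] := .cons pA (.cons pC (.cons ⟨by decide, by decide,
    mem_cz.1 (stab_bot (gen y 1) ▸ a2) _ (ev_mem_gen (by decide) 1 (by decide))⟩ .nil))
  have e := en2 A hA
  rw [g2, frc_eq] at e
  replace e := iz_l (sumL_zero e C hC) (r.zs_ok (.cons pA (.cons pC .nil)) c5)
  rw [flt_eq, flt_eq, flt_eq] at e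
  replace e := sumL_zero (sumL_zero (sumL_zero e D (List.mem_filter.2 ⟨hD, decide_eq_true
    (r.zs_ok (.cons pD z) c8)⟩)) E (List.mem_filter.2 ⟨hE, decide_eq_true (r.zs_ok (.cons pE z) c9)⟩)) U
      (List.mem_filter.2 ⟨hU, decide_eq_true (r.zs_ok (.cons pU z) c0)⟩)
  rw [frc_eq] at e
  have l := r.at_tab (.cons pU (.cons pE (.cons pD (.cons pC (.cons pA .nil))))) c6
  exact r.acc_ok hS r.e2 v.2 l (r.tst_ok q r.e2 r.chr2.2.2.1 c7 (hs ▸ r.at_in (by decide)) l a1 a2 e)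

theorem v3 (h1 : Dg F y 1) (h2 : Dg F y 2) (h : Mv F (sp y tE3)) : Ra y (F.A (sp y tE3)) V3 := by
  obtain ⟨s, co, ρ, q, hs⟩ := r.se3 hF hS
  obtain ⟨σ, hσ, t'⟩ := h1
  obtain ⟨τ, hτ, t⟩ := h2
  obtain ⟨c1, c2, c3, c4, c5, c6⟩ := cd3
  obtain ⟨v, a1, a2, -⟩ := q.sl2 h
  obtain ⟨v, a1, a2, a3, -⟩ := r.fix hS q r.chrS.2.2 (by decide) r.eQ3.low a1 a2 (j := 0) (by decide) (by decide)
    hσ t' (dgc.2.1 ▸ at_YT) (tck.2.2.2.1 1 (by decide)) (.inl tck.2.2.1.2.2.1) (by simp [Agree.refl])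
  obtain ⟨v, a1, a2, a4, a3⟩ := r.fix hS q r.chrS.2.2 (by decide) r.eQ3.low a1 a2 (by decide) (by decide)
    hτ t t' (tck.2.2.2.1 2 (by decide)) (.inr tck.2.2.1.2.2.2) a3
  have m : ∀ o b c, (o, b, c) ∈ [(6561, 1, 0), (2187, 0, 1), (81, 0, 1)] → ∀ x, Pr y v o x →
      tf (nth 0 DG 1) b x + tf (nth 0 DG 2) c x = 0 := fun o b c h x p => by
    have := r.mem_of_sift r.e3.low p.1 (c4 _ h).1
    rw [r.tf_ok t' a3 this (c4 _ h).2.1 p, r.tf_ok t a4 this (c4 _ h).2.2 p]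
  obtain ⟨A, hA, pA⟩ := r.cand r.eR (by decide) (by decide)
    (a2.2 _ (r.mem_of_sift r.e3.low (by decide) (c4 (6561, 1, 0) (by simp)).1)) (m 6561 1 0 (by simp)) c1
  obtain ⟨b1, b2⟩ := q.c.cos r.toRl (by decide) a1 1
  obtain ⟨B, hB, pB⟩ := r.cand r.eQ3 b1 (by decide) b2 (m 2187 0 1 (by simp)) c2
  obtain ⟨b1, b2⟩ := q.c.cos r.toRl (by decide) a1 0
  obtain ⟨E, hE, pE⟩ := r.cand r.eQ3 b1 (by decide) b2 (m 81 0 1 (by simp)) c3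
  obtain ⟨V, hV, b⟩ := r.acc_ok hS r.e3 v.2 (r.at_tab (.cons pE (.cons pB (.cons pA .nil))) c5) (c6 A hA B hB E hE)
  exact List.mem_singleton.1 hV ▸ b

theorem v4 (h : F.Ess (sp y tE4)) : ∃ v ∈ F.A (sp y tE4), (∃ L ∈ L9, At y v L) ∧ Gn F (sp y tE4) v := by
  obtain ⟨s, co, ρ, q, hs⟩ := r.se4 hF hS h.fn
  obtain ⟨-, -, -, -, c1, c2, c3, c4, c5⟩ := cd4
  obtain ⟨v, a1, a2, -⟩ := q.sl2 (mv_of_ess hF h)
  obtain ⟨n, hn, p⟩ := r.h1 (a2.2 _ r.x4)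
  have a3 := le_N h.le (q.VE hn)
  have a4 : ρ (⟨n, F.N_le_A _ a3⟩ * v) = Lw := by
    rw [map_mul, a1, (q.c.eq_one (g := ⟨n, _⟩)).2 (q.EV (q.VE hn)), one_mul]
  replace a2 := mul_mem (q.aD (inf_nz_le_ai _ _ a3)) a2
  change Pr y (⟨n, F.N_le_A _ a3⟩ * v : F.A _) _ _ at p
  change ((⟨n, F.N_le_A _ a3⟩ * v : F.A _) : Γ) ∈ _ at a2
  generalize (⟨n, F.N_le_A _ a3⟩ * v : F.A _) = v at a2 a4 p
  obtain ⟨D, hD, b⟩ := (r.mem_gen_iff (by decide)).1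
    (conj_mem_of_mem_nz (q.c.nV v.2) (ev_mem_gen (k := 6) (by decide) 243 (by decide)))
  have pD : Pr y v 243 D := ⟨by decide, by omega, b.symm⟩
  have e := en4 D hD
  rw [g4, frc_eq] at e
  replace e := iz_l e ((r.sift_iff r.eQ4 (r.mul_lt (by decide) pD.2.1)).2 (by
    rw [r.ev_mul (by decide) pD.2.1, ← c3, r.ev_inv (by decide), b]
    have := (q.c.cos r.toRl (by decide) a4 1).2
    rwa [c2] at this))
  rw [frc_eq] at e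
  obtain ⟨G, pG, e⟩ := r.cand0 (o := 27) r.eQ4 (by decide) (by decide)
    (c1 ▸ (q.c.cos r.toRl (by decide) a4 0).2) e
  rw [frc_eq] at e
  have l := r.at_tab (.cons pG (.cons pD (.cons p .nil))) c4
  replace e := r.tst_ok q r.e4 r.chr4.2.1 c5 (hs ▸ r.at_in (by decide)) l a4 a2 e
  obtain ⟨L, hL, e⟩ := anyL_zero (by_contra fun h0 => r.kl_ne hF hS (by
    simp only [List.forall_mem_cons]
    exact ⟨r.ra_in hS (by decide), r.ra_in hS (by decide), r.ra_J hS r.e4.le r.chr4.2 ⟨_, v.2, l⟩, by simp⟩)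
      (iz_r e h0))
  exact ⟨v, v.2, ⟨L, hL, xor0 e ▸ l⟩, q.gn a4⟩

theorem mv_of (h : Ech y W T) (h1 : gen y 6 ≤ W) (h2 : Chr (gen y 9) W) (hG : Ra y (F.A (gen y 6)) G) (hk : k < m)
    (hm : m ≤ 6) (h0 : aiCk G T X + (3 ^ m - tg G k) = 0) : Mv F W := fun h3 => by
  obtain ⟨g, hg, h4⟩ := hG
  obtain ⟨a, ha, e⟩ := r.extJ hF hS h1 h.le hg (r.cj_ai (F.A_le_nz _ hg) h4 h (Nat.add_eq_zero_iff.1 h0).1)
  obtain ⟨b, hb, e'⟩ := ext_N hF (FN_of_le_nz (hS ▸ h.le) (hS ▸ h2.nz)) ha (h3 ha)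
  rw [show F.N W = gen y 9 from hS ▸ inf_eq_left.2 (hS ▸ h2.nz)] at hb
  exact r.not_nz h4 hk (by omega) (by omega) ((((e'.mono h1).trans e).mono (gen_mono y hm)).symm.mem_nz
    (r.nzk (F.A_le_nz _ hb) m (by omega)))

theorem mv4 (h : F.Ess (sp y tE4)) : Mv F (gen y 8) ∧ Mv F (sp y tE2) := by
  obtain ⟨v, hv, ⟨L, hL, l⟩, -⟩ := r.v4 hF hS h
  have a : ∀ M ∈ [tA, tB', L], Ra y (F.A (gen y 6)) M := by
    simp only [List.forall_mem_cons]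
    exact ⟨r.ra_in hS (by decide), r.ra_in hS (by decide), r.ra_J hS r.e4.le r.chr4.2 ⟨_, hv, l⟩, by simp⟩
  obtain ⟨W, -, b⟩ := anyL_zero (m12 L hL).1
  obtain ⟨W', -, c⟩ := anyL_zero (m12 L hL).2
  rw [frc_eq] at b c
  exact ⟨r.mv_of hF hS r.e1 (gen_mono y (by decide)) (r.chrS.1 8 (by decide)) (r.ra_wd a W) (by decide) (by decide) b,
    r.mv_of hF hS r.e2 r.chr2.2.2.1 r.chrS.2.1 (r.ra_wd a W') (by decide) (by decide) c⟩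

end Md

end H16.C9
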