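import Cfsg.Agent.H16.C9i

/-! The Thompson subgroup is not essential; normal form of the fusion systems. -/

set_option autoImplicit false
set_option linter.unusedSectionVars false
set_option maxRecDepth 100000
set_option Elab.async false
set_option synthInstance.maxSize 4000

namespace H16.C9
open H26 (frc frc_eq)
open Subgroup H25 H25.FS H4.G3 H4 Matrix

variable {Γ : Type*} [Group Γ] [Finite Γ] {y : ℕ → Γ} {F F' : FS Γ} {H P Q Y : Subgroup Γ}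
  {k L T V : ℕ} {g h : Γ} {ε : Prop}

/-- elements of the Heisenberg group -/
noncomputable def hd (p : P3) : ℕ :=
  frc (pw3 729 (p.2.2 - p.1 * p.2.1)) fun x => frc (pw3 2187 p.2.1) fun u => frc (pw3 6561 p.1) fun v =>
    frc (mul u x) (mul v)

/-- the subgroup is generated modulo the Thompson subgroup by the elements `f (0, β, γ)` -/
abbrev HnCk (T : ℕ) (f : P3 → ℕ) : Prop := (∀ p, f p < 19683 ∧ (p.1 = 0 → sift T (f p) = 0)) ∧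
  en T tJ (fun e => anyL (fun p => frc (frc (inv (f p)) fun x => mul x e) (sift tJ))
    (List.map (fun i : ℕ => (0, (i : K3), (i / 3 : ℕ))) (List.range 9))) 9 0 = 0

/-- words moving the central element -/
def WZ : List (List ℕ) := [[], [2], [2, 0], [2, 3], [2, 0, 0], [2, 0, 3], [2, 3, 1], [2, 3, 2], [2, 3, 3],
  [2, 0, 0, 3], [2, 0, 3, 1], [2, 3, 2, 0], [2, 0, 0, 3, 1]]
/-- conjugates of the central element -/
noncomputable def zl (V : ℕ) : List ℕ := WZ.map fun W => tg (wd [tA, tB', V1, V] W tJ) 0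

theorem jk : StCk [243, 81, 27, 9, 3, 1] tJ hd Mx ∧
    StCk [1, 6, 54, 9, 162, 243] tJ (hc 2187 6561 729) (fun p => (Mx p)ᵀ) ∧ HnCk tE1 hd ∧
    HnCk tE2 (hc 2187 6561 729) ∧ kl [tA, tB', V1, V21] [[0, 2, 3]] = 0 ∧ sift tE2 729 = 0 ∧ sift tE4 729 ≠ 0 ∧
    sift tE3 243 ≠ 0 ∧ ∀ V ∈ [V20, V22], (zl V ++ (zl V).map inv).Nodup ∧ (zl V ++ (zl V).map inv).length = 26 ∧
      ∀ e ∈ zl V ++ (zl V).map inv, e ≠ 0 ∧ e < 729 := by decide +kernel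

theorem vcc : (∀ p ∈ VC, rlCk p.2 = 0 ∧ imCk p.2 (cut YT 9) (cut YT 9) = 0 ∧
    eqOn V1 (cmp p.1 p.2) (cmp p.2 V1) = 0 ∧ ∀ i < 8,
      eqOn (nth 0 DG i) (cmp (nth 0 DG i) p.2) (cmp p.2 (nth 0 DG i)) = 0) ∧ (∀ k < 9, tg V1 k < 19683) ∧
    (∀ i < 8, (∀ k < 9, tg (nth 0 DG i) k < 19683) ∧ (tg (nth 0 DG i) 0 = 2 → i ^^^ 4 < 4 ∧ i ^^^ 4 ^^^ i = 4)) ∧
    inv 1 = 2 ∧ frc (wd [tA, tB', V1, V22] [0, 1, 3, 2, 3, 2, 3, 2, 2, 0, 1, 3, 2, 3, 2, 3, 2, 2] tJ) (fun G =>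
      aiCk G (cut YT 9) [0, 729, 2187, 6561] + Nat.xor (tg G 0) 2) = 0 := by decide +kernel

/-- the normal form -/
structure NF (F : FS Γ) (y : ℕ → Γ) (ε : Prop) (V : ℕ) : Prop where
  d : ∀ i < 8, i < 4 ∨ ε → Dg F y i
  ne : ¬ ε → ∀ g ∈ F.A F.S, g * y 0 * g⁻¹ ≠ (y 0)⁻¹
  v1 : Ra y (F.A (gen y 8)) V1
  v2 : Ra y (F.A (sp y tE2)) V
  v3 : Ra y (F.A (sp y tE3)) V3

theorem ev_one : ev y 1 = y 0 := ev_gen (k := 0) (by decide)

namespace Md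
variable (r : Md y)
include r

theorem gen_cj (hh : h ∈ nz (gen y 9)) (k : ℕ) (hk : k ≤ 9) : gen (C9.cy h y) k = gen y k := by
  rw [gen_cy, mem_nz.1 (r.nzk hh k hk)]

theorem ev_two : ev y 2 = (y 0)⁻¹ := by rw [← vcc.2.2.2.1, r.ev_inv (by decide), ev_one]

theorem hn {x : Fin 6 → Γ} {co : Γ → Vc 6} {ρ : F.A (gen y 6) →* Mt 6} {f : P3 → ℕ} {m : P3 → Mt 6}
    {B : Subgroup (F.A (gen y 6))} {w : P3 → F.A (gen y 6)} (c : Co (gen y 6) ⊥ (F.A (gen y 6)) x co ρ)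
    (s : St m ρ B w) (hw : ∀ p, (w p : Γ) = ev y (f p)) (h : Ech y Y T) (h1 : gen y 6 ≤ Y) (h0 : HnCk T f)
    {b : F.A (gen y 6)} (hb : (b : Γ) ∈ nz (ai Y (gen y 6))) (β γ : K3) :
    ∃ β' γ', ρ b * m (0, β, γ) = m (0, β', γ') * ρ b := by
  obtain ⟨-, u, hu, e⟩ := conj_mem_of_mem_nz hb (mem_ai_of_mem (hw (0, β, γ) ▸
    r.mem_of_sift h.low (h0.1 _).1 ((h0.1 _).2 rfl)) (F.A_le_nz _ (w _).2))
  obtain ⟨n, hn, h2, j, hj, rfl⟩ := r.enJ h h1 h0.2 hu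
  obtain ⟨p, hp, h3⟩ := anyL_zero h2
  obtain ⟨i, -, rfl⟩ := List.mem_map.1 hp
  rw [frc_eq, frc_eq] at h3
  have a := r.inv_lt (h0.1 (0, i, (i / 3 : ℕ))).1
  have d := r.mem_of_sift r.eJ.low (r.mul_lt a hn) h3
  rw [r.ev_mul a hn, r.ev_inv (h0.1 _).1, ← hw] at d
  refine ⟨i, (i / 3 : ℕ), ?_⟩
  rw [← s.hm, ← s.hm, ← c.agree (g := b * w (0, β, γ) * b⁻¹) (e.trans ((agree_mul_cz _ (r.abJ hj)).trans
    (agree_iff.2 (r.abJ d)))), ← map_mul, ← map_mul, inv_mul_cancel_right]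

variable (hF : F.Sat 3) (hS : F.S = gen y 9)
include hF hS

theorem nf0 (hA : Am (gen y 9)) : ∃ x, Md x ∧ gen x 9 = gen y 9 ∧ Nd0 F x ∧
    (Mv F (gen x 8) → Ra x (F.A (gen x 8)) V1) := by
  obtain ⟨h, hh, hN⟩ := r.norm hF hS hA
  have e := r.gen_cj hh 9 le_rfl
  have r' := r.cy h
  generalize C9.cy h y = x at hN e r'
  rw [← e] at hS hA ⊢
  by_cases h1 : Mv F (gen x 8)
  · obtain ⟨p, hp, v, hv, l⟩ := r'.v1 hF hS (r'.tau1 hF hS hN h1) h1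
    obtain ⟨a1, a2, a3, a4⟩ := vcc.1 p hp
    obtain ⟨g, hg⟩ := r'.am_tab hA a1
    have b := mem_nz_of_le (r'.cj_le hg r'.echS r'.echS.low a2)
    refine ⟨_, r'.cy g, r'.gen_cj b 9 le_rfl, fun k hk => ?_, fun _ => ⟨v, ?_, r'.at_chg hg l a3 vcc.2.1⟩⟩
    · obtain ⟨n, hn, i, hi, d⟩ := hN k hk
      exact ⟨n, hn, i, hi, r'.at_chg hg d (a4 i hi) (vcc.2.2.1 i hi).1⟩
    · rwa [r'.gen_cj b 8 (by decide)]
  · exact ⟨x, r', rfl, hN, fun h => absurd h h1⟩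

theorem ess3 (hA : Am (gen y 9)) (hP : F.Ess P) : P = gen y 8 ∨ P = sp y tE2 ∨ P = sp y tE3 ∨ P = gen y 6 ∨
    Mv F (gen y 8) ∧ Mv F (sp y tE2) ∧ Chr P (gen y 6) := by
  obtain ⟨τ, t⟩ := r.am_tab hA (dgc.1 2 (by decide)).1
  refine (r.ess2 hF hS hP (le_nz_self _) (r.dg_nz (by decide) t) t).imp_right (.imp_right (.imp_right
    (.imp_right ?_)))
  rintro ⟨h, hh, rfl⟩
  have a := (r.cy h).mv4 hF (hS.trans (r.gen_cj hh 9 le_rfl).symm) hP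
  have b := (r.cy h).chr4.2
  rw [r.gen_cj hh 8 (by decide), sp_cy, mem_nz.1 (r.chrS.2.1.2 hh)] at a
  rw [r.gen_cj hh 6 (by decide)] at b
  exact ⟨a.1, a.2, b⟩

theorem hxJ (h1 : Chr (gen y 9) Y) (h2 : Chr Y (gen y 6)) (h : ∀ Q, F.Ess Q → gen y 6 < Q → Q = Y) :
    F.Hx (gen y 6) ≤ nz (ai Y (gen y 6)) := by
  have a : cz (gen y 6) ≤ nz (gen y 6) ⊓ nz (ai Y (gen y 6)) :=
    le_inf (cz_le_nz _) ((cz_le_ai _ _).trans (le_nz_self _))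
  have b := hF.alperin (M := fun P g => gen y 6 < P → g ∈ nz (gen y 6) ⊓ nz (ai Y (gen y 6)))
    (fun P g h _ _ h3 h4 h5 => mul_mem (h4 (mem_nz.1 (h3 h5).1 ▸ cj_lt_cj.2 h5)) (h3 h5))
    (fun P g h _ h3 e h4 => (e.mono h4.le).mem_of_cz_le a (h3 h4)) fun Q hQ g hg P h3 h4 => by
      have c := F.A_le_nz Q hg
      rcases hQ with rfl | hQ
      · rw [hS] at c
        exact ⟨r.nzk c 6 (by decide), mem_nz_ai (h1.2 c) (r.nzk c 6 (by decide))⟩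
      · rw [h Q hQ (h4.trans_le h3)] at c
        exact ⟨h2.2 c, mem_nz_ai c (h2.2 c)⟩
  exact (closure_le _).2 fun g ⟨_, R, k, h3, h4, e⟩ => (e.mem_of_cz_le a (b R k h4 h3)).2

omit hF in
theorem ra4 (h1 : Ra y (F.A (gen y 8)) V1) (h2 : Ra y (F.A (sp y tE2)) V) :
    ∀ L ∈ [tA, tB', V1, V], Ra y (F.Hx (gen y 6)) L := by
  have c : ev y 729 ∉ gen y 6 := by rw [r.mem_iff (by decide) (by decide)]; decide
  have a : ∀ {W L}, W ≤ gen y 9 → Chr W (gen y 6) → ev y 729 ∈ W → Ra y (F.A W) L → Ra y (F.Hx (gen y 6)) L :=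
    fun h h1 h2 ⟨g, h3, h4⟩ => ⟨g, mem_Hx (h1.2 (F.A_le_nz _ h3)) (h1.1.lt_of_ne fun e => c (e ▸ h2))
      (T_of_mem_A (hS ▸ h) h3) (.refl _ _), h4⟩
  have b : ∀ n < 19683, Ra y (F.Hx (gen y 6)) (inn tJ n) := fun n hn => a le_rfl (r.chrS.1 6 (by decide))
    (ev_mem (by decide)) ⟨_, F.N_le_A _ (le_N hS.ge (ev_mem hn)), r.at_in hn⟩
  simp only [List.forall_mem_cons]
  exact ⟨b _ (by decide), b _ (by decide), a r.e1.le r.chr1.2.2 (ev_mem_gen (by decide) _ (by decide)) h1,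
    a r.e2.le r.chr2.2.2 (r.mem_of_sift r.e2.low (by decide) jk.2.2.2.2.2.1) h2, by simp⟩

theorem v2' (h1 : Ra y (F.A (gen y 8)) V1) (h2 : Dg F y 1) (h : Mv F (sp y tE2)) :
    ∃ V ∈ [V20, V22], Ra y (F.A (sp y tE2)) V := by
  obtain ⟨V, hV, a⟩ := r.v2 hF hS h2 h
  simp only [List.mem_cons, List.not_mem_nil, or_false] at hV ⊢
  rcases hV with rfl | rfl | rfl
  exacts [⟨_, .inl rfl, a⟩, (r.kl_ne hF hS (fun L hL => (r.ra4 hS h1 a L hL).imp fun _ h =>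
    ⟨F.Hx_le_A _ h.1, h.2⟩) jk.2.2.2.2.1).elim, ⟨_, .inr rfl, a⟩]

theorem noJ' (h1 : Ra y (F.A (gen y 8)) V1) (h2 : Ra y (F.A (sp y tE2)) V) (hV : V ∈ [V20, V22]) :
    ¬ F.Ess (gen y 6) := fun h => by
  obtain ⟨co, ρ, w, c, s, -⟩ := r.st hF hS h r.eJ jk.1
  obtain ⟨a1, a2, a3⟩ := jk.2.2.2.2.2.2.2.2 V hV
  have m : ∀ e ∈ zl V ++ (zl V).map inv, ev y e ∈ gen y 6 := fun e he => ev_mem_gen (by decide) e (a3 e he).2
  have b : ∀ e ∈ zl V, ∃ b ∈ (F.Hx (gen y 6)).subgroupOf (F.A (gen y 6)), ρ b *ᵥ z6 = co (ev y e) := fun e he => by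
    obtain ⟨W, -, rfl⟩ := List.mem_map.1 he
    obtain ⟨g, hg, t⟩ := r.ra_wd (r.ra4 hS h1 h2) W
    refine ⟨⟨g, F.Hx_le_A _ hg⟩, hg, ?_⟩
    rw [← show g * y 0 * g⁻¹ = _ from (t 0 (by decide)).2 (a3 _ (List.mem_append_left _ he)).1, ← ev_one (y := y)]
    exact (show z6 = co (ev y 1) from (c.bas 5).symm) ▸ (c.act ⟨g, _⟩ _ (c.mem 5)).symm
  have := s.no26 ((fun e => co (ev y e)) '' (zl V ++ (zl V).map inv).toFinset) (by
    rintro _ ⟨e, he, rfl⟩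
    rcases List.mem_append.1 (List.mem_toFinset.1 he) with he | he
    · exact (b e he).imp fun _ h => ⟨h.1, .inl h.2⟩
    · obtain ⟨e, he', rfl⟩ := List.mem_map.1 he
      have d : e ∈ zl V ++ _ := List.mem_append_left ((zl V).map inv) he'
      exact (b e he').imp fun _ h => ⟨h.1, .inr (by
        beta_reduce
        rw [h.2, r.ev_inv (by have := (a3 e d).2; omega), c.inv (m e d), neg_neg])⟩)
  rw [Set.InjOn.ncard_image fun e he e' he' h => by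
    have d := List.mem_toFinset.1 he
    have d' := List.mem_toFinset.1 he'
    exact r.inj (by have := (a3 e d).2; omega) (by have := (a3 e' d').2; omega)
      (inv_mul_eq_one.1 (mem_bot.1 ((c.eq (m e d) (m e' d')).1 h))),
    Set.ncard_coe_finset, List.toFinset_card_of_nodup a1, a2] at this
  omega

theorem noJ (hA : Am (gen y 9)) (hN : Nd0 F y) (h1 : Mv F (gen y 8) → Ra y (F.A (gen y 8)) V1) :
    ¬ F.Ess (gen y 6) := fun h => by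
  have a : ¬ gen y 6 < sp y tE3 := fun e =>
    r.nmem_of r.e3 (by decide) jk.2.2.2.2.2.2.2.1 (e.le (ev_mem_gen (by decide) _ (by decide)))
  by_cases m2 : Mv F (sp y tE2)
  · by_cases m1 : Mv F (gen y 8)
    · obtain ⟨V, hV, b⟩ := r.v2' hF hS (h1 m1) (r.tau2 hF hS hN m2) m2
      exact r.noJ' hF hS (h1 m1) b hV h
    obtain ⟨co, ρ, w, c, s, hw⟩ := r.st hF hS h r.eJ jk.2.1
    exact s.sY fun b hb => r.hn c s hw r.e2 r.chr2.2.2.1 jk.2.2.2.1 (r.hxJ hF hS r.chrS.2.1 r.chr2.2.2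
      (fun Q hQ h2 => by
        rcases r.ess3 hF hS hA hQ with e | e | e | e | e
        exacts [(m1 (e ▸ mv_of_ess hF hQ)).elim, e, (a (e ▸ h2)).elim, (h2.ne' e).elim, (m1 e.1).elim]) hb)
  obtain ⟨co, ρ, w, c, s, hw⟩ := r.st hF hS h r.eJ jk.1
  exact s.sW fun b hb => r.hn c s hw r.e1 r.chr1.2.2.1 jk.2.2.1 (r.hxJ hF hS (r.chrS.1 8 (by decide)) r.chr1.2.2
    (fun Q hQ h2 => by
      rcases r.ess3 hF hS hA hQ with e | e | e | e | e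
      exacts [e, (m2 (e ▸ mv_of_ess hF hQ)).elim, (a (e ▸ h2)).elim, (h2.ne' e).elim, (m2 e.2.1).elim]) hb)

theorem nf (hA : Am (gen y 9)) (hc : F.core = ⊥) (hN : Nd0 F y)
    (h1 : Mv F (gen y 8) → Ra y (F.A (gen y 8)) V1) : ∃ ε V, (V = V20 ∨ ε ∧ V = V22) ∧ NF F y ε V := by
  have a : ∀ k ≤ 9, 0 < k → ¬ ∀ P, F.Ess P → Chr P (gen y k) := fun k hk h0 h => r.ne (mem_bot.1 (hc ▸
    (hF.nm_iff_ess.2 fun P hP => by
      have : Chr P (gen y k) := hP.elim (fun e => e ▸ hS ▸ r.chrS.1 k hk) (h P)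
      exact ⟨this.1, (F.A_le_nz P).trans this.2⟩).le_core (mem_gen y h0)))
  have j := r.noJ hF hS hA hN h1
  have m1 : Mv F (gen y 8) := by_contra fun m => a 1 (by decide) (by decide) fun P hP => by
    rcases r.ess3 hF hS hA hP with rfl | rfl | rfl | rfl | e
    exacts [(m (mv_of_ess hF hP)).elim, r.chr2.2.1, r.chr3.2.1, (j hP).elim, (m e.1).elim]
  have m2 : Mv F (sp y tE2) := by_contra fun m => a 3 (by decide) (by decide) fun P hP => by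
    rcases r.ess3 hF hS hA hP with rfl | rfl | rfl | rfl | e
    exacts [r.chr1.2.1, (m (mv_of_ess hF hP)).elim, r.chr3.2.2.1, (j hP).elim, (m e.2.1).elim]
  have m3 : Mv F (sp y tE3) := by_contra fun m => a 6 (by decide) (by decide) fun P hP => by
    rcases r.ess3 hF hS hA hP with rfl | rfl | rfl | rfl | e
    exacts [r.chr1.2.2, r.chr2.2.2, (m (mv_of_ess hF hP)).elim, chr_self, e.2.2]
  have t1 := r.tau2 hF hS hN m2
  have t2 := r.tau1 hF hS hN m1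
  obtain ⟨V, hV, b⟩ := r.v2' hF hS (h1 m1) t1 m2
  refine ⟨∃ g ∈ F.A F.S, g * y 0 * g⁻¹ = (y 0)⁻¹, V, ?_, r.dg_all t1 t2 fun ⟨g, hg, e⟩ => ?_,
    fun h g hg e => h ⟨g, hg, e⟩, h1 m1, b, r.v3 hF hS t1 t2 m3⟩
  · simp only [List.mem_cons, List.not_mem_nil, or_false] at hV
    refine hV.imp_right fun e => ⟨?_, e⟩
    subst e
    obtain ⟨g, hg, t⟩ := r.ra_wd (r.ra4 hS (h1 m1) b) [0, 1, 3, 2, 3, 2, 3, 2, 2, 0, 1, 3, 2, 3, 2, 3, 2, 2]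
    have c := vcc.2.2.2.2
    rw [frc_eq] at c
    obtain ⟨c1, c2⟩ := Nat.add_eq_zero_iff.1 c
    obtain ⟨k, hk, e⟩ := r.extJ hF hS r.eJ.le le_rfl (F.Hx_le_A _ hg)
      (r.cj_ai (F.A_le_nz _ (F.Hx_le_A _ hg)) t r.echS c1)
    have d := (t 0 (by decide)).2
    rw [xor0 c2, r.ev_two] at d
    exact ⟨k, hS ▸ hk, (e _ (mem_gen y (by decide))).trans (d (by decide))⟩
  · obtain ⟨n, hn, i, hi, t⟩ := hN g hg
    have c := r.stabL (k := 0) (by decide) (hS ▸ hn)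
    rw [gen_zero, stab_bot] at c
    have d := (agree_mul_cz g c _ (mem_gen y (by decide))).trans e
    obtain ⟨d1, d2⟩ := (vcc.2.2.1 i hi).2 (r.inj (t 0 (by decide)).1 (by decide) (((t 0 (by decide)).2
      ((dgc.1 i hi).2.2.2.1 0 (by decide)).1).symm.trans (d.trans r.ev_two.symm)))
    obtain ⟨k, hk, t'⟩ := r.dg_all (ε := False) t1 t2 False.elim _ (by omega) (.inl d1)
    exact ⟨_, mul_mem hk (mul_mem hg (F.N_le_A _ (le_N le_rfl hn))), d2 ▸ r.dg_xor (by omega) hi t' t⟩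

end Md

end H16.C9
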