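import Cfsg.Agent.H16.C9g
import Cfsg.Agent.H16.C9m
import Cfsg.Agent.H16.MatR2
import Cfsg.Agent.H16.S

/-! The models in the symplectic group and in the group of symplectic similitudes. -/

set_option maxRecDepth 100000
set_option maxHeartbeats 0
set_option Elab.async false

namespace H16.C9.Sp
open Subgroup Cfsg Matrix H25

def IS : Ix (Fin 3 ⊕ Fin 3) 6 := ixS (ixF 3) (ixF 3)
def q : MP := ⟨6, 5, 31, 3⟩
def om : ZMod 3 := 1
abbrev GG : Type := GL (Fin 3 ⊕ Fin 3) (ZMod 3)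
def K0 : List ℕ := [nat_lit 0x1, nat_lit 0x20, nat_lit 0x400, nat_lit 0x8001, nat_lit 0x100000, nat_lit 0x2000000]
def b0 : GG := glR (matR IS om 1 5 K0) (matR IS om 1 5 [nat_lit 0x1, nat_lit 0x20, nat_lit 0x400, nat_lit 0x8002, nat_lit 0x100000, nat_lit 0x2000000]) (by decide +kernel)
theorem col0 : Cols q (rhoGL _ _) (eR IS om) ⊥ b0 K0 := cols_R (s := 1) IS om rfl (by decide +kernel)
def K1 : List ℕ := [nat_lit 0x1, nat_lit 0x20, nat_lit 0x400, nat_lit 0x8020, nat_lit 0x100001, nat_lit 0x2000000]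
def b1 : GG := glR (matR IS om 1 5 K1) (matR IS om 1 5 [nat_lit 0x1, nat_lit 0x20, nat_lit 0x400, nat_lit 0x8040, nat_lit 0x100002, nat_lit 0x2000000]) (by decide +kernel)
theorem col1 : Cols q (rhoGL _ _) (eR IS om) ⊥ b1 K1 := cols_R (s := 1) IS om rfl (by decide +kernel)
def K2 : List ℕ := [nat_lit 0x1, nat_lit 0x20, nat_lit 0x400, nat_lit 0x8000, nat_lit 0x100020, nat_lit 0x2000000]
def b2 : GG := glR (matR IS om 1 5 K2) (matR IS om 1 5 [nat_lit 0x1, nat_lit 0x20, nat_lit 0x400, nat_lit 0x8000, nat_lit 0x100040, nat_lit 0x2000000]) (by decide +kernel)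
theorem col2 : Cols q (rhoGL _ _) (eR IS om) ⊥ b2 K2 := cols_R (s := 1) IS om rfl (by decide +kernel)
def K3 : List ℕ := [nat_lit 0x1, nat_lit 0x20, nat_lit 0x400, nat_lit 0x8400, nat_lit 0x100000, nat_lit 0x2000001]
def b3 : GG := glR (matR IS om 1 5 K3) (matR IS om 1 5 [nat_lit 0x1, nat_lit 0x20, nat_lit 0x400, nat_lit 0x8800, nat_lit 0x100000, nat_lit 0x2000002]) (by decide +kernel)
theorem col3 : Cols q (rhoGL _ _) (eR IS om) ⊥ b3 K3 := cols_R (s := 1) IS om rfl (by decide +kernel)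
def K4 : List ℕ := [nat_lit 0x1, nat_lit 0x20, nat_lit 0x400, nat_lit 0x8000, nat_lit 0x100400, nat_lit 0x2000020]
def b4 : GG := glR (matR IS om 1 5 K4) (matR IS om 1 5 [nat_lit 0x1, nat_lit 0x20, nat_lit 0x400, nat_lit 0x8000, nat_lit 0x100800, nat_lit 0x2000040]) (by decide +kernel)
theorem col4 : Cols q (rhoGL _ _) (eR IS om) ⊥ b4 K4 := cols_R (s := 1) IS om rfl (by decide +kernel)
def K5 : List ℕ := [nat_lit 0x1, nat_lit 0x20, nat_lit 0x400, nat_lit 0x8000, nat_lit 0x100000, nat_lit 0x2000400]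
def b5 : GG := glR (matR IS om 1 5 K5) (matR IS om 1 5 [nat_lit 0x1, nat_lit 0x20, nat_lit 0x400, nat_lit 0x8000, nat_lit 0x100000, nat_lit 0x2000800]) (by decide +kernel)
theorem col5 : Cols q (rhoGL _ _) (eR IS om) ⊥ b5 K5 := cols_R (s := 1) IS om rfl (by decide +kernel)
def K6 : List ℕ := [nat_lit 0x1, nat_lit 0x20, nat_lit 0x401, nat_lit 0x4008000, nat_lit 0x100000, nat_lit 0x2000000]
def b6 : GG := glR (matR IS om 1 5 K6) (matR IS om 1 5 [nat_lit 0x1, nat_lit 0x20, nat_lit 0x402, nat_lit 0x2008000, nat_lit 0x100000, nat_lit 0x2000000]) (by decide +kernel)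
theorem col6 : Cols q (rhoGL _ _) (eR IS om) ⊥ b6 K6 := cols_R (s := 1) IS om rfl (by decide +kernel)
def K7 : List ℕ := [nat_lit 0x1, nat_lit 0x20, nat_lit 0x420, nat_lit 0x8000, nat_lit 0x4100000, nat_lit 0x2000000]
def b7 : GG := glR (matR IS om 1 5 K7) (matR IS om 1 5 [nat_lit 0x1, nat_lit 0x20, nat_lit 0x440, nat_lit 0x8000, nat_lit 0x2100000, nat_lit 0x2000000]) (by decide +kernel)
theorem col7 : Cols q (rhoGL _ _) (eR IS om) ⊥ b7 K7 := cols_R (s := 1) IS om rfl (by decide +kernel)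
def K8 : List ℕ := [nat_lit 0x1, nat_lit 0x21, nat_lit 0x400, nat_lit 0x208000, nat_lit 0x100000, nat_lit 0x2000000]
def b8 : GG := glR (matR IS om 1 5 K8) (matR IS om 1 5 [nat_lit 0x1, nat_lit 0x22, nat_lit 0x400, nat_lit 0x108000, nat_lit 0x100000, nat_lit 0x2000000]) (by decide +kernel)
theorem col8 : Cols q (rhoGL _ _) (eR IS om) ⊥ b8 K8 := cols_R (s := 1) IS om rfl (by decide +kernel)
def K9 : List ℕ := [nat_lit 0x1, nat_lit 0x40, nat_lit 0x800, nat_lit 0x8000, nat_lit 0x200000, nat_lit 0x4000000]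
def b9 : GG := glR (matR IS om 1 5 K9) (matR IS om 1 5 [nat_lit 0x1, nat_lit 0x40, nat_lit 0x800, nat_lit 0x8000, nat_lit 0x200000, nat_lit 0x4000000]) (by decide +kernel)
theorem col9 : Cols q (rhoGL _ _) (eR IS om) ⊥ b9 K9 := cols_R (s := 1) IS om rfl (by decide +kernel)
def K10 : List ℕ := [nat_lit 0x1, nat_lit 0x20, nat_lit 0x800, nat_lit 0x8000, nat_lit 0x100000, nat_lit 0x4000000]
def b10 : GG := glR (matR IS om 1 5 K10) (matR IS om 1 5 [nat_lit 0x1, nat_lit 0x20, nat_lit 0x800, nat_lit 0x8000, nat_lit 0x100000, nat_lit 0x4000000]) (by decide +kernel)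
theorem col10 : Cols q (rhoGL _ _) (eR IS om) ⊥ b10 K10 := cols_R (s := 1) IS om rfl (by decide +kernel)
def K11 : List ℕ := [nat_lit 0x21, nat_lit 0x20, nat_lit 0x400, nat_lit 0x8000, nat_lit 0x110000, nat_lit 0x2000000]
def b11 : GG := glR (matR IS om 1 5 K11) (matR IS om 1 5 [nat_lit 0x41, nat_lit 0x20, nat_lit 0x400, nat_lit 0x8000, nat_lit 0x108000, nat_lit 0x2000000]) (by decide +kernel)
theorem col11 : Cols q (rhoGL _ _) (eR IS om) ⊥ b11 K11 := cols_R (s := 1) IS om rfl (by decide +kernel)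
def K12 : List ℕ := [nat_lit 0x1, nat_lit 0x820, nat_lit 0x400, nat_lit 0x8000, nat_lit 0x100000, nat_lit 0x2100000]
def b12 : GG := glR (matR IS om 1 5 K12) (matR IS om 1 5 [nat_lit 0x1, nat_lit 0x420, nat_lit 0x400, nat_lit 0x8000, nat_lit 0x100000, nat_lit 0x2200000]) (by decide +kernel)
theorem col12 : Cols q (rhoGL _ _) (eR IS om) ⊥ b12 K12 := cols_R (s := 1) IS om rfl (by decide +kernel)
def K13 : List ℕ := [nat_lit 0x1, nat_lit 0x20, nat_lit 0x4000400, nat_lit 0x8000, nat_lit 0x100000, nat_lit 0x2000000]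
def b13 : GG := glR (matR IS om 1 5 K13) (matR IS om 1 5 [nat_lit 0x1, nat_lit 0x20, nat_lit 0x2000400, nat_lit 0x8000, nat_lit 0x100000, nat_lit 0x2000000]) (by decide +kernel)
theorem col13 : Cols q (rhoGL _ _) (eR IS om) ⊥ b13 K13 := cols_R (s := 1) IS om rfl (by decide +kernel)
def K14 : List ℕ := [nat_lit 0x2, nat_lit 0x40, nat_lit 0x800, nat_lit 0x8000, nat_lit 0x100000, nat_lit 0x2000000]
def b14 : GG := glR (matR IS om 1 5 K14) (matR IS om 1 5 [nat_lit 0x2, nat_lit 0x40, nat_lit 0x800, nat_lit 0x8000, nat_lit 0x100000, nat_lit 0x2000000]) (by decide +kernel)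
theorem col14 : Cols q (rhoGL _ _) (eR IS om) ⊥ b14 K14 := cols_R (s := 1) IS om rfl (by decide +kernel)
def C : List (List ℕ) := [K0, K1, K2, K3, K4, K5, K6, K7, K8, K9, K10, K11, K12, K13, K14] ++ []
def o : List GG := [b0, b1, b2, b3, b4, b5, b6, b7, b8, b9, b10, b11, b12, b13, b14]
theorem rele : allZ2 (relEnt (nat_lit 6) (nat_lit 5) (nat_lit 31) (nat_lit 3) C (nat_lit 15) (List.range 15)
  ((LP V20).map (·.1)) ((LP V20).map (·.2))) (nat_lit 99) (nat_lit 6) = true := by decide +kernel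
theorem ms : q.OK ∧ (LP V20).length = 99 ∧ (∀ i < 6, ∀ k < 9, tg (nth 0 (TL V20) i) k < 19683) ∧
  ∀ p ∈ LP V20, ∀ k ∈ p.1, nth 0 (List.range 15) k = k := by decide +kernel
theorem amb : Amb q (rhoGL _ _) (eR IS om) ⊥ := amb_GL ms.1 (by decide +kernel)
theorem mact : MAct q (rhoGL _ _) (eR IS om) ⊥ (tup o) C 15 :=
  mact_tup (.cons col0 (.cons col1 (.cons col2 (.cons col3 (.cons col4 (.cons col5 (.cons col6 (.cons col7 (.cons col8 (.cons col9 (.cons col10 (.cons col11 (.cons col12 (.cons col13 (.cons col14 (.nil))))))))))))))))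

theorem rl : Rl (tup o) ∧ ∀ i < 6, At (tup o) (tup o (9 + i)) (nth 0 (TL V20) i) :=
  of_LP ms.2.2.1 fun p hp => by
    obtain ⟨i, hi, e⟩ := ex_nth ([], []) hp
    have := mact.rel amb (rigid_R _ _) (by decide) (allZ2_sound rele i (hi.trans_eq ms.2.1))
    simp only [nth_eq_getD] at e this
    rw [List.getD_eq_getElem _ _ hi] at e
    rw [List.getD_eq_getElem _ _ (by simpa using hi), List.getD_eq_getElem _ _ (by simpa using hi),
      List.getElem_map, List.getElem_map, e] at this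
    exact (evA_congr _ fun k hk => by rw [← nth_eq_getD, ms.2.2.2 p hp k hk]).trans this

theorem md : Md (tup o) := ⟨rl.1, fun e => absurd (congrArg Units.val e) (by decide +kernel)⟩

/-- multiplier -/
def Ch (c : ZMod 3) (g : GG) : Prop := g.val * J (Fin 3) (ZMod 3) * g.valᵀ = c • J (Fin 3) (ZMod 3)

theorem Ch.mul {c d : ZMod 3} {g h : GG} (a : Ch c g) (b : Ch d h) : Ch (c * d) (g * h) := by
  unfold Ch at *
  rw [Units.val_mul, transpose_mul, ← Matrix.mul_assoc, Matrix.mul_assoc g.val, Matrix.mul_assoc g.val, b,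
    Matrix.mul_smul, Matrix.smul_mul, a, smul_smul, mul_comm]

theorem ch2 : Ch 2 b14 ∧ b14 * b14 = 1 := ⟨by unfold Ch; decide +kernel, Units.ext (by decide +kernel)⟩

abbrev H1 : Subgroup GG := (spGL 3 (ZMod 3)).range

theorem mem1 {g : GG} : g ∈ H1 ↔ Ch 1 g :=
  ⟨by rintro ⟨a, rfl⟩; exact (SymplecticGroup.mem_iff.1 a.2).trans (one_smul _ _).symm,
    fun h => mem_spGL (h.trans (one_smul _ _))⟩

theorem m1 : ∀ k < 14, tup o k ∈ H1 := fun k hk => mem1.2 (by
  revert k; unfold Ch; decide +kernel)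

theorem syl1 : Syl 3 (gen (tup o) 9) H1 := syl_of_card (m := 465920) (gen_le.2 fun k hk => m1 k (by omega))
  (md.card_gen le_rfl) (by
    rw [← Nat.card_congr (MonoidHom.ofInjective (f := spGL 3 (ZMod 3))
      fun a b e => Subtype.ext (congrArg Units.val e)).toEquiv, H11.card_sp]
    decide +kernel) (by decide)

theorem mo1 : Mo H1 False V20 := by
  refine ⟨_, md, syl1, fun i hi => ⟨_, m1 _ (by omega), rl.2 i (by omega)⟩, False.elim, fun _ => ?_⟩
  rintro _ ⟨g, rfl⟩ e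
  have h1 := congrArg Units.val (mul_inv_eq_iff_eq_mul.1 e)
  have h2 : (tup o 0).val = 1 + single (.inl 0) (.inr 0) 1 := by decide +kernel
  have h3 : (tup o 0)⁻¹.val = 1 - single (.inl 0) (.inr 0) 1 := by decide +kernel
  rw [Units.val_mul, Units.val_mul, h2, h3] at h1
  have h4 := congrFun (congrFun (SymplecticGroup.mem_iff'.1 g.2) (.inl 0)) (.inr 0)
  replace h1 : g.1 * single (.inl 0) (.inr 0) 1 = -(single (.inl 0) (.inr 0) 1 * g.1) := by
    rw [mul_add, sub_mul, mul_one, one_mul, sub_eq_add_neg, add_right_inj] at h1; exact h1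
  have h5 := fun k => congrFun (congrFun h1 k) (.inr 0)
  have a0 := h5 (.inl 0)
  have a1 := h5 (.inl 1)
  have a2 := h5 (.inl 2)
  have a3 := h5 (.inr 0)
  have a4 := h5 (.inr 1)
  have a5 := h5 (.inr 2)
  simp at a0 a1 a2 a3 a4 a5
  simp [mul_apply, Fin.sum_univ_three, J, a0, a1, a2, a3, a4, a5] at h4
  revert h4
  generalize g.1 _ _ = a
  revert a; decide

def H2 : Subgroup GG := sgp {g | Ch 1 g ∨ Ch 2 g} (Or.inl (mem1.1 (one_mem _))) (by
  rintro a (ha | ha) b (hb | hb)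
  exacts [Or.inl (ha.mul hb), Or.inr (ha.mul hb), Or.inr (ha.mul hb), Or.inl (ha.mul hb)])

theorem mo2 : Mo H2 True V20 := by
  have a : H1 ≤ H2 := fun g hg => Or.inl (mem1.1 hg)
  have b : b14 ∈ H2 := Or.inr ch2.1
  refine ⟨_, md, syl1.trans ⟨a, fun h => ?_⟩, fun i hi => ⟨_, a (m1 _ (by omega)), rl.2 i (by omega)⟩,
    fun _ => ⟨_, b, rl.2 5 (by decide)⟩, fun h => absurd trivial h⟩
  rw [relIndex_eq_of_cover (zpowers_le.2 b) (by
    rintro g (hg | hg)
    · exact ⟨1, one_mem _, by simpa using mem1.2 hg⟩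
    · exact ⟨_, inv_mem (mem_zpowers _), by simpa using mem1.2 (ch2.1.mul hg)⟩)] at h
  have := (h.trans (relIndex_dvd_card _ _)).trans ((Nat.card_zpowers b14).dvd.trans
    (orderOf_dvd_of_pow_eq_one ((pow_two _).trans ch2.2)))
  exact absurd this (by decide)

end H16.C9.Sp
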