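import Cfsg.Agent.H16.C9j
import Cfsg.Agent.H16.C9k
import Cfsg.Agent.H16.C9l
import Cfsg.Agent.H4.Rz2

/-! Comparison with the models. -/

set_option autoImplicit false
set_option linter.unusedSectionVars false
set_option maxRecDepth 100000
set_option Elab.async false
set_option synthInstance.maxSize 4000

namespace H16.C9
open H26 (frc frc_eq)
open Subgroup H25 H25.FS H4.G3 H4 Matrix

variable {Γ : Type*} [Group Γ] [Finite Γ] {y : ℕ → Γ} {F F' : FS Γ} {E H P Q : Subgroup Γ}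
  {k L T V : ℕ} {g h : Γ} {ε : Prop}

theorem c4c : (∀ V ∈ [V20, V22], eqOn tE2 V V = 0 ∧ imCk V tE2 tE2 = 0 ∧ ∀ L ∈ L9,
    iz (kl [tA, tB', V1, V, L] [[0, 2, 3, 4], [0, 2, 4, 3], [2, 4, 4, 3], [1, 1, 2, 4, 3], [0, 2, 3, 2, 4],
      [0, 2, 0, 4, 2, 3], [0, 3, 4, 2, 2, 4]]) 0 (anyL (fun W => frc (wd [tA, tB', V1, V] W tJ) (eqOn tJ L))
        [[0, 3, 2, 3, 2, 3, 3, 2, 0, 0, 2], [0, 3, 2, 3, 2, 3, 1, 0, 1, 1, 3, 2],
          [0, 3, 2, 3, 2, 0, 3, 3, 1, 0, 2, 0]]) = 0) ∧ (eqOn tE1 V1 V1 = 0 ∧ eqOn tE3 V3 V3 = 0) ∧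
    (imCk V1 tE1 tE1 = 0 ∧ imCk V3 tE3 tE3 = 0) ∧ eqOn tE1 tE1 YT = 0 ∧ eqOn tE2 tE2 YT = 0 ∧
    eqOn tE3 tE3 YT = 0 := by decide +kernel

theorem Ra.cy (h1 : Ra y H L) (hh : h ∈ H) : Ra (cy h y) H L :=
  have ⟨_, h2, h3⟩ := h1
  ⟨_, mul_mem (mul_mem hh h2) (inv_mem hh), h3.cj h⟩

theorem Gn.le (h : Gn F E g) (hF : F.Sat 3) (hE : F.Ess E) (hg : g ∈ F'.A E)
    (ih : ∀ (R : Subgroup Γ) g, Nat.card E < Nat.card R → F.T R g → F'.T R g) : F.A E ≤ F'.A E :=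
  h _ hg fun a ha => by
    obtain ⟨k, hk, e⟩ := ext_N hF hE.fn ha.1 ha.2
    exact (((ih _ k (H25.card_lt_of_lt (lc_of_ess hF hE).lt) (T_of_mem_A inf_le_left hk)).mono
      (le_N hE.le)).congr e.symm).mem_A (F.A_le_nz E ha.1)

namespace Md
variable (r : Md y)
include r

theorem c4 (hF : F.Sat 3) (hS : F.S = gen y 9) (hF' : F'.Sat 3) (hS' : F'.S = gen y 9) (hV : V ∈ [V20, V22])
    (h1 : ∀ L ∈ [tA, tB', V1, V], Ra y (F.A (gen y 6)) L) (h2 : ∀ L ∈ [tA, tB', V1, V], Ra y (F'.A (gen y 6)) L)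
    (h : F.Ess (sp y tE4)) : ∃ v ∈ F'.A (sp y tE4), Gn F (sp y tE4) v := by
  obtain ⟨v, hv, ⟨L, hL, l⟩, a⟩ := r.v4 hF hS h
  obtain ⟨W, -, b⟩ := anyL_zero (iz_r ((c4c.1 V hV).2.2 L hL) (r.kl_ne hF hS fun M hM =>
    (List.mem_append.1 (show M ∈ [tA, tB', V1, V] ++ [L] from hM)).elim (h1 M) fun e =>
      List.mem_singleton.1 e ▸ r.ra_J hS r.e4.le r.chr4.2 ⟨v, hv, l⟩))
  rw [frc_eq] at b
  obtain ⟨g, hg, t⟩ := r.ra_wd h2 W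
  have e := l.agree t at_J b
  rw [← r.eq_sp r.eJ] at e
  have c := F.A_le_nz _ hv
  obtain ⟨k, hk, e'⟩ := r.extJ hF' hS' r.chr4.2.1 r.e4.le hg ((cj_mono g fun x hx =>
    mem_ai_of_mem hx (r.chr4.2.nz hx)).trans ((e.symm.cj_eq_of_cz_le (cz_le_ai _ _)).trans
      (mem_nz.1 (mem_nz_ai c (r.chr4.2.2 c)))).le)
  exact ⟨v, (mul_mem_cancel_left (inv_mem hk)).1 (ai_self_le_A (hS' ▸ r.e4.le) (r.h1'
    (mul_mem (inv_mem (F'.A_le_nz _ hk)) c) (agree_iff.1 (e.trans e'.symm)))), a⟩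

theorem cmp_le (hF : F.Sat 3) (hS : F.S = gen y 9) (hF' : F'.Sat 3) (hS' : F'.S = gen y 9) (hV : V ∈ [V20, V22])
    (n : NF F y ε V) (n' : NF F' y ε V) : F ≤ F' := by
  have a : F.A F.S ≤ F'.A F'.S := fun k hk => by
    obtain ⟨i, hi, h1, h2⟩ := r.split (hS ▸ F.A_le_nz _ hk)
    have h3 : i < 4 ∨ ε := by_contra fun h => h (.inl (h1 (n.ne (fun e => h (.inr e)) k hk)))
    obtain ⟨g, hg, t⟩ := n.d i hi h3
    obtain ⟨g', hg', t'⟩ := n'.d i hi h3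
    have h4 := r.ai0 hF hS (mul_mem hk (inv_mem hg)) (h2 g t)
    rw [hS, ← hS'] at h4
    exact (mul_mem_cancel_right (inv_mem ((hS' ▸ r.dg_ag hi t t' :).mem_A hg'))).1 (F'.ai_le_A _ h4)
  have b : ∀ {T L}, eqOn T T YT = 0 → eqOn T L L = 0 → Ra y (F.A (sp y T)) L → Ra y (F'.A (sp y T)) L →
      ∃ v ∈ F.A (sp y T), At y v L ∧ v ∈ F'.A (sp y T) := fun h1 h2 ⟨v, hv, t⟩ ⟨_, hv', t'⟩ =>
    ⟨v, hv, t, (t.agree t' (at_one h1) h2).mem_A hv'⟩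
  refine hF.le_of_down fun Q hQ ih g hg => ?_
  rcases hQ with rfl | hQ
  · rw [hS, ← hS']
    exact T_of_mem_A le_rfl (a hg)
  refine T_of_mem_A (hS' ▸ hS ▸ hQ.le) ((?_ : F.A Q ≤ F'.A Q) hg)
  obtain ⟨τ, hτ, t⟩ := n.d 2 (by decide) (.inl (by decide))
  rcases r.ess2 hF hS hQ (hS ▸ (le_N le_rfl).trans (F.N_le_A _)) hτ t with rfl | rfl | rfl | rfl | ⟨h, hh, rfl⟩
  · have := b c4c.2.2.2.1 c4c.2.1.1 (r.eq_sp r.e1 ▸ n.v1) (r.eq_sp r.e1 ▸ n'.v1)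
    rw [← r.eq_sp r.e1] at this
    obtain ⟨v, hv, t, h⟩ := this
    exact (r.gn1 hF hS hv t).le hF hQ h ih
  · obtain ⟨v, hv, t, h⟩ := b c4c.2.2.2.2.1 (c4c.1 V hV).1 n.v2 n'.v2
    exact (r.gn2 hF hS hv hV t).le hF hQ h ih
  · obtain ⟨v, hv, t, h⟩ := b c4c.2.2.2.2.2 c4c.2.1.2 n.v3 n'.v3
    exact (r.gn3 hF hS hv t).le hF hQ h ih
  · exact (r.noJ' hF hS n.v1 n.v2 hV hQ).elim
  · have c := hS ▸ F.A_le_nz _ hh
    have d : ∀ {F : FS Γ}, F.S = gen y 9 → h ∈ F.A F.S → NF F y ε V → ∀ L ∈ [tA, tB', V1, V],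
        Ra (C9.cy h y) (F.A (gen (C9.cy h y) 6)) L := fun {F} hS hh n L hL => by
      rw [r.gen_cj c 6 (by decide)]
      exact Ra.cy ((r.ra4 hS n.v1 n.v2 L hL).imp fun _ h => ⟨F.Hx_le_A _ h.1, h.2⟩)
        (mem_A_of_le le_rfl hh (hS ▸ r.eJ.le) (r.nzk c 6 (by decide)))
    have e := (r.gen_cj c 9 le_rfl).symm
    obtain ⟨v, hv, f⟩ := (r.cy h).c4 hF (hS.trans e) hF' (hS'.trans e) hV (d hS hh n) (d hS' (a hh) n') hQ
    exact f.le hF hQ hv ih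

theorem rz {G : Type*} [Group G] [Finite G] {K : Subgroup G} (hF : F.Sat 3) (hS : F.S = gen y 9)
    (hV : V ∈ [V20, V22]) (n : NF F y ε V) (hU : Un (gen y 9) G) (m : Mo K ε V) : ∃ H : Subgroup Γ, Rz 3 F H := by
  obtain ⟨x, r', s, m1, m2, m3⟩ := m
  obtain ⟨f, hf, e⟩ := r.hom r'
  obtain ⟨i, hi, e'⟩ := hU f hf
  have a : ∀ k < 9, i (x k) = y k := fun k hk => by
    rw [← ev_gen (y := x) hk, ← e _ (pow3_lt hk), e']; exact ev_gen hk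
  have b : (gen x 9).map i = gen y 9 := by
    rw [map_gen]; exact le_antisymm (gen_le.2 fun k hk => a k hk ▸ mem_gen y hk)
      (gen_le.2 fun k hk => a k hk ▸ mem_gen (fun k => i (x k)) hk)
  have s' : Syl 3 (gen y 9) (K.map i) := b ▸ ⟨map_mono s.le, by
    rw [relIndex_map_map_of_injective _ _ hi]; exact s.2⟩
  have c : ∀ {U T L}, Ech y U T → imCk L T T = 0 → (∃ g ∈ K, At x g L) →
      Ra y ((ofSub (K.map i) (gen y 9)).A U) L := fun h h0 ⟨g, hg, t⟩ => ⟨i g, by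
    rw [ofSub_A s'.le h.le]
    exact mem_ai_of_mem (mem_map_of_mem i hg) (mem_nz_of_le (r.cj_le (t.map i a) h h.low h0)), t.map i a⟩
  have d : ∀ j < 8, (∃ g ∈ K, At x g (nth 0 DG j)) → Dg (ofSub (K.map i) (gen y 9)) y j := fun j hj =>
    c r.echS (dgc.1 j hj).2.1
  have n' : NF (ofSub (K.map i) (gen y 9)) y ε V := ⟨r.dg_all (d 1 (by decide) (m1 0 (by decide)))
    (d 2 (by decide) (m1 1 (by decide))) fun h => d 4 (by decide) (m2 h), fun h g hg h1 => by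
      rw [ofSub_S, ofSub_A s'.le le_rfl] at hg
      obtain ⟨-, _, ⟨k, hk, rfl⟩, h2⟩ := hg
      rw [h2 _ (mem_gen y (by decide)), ← a 0 (by decide), ← map_inv, ← map_inv, ← map_mul, ← map_mul] at h1
      exact m3 h k hk (hi h1), c r.e1 c4c.2.2.1.1 (m1 2 (by decide)), c r.e2 (c4c.1 V hV).2.1 (m1 3 (by decide)),
    c r.e3 c4c.2.2.1.2 (m1 4 (by decide))⟩
  have hF' := sat_ofSub r.pg s'
  exact ⟨K.map i, (K.map i).subtype, subtype_injective _, by rwa [range_subtype, hS], by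
    rw [range_subtype, hS]
    exact (r.cmp_le hF hS hF' rfl hV n n').antisymm (r.cmp_le hF' rfl hF hS hV n' n)⟩

theorem main (hF : F.Sat 3) (hS : F.S = gen y 9) (hc : F.core = ⊥) (hA : Am F.S) (h1 : Un F.S Sp.GG)
    (h2 : Un F.S Cfsg.Spor.Co1) : ∃ H : Subgroup Γ, Rz 3 F H := by
  have : Finite Cfsg.Spor.Co1 := Nat.finite_of_card_ne_zero (H15.card_Co1 ▸ by decide)
  obtain ⟨x, r', e, hN, h⟩ := r.nf0 hF hS (hS ▸ hA)
  rw [← e] at hS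
  rw [hS] at hA h1 h2
  obtain ⟨ε, V, hV, n⟩ := r'.nf hF hS hA hc hN h
  rcases hV with rfl | ⟨hε, rfl⟩
  · by_cases hε : ε
    · exact r'.rz hF hS (by simp) n h1 (eq_true hε ▸ Sp.mo2)
    · exact r'.rz hF hS (by simp) n h1 (eq_false hε ▸ Sp.mo1)
  · exact r'.rz hF hS (by simp) n h2 (eq_true hε ▸ Co.mo)

end Md

theorem exists_md [Fact (Nat.Prime 3)] (T : Sylow 3 Cfsg.Spor.Co1) : ∃ y : ℕ → T, Md y ∧ gen y 9 = ⊤ := by
  have : Finite Cfsg.Spor.Co1 := Nat.finite_of_card_ne_zero (H15.card_Co1 ▸ by decide)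
  obtain ⟨x, h1, s, -⟩ := Co.mo
  obtain ⟨Q, hQ⟩ := h1.pg.exists_le_sylow
  obtain ⟨z, hz⟩ := h1.lift hQ
  have h2 := hz.map (Sylow.equiv Q T).toMonoidHom (Sylow.equiv Q T).injective
  exact ⟨_, h2, eq_top_of_card_eq _ ((h2.card_gen le_rfl).trans (((h1.card_gen le_rfl).symm.trans (by
    rw [s.eq_of_le Q.2 hQ le_top])).trans (Nat.card_congr (Sylow.equiv Q T).toEquiv)))⟩

end H16.C9
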