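import Cfsg.Agent.H16.C9n

/-! Generated: certificates for the centric subgroups. -/

set_option autoImplicit false
set_option maxRecDepth 100000
set_option maxHeartbeats 0
set_option Elab.async false

namespace H16.C9
open H26 (jn frc frc_eq)
noncomputable def cl8 : List Nd := [
  ⟨[nat_lit 76, nat_lit 75, nat_lit 74], [], [nat_lit 0x25901e6025900f302590000, nat_lit 0, nat_lit 0x25d0000025b01e6025a00f3025c0000025b00f3025a01e6000b0000025b0000025a0000, nat_lit 0, nat_lit 0], nat_lit 729, nat_lit 1, []⟩,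
  ⟨[nat_lit 80, nat_lit 76, nat_lit 75], [], [nat_lit 0x25e222c025e00f3025e0000, nat_lit 0, nat_lit 0x26144580260222c025f00f3026127de026000f3025f222c0261000002600000025f0000, nat_lit 0, nat_lit 0], nat_lit 486, nat_lit 0, [(nat_lit 1, [nat_lit 0x30000000000001]), (nat_lit 10, [nat_lit 0x63002d000000030001])]⟩,
  ⟨[nat_lit 80, nat_lit 76, nat_lit 75], [], [nat_lit 0x26201e6026200f302620000, nat_lit 0, nat_lit 0x26527de026401e6026300f302654458026400f3026327de026500000264000002630000, nat_lit 0, nat_lit 0], nat_lit 486, nat_lit 0, [(nat_lit 1, [nat_lit 0x30000000000001]), (nat_lit 10, [nat_lit 0x63002d000000030001])]⟩,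
  ⟨[nat_lit 77, nat_lit 76, nat_lit 73], [], [nat_lit 0x268014d0267014d0266014d0268029a0267029a0266029a026800000267000002660000, nat_lit 0], nat_lit 9, nat_lit 0, [(nat_lit 1, [nat_lit 0x30000000000001]), (nat_lit 10, [nat_lit 0x63002d000000030001])]⟩,
  ⟨[nat_lit 80, nat_lit 77, nat_lit 76], [], [nat_lit 0x26b222c026a222c0269222c026b4a0a026a4a0a02694a0a026b0000026a000002690000, nat_lit 0], nat_lit 9, nat_lit 0, [(nat_lit 1, [nat_lit 0x30000000000001]), (nat_lit 10, [nat_lit 0x63002d000000030001])]⟩,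
  ⟨[nat_lit 80, nat_lit 77, nat_lit 76], [], [nat_lit 0x26e4a0a026d4a0a026c4a0a026e222c026d222c026c222c026e0000026d0000026c0000, nat_lit 0], nat_lit 9, nat_lit 0, [(nat_lit 1, [nat_lit 0x30000000000001]), (nat_lit 10, [nat_lit 0x63002d000000030001])]⟩,
  ⟨[nat_lit 76, nat_lit 75, nat_lit 74], [], [nat_lit 0x26f00f3026f01e6026f0000, nat_lit 0, nat_lit 0x27101e602730000027000f3027100f302720000027001e602710000000c000002700000, nat_lit 0, nat_lit 0], nat_lit 729, nat_lit 1, []⟩,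
  ⟨[nat_lit 80, nat_lit 76, nat_lit 75], [], [nat_lit 0x27400f3027401e602740000, nat_lit 0, nat_lit 0x27701e602763bcd027500f3027700f30276417f027501e6027700000276000002750000, nat_lit 0, nat_lit 0], nat_lit 243, nat_lit 0, [(nat_lit 1, [nat_lit 0x2a000000000001]), (nat_lit 10, [nat_lit 0x5a0024000000030001])]⟩,
  ⟨[nat_lit 80, nat_lit 76, nat_lit 75], [], [nat_lit 0x27800f3027801e602780000, nat_lit 0, nat_lit 0x27b01e6027a417f027900f3027b00f3027a3bcd027901e6027b0000027a000002790000, nat_lit 0, nat_lit 0], nat_lit 243, nat_lit 0, [(nat_lit 1, [nat_lit 0x2a000000000001]), (nat_lit 10, [nat_lit 0x5a0024000000030001])]⟩,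
  ⟨[nat_lit 77, nat_lit 76, nat_lit 73], [], [nat_lit 0x27e2c55027d2c55027c2c55027e2d00027d2d00027c2d00027e0000027d0000027c0000, nat_lit 0], nat_lit 9, nat_lit 0, [(nat_lit 1, [nat_lit 0x2a000000000001]), (nat_lit 10, [nat_lit 0x5a0024000000030001])]⟩,
  ⟨[nat_lit 80, nat_lit 77, nat_lit 76], [], [nat_lit 0x2812ab702802ab7027f2ab702813ea602803ea6027f3ea60281000002800000027f0000, nat_lit 0], nat_lit 9, nat_lit 0, [(nat_lit 1, [nat_lit 0x2a000000000001]), (nat_lit 10, [nat_lit 0x5a0024000000030001])]⟩,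
  ⟨[nat_lit 80, nat_lit 77, nat_lit 76], [], [nat_lit 0x2843ea602833ea602823ea602842ab702832ab702822ab7028400000283000002820000, nat_lit 0], nat_lit 9, nat_lit 0, [(nat_lit 1, [nat_lit 0x2a000000000001]), (nat_lit 10, [nat_lit 0x5a0024000000030001])]⟩,
  ⟨[nat_lit 67, nat_lit 66], [nat_lit 1], [nat_lit 0x28501e6028500f302850000, nat_lit 0x28801e6028700f3028a0000028800f3028701e602890000028800000287000002860000, nat_lit 0, nat_lit 0, nat_lit 0], nat_lit 729, nat_lit 0, [(nat_lit 1, [nat_lit 0x900030001])]⟩,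
  ⟨[nat_lit 70, nat_lit 66], [nat_lit 1], [nat_lit 0x28b088b028b00f3028b0000, nat_lit 0x28e088b028d00f3028c0b64028e00f3028d088b028c0e3d028e0000028d0000028c0000, nat_lit 0, nat_lit 0, nat_lit 0], nat_lit 243, nat_lit 0, [(nat_lit 299, [nat_lit 1, nat_lit 3, nat_lit 9, nat_lit 27, nat_lit 81])]⟩,
  ⟨[nat_lit 70, nat_lit 66], [nat_lit 1], [nat_lit 0x28f1116028f088b028f0000, nat_lit 0x29211160291088b02900e3d0292088b0291111602900b64029200000291000002900000, nat_lit 0, nat_lit 0, nat_lit 0], nat_lit 243, nat_lit 0, [(nat_lit 299, [nat_lit 1, nat_lit 3, nat_lit 9, nat_lit 27, nat_lit 81])]⟩,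
  ⟨[nat_lit 68, nat_lit 67], [nat_lit 3, nat_lit 1], [nat_lit 0, nat_lit 0, nat_lit 0], nat_lit 54, nat_lit 0, [(nat_lit 1, [nat_lit 0x900030001])]⟩,
  ⟨[nat_lit 68, nat_lit 67], [nat_lit 3, nat_lit 1], [nat_lit 0, nat_lit 0, nat_lit 0], nat_lit 54, nat_lit 0, [(nat_lit 1, [nat_lit 0x900030001])]⟩,
  ⟨[nat_lit 68, nat_lit 67], [nat_lit 3, nat_lit 1], [nat_lit 0, nat_lit 0, nat_lit 0], nat_lit 54, nat_lit 0, [(nat_lit 1, [nat_lit 0x900030001])]⟩,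
  ⟨[nat_lit 66, nat_lit 57], [nat_lit 9], [nat_lit 0x29419a1029333420296000002943342029319a1029500000294000002930000000d0000, nat_lit 0, nat_lit 0, nat_lit 0], nat_lit 81, nat_lit 0, [(nat_lit 1, [nat_lit 0x900030001])]⟩,
  ⟨[nat_lit 69, nat_lit 66, nat_lit 57], [], [nat_lit 0x297343502971b870299343502991b87029900000298343502981b870298000002970000, nat_lit 0, nat_lit 0, nat_lit 0], nat_lit 81, nat_lit 1, []⟩,
  ⟨[nat_lit 69, nat_lit 66, nat_lit 57], [], [nat_lit 0x29c1a94029c3528029b1a94029a1a94029a3528029c0000029b3528029b0000029a0000, nat_lit 0, nat_lit 0, nat_lit 0], nat_lit 81, nat_lit 1, []⟩,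
  ⟨[nat_lit 67, nat_lit 58], [nat_lit 1], [nat_lit 0, nat_lit 0, nat_lit 0], nat_lit 27, nat_lit 0, [(nat_lit 1, [nat_lit 0x900030001])]⟩,
  ⟨[nat_lit 69, nat_lit 67, nat_lit 58], [], [nat_lit 0, nat_lit 0, nat_lit 0], nat_lit 27, nat_lit 1, []⟩,
  ⟨[nat_lit 69, nat_lit 67, nat_lit 58], [], [nat_lit 0, nat_lit 0, nat_lit 0], nat_lit 27, nat_lit 1, []⟩,
  ⟨[nat_lit 76], [nat_lit 243, nat_lit 1], [nat_lit 0], nat_lit 3, nat_lit 0, [(nat_lit 1, [nat_lit 0xf30000001b000000000001])]⟩,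
  ⟨[nat_lit 76], [nat_lit 48], [nat_lit 0], nat_lit 3, nat_lit 0, [(nat_lit 1, [nat_lit 0x30000000000001])]⟩,
  ⟨[nat_lit 76], [nat_lit 42], [nat_lit 0], nat_lit 3, nat_lit 0, [(nat_lit 1, [nat_lit 0x2a000000000001])]⟩,
  ⟨[nat_lit 57], [nat_lit 6561], [nat_lit 0], nat_lit 3, nat_lit 1, []⟩,
  ⟨[nat_lit 78], [nat_lit 6669], [nat_lit 0], nat_lit 3, nat_lit 1, []⟩,
  ⟨[nat_lit 78], [nat_lit 6777], [nat_lit 0], nat_lit 3, nat_lit 1, []⟩,
  ⟨[nat_lit 78], [nat_lit 6858], [nat_lit 0], nat_lit 3, nat_lit 1, []⟩,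
  ⟨[nat_lit 78], [nat_lit 8427], [nat_lit 0], nat_lit 3, nat_lit 1, []⟩,
  ⟨[nat_lit 78], [nat_lit 7644], [nat_lit 0], nat_lit 3, nat_lit 1, []⟩,
  ⟨[nat_lit 78], [nat_lit 7074], [nat_lit 0], nat_lit 3, nat_lit 1, []⟩,
  ⟨[nat_lit 78], [nat_lit 8592], [nat_lit 0], nat_lit 3, nat_lit 1, []⟩,
  ⟨[nat_lit 78], [nat_lit 7998], [nat_lit 0], nat_lit 3, nat_lit 1, []⟩,
  ⟨[nat_lit 79], [nat_lit 1], [nat_lit 0], nat_lit 3, nat_lit 0, [(nat_lit 1, [nat_lit 0x2d9000000000000000000000001])]⟩,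
  ⟨[nat_lit 79], [nat_lit 744], [nat_lit 0], nat_lit 3, nat_lit 0, [(nat_lit 1, [nat_lit 0x2e8000000000000000000000001])]⟩,
  ⟨[nat_lit 79], [nat_lit 750], [nat_lit 0], nat_lit 3, nat_lit 0, [(nat_lit 1, [nat_lit 0x2ee000000000000000000000001])]⟩,
  ⟨[nat_lit 75], [nat_lit 9477], [nat_lit 0], nat_lit 3, nat_lit 1, []⟩,
  ⟨[nat_lit 75], [nat_lit 12393], [nat_lit 0], nat_lit 3, nat_lit 1, []⟩,
  ⟨[nat_lit 76, nat_lit 75, nat_lit 74], [], [nat_lit 0x29f19a1029e088b029d01e6029f088b029e19a1029d00f3029f0000029e0000029d0000, nat_lit 0, nat_lit 0x2a2097e02a00a7102a100f302a2088b02a1088b02a000f302a20a7102a201e602a21b8702a11a9402a200f302a001e602a119a102a0097e02a219a102a11b8702a10a7102a101e602a01b8702a1097e02a21a9402a01a9402a2000002a1000002a019a102a0088b02a00000, nat_lit 0, nat_lit 0], nat_lit 486, nat_lit 0, [(nat_lit 100, []), (nat_lit 2, [nat_lit 0x51001b000900030001])]⟩,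
  ⟨[nat_lit 78, nat_lit 76, nat_lit 75, nat_lit 74], [], [nat_lit 0, nat_lit 0, nat_lit 0x2a501e602a500f302a5000002a401e602a400f302a4000002a301e602a300f302a30000, nat_lit 0, nat_lit 0], nat_lit 486, nat_lit 0, [(nat_lit 100, []), (nat_lit 2, [nat_lit 0x51001b000900030001])]⟩,
  ⟨[nat_lit 78, nat_lit 76, nat_lit 75, nat_lit 74], [], [nat_lit 0, nat_lit 0, nat_lit 0x2a827de02a800f302a8000002a727de02a700f302a7000002a627de02a600f302a60000, nat_lit 0, nat_lit 0], nat_lit 486, nat_lit 0, [(nat_lit 100, []), (nat_lit 2, [nat_lit 0x51001b000900030001])]⟩,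
  ⟨[nat_lit 80, nat_lit 78, nat_lit 76, nat_lit 75], [], [nat_lit 0x2ab19a102aa334202a9088b02ab00f302aa19a102a900f302ab000002aa000002a90000, nat_lit 0, nat_lit 0, nat_lit 0, nat_lit 0], nat_lit 486, nat_lit 0, [(nat_lit 100, []), (nat_lit 2, [nat_lit 0x51001b000900030001])]⟩,
  ⟨[nat_lit 80, nat_lit 78, nat_lit 76, nat_lit 75], [], [nat_lit 0x2ae19a102ad334202ac111602ae00f302ad19a102ac088b02ae000002ad000002ac0000, nat_lit 0, nat_lit 0, nat_lit 0, nat_lit 0], nat_lit 486, nat_lit 0, [(nat_lit 100, []), (nat_lit 2, [nat_lit 0x51001b000900030001])]⟩]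
theorem cc8 : (Nat.beq (lst ndF cl8 103) 0 && Nat.beq (103 + cl8.length) 149) = true := by
  decide +kernel
noncomputable def cl9 : List Nd := [
  ⟨[nat_lit 76, nat_lit 75, nat_lit 74], [], [nat_lit 0x2b100f302b019a102af00f302b119a102b0334202af01e602b1000002b0000002af0000, nat_lit 0, nat_lit 0x2b401e602b31b8702b200f302b2352802b319a102b419a102b3343502b31a9402b300f302b2343502b4352802b301e602b3334202b4334202b201e602b400f302b4343502b41a9402b3352802b21a9402b41b8702b4000002b21b8702b3000002b2334202b219a102b20000, nat_lit 0, nat_lit 0], nat_lit 243, nat_lit 0, [(nat_lit 100, []), (nat_lit 2, [nat_lit 0x51001b000900030001])]⟩,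
  ⟨[nat_lit 78, nat_lit 76, nat_lit 75, nat_lit 74], [], [nat_lit 0, nat_lit 0, nat_lit 0x2b700f302b701e602b7000002b600f302b601e602b6000002b500f302b501e602b50000, nat_lit 0, nat_lit 0], nat_lit 243, nat_lit 0, [(nat_lit 100, []), (nat_lit 2, [nat_lit 0x51001b000900030001])]⟩,
  ⟨[nat_lit 78, nat_lit 76, nat_lit 75, nat_lit 74], [], [nat_lit 0, nat_lit 0, nat_lit 0x2ba00f302ba01e602ba000002b900f302b901e602b9000002b800f302b801e602b80000, nat_lit 0, nat_lit 0], nat_lit 243, nat_lit 0, [(nat_lit 100, []), (nat_lit 2, [nat_lit 0x51001b000900030001])]⟩,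
  ⟨[nat_lit 80, nat_lit 78, nat_lit 76, nat_lit 75], [], [nat_lit 0x2bd00f302bc19a102bb088b02bd19a102bc088b02bb111602bd000002bc000002bb0000, nat_lit 0, nat_lit 0, nat_lit 0, nat_lit 0], nat_lit 243, nat_lit 0, [(nat_lit 100, []), (nat_lit 2, [nat_lit 0x51001b000900030001])]⟩,
  ⟨[nat_lit 80, nat_lit 78, nat_lit 76, nat_lit 75], [], [nat_lit 0x2c0088b02bf19a102be00f302c019a102bf334202be088b02c0000002bf000002be0000, nat_lit 0, nat_lit 0, nat_lit 0, nat_lit 0], nat_lit 243, nat_lit 0, [(nat_lit 100, []), (nat_lit 2, [nat_lit 0x51001b000900030001])]⟩,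
  ⟨[nat_lit 79, nat_lit 74, nat_lit 73, nat_lit 70, nat_lit 69], [], [nat_lit 0, nat_lit 0, nat_lit 0, nat_lit 0], nat_lit 162, nat_lit 1, []⟩,
  ⟨[nat_lit 79, nat_lit 78, nat_lit 74, nat_lit 70, nat_lit 69], [], [nat_lit 0, nat_lit 0, nat_lit 0, nat_lit 0], nat_lit 162, nat_lit 1, []⟩,
  ⟨[nat_lit 79, nat_lit 78, nat_lit 74, nat_lit 70, nat_lit 69], [], [nat_lit 0, nat_lit 0, nat_lit 0, nat_lit 0], nat_lit 162, nat_lit 1, []⟩,
  ⟨[nat_lit 79, nat_lit 74, nat_lit 73, nat_lit 70, nat_lit 69], [], [nat_lit 0, nat_lit 0, nat_lit 0, nat_lit 0], nat_lit 162, nat_lit 1, []⟩,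
  ⟨[nat_lit 79, nat_lit 78, nat_lit 74, nat_lit 70, nat_lit 69], [], [nat_lit 0, nat_lit 0, nat_lit 0, nat_lit 0], nat_lit 162, nat_lit 1, []⟩,
  ⟨[nat_lit 79, nat_lit 78, nat_lit 74, nat_lit 70, nat_lit 69], [], [nat_lit 0, nat_lit 0, nat_lit 0, nat_lit 0], nat_lit 162, nat_lit 1, []⟩,
  ⟨[nat_lit 79, nat_lit 78, nat_lit 74, nat_lit 73, nat_lit 69], [], [nat_lit 0, nat_lit 0, nat_lit 0, nat_lit 0], nat_lit 162, nat_lit 1, []⟩,
  ⟨[nat_lit 79, nat_lit 78, nat_lit 74, nat_lit 73, nat_lit 69], [], [nat_lit 0, nat_lit 0, nat_lit 0, nat_lit 0], nat_lit 162, nat_lit 1, []⟩,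
  ⟨[nat_lit 79, nat_lit 78, nat_lit 74, nat_lit 73, nat_lit 69], [], [nat_lit 0, nat_lit 0, nat_lit 0, nat_lit 0], nat_lit 162, nat_lit 1, []⟩,
  ⟨[nat_lit 79, nat_lit 78, nat_lit 74, nat_lit 73, nat_lit 70], [], [nat_lit 0, nat_lit 0, nat_lit 0, nat_lit 0], nat_lit 81, nat_lit 1, []⟩,
  ⟨[nat_lit 79, nat_lit 78, nat_lit 74, nat_lit 73, nat_lit 70], [], [nat_lit 0, nat_lit 0, nat_lit 0, nat_lit 0], nat_lit 162, nat_lit 1, []⟩,
  ⟨[nat_lit 79, nat_lit 78, nat_lit 74, nat_lit 73, nat_lit 70], [], [nat_lit 0, nat_lit 0, nat_lit 0, nat_lit 0], nat_lit 162, nat_lit 1, []⟩,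
  ⟨[nat_lit 79, nat_lit 78, nat_lit 74, nat_lit 73, nat_lit 70], [], [nat_lit 0, nat_lit 0, nat_lit 0, nat_lit 0], nat_lit 81, nat_lit 1, []⟩,
  ⟨[nat_lit 79, nat_lit 78, nat_lit 74, nat_lit 73, nat_lit 70], [], [nat_lit 0, nat_lit 0, nat_lit 0, nat_lit 0], nat_lit 162, nat_lit 1, []⟩,
  ⟨[nat_lit 79, nat_lit 78, nat_lit 74, nat_lit 73, nat_lit 70], [], [nat_lit 0, nat_lit 0, nat_lit 0, nat_lit 0], nat_lit 162, nat_lit 1, []⟩,
  ⟨[nat_lit 79, nat_lit 78, nat_lit 74, nat_lit 73, nat_lit 69], [], [nat_lit 0, nat_lit 0, nat_lit 0, nat_lit 0], nat_lit 162, nat_lit 1, []⟩,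
  ⟨[nat_lit 79, nat_lit 78, nat_lit 74, nat_lit 73, nat_lit 69], [], [nat_lit 0, nat_lit 0, nat_lit 0, nat_lit 0], nat_lit 162, nat_lit 1, []⟩,
  ⟨[nat_lit 79, nat_lit 78, nat_lit 74, nat_lit 73, nat_lit 69], [], [nat_lit 0, nat_lit 0, nat_lit 0, nat_lit 0], nat_lit 162, nat_lit 1, []⟩,
  ⟨[nat_lit 79, nat_lit 78, nat_lit 74, nat_lit 73, nat_lit 70], [], [nat_lit 0, nat_lit 0, nat_lit 0, nat_lit 0], nat_lit 81, nat_lit 1, []⟩,
  ⟨[nat_lit 79, nat_lit 78, nat_lit 74, nat_lit 73, nat_lit 70], [], [nat_lit 0, nat_lit 0, nat_lit 0, nat_lit 0], nat_lit 162, nat_lit 1, []⟩,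
  ⟨[nat_lit 79, nat_lit 78, nat_lit 74, nat_lit 73, nat_lit 70], [], [nat_lit 0, nat_lit 0, nat_lit 0, nat_lit 0], nat_lit 162, nat_lit 1, []⟩,
  ⟨[nat_lit 79, nat_lit 78, nat_lit 74, nat_lit 73, nat_lit 70], [], [nat_lit 0, nat_lit 0, nat_lit 0, nat_lit 0], nat_lit 81, nat_lit 1, []⟩,
  ⟨[nat_lit 79, nat_lit 78, nat_lit 74, nat_lit 73, nat_lit 70], [], [nat_lit 0, nat_lit 0, nat_lit 0, nat_lit 0], nat_lit 162, nat_lit 1, []⟩,
  ⟨[nat_lit 79, nat_lit 78, nat_lit 74, nat_lit 73, nat_lit 70], [], [nat_lit 0, nat_lit 0, nat_lit 0, nat_lit 0], nat_lit 162, nat_lit 1, []⟩,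
  ⟨[nat_lit 58, nat_lit 57], [nat_lit 9], [nat_lit 0x2c3000002c2000002c10000, nat_lit 0x2c41b8702c4352802c401e602c41a9402c4343502c400f302c419a102c4334202c40000, nat_lit 0, nat_lit 0, nat_lit 0], nat_lit 2187, nat_lit 0, [(nat_lit 1, [nat_lit 0x900030001])]⟩,
  ⟨[nat_lit 60, nat_lit 58], [nat_lit 9], [nat_lit 0x2c5088b02c5111602c50000, nat_lit 0x2c6222c02c6417f02c601e602c61a9402c63bcd02c600f302c619a102c6334202c60000, nat_lit 0, nat_lit 0, nat_lit 0], nat_lit 243, nat_lit 0, [(nat_lit 299, [nat_lit 1, nat_lit 3, nat_lit 9, nat_lit 27, nat_lit 81])]⟩,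
  ⟨[nat_lit 60, nat_lit 58], [nat_lit 9], [nat_lit 0x2c7111602c7088b02c70000, nat_lit 0x2c82ab702c83bcd02c801e602c8222c02c8343502c800f302c819a102c8334202c80000, nat_lit 0, nat_lit 0, nat_lit 0], nat_lit 243, nat_lit 0, [(nat_lit 299, [nat_lit 1, nat_lit 3, nat_lit 9, nat_lit 27, nat_lit 81])]⟩,
  ⟨[nat_lit 59, nat_lit 57], [nat_lit 9, nat_lit 3], [nat_lit 0, nat_lit 0, nat_lit 0, nat_lit 0], nat_lit 162, nat_lit 0, [(nat_lit 1, [nat_lit 0x900030001])]⟩,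
  ⟨[nat_lit 59, nat_lit 57], [nat_lit 9, nat_lit 3], [nat_lit 0, nat_lit 0, nat_lit 0, nat_lit 0], nat_lit 162, nat_lit 0, [(nat_lit 1, [nat_lit 0x900030001])]⟩,
  ⟨[nat_lit 59, nat_lit 57], [nat_lit 9, nat_lit 3], [nat_lit 0, nat_lit 0, nat_lit 0, nat_lit 0], nat_lit 162, nat_lit 0, [(nat_lit 1, [nat_lit 0x900030001])]⟩,
  ⟨[nat_lit 69, nat_lit 67, nat_lit 60, nat_lit 58], [], [nat_lit 0, nat_lit 0, nat_lit 0], nat_lit 27, nat_lit 1, []⟩,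
  ⟨[nat_lit 69, nat_lit 67, nat_lit 60, nat_lit 58], [], [nat_lit 0, nat_lit 0, nat_lit 0], nat_lit 27, nat_lit 1, []⟩,
  ⟨[nat_lit 69, nat_lit 67, nat_lit 60, nat_lit 58], [], [nat_lit 0, nat_lit 0, nat_lit 0], nat_lit 27, nat_lit 1, []⟩,
  ⟨[nat_lit 69, nat_lit 67, nat_lit 60, nat_lit 58], [], [nat_lit 0, nat_lit 0, nat_lit 0], nat_lit 27, nat_lit 1, []⟩,
  ⟨[nat_lit 69, nat_lit 67, nat_lit 60, nat_lit 58], [], [nat_lit 0, nat_lit 0, nat_lit 0], nat_lit 27, nat_lit 1, []⟩,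
  ⟨[nat_lit 69, nat_lit 67, nat_lit 60, nat_lit 58], [], [nat_lit 0, nat_lit 0, nat_lit 0], nat_lit 27, nat_lit 1, []⟩,
  ⟨[nat_lit 70, nat_lit 69, nat_lit 66, nat_lit 57], [], [nat_lit 0, nat_lit 0, nat_lit 0, nat_lit 0], nat_lit 81, nat_lit 1, []⟩,
  ⟨[nat_lit 70, nat_lit 69, nat_lit 66, nat_lit 57], [], [nat_lit 0, nat_lit 0, nat_lit 0, nat_lit 0], nat_lit 81, nat_lit 1, []⟩,
  ⟨[nat_lit 70, nat_lit 69, nat_lit 66, nat_lit 57], [], [nat_lit 0, nat_lit 0, nat_lit 0, nat_lit 0], nat_lit 81, nat_lit 1, []⟩,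
  ⟨[nat_lit 70, nat_lit 69, nat_lit 66, nat_lit 57], [], [nat_lit 0, nat_lit 0, nat_lit 0, nat_lit 0], nat_lit 81, nat_lit 1, []⟩,
  ⟨[nat_lit 70, nat_lit 69, nat_lit 66, nat_lit 57], [], [nat_lit 0, nat_lit 0, nat_lit 0, nat_lit 0], nat_lit 81, nat_lit 1, []⟩,
  ⟨[nat_lit 70, nat_lit 69, nat_lit 66, nat_lit 57], [], [nat_lit 0, nat_lit 0, nat_lit 0, nat_lit 0], nat_lit 81, nat_lit 1, []⟩,
  ⟨[nat_lit 74, nat_lit 73], [nat_lit 243, nat_lit 27], [nat_lit 0, nat_lit 0x2cb000002ca000002c90000, nat_lit 0, nat_lit 0], nat_lit 162, nat_lit 0, [(nat_lit 1, [nat_lit 0xf30000001b000000000001])]⟩,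
  ⟨[nat_lit 74, nat_lit 73], [nat_lit 243, nat_lit 27], [nat_lit 0, nat_lit 0x2ce000002cd000002cc0000, nat_lit 0, nat_lit 0], nat_lit 162, nat_lit 0, [(nat_lit 1, [nat_lit 0xf30000001b000000000001])]⟩,
  ⟨[nat_lit 74, nat_lit 73], [nat_lit 243, nat_lit 27], [nat_lit 0, nat_lit 0x2d1000002d0000002cf0000, nat_lit 0, nat_lit 0], nat_lit 162, nat_lit 0, [(nat_lit 1, [nat_lit 0xf30000001b000000000001])]⟩,
  ⟨[nat_lit 76, nat_lit 75], [nat_lit 243, nat_lit 27], [nat_lit 0, nat_lit 0], nat_lit 18, nat_lit 0, [(nat_lit 1, [nat_lit 0xf30000001b000000000001])]⟩,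
  ⟨[nat_lit 76, nat_lit 75], [nat_lit 243, nat_lit 27], [nat_lit 0, nat_lit 0], nat_lit 18, nat_lit 0, [(nat_lit 1, [nat_lit 0xf30000001b000000000001])]⟩,
  ⟨[nat_lit 80, nat_lit 76], [nat_lit 243], [nat_lit 0x2d21c7a02d21f5302d219a102d2361b02d238f402d2334202d21e1802d220f102d20000, nat_lit 0], nat_lit 9, nat_lit 0, [(nat_lit 299, [nat_lit 1, nat_lit 3, nat_lit 27, nat_lit 81, nat_lit 243])]⟩,
  ⟨[nat_lit 80, nat_lit 76], [nat_lit 243, nat_lit 27], [nat_lit 0, nat_lit 0], nat_lit 18, nat_lit 0, [(nat_lit 1, [nat_lit 0xf30000001b000000000001])]⟩,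
  ⟨[nat_lit 80, nat_lit 76], [nat_lit 243, nat_lit 27], [nat_lit 0, nat_lit 0], nat_lit 18, nat_lit 0, [(nat_lit 1, [nat_lit 0xf30000001b000000000001])]⟩,
  ⟨[nat_lit 80, nat_lit 76], [nat_lit 243], [nat_lit 0x2d3361b02d338f402d3334202d31c7a02d31f5302d319a102d302d902d305b202d30000, nat_lit 0], nat_lit 9, nat_lit 0, [(nat_lit 299, [nat_lit 1, nat_lit 3, nat_lit 27, nat_lit 81, nat_lit 243])]⟩]
theorem cc9 : (Nat.beq (lst ndF cl9 149) 0 && Nat.beq (149 + cl9.length) 205) = true := by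
  decide +kernel
noncomputable def cl10 : List Nd := [
  ⟨[nat_lit 80, nat_lit 76], [nat_lit 243, nat_lit 27], [nat_lit 0, nat_lit 0], nat_lit 18, nat_lit 0, [(nat_lit 1, [nat_lit 0xf30000001b000000000001])]⟩,
  ⟨[nat_lit 80, nat_lit 76], [nat_lit 243, nat_lit 27], [nat_lit 0, nat_lit 0], nat_lit 18, nat_lit 0, [(nat_lit 1, [nat_lit 0xf30000001b000000000001])]⟩,
  ⟨[nat_lit 74, nat_lit 73], [], [nat_lit 0x2d40b1c02d40a2902d4093602d40ad402d4126302d408ee02d401e602d400f302d40000, nat_lit 0x2d60b1c02d5126302d8111602d60a2902d50ad402d7088b02d6093602d508ee02da000002d60ad402d50a2902d8088b02d6126302d50b1c02d7111602d608ee02d5093602d9000002d601e602d500f302d8000002d600f302d501e602d7000002d6000002d50000000e0000, nat_lit 0, nat_lit 0], nat_lit 162, nat_lit 0, [(nat_lit 100, []), (nat_lit 2, [nat_lit 0x2d900000000001b000900030001])]⟩,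
  ⟨[nat_lit 78, nat_lit 74, nat_lit 73], [], [nat_lit 0, nat_lit 0x2e3000002e2000002e1000002e0000002df000002de000002dd000002dc000002db0000, nat_lit 0, nat_lit 0], nat_lit 243, nat_lit 1, []⟩,
  ⟨[nat_lit 78, nat_lit 74, nat_lit 73], [], [nat_lit 0, nat_lit 0x2ec000002eb000002ea000002e9000002e8000002e7000002e6000002e5000002e40000, nat_lit 0, nat_lit 0], nat_lit 243, nat_lit 1, []⟩,
  ⟨[nat_lit 78, nat_lit 74], [], [nat_lit 0x2ed1b8702ed1a9402ed19a102ed0ad402ed343502ed334202ed01e602ed00f302ed0000, nat_lit 0x2f01b8702ef0a2902f1088b02f01a9402ef0b1c02f3000002f019a102ef334202ee111602f00a7102ef1a9402f1111602f0097e02ef1b8702f2000002f0088b02ef19a102ee088b02f001e602ef00f302f1000002f000f302ef01e6000f000002f0000002ef000002ee0000, nat_lit 0, nat_lit 0], nat_lit 162, nat_lit 0, [(nat_lit 100, []), (nat_lit 2, [nat_lit 0x2d900000000001b000900030001])]⟩,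
  ⟨[nat_lit 78, nat_lit 74], [], [nat_lit 0x2f40b1c02f40a2902f4334202f41b8702f41a9402f419a102f401e602f400f302f40000, nat_lit 0x2f70a7102f61a9402fa000002f7097e02f61b8702f8111602f7088b02f619a102f5088b02f71b8702f6343502f9000002f71a9402f60ad402f8088b02f719a102f6334202f5111602f701e602f600f30010000002f700f302f601e602f8000002f7000002f6000002f50000, nat_lit 0, nat_lit 0], nat_lit 162, nat_lit 0, [(nat_lit 100, []), (nat_lit 2, [nat_lit 0x2d900000000001b000900030001])]⟩,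
  ⟨[nat_lit 76, nat_lit 73, nat_lit 58], [], [nat_lit 0, nat_lit 0], nat_lit 9, nat_lit 1, []⟩,
  ⟨[nat_lit 78, nat_lit 76, nat_lit 73], [], [nat_lit 0, nat_lit 0], nat_lit 18, nat_lit 1, []⟩,
  ⟨[nat_lit 78, nat_lit 76, nat_lit 75], [], [nat_lit 0, nat_lit 0], nat_lit 18, nat_lit 1, []⟩,
  ⟨[nat_lit 78, nat_lit 76, nat_lit 75], [], [nat_lit 0, nat_lit 0], nat_lit 18, nat_lit 1, []⟩,
  ⟨[nat_lit 78, nat_lit 76, nat_lit 73], [], [nat_lit 0, nat_lit 0], nat_lit 18, nat_lit 1, []⟩,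
  ⟨[nat_lit 78, nat_lit 76, nat_lit 75], [], [nat_lit 0, nat_lit 0], nat_lit 18, nat_lit 1, []⟩,
  ⟨[nat_lit 78, nat_lit 76, nat_lit 75], [], [nat_lit 0, nat_lit 0], nat_lit 18, nat_lit 1, []⟩,
  ⟨[nat_lit 80, nat_lit 76, nat_lit 58], [], [nat_lit 0, nat_lit 0], nat_lit 9, nat_lit 1, []⟩,
  ⟨[nat_lit 80, nat_lit 76, nat_lit 58], [], [nat_lit 0, nat_lit 0], nat_lit 9, nat_lit 1, []⟩,
  ⟨[nat_lit 74, nat_lit 73], [], [nat_lit 0x2fb20f102fb019e02fb1e1802fb20a002fb014d02fb1de602fb01e602fb00f302fb0000, nat_lit 0x2fe20f102fd014d0306000002fe019e02fd20a00305000002fe1e1802fd1de60304000002fe20a002fd019e0303000002fe014d02fd20f10302000002fe1de602fd1e180301000002fe01e602fd00f30300000002fe00f302fd01e602ff000002fe000002fd000002fc0000, nat_lit 0, nat_lit 0], nat_lit 162, nat_lit 0, [(nat_lit 100, []), (nat_lit 2, [nat_lit 0x3cc00000000001b000900030001])]⟩,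
  ⟨[nat_lit 78, nat_lit 74, nat_lit 73], [], [nat_lit 0, nat_lit 0x30f0000030e0000030d0000030c0000030b0000030a0000030900000308000003070000, nat_lit 0, nat_lit 0], nat_lit 243, nat_lit 1, []⟩,
  ⟨[nat_lit 78, nat_lit 74, nat_lit 73], [], [nat_lit 0, nat_lit 0x31800000317000003160000031500000314000003130000031200000311000003100000, nat_lit 0, nat_lit 0], nat_lit 243, nat_lit 1, []⟩,
  ⟨[nat_lit 78, nat_lit 74], [], [nat_lit 0x3191b8703191a94031919a1031935280319343503193342031901e6031900f303190000, nat_lit 0x31c1b87031b343503240000031c1a94031b352803230000031c19a1031b334203220000031c3528031b1a9403210000031c3435031b1b8703200000031c3342031b19a1031f0000031c01e6031b00f3031e0000031c00f3031b01e6031d0000031c0000031b0000031a0000, nat_lit 0, nat_lit 0], nat_lit 162, nat_lit 0, [(nat_lit 100, []), (nat_lit 2, [nat_lit 0x3cc00000000001b000900030001])]⟩,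
  ⟨[nat_lit 78, nat_lit 74, nat_lit 73], [], [nat_lit 0, nat_lit 0x32d0000032c0000032b0000032a00000329000003280000032700000326000003250000, nat_lit 0, nat_lit 0], nat_lit 486, nat_lit 1, []⟩,
  ⟨[nat_lit 78, nat_lit 74, nat_lit 73], [], [nat_lit 0, nat_lit 0x3360000033500000334000003330000033200000331000003300000032f0000032e0000, nat_lit 0, nat_lit 0], nat_lit 486, nat_lit 1, []⟩,
  ⟨[nat_lit 78, nat_lit 74], [], [nat_lit 0x3373528033734350337334203371b8703371a94033719a1033701e6033700f303370000, nat_lit 0x33a352803391a9403420000033a343503391b8703410000033a3342033919a103400000033a1b8703393435033f0000033a1a9403393528033e0000033a19a103393342033d0000033a01e6033900f3033c0000033a00f3033901e6033b0000033a00000339000003380000, nat_lit 0, nat_lit 0], nat_lit 162, nat_lit 0, [(nat_lit 100, []), (nat_lit 2, [nat_lit 0x3cc00000000001b000900030001])]⟩,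
  ⟨[nat_lit 78, nat_lit 74, nat_lit 73], [], [nat_lit 0, nat_lit 0x34b0000034a000003490000034800000347000003460000034500000344000003430000, nat_lit 0, nat_lit 0], nat_lit 486, nat_lit 1, []⟩,
  ⟨[nat_lit 78, nat_lit 74, nat_lit 73], [], [nat_lit 0, nat_lit 0x354000003530000035200000351000003500000034f0000034e0000034d0000034c0000, nat_lit 0, nat_lit 0], nat_lit 486, nat_lit 1, []⟩,
  ⟨[nat_lit 76, nat_lit 73, nat_lit 58], [], [nat_lit 0, nat_lit 0], nat_lit 9, nat_lit 1, []⟩,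
  ⟨[nat_lit 76, nat_lit 75, nat_lit 58], [], [nat_lit 0, nat_lit 0], nat_lit 9, nat_lit 1, []⟩,
  ⟨[nat_lit 76, nat_lit 75, nat_lit 58], [], [nat_lit 0, nat_lit 0], nat_lit 9, nat_lit 1, []⟩,
  ⟨[nat_lit 78, nat_lit 76, nat_lit 73], [], [nat_lit 0, nat_lit 0], nat_lit 18, nat_lit 1, []⟩,
  ⟨[nat_lit 78, nat_lit 76, nat_lit 75], [], [nat_lit 0, nat_lit 0], nat_lit 18, nat_lit 1, []⟩,
  ⟨[nat_lit 78, nat_lit 76, nat_lit 75], [], [nat_lit 0, nat_lit 0], nat_lit 18, nat_lit 1, []⟩,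
  ⟨[nat_lit 78, nat_lit 76, nat_lit 73], [], [nat_lit 0, nat_lit 0], nat_lit 18, nat_lit 1, []⟩,
  ⟨[nat_lit 78, nat_lit 76, nat_lit 75], [], [nat_lit 0, nat_lit 0], nat_lit 18, nat_lit 1, []⟩,
  ⟨[nat_lit 78, nat_lit 76, nat_lit 75], [], [nat_lit 0, nat_lit 0], nat_lit 18, nat_lit 1, []⟩,
  ⟨[nat_lit 80, nat_lit 76, nat_lit 58], [], [nat_lit 0, nat_lit 0], nat_lit 9, nat_lit 1, []⟩,
  ⟨[nat_lit 80, nat_lit 76, nat_lit 58], [], [nat_lit 0, nat_lit 0], nat_lit 9, nat_lit 1, []⟩,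
  ⟨[nat_lit 80, nat_lit 76, nat_lit 58], [], [nat_lit 0, nat_lit 0], nat_lit 9, nat_lit 1, []⟩,
  ⟨[nat_lit 80, nat_lit 78, nat_lit 76], [], [nat_lit 0, nat_lit 0], nat_lit 18, nat_lit 1, []⟩,
  ⟨[nat_lit 80, nat_lit 78, nat_lit 76], [], [nat_lit 0, nat_lit 0], nat_lit 18, nat_lit 1, []⟩,
  ⟨[nat_lit 80, nat_lit 78, nat_lit 76], [], [nat_lit 0, nat_lit 0], nat_lit 18, nat_lit 1, []⟩,
  ⟨[nat_lit 80, nat_lit 78, nat_lit 76], [], [nat_lit 0, nat_lit 0], nat_lit 18, nat_lit 1, []⟩,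
  ⟨[nat_lit 80, nat_lit 78, nat_lit 76], [], [nat_lit 0, nat_lit 0], nat_lit 18, nat_lit 1, []⟩,
  ⟨[nat_lit 80, nat_lit 78, nat_lit 76], [], [nat_lit 0, nat_lit 0], nat_lit 18, nat_lit 1, []⟩,
  ⟨[nat_lit 80, nat_lit 76, nat_lit 58], [], [nat_lit 0, nat_lit 0], nat_lit 9, nat_lit 1, []⟩,
  ⟨[nat_lit 80, nat_lit 76, nat_lit 58], [], [nat_lit 0, nat_lit 0], nat_lit 9, nat_lit 1, []⟩,
  ⟨[nat_lit 80, nat_lit 76, nat_lit 58], [], [nat_lit 0, nat_lit 0], nat_lit 9, nat_lit 1, []⟩,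
  ⟨[nat_lit 80, nat_lit 78, nat_lit 76], [], [nat_lit 0, nat_lit 0], nat_lit 18, nat_lit 1, []⟩,
  ⟨[nat_lit 80, nat_lit 78, nat_lit 76], [], [nat_lit 0, nat_lit 0], nat_lit 18, nat_lit 1, []⟩,
  ⟨[nat_lit 80, nat_lit 78, nat_lit 76], [], [nat_lit 0, nat_lit 0], nat_lit 18, nat_lit 1, []⟩,
  ⟨[nat_lit 80, nat_lit 78, nat_lit 76], [], [nat_lit 0, nat_lit 0], nat_lit 18, nat_lit 1, []⟩,
  ⟨[nat_lit 80, nat_lit 78, nat_lit 76], [], [nat_lit 0, nat_lit 0], nat_lit 18, nat_lit 1, []⟩,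
  ⟨[nat_lit 80, nat_lit 78, nat_lit 76], [], [nat_lit 0, nat_lit 0], nat_lit 18, nat_lit 1, []⟩,
  ⟨[nat_lit 74, nat_lit 73], [], [nat_lit 0x3551e180355019e035520f1035502490355014d035520a0035501e6035500f303550000, nat_lit 0x3581e180357014d036000000358019e03570249035f0000035820f1035720a0035e0000035802490357019e035d00000358014d03571e18035c0000035820a0035720f1035b0000035801e6035700f3035a0000035800f3035701e603590000035800000357000003560000, nat_lit 0, nat_lit 0], nat_lit 162, nat_lit 0, [(nat_lit 100, []), (nat_lit 2, [nat_lit 0x4bf00000000001b000900030001])]⟩,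
  ⟨[nat_lit 78, nat_lit 74, nat_lit 73], [], [nat_lit 0, nat_lit 0x36900000368000003670000036600000365000003640000036300000362000003610000, nat_lit 0, nat_lit 0], nat_lit 243, nat_lit 1, []⟩,
  ⟨[nat_lit 78, nat_lit 74, nat_lit 73], [], [nat_lit 0, nat_lit 0x37200000371000003700000036f0000036e0000036d0000036c0000036b0000036a0000, nat_lit 0, nat_lit 0], nat_lit 243, nat_lit 1, []⟩,
  ⟨[nat_lit 78, nat_lit 74], [], [nat_lit 0x3731b8703731a94037319a1037335280373343503733342037301e6037300f303730000, nat_lit 0x3761b8703753435037e000003761a9403753528037d0000037619a103753342037c00000376352803751a94037b00000376343503751b87037a000003763342037519a103790000037601e6037500f303780000037600f3037501e603770000037600000375000003740000, nat_lit 0, nat_lit 0], nat_lit 162, nat_lit 0, [(nat_lit 100, []), (nat_lit 2, [nat_lit 0x4bf00000000001b000900030001])]⟩,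
  ⟨[nat_lit 78, nat_lit 74, nat_lit 73], [], [nat_lit 0, nat_lit 0x387000003860000038500000384000003830000038200000381000003800000037f0000, nat_lit 0, nat_lit 0], nat_lit 486, nat_lit 1, []⟩,
  ⟨[nat_lit 78, nat_lit 74, nat_lit 73], [], [nat_lit 0, nat_lit 0x3900000038f0000038e0000038d0000038c0000038b0000038a00000389000003880000, nat_lit 0, nat_lit 0], nat_lit 486, nat_lit 1, []⟩,
  ⟨[nat_lit 78, nat_lit 74], [], [nat_lit 0x3913528039134350391334203911b8703911a94039119a1039101e6039100f303910000, nat_lit 0x394352803931a94039c00000394343503931b87039b000003943342039319a1039a000003941b87039334350399000003941a940393352803980000039419a10393334203970000039401e6039300f303960000039400f3039301e603950000039400000393000003920000, nat_lit 0, nat_lit 0], nat_lit 162, nat_lit 0, [(nat_lit 100, []), (nat_lit 2, [nat_lit 0x4bf00000000001b000900030001])]⟩,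
  ⟨[nat_lit 78, nat_lit 74, nat_lit 73], [], [nat_lit 0, nat_lit 0x3a5000003a4000003a3000003a2000003a1000003a00000039f0000039e0000039d0000, nat_lit 0, nat_lit 0], nat_lit 486, nat_lit 1, []⟩,
  ⟨[nat_lit 78, nat_lit 74, nat_lit 73], [], [nat_lit 0, nat_lit 0x3ae000003ad000003ac000003ab000003aa000003a9000003a8000003a7000003a60000, nat_lit 0, nat_lit 0], nat_lit 486, nat_lit 1, []⟩,
  ⟨[nat_lit 76, nat_lit 73, nat_lit 58], [], [nat_lit 0, nat_lit 0], nat_lit 9, nat_lit 1, []⟩,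
  ⟨[nat_lit 76, nat_lit 75, nat_lit 58], [], [nat_lit 0, nat_lit 0], nat_lit 9, nat_lit 1, []⟩,
  ⟨[nat_lit 76, nat_lit 75, nat_lit 58], [], [nat_lit 0, nat_lit 0], nat_lit 9, nat_lit 1, []⟩,
  ⟨[nat_lit 78, nat_lit 76, nat_lit 73], [], [nat_lit 0, nat_lit 0], nat_lit 18, nat_lit 1, []⟩,
  ⟨[nat_lit 78, nat_lit 76, nat_lit 75], [], [nat_lit 0, nat_lit 0], nat_lit 18, nat_lit 1, []⟩,
  ⟨[nat_lit 78, nat_lit 76, nat_lit 75], [], [nat_lit 0, nat_lit 0], nat_lit 18, nat_lit 1, []⟩,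
  ⟨[nat_lit 78, nat_lit 76, nat_lit 73], [], [nat_lit 0, nat_lit 0], nat_lit 18, nat_lit 1, []⟩,
  ⟨[nat_lit 78, nat_lit 76, nat_lit 75], [], [nat_lit 0, nat_lit 0], nat_lit 18, nat_lit 1, []⟩,
  ⟨[nat_lit 78, nat_lit 76, nat_lit 75], [], [nat_lit 0, nat_lit 0], nat_lit 18, nat_lit 1, []⟩,
  ⟨[nat_lit 80, nat_lit 76, nat_lit 58], [], [nat_lit 0, nat_lit 0], nat_lit 9, nat_lit 1, []⟩,
  ⟨[nat_lit 80, nat_lit 76, nat_lit 58], [], [nat_lit 0, nat_lit 0], nat_lit 9, nat_lit 1, []⟩,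
  ⟨[nat_lit 80, nat_lit 76, nat_lit 58], [], [nat_lit 0, nat_lit 0], nat_lit 9, nat_lit 1, []⟩,
  ⟨[nat_lit 80, nat_lit 78, nat_lit 76], [], [nat_lit 0, nat_lit 0], nat_lit 18, nat_lit 1, []⟩,
  ⟨[nat_lit 80, nat_lit 78, nat_lit 76], [], [nat_lit 0, nat_lit 0], nat_lit 18, nat_lit 1, []⟩,
  ⟨[nat_lit 80, nat_lit 78, nat_lit 76], [], [nat_lit 0, nat_lit 0], nat_lit 18, nat_lit 1, []⟩,
  ⟨[nat_lit 80, nat_lit 78, nat_lit 76], [], [nat_lit 0, nat_lit 0], nat_lit 18, nat_lit 1, []⟩,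
  ⟨[nat_lit 80, nat_lit 78, nat_lit 76], [], [nat_lit 0, nat_lit 0], nat_lit 18, nat_lit 1, []⟩,
  ⟨[nat_lit 80, nat_lit 78, nat_lit 76], [], [nat_lit 0, nat_lit 0], nat_lit 18, nat_lit 1, []⟩,
  ⟨[nat_lit 80, nat_lit 76, nat_lit 58], [], [nat_lit 0, nat_lit 0], nat_lit 9, nat_lit 1, []⟩,
  ⟨[nat_lit 80, nat_lit 76, nat_lit 58], [], [nat_lit 0, nat_lit 0], nat_lit 9, nat_lit 1, []⟩,
  ⟨[nat_lit 80, nat_lit 76, nat_lit 58], [], [nat_lit 0, nat_lit 0], nat_lit 9, nat_lit 1, []⟩,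
  ⟨[nat_lit 80, nat_lit 78, nat_lit 76], [], [nat_lit 0, nat_lit 0], nat_lit 18, nat_lit 1, []⟩,
  ⟨[nat_lit 80, nat_lit 78, nat_lit 76], [], [nat_lit 0, nat_lit 0], nat_lit 18, nat_lit 1, []⟩,
  ⟨[nat_lit 80, nat_lit 78, nat_lit 76], [], [nat_lit 0, nat_lit 0], nat_lit 18, nat_lit 1, []⟩,
  ⟨[nat_lit 80, nat_lit 78, nat_lit 76], [], [nat_lit 0, nat_lit 0], nat_lit 18, nat_lit 1, []⟩,
  ⟨[nat_lit 80, nat_lit 78, nat_lit 76], [], [nat_lit 0, nat_lit 0], nat_lit 18, nat_lit 1, []⟩,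
  ⟨[nat_lit 80, nat_lit 78, nat_lit 76], [], [nat_lit 0, nat_lit 0], nat_lit 18, nat_lit 1, []⟩,
  ⟨[nat_lit 78, nat_lit 74, nat_lit 73], [], [nat_lit 0, nat_lit 0x3b7000003b6000003b5000003b4000003b3000003b2000003b1000003b0000003af0000, nat_lit 0, nat_lit 0], nat_lit 486, nat_lit 1, []⟩,
  ⟨[nat_lit 78, nat_lit 74], [], [nat_lit 0x3b81c7a03b8019e03b81b3f03b81f5303b8014d03b81aee03b819a103b800f303b80000, nat_lit 0x3ba1c7a03b9014d03c2000003ba019e03b91f5303c1000003ba1b3f03b91aee03c0000003ba1f5303b9019e03bf000003ba014d03b91c7a03be000003ba1aee03b91b3f03bd000003ba19a103b900f303bc000003ba00f303b919a103bb000003ba000003b9000000110000, nat_lit 0, nat_lit 0], nat_lit 162, nat_lit 0, [(nat_lit 100, []), (nat_lit 2, [nat_lit 0x32a00000000001b000900030001])]⟩,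
  ⟨[nat_lit 78, nat_lit 74, nat_lit 73], [], [nat_lit 0, nat_lit 0x3c3088b03c3111603c5088b03c5111603c5000003c4088b03c4111603c4000003c30000, nat_lit 0, nat_lit 0], nat_lit 486, nat_lit 1, []⟩,
  ⟨[nat_lit 78, nat_lit 74, nat_lit 73], [], [nat_lit 0, nat_lit 0x3c7111603c8111603c7088b03c8088b03c6111603c8000003c6088b03c7000003c60000, nat_lit 0, nat_lit 0], nat_lit 486, nat_lit 1, []⟩,
  ⟨[nat_lit 78, nat_lit 74, nat_lit 73], [], [nat_lit 0, nat_lit 0x3cb088b03ca088b03ca111603c9088b03cb111603cb000003ca000003c9111603c90000, nat_lit 0, nat_lit 0], nat_lit 243, nat_lit 1, []⟩,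
  ⟨[nat_lit 78, nat_lit 76, nat_lit 58], [], [nat_lit 0, nat_lit 0], nat_lit 486, nat_lit 1, []⟩,
  ⟨[nat_lit 78, nat_lit 76, nat_lit 73], [], [nat_lit 0, nat_lit 0], nat_lit 486, nat_lit 1, []⟩,
  ⟨[nat_lit 78, nat_lit 76, nat_lit 75], [], [nat_lit 0, nat_lit 0], nat_lit 9, nat_lit 1, []⟩,
  ⟨[nat_lit 78, nat_lit 76, nat_lit 75], [], [nat_lit 0, nat_lit 0], nat_lit 18, nat_lit 1, []⟩,
  ⟨[nat_lit 78, nat_lit 76, nat_lit 75], [], [nat_lit 0, nat_lit 0], nat_lit 18, nat_lit 1, []⟩,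
  ⟨[nat_lit 78, nat_lit 76, nat_lit 75], [], [nat_lit 0, nat_lit 0], nat_lit 9, nat_lit 1, []⟩,
  ⟨[nat_lit 80, nat_lit 78, nat_lit 76], [], [nat_lit 0, nat_lit 0], nat_lit 486, nat_lit 1, []⟩,
  ⟨[nat_lit 80, nat_lit 78, nat_lit 76], [], [nat_lit 0, nat_lit 0], nat_lit 9, nat_lit 1, []⟩,
  ⟨[nat_lit 80, nat_lit 78, nat_lit 76], [], [nat_lit 0, nat_lit 0], nat_lit 18, nat_lit 1, []⟩,
  ⟨[nat_lit 78, nat_lit 74, nat_lit 73], [], [nat_lit 0, nat_lit 0x3d4000003d3000003d2000003d1000003d0000003cf000003ce000003cd000003cc0000, nat_lit 0, nat_lit 0], nat_lit 486, nat_lit 1, []⟩,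
  ⟨[nat_lit 78, nat_lit 74, nat_lit 73], [], [nat_lit 0, nat_lit 0x3d7111603d7088b03d6111603d5111603d5088b03d7000003d6088b03d6000003d50000, nat_lit 0, nat_lit 0], nat_lit 486, nat_lit 1, []⟩,
  ⟨[nat_lit 78, nat_lit 74], [], [nat_lit 0x3d838f403d81f5303d805b203d8361b03d81c7a03d802d903d8334203d819a103d80000, nat_lit 0x3da38f403d91c7a03e2000003da1f5303d9361b03e1000003da05b203d902d903e0000003da361b03d91f5303df000003da1c7a03d938f403de000003da02d903d905b203dd000003da334203d919a103dc000003da19a103d9334203db000003da000003d9000000120000, nat_lit 0, nat_lit 0], nat_lit 162, nat_lit 0, [(nat_lit 100, []), (nat_lit 2, [nat_lit 0x37b00000000001b000900030001])]⟩,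
  ⟨[nat_lit 78, nat_lit 74, nat_lit 73], [], [nat_lit 0, nat_lit 0x3e5088b03e3088b03e5111603e4088b03e5000003e4111603e3111603e4000003e30000, nat_lit 0, nat_lit 0], nat_lit 243, nat_lit 1, []⟩,
  ⟨[nat_lit 78, nat_lit 74, nat_lit 73], [], [nat_lit 0, nat_lit 0x3e6111603e8111603e8088b03e8000003e7111603e7088b03e7000003e6088b03e60000, nat_lit 0, nat_lit 0], nat_lit 486, nat_lit 1, []⟩,
  ⟨[nat_lit 78, nat_lit 76, nat_lit 58], [], [nat_lit 0, nat_lit 0], nat_lit 486, nat_lit 1, []⟩,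
  ⟨[nat_lit 78, nat_lit 76, nat_lit 73], [], [nat_lit 0, nat_lit 0], nat_lit 486, nat_lit 1, []⟩,
  ⟨[nat_lit 78, nat_lit 76, nat_lit 75], [], [nat_lit 0, nat_lit 0], nat_lit 18, nat_lit 1, []⟩,
  ⟨[nat_lit 78, nat_lit 76, nat_lit 75], [], [nat_lit 0, nat_lit 0], nat_lit 9, nat_lit 1, []⟩,
  ⟨[nat_lit 78, nat_lit 76, nat_lit 75], [], [nat_lit 0, nat_lit 0], nat_lit 9, nat_lit 1, []⟩,
  ⟨[nat_lit 78, nat_lit 76, nat_lit 75], [], [nat_lit 0, nat_lit 0], nat_lit 18, nat_lit 1, []⟩,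
  ⟨[nat_lit 80, nat_lit 78, nat_lit 58], [], [nat_lit 0, nat_lit 0], nat_lit 486, nat_lit 1, []⟩,
  ⟨[nat_lit 80, nat_lit 78, nat_lit 76], [], [nat_lit 0, nat_lit 0], nat_lit 9, nat_lit 1, []⟩,
  ⟨[nat_lit 80, nat_lit 78, nat_lit 76], [], [nat_lit 0, nat_lit 0], nat_lit 18, nat_lit 1, []⟩,
  ⟨[nat_lit 73, nat_lit 59], [], [nat_lit 0x3eb029a03ea029a03e9029a03eb024903ea024903e9024903eb01f803ea01f803e901f803eb019e03ea019e03e9019e03eb014d03ea014d03e9014d03eb00fc03ea00fc03e900fc03eb00a203ea00a203e900a203eb005103ea005103e9005103eb000003ea000003e90000, nat_lit 0], nat_lit 162, nat_lit 0, [(nat_lit 100, []), (nat_lit 2, [nat_lit 0x19a10000000000f30000001b000000030001])]⟩]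
theorem cc10 : (Nat.beq (lst ndF cl10 205) 0 && Nat.beq (205 + cl10.length) 322) = true := by
  decide +kernel
noncomputable def cl11 : List Nd := [
  ⟨[nat_lit 77, nat_lit 73, nat_lit 59], [], [nat_lit 0, nat_lit 0], nat_lit 18, nat_lit 1, []⟩,
  ⟨[nat_lit 77, nat_lit 73, nat_lit 59], [], [nat_lit 0, nat_lit 0], nat_lit 18, nat_lit 1, []⟩,
  ⟨[nat_lit 78, nat_lit 73, nat_lit 59], [], [nat_lit 0, nat_lit 0], nat_lit 18, nat_lit 1, []⟩,
  ⟨[nat_lit 78, nat_lit 73, nat_lit 59], [], [nat_lit 0, nat_lit 0], nat_lit 18, nat_lit 1, []⟩,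
  ⟨[nat_lit 78, nat_lit 73, nat_lit 59], [], [nat_lit 0, nat_lit 0], nat_lit 18, nat_lit 1, []⟩,
  ⟨[nat_lit 78, nat_lit 73, nat_lit 59], [], [nat_lit 0, nat_lit 0], nat_lit 18, nat_lit 1, []⟩,
  ⟨[nat_lit 78, nat_lit 73, nat_lit 59], [], [nat_lit 0, nat_lit 0], nat_lit 18, nat_lit 1, []⟩,
  ⟨[nat_lit 78, nat_lit 73, nat_lit 59], [], [nat_lit 0, nat_lit 0], nat_lit 18, nat_lit 1, []⟩,
  ⟨[nat_lit 80, nat_lit 59], [], [nat_lit 0x3ee029a03ed029a03ec029a03ee024903ed024903ec024903ee19a103ed19a103ec19a103ee019e03ed019e03ec019e03ee014d03ed014d03ec014d03ee334203ed334203ec334203ee1b3f03ed1b3f03ec1b3f03ee1aee03ed1aee03ec1aee03ee000003ed000003ec0000, nat_lit 0], nat_lit 162, nat_lit 0, [(nat_lit 100, []), (nat_lit 2, [nat_lit 0x19aa0000000000f30000001b000000030001])]⟩,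
  ⟨[nat_lit 80, nat_lit 77, nat_lit 59], [], [nat_lit 0, nat_lit 0], nat_lit 18, nat_lit 1, []⟩,
  ⟨[nat_lit 80, nat_lit 77, nat_lit 59], [], [nat_lit 0, nat_lit 0], nat_lit 18, nat_lit 1, []⟩,
  ⟨[nat_lit 80, nat_lit 78, nat_lit 59], [], [nat_lit 0, nat_lit 0], nat_lit 18, nat_lit 1, []⟩,
  ⟨[nat_lit 80, nat_lit 78, nat_lit 59], [], [nat_lit 0, nat_lit 0], nat_lit 18, nat_lit 1, []⟩,
  ⟨[nat_lit 80, nat_lit 78, nat_lit 59], [], [nat_lit 0, nat_lit 0], nat_lit 18, nat_lit 1, []⟩,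
  ⟨[nat_lit 80, nat_lit 78, nat_lit 59], [], [nat_lit 0, nat_lit 0], nat_lit 18, nat_lit 1, []⟩,
  ⟨[nat_lit 80, nat_lit 78, nat_lit 59], [], [nat_lit 0, nat_lit 0], nat_lit 18, nat_lit 1, []⟩,
  ⟨[nat_lit 80, nat_lit 78, nat_lit 59], [], [nat_lit 0, nat_lit 0], nat_lit 18, nat_lit 1, []⟩,
  ⟨[nat_lit 80, nat_lit 59], [], [nat_lit 0x3f11b3f03f01b3f03ef1b3f03f11aee03f01aee03ef1aee03f1334203f0334203ef334203f1019e03f0019e03ef019e03f1014d03f0014d03ef014d03f119a103f019a103ef19a103f134e003f034e003ef34e003f1348f03f0348f03ef348f03f1000003f0000003ef0000, nat_lit 0], nat_lit 162, nat_lit 0, [(nat_lit 100, []), (nat_lit 2, [nat_lit 0x19b30000000000f30000001b000000030001])]⟩,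
  ⟨[nat_lit 80, nat_lit 77, nat_lit 59], [], [nat_lit 0, nat_lit 0], nat_lit 18, nat_lit 1, []⟩,
  ⟨[nat_lit 80, nat_lit 77, nat_lit 59], [], [nat_lit 0, nat_lit 0], nat_lit 18, nat_lit 1, []⟩,
  ⟨[nat_lit 80, nat_lit 78, nat_lit 59], [], [nat_lit 0, nat_lit 0], nat_lit 18, nat_lit 1, []⟩,
  ⟨[nat_lit 80, nat_lit 78, nat_lit 59], [], [nat_lit 0, nat_lit 0], nat_lit 18, nat_lit 1, []⟩,
  ⟨[nat_lit 80, nat_lit 78, nat_lit 59], [], [nat_lit 0, nat_lit 0], nat_lit 18, nat_lit 1, []⟩,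
  ⟨[nat_lit 80, nat_lit 78, nat_lit 59], [], [nat_lit 0, nat_lit 0], nat_lit 18, nat_lit 1, []⟩,
  ⟨[nat_lit 80, nat_lit 78, nat_lit 59], [], [nat_lit 0, nat_lit 0], nat_lit 18, nat_lit 1, []⟩,
  ⟨[nat_lit 80, nat_lit 78, nat_lit 59], [], [nat_lit 0, nat_lit 0], nat_lit 18, nat_lit 1, []⟩,
  ⟨[nat_lit 78, nat_lit 73], [], [nat_lit 0x3f4029a03f3029a03f2029a03f4024903f3024903f2024903f401f803f301f803f201f803f4019e03f3019e03f2019e03f4014d03f3014d03f2014d03f420f103f320f103f220f103f41c7a03f31c7a03f21c7a03f41f5303f31f5303f21f5303f4000003f3000003f20000, nat_lit 0], nat_lit 162, nat_lit 0, [(nat_lit 100, []), (nat_lit 2, [nat_lit 0x19a10000000000f30000001b000000030001])]⟩,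
  ⟨[nat_lit 78, nat_lit 77, nat_lit 73], [], [nat_lit 0, nat_lit 0], nat_lit 18, nat_lit 1, []⟩,
  ⟨[nat_lit 78, nat_lit 77, nat_lit 73], [], [nat_lit 0, nat_lit 0], nat_lit 18, nat_lit 1, []⟩,
  ⟨[nat_lit 78, nat_lit 75, nat_lit 59], [], [nat_lit 0, nat_lit 0], nat_lit 180, nat_lit 1, []⟩,
  ⟨[nat_lit 78, nat_lit 77, nat_lit 75], [], [nat_lit 0, nat_lit 0], nat_lit 18, nat_lit 1, []⟩,
  ⟨[nat_lit 78, nat_lit 77, nat_lit 75], [], [nat_lit 0, nat_lit 0], nat_lit 18, nat_lit 1, []⟩,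
  ⟨[nat_lit 78, nat_lit 75, nat_lit 59], [], [nat_lit 0, nat_lit 0], nat_lit 18, nat_lit 1, []⟩,
  ⟨[nat_lit 78, nat_lit 77, nat_lit 75], [], [nat_lit 0, nat_lit 0], nat_lit 18, nat_lit 1, []⟩,
  ⟨[nat_lit 78, nat_lit 77, nat_lit 75], [], [nat_lit 0, nat_lit 0], nat_lit 18, nat_lit 1, []⟩,
  ⟨[nat_lit 80, nat_lit 78], [], [nat_lit 0x3f71c7a03f61c7a03f51c7a03f71f5303f61f5303f51f5303f719a103f619a103f519a103f7019e03f6019e03f5019e03f7014d03f6014d03f5014d03f7334203f6334203f5334203f71b3f03f61b3f03f51b3f03f71aee03f61aee03f51aee03f7000003f6000003f50000, nat_lit 0], nat_lit 162, nat_lit 0, [(nat_lit 100, []), (nat_lit 2, [nat_lit 0x19aa0000000000f30000001b000000030001])]⟩,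
  ⟨[nat_lit 80, nat_lit 78, nat_lit 77], [], [nat_lit 0, nat_lit 0], nat_lit 18, nat_lit 1, []⟩,
  ⟨[nat_lit 80, nat_lit 78, nat_lit 77], [], [nat_lit 0, nat_lit 0], nat_lit 18, nat_lit 1, []⟩,
  ⟨[nat_lit 80, nat_lit 78, nat_lit 59], [], [nat_lit 0, nat_lit 0], nat_lit 180, nat_lit 1, []⟩,
  ⟨[nat_lit 80, nat_lit 78, nat_lit 77], [], [nat_lit 0, nat_lit 0], nat_lit 18, nat_lit 1, []⟩,
  ⟨[nat_lit 80, nat_lit 78, nat_lit 77], [], [nat_lit 0, nat_lit 0], nat_lit 18, nat_lit 1, []⟩,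
  ⟨[nat_lit 80, nat_lit 78, nat_lit 59], [], [nat_lit 0, nat_lit 0], nat_lit 18, nat_lit 1, []⟩,
  ⟨[nat_lit 80, nat_lit 78, nat_lit 77], [], [nat_lit 0, nat_lit 0], nat_lit 18, nat_lit 1, []⟩,
  ⟨[nat_lit 80, nat_lit 78, nat_lit 77], [], [nat_lit 0, nat_lit 0], nat_lit 18, nat_lit 1, []⟩,
  ⟨[nat_lit 80, nat_lit 78], [], [nat_lit 0x3fa361b03f9361b03f8361b03fa38f403f938f403f838f403fa334203f9334203f8334203fa1c7a03f91c7a03f81c7a03fa1f5303f91f5303f81f5303fa19a103f919a103f819a103fa02d903f902d903f802d903fa05b203f905b203f805b203fa000003f9000003f80000, nat_lit 0], nat_lit 162, nat_lit 0, [(nat_lit 100, []), (nat_lit 2, [nat_lit 0x19b30000000000f30000001b000000030001])]⟩,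
  ⟨[nat_lit 80, nat_lit 78, nat_lit 77], [], [nat_lit 0, nat_lit 0], nat_lit 18, nat_lit 1, []⟩,
  ⟨[nat_lit 80, nat_lit 78, nat_lit 77], [], [nat_lit 0, nat_lit 0], nat_lit 18, nat_lit 1, []⟩,
  ⟨[nat_lit 80, nat_lit 78, nat_lit 59], [], [nat_lit 0, nat_lit 0], nat_lit 180, nat_lit 1, []⟩,
  ⟨[nat_lit 80, nat_lit 78, nat_lit 77], [], [nat_lit 0, nat_lit 0], nat_lit 18, nat_lit 1, []⟩,
  ⟨[nat_lit 80, nat_lit 78, nat_lit 77], [], [nat_lit 0, nat_lit 0], nat_lit 18, nat_lit 1, []⟩,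
  ⟨[nat_lit 80, nat_lit 78, nat_lit 59], [], [nat_lit 0, nat_lit 0], nat_lit 18, nat_lit 1, []⟩,
  ⟨[nat_lit 80, nat_lit 78, nat_lit 77], [], [nat_lit 0, nat_lit 0], nat_lit 18, nat_lit 1, []⟩,
  ⟨[nat_lit 80, nat_lit 78, nat_lit 77], [], [nat_lit 0, nat_lit 0], nat_lit 18, nat_lit 1, []⟩,
  ⟨[nat_lit 78, nat_lit 73, nat_lit 59], [], [nat_lit 0, nat_lit 0], nat_lit 18, nat_lit 1, []⟩,
  ⟨[nat_lit 78, nat_lit 77, nat_lit 73], [], [nat_lit 0, nat_lit 0], nat_lit 18, nat_lit 1, []⟩,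
  ⟨[nat_lit 78, nat_lit 77, nat_lit 73], [], [nat_lit 0, nat_lit 0], nat_lit 18, nat_lit 1, []⟩,
  ⟨[nat_lit 78, nat_lit 77, nat_lit 75], [], [nat_lit 0, nat_lit 0], nat_lit 18, nat_lit 1, []⟩,
  ⟨[nat_lit 78, nat_lit 75], [], [nat_lit 0x3fd20f103fc20f103fb20f103fd019e03fc019e03fb019e03fd1e1803fc1e1803fb1e1803fd024903fc024903fb024903fd1ec303fc1ec303fb1ec303fd219c03fc219c03fb219c03fd00f303fc00f303fb00f303fd01e603fc01e603fb01e603fd000003fc000003fb0000, nat_lit 0], nat_lit 171, nat_lit 0, [(nat_lit 100, []), (nat_lit 2, [nat_lit 0x200700000000014d0000001b000000030001])]⟩,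
  ⟨[nat_lit 78, nat_lit 77, nat_lit 75], [], [nat_lit 0, nat_lit 0], nat_lit 18, nat_lit 1, []⟩,
  ⟨[nat_lit 78, nat_lit 77, nat_lit 75], [], [nat_lit 0, nat_lit 0], nat_lit 18, nat_lit 1, []⟩,
  ⟨[nat_lit 78, nat_lit 77, nat_lit 75], [], [nat_lit 0, nat_lit 0], nat_lit 18, nat_lit 1, []⟩,
  ⟨[nat_lit 78, nat_lit 75, nat_lit 59], [], [nat_lit 0, nat_lit 0], nat_lit 18, nat_lit 1, []⟩,
  ⟨[nat_lit 80, nat_lit 78, nat_lit 59], [], [nat_lit 0, nat_lit 0], nat_lit 18, nat_lit 1, []⟩,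
  ⟨[nat_lit 80, nat_lit 78, nat_lit 77], [], [nat_lit 0, nat_lit 0], nat_lit 18, nat_lit 1, []⟩,
  ⟨[nat_lit 80, nat_lit 78, nat_lit 77], [], [nat_lit 0, nat_lit 0], nat_lit 18, nat_lit 1, []⟩,
  ⟨[nat_lit 80, nat_lit 78, nat_lit 77], [], [nat_lit 0, nat_lit 0], nat_lit 18, nat_lit 1, []⟩,
  ⟨[nat_lit 80, nat_lit 78], [], [nat_lit 0x4001a9403ff1a9403fe1a9404001b8703ff1b8703fe1b87040019a103ff19a103fe19a10400343503ff343503fe34350400352803ff352803fe35280400334203ff334203fe3342040000f303ff00f303fe00f3040001e603ff01e603fe01e60400000003ff000003fe0000, nat_lit 0], nat_lit 171, nat_lit 0, [(nat_lit 100, []), (nat_lit 2, [nat_lit 0x1ff500000000014d0000001b000000030001])]⟩,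
  ⟨[nat_lit 80, nat_lit 78, nat_lit 77], [], [nat_lit 0, nat_lit 0], nat_lit 18, nat_lit 1, []⟩,
  ⟨[nat_lit 80, nat_lit 78, nat_lit 77], [], [nat_lit 0, nat_lit 0], nat_lit 18, nat_lit 1, []⟩,
  ⟨[nat_lit 80, nat_lit 78, nat_lit 77], [], [nat_lit 0, nat_lit 0], nat_lit 18, nat_lit 1, []⟩,
  ⟨[nat_lit 80, nat_lit 78, nat_lit 59], [], [nat_lit 0, nat_lit 0], nat_lit 18, nat_lit 1, []⟩,
  ⟨[nat_lit 80, nat_lit 78, nat_lit 59], [], [nat_lit 0, nat_lit 0], nat_lit 18, nat_lit 1, []⟩,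
  ⟨[nat_lit 80, nat_lit 78, nat_lit 77], [], [nat_lit 0, nat_lit 0], nat_lit 18, nat_lit 1, []⟩,
  ⟨[nat_lit 80, nat_lit 78, nat_lit 77], [], [nat_lit 0, nat_lit 0], nat_lit 18, nat_lit 1, []⟩,
  ⟨[nat_lit 80, nat_lit 78, nat_lit 77], [], [nat_lit 0, nat_lit 0], nat_lit 18, nat_lit 1, []⟩,
  ⟨[nat_lit 80, nat_lit 78], [], [nat_lit 0x4033435040234350401343504033528040235280401352804033342040233420401334204031a9404021a9404011a9404031b8704021b8704011b87040319a1040219a1040119a1040300f3040200f3040100f3040301e6040201e6040101e6040300000402000004010000, nat_lit 0], nat_lit 171, nat_lit 0, [(nat_lit 100, []), (nat_lit 2, [nat_lit 0x1ffe00000000014d0000001b000000030001])]⟩,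
  ⟨[nat_lit 80, nat_lit 78, nat_lit 77], [], [nat_lit 0, nat_lit 0], nat_lit 18, nat_lit 1, []⟩,
  ⟨[nat_lit 80, nat_lit 78, nat_lit 77], [], [nat_lit 0, nat_lit 0], nat_lit 18, nat_lit 1, []⟩,
  ⟨[nat_lit 80, nat_lit 78, nat_lit 77], [], [nat_lit 0, nat_lit 0], nat_lit 18, nat_lit 1, []⟩,
  ⟨[nat_lit 80, nat_lit 78, nat_lit 59], [], [nat_lit 0, nat_lit 0], nat_lit 18, nat_lit 1, []⟩,
  ⟨[nat_lit 78, nat_lit 73, nat_lit 59], [], [nat_lit 0, nat_lit 0], nat_lit 18, nat_lit 1, []⟩,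
  ⟨[nat_lit 78, nat_lit 77, nat_lit 73], [], [nat_lit 0, nat_lit 0], nat_lit 18, nat_lit 1, []⟩,
  ⟨[nat_lit 78, nat_lit 77, nat_lit 73], [], [nat_lit 0, nat_lit 0], nat_lit 18, nat_lit 1, []⟩,
  ⟨[nat_lit 78, nat_lit 77, nat_lit 75], [], [nat_lit 0, nat_lit 0], nat_lit 18, nat_lit 1, []⟩,
  ⟨[nat_lit 78, nat_lit 77, nat_lit 75], [], [nat_lit 0, nat_lit 0], nat_lit 18, nat_lit 1, []⟩,
  ⟨[nat_lit 78, nat_lit 75, nat_lit 59], [], [nat_lit 0, nat_lit 0], nat_lit 180, nat_lit 1, []⟩,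
  ⟨[nat_lit 78, nat_lit 77, nat_lit 75], [], [nat_lit 0, nat_lit 0], nat_lit 18, nat_lit 1, []⟩,
  ⟨[nat_lit 78, nat_lit 75], [], [nat_lit 0x406014d0405014d0404014d04061de604051de604041de6040620a0040520a0040420a0040621ed040521ed040421ed0406029a0405029a0404029a04061f5204051f5204041f52040601e6040501e6040401e6040600f3040500f3040400f3040600000405000004040000, nat_lit 0], nat_lit 180, nat_lit 0, [(nat_lit 100, []), (nat_lit 2, [nat_lit 0x1cdd00000000019e0000001b000000030001])]⟩,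
  ⟨[nat_lit 78, nat_lit 77, nat_lit 75], [], [nat_lit 0, nat_lit 0], nat_lit 18, nat_lit 1, []⟩,
  ⟨[nat_lit 80, nat_lit 78, nat_lit 59], [], [nat_lit 0, nat_lit 0], nat_lit 18, nat_lit 1, []⟩,
  ⟨[nat_lit 80, nat_lit 78, nat_lit 77], [], [nat_lit 0, nat_lit 0], nat_lit 18, nat_lit 1, []⟩,
  ⟨[nat_lit 80, nat_lit 78, nat_lit 77], [], [nat_lit 0, nat_lit 0], nat_lit 18, nat_lit 1, []⟩,
  ⟨[nat_lit 80, nat_lit 78, nat_lit 77], [], [nat_lit 0, nat_lit 0], nat_lit 18, nat_lit 1, []⟩,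
  ⟨[nat_lit 80, nat_lit 78, nat_lit 77], [], [nat_lit 0, nat_lit 0], nat_lit 18, nat_lit 1, []⟩,
  ⟨[nat_lit 80, nat_lit 78, nat_lit 59], [], [nat_lit 0, nat_lit 0], nat_lit 180, nat_lit 1, []⟩,
  ⟨[nat_lit 80, nat_lit 78, nat_lit 77], [], [nat_lit 0, nat_lit 0], nat_lit 18, nat_lit 1, []⟩,
  ⟨[nat_lit 80, nat_lit 78], [], [nat_lit 0x4091b8704081b8704071b8704091a9404081a9404071a94040919a1040819a1040719a1040935280408352804073528040934350408343504073435040933420408334204073342040901e6040801e6040701e6040900f3040800f3040700f3040900000408000004070000, nat_lit 0], nat_lit 180, nat_lit 0, [(nat_lit 100, []), (nat_lit 2, [nat_lit 0x1ccb00000000019e0000001b000000030001])]⟩,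
  ⟨[nat_lit 80, nat_lit 78, nat_lit 77], [], [nat_lit 0, nat_lit 0], nat_lit 18, nat_lit 1, []⟩,
  ⟨[nat_lit 80, nat_lit 78, nat_lit 59], [], [nat_lit 0, nat_lit 0], nat_lit 18, nat_lit 1, []⟩,
  ⟨[nat_lit 80, nat_lit 78, nat_lit 77], [], [nat_lit 0, nat_lit 0], nat_lit 18, nat_lit 1, []⟩,
  ⟨[nat_lit 80, nat_lit 78, nat_lit 77], [], [nat_lit 0, nat_lit 0], nat_lit 18, nat_lit 1, []⟩,
  ⟨[nat_lit 80, nat_lit 78, nat_lit 77], [], [nat_lit 0, nat_lit 0], nat_lit 18, nat_lit 1, []⟩,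
  ⟨[nat_lit 80, nat_lit 78, nat_lit 77], [], [nat_lit 0, nat_lit 0], nat_lit 18, nat_lit 1, []⟩,
  ⟨[nat_lit 80, nat_lit 78, nat_lit 59], [], [nat_lit 0, nat_lit 0], nat_lit 180, nat_lit 1, []⟩,
  ⟨[nat_lit 80, nat_lit 78, nat_lit 77], [], [nat_lit 0, nat_lit 0], nat_lit 18, nat_lit 1, []⟩,
  ⟨[nat_lit 80, nat_lit 78], [], [nat_lit 0x40c3528040b3528040a3528040c3435040b3435040a3435040c3342040b3342040a3342040c1b87040b1b87040a1b87040c1a94040b1a94040a1a94040c19a1040b19a1040a19a1040c01e6040b01e6040a01e6040c00f3040b00f3040a00f3040c0000040b0000040a0000, nat_lit 0], nat_lit 180, nat_lit 0, [(nat_lit 100, []), (nat_lit 2, [nat_lit 0x1cd400000000019e0000001b000000030001])]⟩,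
  ⟨[nat_lit 80, nat_lit 78, nat_lit 77], [], [nat_lit 0, nat_lit 0], nat_lit 18, nat_lit 1, []⟩,
  ⟨[nat_lit 78, nat_lit 73], [], [nat_lit 0x40f029a040e029a040d029a040f0249040e0249040d0249040f01f8040e01f8040d01f8040f019e040e019e040d019e040f014d040e014d040d014d040f20a0040e20a0040d20a0040f1f53040e1f53040d1f53040f1c7a040e1c7a040d1c7a040f0000040e0000040d0000, nat_lit 0], nat_lit 162, nat_lit 0, [(nat_lit 100, []), (nat_lit 2, [nat_lit 0x19a10000000000f30000001b000000030001])]⟩,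
  ⟨[nat_lit 78, nat_lit 77, nat_lit 73], [], [nat_lit 0, nat_lit 0], nat_lit 18, nat_lit 1, []⟩,
  ⟨[nat_lit 78, nat_lit 77, nat_lit 73], [], [nat_lit 0, nat_lit 0], nat_lit 18, nat_lit 1, []⟩,
  ⟨[nat_lit 78, nat_lit 75, nat_lit 59], [], [nat_lit 0, nat_lit 0], nat_lit 18, nat_lit 1, []⟩,
  ⟨[nat_lit 78, nat_lit 77, nat_lit 75], [], [nat_lit 0, nat_lit 0], nat_lit 18, nat_lit 1, []⟩,
  ⟨[nat_lit 78, nat_lit 77, nat_lit 75], [], [nat_lit 0, nat_lit 0], nat_lit 18, nat_lit 1, []⟩,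
  ⟨[nat_lit 78, nat_lit 75, nat_lit 59], [], [nat_lit 0, nat_lit 0], nat_lit 180, nat_lit 1, []⟩,
  ⟨[nat_lit 78, nat_lit 77, nat_lit 75], [], [nat_lit 0, nat_lit 0], nat_lit 18, nat_lit 1, []⟩,
  ⟨[nat_lit 78, nat_lit 77, nat_lit 75], [], [nat_lit 0, nat_lit 0], nat_lit 18, nat_lit 1, []⟩,
  ⟨[nat_lit 80, nat_lit 78], [], [nat_lit 0x4121f5304111f5304101f5304121c7a04111c7a04101c7a041219a1041119a1041019a10412019e0411019e0410019e0412014d0411014d0410014d04123342041133420410334204121b3f04111b3f04101b3f04121aee04111aee04101aee041200000411000004100000, nat_lit 0], nat_lit 162, nat_lit 0, [(nat_lit 100, []), (nat_lit 2, [nat_lit 0x19aa0000000000f30000001b000000030001])]⟩,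
  ⟨[nat_lit 80, nat_lit 78, nat_lit 77], [], [nat_lit 0, nat_lit 0], nat_lit 18, nat_lit 1, []⟩,
  ⟨[nat_lit 80, nat_lit 78, nat_lit 77], [], [nat_lit 0, nat_lit 0], nat_lit 18, nat_lit 1, []⟩,
  ⟨[nat_lit 80, nat_lit 78, nat_lit 59], [], [nat_lit 0, nat_lit 0], nat_lit 18, nat_lit 1, []⟩]
theorem cc11 : (Nat.beq (lst ndF cl11 322) 0 && Nat.beq (322 + cl11.length) 442) = true := by
  decide +kernel
noncomputable def cl12 : List Nd := [
  ⟨[nat_lit 80, nat_lit 78, nat_lit 77], [], [nat_lit 0, nat_lit 0], nat_lit 18, nat_lit 1, []⟩,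
  ⟨[nat_lit 80, nat_lit 78, nat_lit 77], [], [nat_lit 0, nat_lit 0], nat_lit 18, nat_lit 1, []⟩,
  ⟨[nat_lit 80, nat_lit 78, nat_lit 59], [], [nat_lit 0, nat_lit 0], nat_lit 180, nat_lit 1, []⟩,
  ⟨[nat_lit 80, nat_lit 78, nat_lit 77], [], [nat_lit 0, nat_lit 0], nat_lit 18, nat_lit 1, []⟩,
  ⟨[nat_lit 80, nat_lit 78, nat_lit 77], [], [nat_lit 0, nat_lit 0], nat_lit 18, nat_lit 1, []⟩,
  ⟨[nat_lit 80, nat_lit 78], [], [nat_lit 0x41538f4041438f4041338f40415361b0414361b0413361b04153342041433420413334204151f5304141f5304131f5304151c7a04141c7a04131c7a041519a1041419a1041319a1041505b2041405b2041305b2041502d9041402d9041302d9041500000414000004130000, nat_lit 0], nat_lit 162, nat_lit 0, [(nat_lit 100, []), (nat_lit 2, [nat_lit 0x19b30000000000f30000001b000000030001])]⟩,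
  ⟨[nat_lit 80, nat_lit 78, nat_lit 77], [], [nat_lit 0, nat_lit 0], nat_lit 18, nat_lit 1, []⟩,
  ⟨[nat_lit 80, nat_lit 78, nat_lit 77], [], [nat_lit 0, nat_lit 0], nat_lit 18, nat_lit 1, []⟩,
  ⟨[nat_lit 80, nat_lit 78, nat_lit 59], [], [nat_lit 0, nat_lit 0], nat_lit 18, nat_lit 1, []⟩,
  ⟨[nat_lit 80, nat_lit 78, nat_lit 77], [], [nat_lit 0, nat_lit 0], nat_lit 18, nat_lit 1, []⟩,
  ⟨[nat_lit 80, nat_lit 78, nat_lit 77], [], [nat_lit 0, nat_lit 0], nat_lit 18, nat_lit 1, []⟩,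
  ⟨[nat_lit 80, nat_lit 78, nat_lit 59], [], [nat_lit 0, nat_lit 0], nat_lit 180, nat_lit 1, []⟩,
  ⟨[nat_lit 80, nat_lit 78, nat_lit 77], [], [nat_lit 0, nat_lit 0], nat_lit 18, nat_lit 1, []⟩,
  ⟨[nat_lit 80, nat_lit 78, nat_lit 77], [], [nat_lit 0, nat_lit 0], nat_lit 18, nat_lit 1, []⟩,
  ⟨[nat_lit 78, nat_lit 73, nat_lit 59], [], [nat_lit 0, nat_lit 0], nat_lit 18, nat_lit 1, []⟩,
  ⟨[nat_lit 78, nat_lit 77, nat_lit 73], [], [nat_lit 0, nat_lit 0], nat_lit 18, nat_lit 1, []⟩,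
  ⟨[nat_lit 78, nat_lit 77, nat_lit 73], [], [nat_lit 0, nat_lit 0], nat_lit 18, nat_lit 1, []⟩,
  ⟨[nat_lit 78, nat_lit 77, nat_lit 75], [], [nat_lit 0, nat_lit 0], nat_lit 18, nat_lit 1, []⟩,
  ⟨[nat_lit 78, nat_lit 77, nat_lit 75], [], [nat_lit 0, nat_lit 0], nat_lit 18, nat_lit 1, []⟩,
  ⟨[nat_lit 78, nat_lit 75, nat_lit 59], [], [nat_lit 0, nat_lit 0], nat_lit 18, nat_lit 1, []⟩,
  ⟨[nat_lit 78, nat_lit 77, nat_lit 75], [], [nat_lit 0, nat_lit 0], nat_lit 18, nat_lit 1, []⟩,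
  ⟨[nat_lit 78, nat_lit 75], [], [nat_lit 0x4181e1804171e1804161e180418019e0417019e0416019e041820f1041720f1041620f10418024904170249041602490418219c0417219c0416219c04181ec304171ec304161ec3041800f3041700f3041600f3041801e6041701e6041601e6041800000417000004160000, nat_lit 0], nat_lit 171, nat_lit 0, [(nat_lit 100, []), (nat_lit 2, [nat_lit 0x1fad00000000014d0000001b000000030001])]⟩,
  ⟨[nat_lit 78, nat_lit 77, nat_lit 75], [], [nat_lit 0, nat_lit 0], nat_lit 18, nat_lit 1, []⟩,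
  ⟨[nat_lit 80, nat_lit 78, nat_lit 59], [], [nat_lit 0, nat_lit 0], nat_lit 18, nat_lit 1, []⟩,
  ⟨[nat_lit 80, nat_lit 78, nat_lit 77], [], [nat_lit 0, nat_lit 0], nat_lit 18, nat_lit 1, []⟩,
  ⟨[nat_lit 80, nat_lit 78, nat_lit 77], [], [nat_lit 0, nat_lit 0], nat_lit 18, nat_lit 1, []⟩,
  ⟨[nat_lit 80, nat_lit 78, nat_lit 77], [], [nat_lit 0, nat_lit 0], nat_lit 18, nat_lit 1, []⟩,
  ⟨[nat_lit 80, nat_lit 78, nat_lit 77], [], [nat_lit 0, nat_lit 0], nat_lit 18, nat_lit 1, []⟩,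
  ⟨[nat_lit 80, nat_lit 78, nat_lit 59], [], [nat_lit 0, nat_lit 0], nat_lit 18, nat_lit 1, []⟩,
  ⟨[nat_lit 80, nat_lit 78, nat_lit 77], [], [nat_lit 0, nat_lit 0], nat_lit 18, nat_lit 1, []⟩,
  ⟨[nat_lit 80, nat_lit 78], [], [nat_lit 0x41b1a94041a1a9404191a94041b1b87041a1b8704191b87041b19a1041a19a1041919a1041b3435041a343504193435041b3528041a352804193528041b3342041a334204193342041b00f3041a00f3041900f3041b01e6041a01e6041901e6041b0000041a000004190000, nat_lit 0], nat_lit 171, nat_lit 0, [(nat_lit 100, []), (nat_lit 2, [nat_lit 0x1fb600000000014d0000001b000000030001])]⟩,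
  ⟨[nat_lit 80, nat_lit 78, nat_lit 77], [], [nat_lit 0, nat_lit 0], nat_lit 18, nat_lit 1, []⟩,
  ⟨[nat_lit 80, nat_lit 78, nat_lit 59], [], [nat_lit 0, nat_lit 0], nat_lit 18, nat_lit 1, []⟩,
  ⟨[nat_lit 80, nat_lit 78, nat_lit 77], [], [nat_lit 0, nat_lit 0], nat_lit 18, nat_lit 1, []⟩,
  ⟨[nat_lit 80, nat_lit 78, nat_lit 77], [], [nat_lit 0, nat_lit 0], nat_lit 18, nat_lit 1, []⟩,
  ⟨[nat_lit 80, nat_lit 78, nat_lit 77], [], [nat_lit 0, nat_lit 0], nat_lit 18, nat_lit 1, []⟩,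
  ⟨[nat_lit 80, nat_lit 78, nat_lit 77], [], [nat_lit 0, nat_lit 0], nat_lit 18, nat_lit 1, []⟩,
  ⟨[nat_lit 80, nat_lit 78, nat_lit 59], [], [nat_lit 0, nat_lit 0], nat_lit 18, nat_lit 1, []⟩,
  ⟨[nat_lit 80, nat_lit 78, nat_lit 77], [], [nat_lit 0, nat_lit 0], nat_lit 18, nat_lit 1, []⟩,
  ⟨[nat_lit 80, nat_lit 78], [], [nat_lit 0x41e3435041d3435041c3435041e3528041d3528041c3528041e3342041d3342041c3342041e1a94041d1a94041c1a94041e1b87041d1b87041c1b87041e19a1041d19a1041c19a1041e00f3041d00f3041c00f3041e01e6041d01e6041c01e6041e0000041d0000041c0000, nat_lit 0], nat_lit 171, nat_lit 0, [(nat_lit 100, []), (nat_lit 2, [nat_lit 0x1fa400000000014d0000001b000000030001])]⟩,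
  ⟨[nat_lit 80, nat_lit 78, nat_lit 77], [], [nat_lit 0, nat_lit 0], nat_lit 18, nat_lit 1, []⟩,
  ⟨[nat_lit 78, nat_lit 73, nat_lit 59], [], [nat_lit 0, nat_lit 0], nat_lit 18, nat_lit 1, []⟩,
  ⟨[nat_lit 78, nat_lit 77, nat_lit 73], [], [nat_lit 0, nat_lit 0], nat_lit 18, nat_lit 1, []⟩,
  ⟨[nat_lit 78, nat_lit 77, nat_lit 73], [], [nat_lit 0, nat_lit 0], nat_lit 18, nat_lit 1, []⟩,
  ⟨[nat_lit 78, nat_lit 77, nat_lit 75], [], [nat_lit 0, nat_lit 0], nat_lit 18, nat_lit 1, []⟩,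
  ⟨[nat_lit 78, nat_lit 75], [], [nat_lit 0x421014d0420014d041f014d042120a0042020a0041f20a004211de604201de6041f1de604211f5204201f52041f1f520421029a0420029a041f029a042121ed042021ed041f21ed042101e6042001e6041f01e6042100f3042000f3041f00f30421000004200000041f0000, nat_lit 0], nat_lit 180, nat_lit 0, [(nat_lit 100, []), (nat_lit 2, [nat_lit 0x1d2500000000019e0000001b000000030001])]⟩,
  ⟨[nat_lit 78, nat_lit 77, nat_lit 75], [], [nat_lit 0, nat_lit 0], nat_lit 18, nat_lit 1, []⟩,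
  ⟨[nat_lit 78, nat_lit 77, nat_lit 75], [], [nat_lit 0, nat_lit 0], nat_lit 18, nat_lit 1, []⟩,
  ⟨[nat_lit 78, nat_lit 77, nat_lit 75], [], [nat_lit 0, nat_lit 0], nat_lit 18, nat_lit 1, []⟩,
  ⟨[nat_lit 78, nat_lit 75, nat_lit 59], [], [nat_lit 0, nat_lit 0], nat_lit 180, nat_lit 1, []⟩,
  ⟨[nat_lit 80, nat_lit 78, nat_lit 59], [], [nat_lit 0, nat_lit 0], nat_lit 18, nat_lit 1, []⟩,
  ⟨[nat_lit 80, nat_lit 78, nat_lit 77], [], [nat_lit 0, nat_lit 0], nat_lit 18, nat_lit 1, []⟩,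
  ⟨[nat_lit 80, nat_lit 78, nat_lit 77], [], [nat_lit 0, nat_lit 0], nat_lit 18, nat_lit 1, []⟩,
  ⟨[nat_lit 80, nat_lit 78, nat_lit 77], [], [nat_lit 0, nat_lit 0], nat_lit 18, nat_lit 1, []⟩,
  ⟨[nat_lit 80, nat_lit 78], [], [nat_lit 0x4241b8704231b8704221b8704241a9404231a9404221a94042419a1042319a1042219a1042435280423352804223528042434350423343504223435042433420423334204223342042401e6042301e6042201e6042400f3042300f3042200f3042400000423000004220000, nat_lit 0], nat_lit 180, nat_lit 0, [(nat_lit 100, []), (nat_lit 2, [nat_lit 0x1d2e00000000019e0000001b000000030001])]⟩,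
  ⟨[nat_lit 80, nat_lit 78, nat_lit 77], [], [nat_lit 0, nat_lit 0], nat_lit 18, nat_lit 1, []⟩,
  ⟨[nat_lit 80, nat_lit 78, nat_lit 77], [], [nat_lit 0, nat_lit 0], nat_lit 18, nat_lit 1, []⟩,
  ⟨[nat_lit 80, nat_lit 78, nat_lit 77], [], [nat_lit 0, nat_lit 0], nat_lit 18, nat_lit 1, []⟩,
  ⟨[nat_lit 80, nat_lit 78, nat_lit 59], [], [nat_lit 0, nat_lit 0], nat_lit 180, nat_lit 1, []⟩,
  ⟨[nat_lit 80, nat_lit 78, nat_lit 59], [], [nat_lit 0, nat_lit 0], nat_lit 18, nat_lit 1, []⟩,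
  ⟨[nat_lit 80, nat_lit 78, nat_lit 77], [], [nat_lit 0, nat_lit 0], nat_lit 18, nat_lit 1, []⟩,
  ⟨[nat_lit 80, nat_lit 78, nat_lit 77], [], [nat_lit 0, nat_lit 0], nat_lit 18, nat_lit 1, []⟩,
  ⟨[nat_lit 80, nat_lit 78, nat_lit 77], [], [nat_lit 0, nat_lit 0], nat_lit 18, nat_lit 1, []⟩,
  ⟨[nat_lit 80, nat_lit 78], [], [nat_lit 0x4273528042635280425352804273435042634350425343504273342042633420425334204271b8704261b8704251b8704271a9404261a9404251a94042719a1042619a1042519a1042701e6042601e6042501e6042700f3042600f3042500f3042700000426000004250000, nat_lit 0], nat_lit 180, nat_lit 0, [(nat_lit 100, []), (nat_lit 2, [nat_lit 0x1d1c00000000019e0000001b000000030001])]⟩,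
  ⟨[nat_lit 80, nat_lit 78, nat_lit 77], [], [nat_lit 0, nat_lit 0], nat_lit 18, nat_lit 1, []⟩,
  ⟨[nat_lit 80, nat_lit 78, nat_lit 77], [], [nat_lit 0, nat_lit 0], nat_lit 18, nat_lit 1, []⟩,
  ⟨[nat_lit 80, nat_lit 78, nat_lit 77], [], [nat_lit 0, nat_lit 0], nat_lit 18, nat_lit 1, []⟩,
  ⟨[nat_lit 80, nat_lit 78, nat_lit 59], [], [nat_lit 0, nat_lit 0], nat_lit 180, nat_lit 1, []⟩,
  ⟨[nat_lit 78, nat_lit 73, nat_lit 59], [], [nat_lit 0, nat_lit 0], nat_lit 9, nat_lit 1, []⟩,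
  ⟨[nat_lit 78, nat_lit 77, nat_lit 59], [], [nat_lit 0, nat_lit 0], nat_lit 9, nat_lit 1, []⟩,
  ⟨[nat_lit 78, nat_lit 77, nat_lit 59], [], [nat_lit 0, nat_lit 0], nat_lit 9, nat_lit 1, []⟩,
  ⟨[nat_lit 78, nat_lit 59], [], [nat_lit 0x42a1c7a04291c7a04281c7a042a361b0429361b0428361b042a20a0042920a0042820a0042a1f5304291f5304281f53042a014d0429014d0428014d042a1aee04291aee04281aee042a19a1042919a1042819a1042a33420429334204283342042a00000429000004280000, nat_lit 0], nat_lit 162, nat_lit 0, [(nat_lit 100, []), (nat_lit 2, [nat_lit 0x19f20000000000f30000001b000000030001])]⟩,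
  ⟨[nat_lit 78, nat_lit 77, nat_lit 59], [], [nat_lit 0, nat_lit 0], nat_lit 18, nat_lit 1, []⟩,
  ⟨[nat_lit 78, nat_lit 77, nat_lit 59], [], [nat_lit 0, nat_lit 0], nat_lit 18, nat_lit 1, []⟩,
  ⟨[nat_lit 78, nat_lit 73, nat_lit 59], [], [nat_lit 0, nat_lit 0], nat_lit 18, nat_lit 1, []⟩,
  ⟨[nat_lit 78, nat_lit 77, nat_lit 59], [], [nat_lit 0, nat_lit 0], nat_lit 18, nat_lit 1, []⟩,
  ⟨[nat_lit 78, nat_lit 77, nat_lit 59], [], [nat_lit 0, nat_lit 0], nat_lit 18, nat_lit 1, []⟩,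
  ⟨[nat_lit 80, nat_lit 78, nat_lit 59], [], [nat_lit 0, nat_lit 0], nat_lit 9, nat_lit 1, []⟩,
  ⟨[nat_lit 80, nat_lit 78, nat_lit 59], [], [nat_lit 0, nat_lit 0], nat_lit 9, nat_lit 1, []⟩,
  ⟨[nat_lit 80, nat_lit 78, nat_lit 59], [], [nat_lit 0, nat_lit 0], nat_lit 9, nat_lit 1, []⟩,
  ⟨[nat_lit 80, nat_lit 59], [], [nat_lit 0x42d19a1042c19a1042b19a1042d38f4042c38f4042b38f4042d1de6042c1de6042b1de6042d1c7a042c1c7a042b1c7a042d3342042c3342042b3342042d20a0042c20a0042b20a0042d1f53042c1f53042b1f53042d361b042c361b042b361b042d0000042c0000042b0000, nat_lit 0], nat_lit 162, nat_lit 0, [(nat_lit 100, []), (nat_lit 2, [nat_lit 0x19fb0000000000f30000001b000000030001])]⟩,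
  ⟨[nat_lit 80, nat_lit 77, nat_lit 59], [], [nat_lit 0, nat_lit 0], nat_lit 18, nat_lit 1, []⟩,
  ⟨[nat_lit 80, nat_lit 77, nat_lit 59], [], [nat_lit 0, nat_lit 0], nat_lit 18, nat_lit 1, []⟩,
  ⟨[nat_lit 80, nat_lit 78, nat_lit 59], [], [nat_lit 0, nat_lit 0], nat_lit 18, nat_lit 1, []⟩,
  ⟨[nat_lit 80, nat_lit 78, nat_lit 59], [], [nat_lit 0, nat_lit 0], nat_lit 18, nat_lit 1, []⟩,
  ⟨[nat_lit 80, nat_lit 78, nat_lit 59], [], [nat_lit 0, nat_lit 0], nat_lit 18, nat_lit 1, []⟩,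
  ⟨[nat_lit 80, nat_lit 78, nat_lit 59], [], [nat_lit 0, nat_lit 0], nat_lit 9, nat_lit 1, []⟩,
  ⟨[nat_lit 80, nat_lit 78, nat_lit 59], [], [nat_lit 0, nat_lit 0], nat_lit 9, nat_lit 1, []⟩,
  ⟨[nat_lit 80, nat_lit 78, nat_lit 59], [], [nat_lit 0, nat_lit 0], nat_lit 9, nat_lit 1, []⟩,
  ⟨[nat_lit 80, nat_lit 59], [], [nat_lit 0x4301f53042f1f53042e1f5304303342042f3342042e334204301aee042f1aee042e1aee043019a1042f19a1042e19a10430014d042f014d042e014d04301de6042f1de6042e1de604301c7a042f1c7a042e1c7a043038f4042f38f4042e38f404300000042f0000042e0000, nat_lit 0], nat_lit 162, nat_lit 0, [(nat_lit 100, []), (nat_lit 2, [nat_lit 0x1a040000000000f30000001b000000030001])]⟩,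
  ⟨[nat_lit 80, nat_lit 77, nat_lit 59], [], [nat_lit 0, nat_lit 0], nat_lit 18, nat_lit 1, []⟩,
  ⟨[nat_lit 80, nat_lit 77, nat_lit 59], [], [nat_lit 0, nat_lit 0], nat_lit 18, nat_lit 1, []⟩,
  ⟨[nat_lit 80, nat_lit 78, nat_lit 59], [], [nat_lit 0, nat_lit 0], nat_lit 18, nat_lit 1, []⟩,
  ⟨[nat_lit 80, nat_lit 78, nat_lit 59], [], [nat_lit 0, nat_lit 0], nat_lit 18, nat_lit 1, []⟩,
  ⟨[nat_lit 80, nat_lit 78, nat_lit 59], [], [nat_lit 0, nat_lit 0], nat_lit 18, nat_lit 1, []⟩,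
  ⟨[nat_lit 78, nat_lit 73, nat_lit 59], [], [nat_lit 0, nat_lit 0], nat_lit 9, nat_lit 1, []⟩,
  ⟨[nat_lit 78, nat_lit 77, nat_lit 59], [], [nat_lit 0, nat_lit 0], nat_lit 9, nat_lit 1, []⟩,
  ⟨[nat_lit 78, nat_lit 77, nat_lit 59], [], [nat_lit 0, nat_lit 0], nat_lit 9, nat_lit 1, []⟩,
  ⟨[nat_lit 78, nat_lit 73, nat_lit 59], [], [nat_lit 0, nat_lit 0], nat_lit 18, nat_lit 1, []⟩,
  ⟨[nat_lit 78, nat_lit 77, nat_lit 59], [], [nat_lit 0, nat_lit 0], nat_lit 18, nat_lit 1, []⟩,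
  ⟨[nat_lit 78, nat_lit 77, nat_lit 59], [], [nat_lit 0, nat_lit 0], nat_lit 18, nat_lit 1, []⟩,
  ⟨[nat_lit 78, nat_lit 59], [], [nat_lit 0x43338f4043238f4043138f404331f5304321f5304311f5304331e1804321e1804311e180433019e0432019e0431019e04331c7a04321c7a04311c7a04331b3f04321b3f04311b3f043333420432334204313342043319a1043219a1043119a1043300000432000004310000, nat_lit 0], nat_lit 162, nat_lit 0, [(nat_lit 100, []), (nat_lit 2, [nat_lit 0x1a430000000000f30000001b000000030001])]⟩,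
  ⟨[nat_lit 78, nat_lit 77, nat_lit 59], [], [nat_lit 0, nat_lit 0], nat_lit 18, nat_lit 1, []⟩,
  ⟨[nat_lit 78, nat_lit 77, nat_lit 59], [], [nat_lit 0, nat_lit 0], nat_lit 18, nat_lit 1, []⟩,
  ⟨[nat_lit 80, nat_lit 78, nat_lit 59], [], [nat_lit 0, nat_lit 0], nat_lit 9, nat_lit 1, []⟩,
  ⟨[nat_lit 80, nat_lit 78, nat_lit 59], [], [nat_lit 0, nat_lit 0], nat_lit 9, nat_lit 1, []⟩,
  ⟨[nat_lit 80, nat_lit 78, nat_lit 59], [], [nat_lit 0, nat_lit 0], nat_lit 9, nat_lit 1, []⟩,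
  ⟨[nat_lit 80, nat_lit 78, nat_lit 59], [], [nat_lit 0, nat_lit 0], nat_lit 18, nat_lit 1, []⟩,
  ⟨[nat_lit 80, nat_lit 78, nat_lit 59], [], [nat_lit 0, nat_lit 0], nat_lit 18, nat_lit 1, []⟩,
  ⟨[nat_lit 80, nat_lit 78, nat_lit 59], [], [nat_lit 0, nat_lit 0], nat_lit 18, nat_lit 1, []⟩,
  ⟨[nat_lit 80, nat_lit 59], [], [nat_lit 0x436361b0435361b0434361b043619a1043519a1043419a1043620f1043520f1043420f104363342043533420434334204361f5304351f5304341f5304361e1804351e1804341e18043638f4043538f4043438f404361c7a04351c7a04341c7a043600000435000004340000, nat_lit 0], nat_lit 162, nat_lit 0, [(nat_lit 100, []), (nat_lit 2, [nat_lit 0x1a4c0000000000f30000001b000000030001])]⟩,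
  ⟨[nat_lit 80, nat_lit 77, nat_lit 59], [], [nat_lit 0, nat_lit 0], nat_lit 18, nat_lit 1, []⟩,
  ⟨[nat_lit 80, nat_lit 77, nat_lit 59], [], [nat_lit 0, nat_lit 0], nat_lit 18, nat_lit 1, []⟩,
  ⟨[nat_lit 80, nat_lit 78, nat_lit 59], [], [nat_lit 0, nat_lit 0], nat_lit 9, nat_lit 1, []⟩,
  ⟨[nat_lit 80, nat_lit 78, nat_lit 59], [], [nat_lit 0, nat_lit 0], nat_lit 9, nat_lit 1, []⟩,
  ⟨[nat_lit 80, nat_lit 78, nat_lit 59], [], [nat_lit 0, nat_lit 0], nat_lit 9, nat_lit 1, []⟩,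
  ⟨[nat_lit 80, nat_lit 78, nat_lit 59], [], [nat_lit 0, nat_lit 0], nat_lit 18, nat_lit 1, []⟩,
  ⟨[nat_lit 80, nat_lit 78, nat_lit 59], [], [nat_lit 0, nat_lit 0], nat_lit 18, nat_lit 1, []⟩,
  ⟨[nat_lit 80, nat_lit 78, nat_lit 59], [], [nat_lit 0, nat_lit 0], nat_lit 18, nat_lit 1, []⟩,
  ⟨[nat_lit 80, nat_lit 59], [], [nat_lit 0x4393342043833420437334204391c7a04381c7a04371c7a04391b3f04381b3f04371b3f0439019e0438019e0437019e043919a1043819a1043719a1043920f1043820f1043720f10439361b0438361b0437361b04391f5304381f5304371f53043900000438000004370000, nat_lit 0], nat_lit 162, nat_lit 0, [(nat_lit 100, []), (nat_lit 2, [nat_lit 0x1a550000000000f30000001b000000030001])]⟩]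
theorem cc12 : (Nat.beq (lst ndF cl12 442) 0 && Nat.beq (442 + cl12.length) 562) = true := by
  decide +kernel
noncomputable def cl13 : List Nd := [
  ⟨[nat_lit 80, nat_lit 77, nat_lit 59], [], [nat_lit 0, nat_lit 0], nat_lit 18, nat_lit 1, []⟩,
  ⟨[nat_lit 80, nat_lit 77, nat_lit 59], [], [nat_lit 0, nat_lit 0], nat_lit 18, nat_lit 1, []⟩,
  ⟨[nat_lit 79, nat_lit 74, nat_lit 73], [], [nat_lit 0x441000004400000043f0000043e0000043d0000043c0000043b0000043a000000130000, nat_lit 0, nat_lit 0], nat_lit 54, nat_lit 1, []⟩,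
  ⟨[nat_lit 79, nat_lit 74, nat_lit 73], [], [nat_lit 0x44a00000449000004480000044700000446000004450000044400000443000004420000, nat_lit 0, nat_lit 0], nat_lit 54, nat_lit 1, []⟩,
  ⟨[nat_lit 79, nat_lit 74, nat_lit 73], [], [nat_lit 0x4530000045200000451000004500000044f0000044e0000044d0000044c0000044b0000, nat_lit 0, nat_lit 0], nat_lit 54, nat_lit 1, []⟩,
  ⟨[nat_lit 79, nat_lit 73, nat_lit 66], [], [nat_lit 0, nat_lit 0], nat_lit 9, nat_lit 1, []⟩,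
  ⟨[nat_lit 79, nat_lit 75, nat_lit 73], [], [nat_lit 0, nat_lit 0], nat_lit 18, nat_lit 1, []⟩,
  ⟨[nat_lit 79, nat_lit 75, nat_lit 73], [], [nat_lit 0, nat_lit 0], nat_lit 18, nat_lit 1, []⟩,
  ⟨[nat_lit 79, nat_lit 78, nat_lit 75], [], [nat_lit 0, nat_lit 0], nat_lit 18, nat_lit 1, []⟩,
  ⟨[nat_lit 79, nat_lit 78, nat_lit 75], [], [nat_lit 0, nat_lit 0], nat_lit 18, nat_lit 1, []⟩,
  ⟨[nat_lit 79, nat_lit 78, nat_lit 75], [], [nat_lit 0, nat_lit 0], nat_lit 18, nat_lit 1, []⟩,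
  ⟨[nat_lit 79, nat_lit 78, nat_lit 75], [], [nat_lit 0, nat_lit 0], nat_lit 18, nat_lit 1, []⟩,
  ⟨[nat_lit 80, nat_lit 79, nat_lit 66], [], [nat_lit 0, nat_lit 0], nat_lit 9, nat_lit 1, []⟩,
  ⟨[nat_lit 80, nat_lit 79, nat_lit 66], [], [nat_lit 0, nat_lit 0], nat_lit 9, nat_lit 1, []⟩,
  ⟨[nat_lit 79, nat_lit 78, nat_lit 74], [], [nat_lit 0x45b0000045a000004590000045800000457000004560000045500000014000004540000, nat_lit 0, nat_lit 0], nat_lit 54, nat_lit 1, []⟩,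
  ⟨[nat_lit 79, nat_lit 78, nat_lit 74], [], [nat_lit 0x464000004630000046200000461000004600000045f0000045e0000045d0000045c0000, nat_lit 0, nat_lit 0], nat_lit 54, nat_lit 1, []⟩,
  ⟨[nat_lit 79, nat_lit 78, nat_lit 74], [], [nat_lit 0x46d0000046c0000046b0000046a00000469000004680000046700000466000004650000, nat_lit 0, nat_lit 0], nat_lit 54, nat_lit 1, []⟩,
  ⟨[nat_lit 79, nat_lit 78, nat_lit 66], [], [nat_lit 0, nat_lit 0], nat_lit 9, nat_lit 1, []⟩,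
  ⟨[nat_lit 79, nat_lit 78, nat_lit 75], [], [nat_lit 0, nat_lit 0], nat_lit 18, nat_lit 1, []⟩,
  ⟨[nat_lit 79, nat_lit 78, nat_lit 75], [], [nat_lit 0, nat_lit 0], nat_lit 18, nat_lit 1, []⟩,
  ⟨[nat_lit 79, nat_lit 75, nat_lit 73], [], [nat_lit 0, nat_lit 0], nat_lit 18, nat_lit 1, []⟩,
  ⟨[nat_lit 79, nat_lit 75, nat_lit 73], [], [nat_lit 0, nat_lit 0], nat_lit 18, nat_lit 1, []⟩,
  ⟨[nat_lit 79, nat_lit 78, nat_lit 75], [], [nat_lit 0, nat_lit 0], nat_lit 18, nat_lit 1, []⟩,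
  ⟨[nat_lit 79, nat_lit 78, nat_lit 75], [], [nat_lit 0, nat_lit 0], nat_lit 18, nat_lit 1, []⟩,
  ⟨[nat_lit 80, nat_lit 79, nat_lit 66], [], [nat_lit 0, nat_lit 0], nat_lit 9, nat_lit 1, []⟩,
  ⟨[nat_lit 80, nat_lit 79, nat_lit 66], [], [nat_lit 0, nat_lit 0], nat_lit 9, nat_lit 1, []⟩,
  ⟨[nat_lit 79, nat_lit 78, nat_lit 74], [], [nat_lit 0x4750000047400000473000004720000047100000470000000150000046f0000046e0000, nat_lit 0, nat_lit 0], nat_lit 54, nat_lit 1, []⟩,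
  ⟨[nat_lit 79, nat_lit 78, nat_lit 74], [], [nat_lit 0x47e0000047d0000047c0000047b0000047a000004790000047800000477000004760000, nat_lit 0, nat_lit 0], nat_lit 54, nat_lit 1, []⟩,
  ⟨[nat_lit 79, nat_lit 78, nat_lit 74], [], [nat_lit 0x487000004860000048500000484000004830000048200000481000004800000047f0000, nat_lit 0, nat_lit 0], nat_lit 54, nat_lit 1, []⟩,
  ⟨[nat_lit 79, nat_lit 78, nat_lit 66], [], [nat_lit 0, nat_lit 0], nat_lit 9, nat_lit 1, []⟩,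
  ⟨[nat_lit 79, nat_lit 78, nat_lit 75], [], [nat_lit 0, nat_lit 0], nat_lit 18, nat_lit 1, []⟩,
  ⟨[nat_lit 79, nat_lit 78, nat_lit 75], [], [nat_lit 0, nat_lit 0], nat_lit 18, nat_lit 1, []⟩,
  ⟨[nat_lit 79, nat_lit 78, nat_lit 75], [], [nat_lit 0, nat_lit 0], nat_lit 18, nat_lit 1, []⟩,
  ⟨[nat_lit 79, nat_lit 78, nat_lit 75], [], [nat_lit 0, nat_lit 0], nat_lit 18, nat_lit 1, []⟩,
  ⟨[nat_lit 79, nat_lit 75, nat_lit 73], [], [nat_lit 0, nat_lit 0], nat_lit 18, nat_lit 1, []⟩,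
  ⟨[nat_lit 79, nat_lit 75, nat_lit 73], [], [nat_lit 0, nat_lit 0], nat_lit 18, nat_lit 1, []⟩,
  ⟨[nat_lit 80, nat_lit 79, nat_lit 66], [], [nat_lit 0, nat_lit 0], nat_lit 9, nat_lit 1, []⟩,
  ⟨[nat_lit 80, nat_lit 79, nat_lit 66], [], [nat_lit 0, nat_lit 0], nat_lit 9, nat_lit 1, []⟩,
  ⟨[nat_lit 75, nat_lit 74], [nat_lit 48], [nat_lit 0, nat_lit 0x48a00000489000004880000, nat_lit 0, nat_lit 0], nat_lit 1458, nat_lit 1, []⟩,
  ⟨[nat_lit 76, nat_lit 75], [nat_lit 48], [nat_lit 0, nat_lit 0], nat_lit 9, nat_lit 0, [(nat_lit 1, [nat_lit 0x30000000000001])]⟩,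
  ⟨[nat_lit 76, nat_lit 75], [nat_lit 48], [nat_lit 0, nat_lit 0], nat_lit 18, nat_lit 0, [(nat_lit 1, [nat_lit 0x30000000000001])]⟩,
  ⟨[nat_lit 80, nat_lit 76], [], [nat_lit 0x48b2505048b27de048b222c048b4458048b28d1048b4a0a048b4618048b29c4048b0000, nat_lit 0], nat_lit 486, nat_lit 0, [(nat_lit 299, [nat_lit 1, nat_lit 3, nat_lit 49, nat_lit 99])]⟩,
  ⟨[nat_lit 80, nat_lit 76], [], [nat_lit 0x48c4458048c4731048c4a0a048c2505048c27de048c222c048c454b048c28d1048c0000, nat_lit 0], nat_lit 486, nat_lit 0, [(nat_lit 299, [nat_lit 1, nat_lit 3, nat_lit 49, nat_lit 99])]⟩,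
  ⟨[nat_lit 80, nat_lit 75, nat_lit 74], [], [nat_lit 0, nat_lit 0x48d25f8048d28d1048d0000, nat_lit 0, nat_lit 0], nat_lit 162, nat_lit 1, []⟩,
  ⟨[nat_lit 80, nat_lit 76, nat_lit 73], [], [nat_lit 0, nat_lit 0], nat_lit 18, nat_lit 1, []⟩,
  ⟨[nat_lit 80, nat_lit 76, nat_lit 73], [], [nat_lit 0, nat_lit 0], nat_lit 18, nat_lit 1, []⟩,
  ⟨[nat_lit 80, nat_lit 73], [], [nat_lit 0x490222c048f00f3048e014d049000f3048f222c048e029a04900000048f0000048e0000, nat_lit 0], nat_lit 486, nat_lit 0, [(nat_lit 299, [nat_lit 1, nat_lit 3, nat_lit 49, nat_lit 99])]⟩,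
  ⟨[nat_lit 80, nat_lit 75, nat_lit 74], [], [nat_lit 0, nat_lit 0x49129c40491454b04910000, nat_lit 0, nat_lit 0], nat_lit 162, nat_lit 1, []⟩,
  ⟨[nat_lit 80, nat_lit 76, nat_lit 73], [], [nat_lit 0, nat_lit 0], nat_lit 18, nat_lit 1, []⟩,
  ⟨[nat_lit 80, nat_lit 76, nat_lit 73], [], [nat_lit 0, nat_lit 0], nat_lit 18, nat_lit 1, []⟩,
  ⟨[nat_lit 80, nat_lit 73], [], [nat_lit 0x49401e6049300f30492014d049400f3049301e60492029a049400000493000004920000, nat_lit 0], nat_lit 486, nat_lit 0, [(nat_lit 299, [nat_lit 1, nat_lit 3, nat_lit 49, nat_lit 99])]⟩,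
  ⟨[nat_lit 77, nat_lit 76], [nat_lit 48], [nat_lit 0], nat_lit 3, nat_lit 0, [(nat_lit 1, [nat_lit 0x30000000000001])]⟩,
  ⟨[nat_lit 77, nat_lit 76], [nat_lit 48], [nat_lit 0], nat_lit 3, nat_lit 0, [(nat_lit 1, [nat_lit 0x30000000000001])]⟩,
  ⟨[nat_lit 77, nat_lit 76], [nat_lit 48], [nat_lit 0], nat_lit 3, nat_lit 0, [(nat_lit 1, [nat_lit 0x30000000000001])]⟩,
  ⟨[nat_lit 80, nat_lit 77, nat_lit 76], [], [nat_lit 0], nat_lit 3, nat_lit 1, []⟩,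
  ⟨[nat_lit 80, nat_lit 77, nat_lit 76], [], [nat_lit 0], nat_lit 3, nat_lit 1, []⟩,
  ⟨[nat_lit 80, nat_lit 77, nat_lit 76], [], [nat_lit 0], nat_lit 3, nat_lit 1, []⟩,
  ⟨[nat_lit 80, nat_lit 77, nat_lit 76], [], [nat_lit 0], nat_lit 3, nat_lit 1, []⟩,
  ⟨[nat_lit 80, nat_lit 77, nat_lit 76], [], [nat_lit 0], nat_lit 3, nat_lit 1, []⟩,
  ⟨[nat_lit 80, nat_lit 77, nat_lit 76], [], [nat_lit 0], nat_lit 3, nat_lit 1, []⟩,
  ⟨[nat_lit 75, nat_lit 74], [nat_lit 42], [nat_lit 0, nat_lit 0x49700000496000004950000, nat_lit 0, nat_lit 0], nat_lit 1458, nat_lit 1, []⟩,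
  ⟨[nat_lit 76, nat_lit 75], [nat_lit 42], [nat_lit 0, nat_lit 0], nat_lit 9, nat_lit 0, [(nat_lit 1, [nat_lit 0x2a000000000001])]⟩,
  ⟨[nat_lit 76, nat_lit 75], [nat_lit 42], [nat_lit 0, nat_lit 0], nat_lit 18, nat_lit 0, [(nat_lit 1, [nat_lit 0x2a000000000001])]⟩,
  ⟨[nat_lit 80, nat_lit 76], [], [nat_lit 0x4982d900498306904982ab70498417f04983bcd04983ea6049842720498315c04980000, nat_lit 0], nat_lit 243, nat_lit 0, [(nat_lit 299, [nat_lit 1, nat_lit 3, nat_lit 44, nat_lit 90])]⟩,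
  ⟨[nat_lit 80, nat_lit 76], [], [nat_lit 0x499417f04993bcd04993ea604992d900499306904992ab704992e8304993cc004990000, nat_lit 0], nat_lit 243, nat_lit 0, [(nat_lit 299, [nat_lit 1, nat_lit 3, nat_lit 44, nat_lit 90])]⟩,
  ⟨[nat_lit 80, nat_lit 75, nat_lit 74], [], [nat_lit 0, nat_lit 0x49a315c049a2e83049a0000, nat_lit 0, nat_lit 0], nat_lit 162, nat_lit 1, []⟩,
  ⟨[nat_lit 80, nat_lit 76, nat_lit 73], [], [nat_lit 0, nat_lit 0], nat_lit 18, nat_lit 1, []⟩,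
  ⟨[nat_lit 80, nat_lit 73], [], [nat_lit 0x49d00f3049c01e6049b2c55049d01e6049c00f3049b2d00049d0000049c0000049b0000, nat_lit 0], nat_lit 243, nat_lit 0, [(nat_lit 299, [nat_lit 1, nat_lit 3, nat_lit 44, nat_lit 90])]⟩,
  ⟨[nat_lit 80, nat_lit 76, nat_lit 73], [], [nat_lit 0, nat_lit 0], nat_lit 18, nat_lit 1, []⟩,
  ⟨[nat_lit 80, nat_lit 75, nat_lit 74], [], [nat_lit 0, nat_lit 0x49e4272049e3cc0049e0000, nat_lit 0, nat_lit 0], nat_lit 162, nat_lit 1, []⟩,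
  ⟨[nat_lit 80, nat_lit 76, nat_lit 73], [], [nat_lit 0, nat_lit 0], nat_lit 18, nat_lit 1, []⟩,
  ⟨[nat_lit 80, nat_lit 73], [], [nat_lit 0x4a100f304a001e6049f2c5504a101e604a000f3049f2d0004a1000004a00000049f0000, nat_lit 0], nat_lit 243, nat_lit 0, [(nat_lit 299, [nat_lit 1, nat_lit 3, nat_lit 44, nat_lit 90])]⟩,
  ⟨[nat_lit 80, nat_lit 76, nat_lit 73], [], [nat_lit 0, nat_lit 0], nat_lit 18, nat_lit 1, []⟩,
  ⟨[nat_lit 77, nat_lit 76], [nat_lit 42], [nat_lit 0], nat_lit 3, nat_lit 0, [(nat_lit 1, [nat_lit 0x2a000000000001])]⟩,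
  ⟨[nat_lit 77, nat_lit 76], [nat_lit 42], [nat_lit 0], nat_lit 3, nat_lit 0, [(nat_lit 1, [nat_lit 0x2a000000000001])]⟩,
  ⟨[nat_lit 77, nat_lit 76], [nat_lit 42], [nat_lit 0], nat_lit 3, nat_lit 0, [(nat_lit 1, [nat_lit 0x2a000000000001])]⟩,
  ⟨[nat_lit 80, nat_lit 77, nat_lit 76], [], [nat_lit 0], nat_lit 3, nat_lit 1, []⟩,
  ⟨[nat_lit 80, nat_lit 77, nat_lit 76], [], [nat_lit 0], nat_lit 3, nat_lit 1, []⟩,
  ⟨[nat_lit 80, nat_lit 77, nat_lit 76], [], [nat_lit 0], nat_lit 3, nat_lit 1, []⟩,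
  ⟨[nat_lit 80, nat_lit 77, nat_lit 76], [], [nat_lit 0], nat_lit 3, nat_lit 1, []⟩,
  ⟨[nat_lit 80, nat_lit 77, nat_lit 76], [], [nat_lit 0], nat_lit 3, nat_lit 1, []⟩,
  ⟨[nat_lit 80, nat_lit 77, nat_lit 76], [], [nat_lit 0], nat_lit 3, nat_lit 1, []⟩,
  ⟨[nat_lit 66], [nat_lit 9, nat_lit 1], [nat_lit 0x17000000160000000002d9, nat_lit 0, nat_lit 0, nat_lit 0], nat_lit 81, nat_lit 0, [(nat_lit 1, [nat_lit 0x900030001])]⟩,
  ⟨[nat_lit 67], [nat_lit 3, nat_lit 1], [nat_lit 0, nat_lit 0, nat_lit 0], nat_lit 54, nat_lit 0, [(nat_lit 1, [nat_lit 0x900030001])]⟩,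
  ⟨[nat_lit 67], [nat_lit 9, nat_lit 1], [nat_lit 0, nat_lit 0, nat_lit 0], nat_lit 54, nat_lit 0, [(nat_lit 1, [nat_lit 0x900030001])]⟩,
  ⟨[nat_lit 67], [nat_lit 9, nat_lit 1], [nat_lit 0, nat_lit 0, nat_lit 0], nat_lit 54, nat_lit 0, [(nat_lit 1, [nat_lit 0x900030001])]⟩,
  ⟨[nat_lit 67], [nat_lit 3, nat_lit 1], [nat_lit 0, nat_lit 0, nat_lit 0], nat_lit 54, nat_lit 0, [(nat_lit 1, [nat_lit 0x900030001])]⟩,
  ⟨[nat_lit 67], [nat_lit 3, nat_lit 1], [nat_lit 0, nat_lit 0, nat_lit 0], nat_lit 54, nat_lit 0, [(nat_lit 1, [nat_lit 0x900030001])]⟩,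
  ⟨[nat_lit 70, nat_lit 66], [nat_lit 1], [nat_lit 0x4a20c5704a20f3004a20000, nat_lit 0, nat_lit 0, nat_lit 0], nat_lit 81, nat_lit 1, []⟩,
  ⟨[nat_lit 70], [nat_lit 3, nat_lit 1], [nat_lit 0, nat_lit 0, nat_lit 0], nat_lit 54, nat_lit 0, [(nat_lit 1, [nat_lit 0x900030001])]⟩,
  ⟨[nat_lit 70, nat_lit 67], [nat_lit 1], [nat_lit 0, nat_lit 0, nat_lit 0], nat_lit 54, nat_lit 1, []⟩,
  ⟨[nat_lit 70, nat_lit 67], [nat_lit 1], [nat_lit 0, nat_lit 0, nat_lit 0], nat_lit 54, nat_lit 1, []⟩,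
  ⟨[nat_lit 70, nat_lit 66], [nat_lit 1], [nat_lit 0x4a305b204a302d904a30000, nat_lit 0, nat_lit 0, nat_lit 0], nat_lit 81, nat_lit 1, []⟩,
  ⟨[nat_lit 70], [nat_lit 3, nat_lit 1], [nat_lit 0, nat_lit 0, nat_lit 0], nat_lit 54, nat_lit 0, [(nat_lit 1, [nat_lit 0x900030001])]⟩,
  ⟨[nat_lit 70, nat_lit 67], [nat_lit 1], [nat_lit 0, nat_lit 0, nat_lit 0], nat_lit 54, nat_lit 1, []⟩,
  ⟨[nat_lit 70, nat_lit 67], [nat_lit 1], [nat_lit 0, nat_lit 0, nat_lit 0], nat_lit 54, nat_lit 1, []⟩,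
  ⟨[nat_lit 69], [nat_lit 9, nat_lit 1], [nat_lit 0, nat_lit 0, nat_lit 0], nat_lit 27, nat_lit 0, [(nat_lit 1, [nat_lit 0x900030001])]⟩,
  ⟨[nat_lit 69], [nat_lit 9, nat_lit 1], [nat_lit 0, nat_lit 0, nat_lit 0], nat_lit 27, nat_lit 0, [(nat_lit 1, [nat_lit 0x900030001])]⟩,
  ⟨[nat_lit 69], [nat_lit 9, nat_lit 3], [nat_lit 0, nat_lit 0, nat_lit 0], nat_lit 27, nat_lit 0, [(nat_lit 1, [nat_lit 0x900030001])]⟩,
  ⟨[nat_lit 69], [nat_lit 9, nat_lit 3], [nat_lit 0, nat_lit 0, nat_lit 0], nat_lit 27, nat_lit 0, [(nat_lit 1, [nat_lit 0x900030001])]⟩,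
  ⟨[nat_lit 69], [nat_lit 3, nat_lit 1], [nat_lit 0, nat_lit 0, nat_lit 0], nat_lit 27, nat_lit 0, [(nat_lit 1, [nat_lit 0x900030001])]⟩,
  ⟨[nat_lit 69], [nat_lit 9, nat_lit 1], [nat_lit 0, nat_lit 0, nat_lit 0], nat_lit 27, nat_lit 0, [(nat_lit 1, [nat_lit 0x900030001])]⟩,
  ⟨[nat_lit 69], [nat_lit 9, nat_lit 3], [nat_lit 0, nat_lit 0, nat_lit 0], nat_lit 27, nat_lit 0, [(nat_lit 1, [nat_lit 0x900030001])]⟩,
  ⟨[nat_lit 69], [nat_lit 3, nat_lit 1], [nat_lit 0, nat_lit 0, nat_lit 0], nat_lit 27, nat_lit 0, [(nat_lit 1, [nat_lit 0x900030001])]⟩,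
  ⟨[nat_lit 69], [nat_lit 9, nat_lit 1], [nat_lit 0, nat_lit 0, nat_lit 0], nat_lit 27, nat_lit 0, [(nat_lit 1, [nat_lit 0x900030001])]⟩,
  ⟨[nat_lit 69], [nat_lit 9, nat_lit 3], [nat_lit 0, nat_lit 0, nat_lit 0], nat_lit 27, nat_lit 0, [(nat_lit 1, [nat_lit 0x900030001])]⟩,
  ⟨[nat_lit 75, nat_lit 74], [], [nat_lit 0x4a619a104a5088b04a4093604a6088b04a519a104a408ee04a6000004a5000004a40000, nat_lit 0x4ae19a104ad19a104ac19a104ab088b04aa088b04a9088b04b0000004a8093604a708ee04ae088b04ad088b04ac088b04ab19a104aa19a104a919a104af000004a808ee04a7093604ae000004ad000004ac000004ab000004aa000004a900000018000004a8000004a70000, nat_lit 0, nat_lit 0], nat_lit 2187, nat_lit 0, [(nat_lit 100, []), (nat_lit 2, [nat_lit 0x2d900000000001b000900030001])]⟩,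
  ⟨[nat_lit 78, nat_lit 75, nat_lit 74], [], [nat_lit 0, nat_lit 0x4b3097e04b2097e04b21b8704b1097e04b31b8704b3000004b2000004b11b8704b10000, nat_lit 0, nat_lit 0], nat_lit 162, nat_lit 1, []⟩,
  ⟨[nat_lit 78, nat_lit 75, nat_lit 74], [], [nat_lit 0, nat_lit 0x4b60a7104b40a7104b61a9404b50a7104b6000004b51a9404b41a9404b5000004b40000, nat_lit 0, nat_lit 0], nat_lit 162, nat_lit 1, []⟩,
  ⟨[nat_lit 76, nat_lit 75, nat_lit 58], [], [nat_lit 0, nat_lit 0], nat_lit 9, nat_lit 1, []⟩,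
  ⟨[nat_lit 78, nat_lit 76, nat_lit 75], [], [nat_lit 0, nat_lit 0], nat_lit 18, nat_lit 1, []⟩,
  ⟨[nat_lit 78, nat_lit 76, nat_lit 75], [], [nat_lit 0, nat_lit 0], nat_lit 18, nat_lit 1, []⟩,
  ⟨[nat_lit 78, nat_lit 76, nat_lit 73, nat_lit 58], [], [nat_lit 0, nat_lit 0], nat_lit 9, nat_lit 1, []⟩,
  ⟨[nat_lit 80, nat_lit 78, nat_lit 76, nat_lit 58], [], [nat_lit 0, nat_lit 0], nat_lit 9, nat_lit 1, []⟩,
  ⟨[nat_lit 80, nat_lit 78, nat_lit 76, nat_lit 58], [], [nat_lit 0, nat_lit 0], nat_lit 9, nat_lit 1, []⟩,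
  ⟨[nat_lit 78, nat_lit 76, nat_lit 73, nat_lit 58], [], [nat_lit 0, nat_lit 0], nat_lit 9, nat_lit 1, []⟩]
theorem cc13 : (Nat.beq (lst ndF cl13 562) 0 && Nat.beq (562 + cl13.length) 678) = true := by
  decide +kernel
noncomputable def cl14 : List Nd := [
  ⟨[nat_lit 80, nat_lit 78, nat_lit 76, nat_lit 58], [], [nat_lit 0, nat_lit 0], nat_lit 9, nat_lit 1, []⟩,
  ⟨[nat_lit 80, nat_lit 78, nat_lit 76, nat_lit 58], [], [nat_lit 0, nat_lit 0], nat_lit 9, nat_lit 1, []⟩,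
  ⟨[nat_lit 80, nat_lit 78, nat_lit 75, nat_lit 74], [], [nat_lit 0, nat_lit 0, nat_lit 0, nat_lit 0], nat_lit 162, nat_lit 1, []⟩,
  ⟨[nat_lit 80, nat_lit 78, nat_lit 75, nat_lit 74], [], [nat_lit 0, nat_lit 0, nat_lit 0, nat_lit 0], nat_lit 162, nat_lit 1, []⟩,
  ⟨[nat_lit 80, nat_lit 78, nat_lit 75, nat_lit 74], [], [nat_lit 0, nat_lit 0, nat_lit 0, nat_lit 0], nat_lit 162, nat_lit 1, []⟩,
  ⟨[nat_lit 80, nat_lit 78, nat_lit 75, nat_lit 74], [], [nat_lit 0, nat_lit 0, nat_lit 0, nat_lit 0], nat_lit 162, nat_lit 1, []⟩,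
  ⟨[nat_lit 80, nat_lit 78, nat_lit 75, nat_lit 74], [], [nat_lit 0, nat_lit 0, nat_lit 0, nat_lit 0], nat_lit 162, nat_lit 1, []⟩,
  ⟨[nat_lit 80, nat_lit 78, nat_lit 75, nat_lit 74], [], [nat_lit 0, nat_lit 0, nat_lit 0, nat_lit 0], nat_lit 162, nat_lit 1, []⟩,
  ⟨[nat_lit 75, nat_lit 74], [], [nat_lit 0x4b9334204b819a104b7093604b919a104b8334204b708ee04b9000004b8000004b70000, nat_lit 0x4c1334204c0334204bf334204be19a104bd19a104bc19a104bb08ee04c3000004ba093604c119a104c019a104bf19a104be334204bd334204bc334204bb093604c2000004ba08ee04c1000004c0000004bf000004be000004bd000004bc000004bb00000019000004ba0000, nat_lit 0, nat_lit 0], nat_lit 2187, nat_lit 0, [(nat_lit 100, []), (nat_lit 2, [nat_lit 0x2d900000000001b000900030001])]⟩,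
  ⟨[nat_lit 78, nat_lit 75, nat_lit 74], [], [nat_lit 0, nat_lit 0x4c5343504c6343504c51b8704c61b8704c4343504c6000004c41b8704c5000004c40000, nat_lit 0, nat_lit 0], nat_lit 162, nat_lit 1, []⟩,
  ⟨[nat_lit 78, nat_lit 75, nat_lit 74], [], [nat_lit 0, nat_lit 0x4c7352804c9352804c91a9404c9000004c8352804c81a9404c8000004c71a9404c70000, nat_lit 0, nat_lit 0], nat_lit 162, nat_lit 1, []⟩,
  ⟨[nat_lit 76, nat_lit 75, nat_lit 58], [], [nat_lit 0, nat_lit 0], nat_lit 9, nat_lit 1, []⟩,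
  ⟨[nat_lit 78, nat_lit 76, nat_lit 75], [], [nat_lit 0, nat_lit 0], nat_lit 18, nat_lit 1, []⟩,
  ⟨[nat_lit 78, nat_lit 76, nat_lit 75], [], [nat_lit 0, nat_lit 0], nat_lit 18, nat_lit 1, []⟩,
  ⟨[nat_lit 78, nat_lit 76, nat_lit 73, nat_lit 58], [], [nat_lit 0, nat_lit 0], nat_lit 9, nat_lit 1, []⟩,
  ⟨[nat_lit 80, nat_lit 78, nat_lit 76, nat_lit 58], [], [nat_lit 0, nat_lit 0], nat_lit 9, nat_lit 1, []⟩,
  ⟨[nat_lit 80, nat_lit 78, nat_lit 76, nat_lit 58], [], [nat_lit 0, nat_lit 0], nat_lit 9, nat_lit 1, []⟩,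
  ⟨[nat_lit 78, nat_lit 76, nat_lit 73, nat_lit 58], [], [nat_lit 0, nat_lit 0], nat_lit 9, nat_lit 1, []⟩,
  ⟨[nat_lit 80, nat_lit 78, nat_lit 76, nat_lit 58], [], [nat_lit 0, nat_lit 0], nat_lit 9, nat_lit 1, []⟩,
  ⟨[nat_lit 80, nat_lit 78, nat_lit 76, nat_lit 58], [], [nat_lit 0, nat_lit 0], nat_lit 9, nat_lit 1, []⟩,
  ⟨[nat_lit 80, nat_lit 78, nat_lit 75, nat_lit 74], [], [nat_lit 0, nat_lit 0, nat_lit 0, nat_lit 0], nat_lit 162, nat_lit 1, []⟩,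
  ⟨[nat_lit 80, nat_lit 78, nat_lit 75, nat_lit 74], [], [nat_lit 0, nat_lit 0, nat_lit 0, nat_lit 0], nat_lit 162, nat_lit 1, []⟩,
  ⟨[nat_lit 80, nat_lit 78, nat_lit 75, nat_lit 74], [], [nat_lit 0, nat_lit 0, nat_lit 0, nat_lit 0], nat_lit 162, nat_lit 1, []⟩,
  ⟨[nat_lit 80, nat_lit 78, nat_lit 75, nat_lit 74], [], [nat_lit 0, nat_lit 0, nat_lit 0, nat_lit 0], nat_lit 162, nat_lit 1, []⟩,
  ⟨[nat_lit 80, nat_lit 78, nat_lit 75, nat_lit 74], [], [nat_lit 0, nat_lit 0, nat_lit 0, nat_lit 0], nat_lit 162, nat_lit 1, []⟩,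
  ⟨[nat_lit 80, nat_lit 78, nat_lit 75, nat_lit 74], [], [nat_lit 0, nat_lit 0, nat_lit 0, nat_lit 0], nat_lit 162, nat_lit 1, []⟩,
  ⟨[nat_lit 57], [nat_lit 9, nat_lit 3], [nat_lit 0x92d000008dc0000088b, nat_lit 0, nat_lit 0, nat_lit 0], nat_lit 162, nat_lit 0, [(nat_lit 1, [nat_lit 0x900030001])]⟩,
  ⟨[nat_lit 57], [nat_lit 9, nat_lit 3], [nat_lit 0x1a19a1001a00f3001a0000, nat_lit 0, nat_lit 0, nat_lit 0], nat_lit 162, nat_lit 0, [(nat_lit 1, [nat_lit 0x900030001])]⟩,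
  ⟨[nat_lit 57], [nat_lit 9, nat_lit 3], [nat_lit 0x1b3342001b19a1001b0000, nat_lit 0, nat_lit 0, nat_lit 0], nat_lit 162, nat_lit 0, [(nat_lit 1, [nat_lit 0x900030001])]⟩,
  ⟨[nat_lit 58], [nat_lit 9, nat_lit 1], [nat_lit 0, nat_lit 0, nat_lit 0], nat_lit 27, nat_lit 0, [(nat_lit 1, [nat_lit 0x900030001])]⟩,
  ⟨[nat_lit 60], [nat_lit 9, nat_lit 3], [nat_lit 0x4ca01e604ca00f304ca0000, nat_lit 0, nat_lit 0, nat_lit 0], nat_lit 162, nat_lit 0, [(nat_lit 1, [nat_lit 0x900030001])]⟩,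
  ⟨[nat_lit 60, nat_lit 58], [nat_lit 9], [nat_lit 0, nat_lit 0, nat_lit 0], nat_lit 27, nat_lit 1, []⟩,
  ⟨[nat_lit 60], [nat_lit 9, nat_lit 3], [nat_lit 0x4cb01e604cb00f304cb0000, nat_lit 0, nat_lit 0, nat_lit 0], nat_lit 162, nat_lit 0, [(nat_lit 1, [nat_lit 0x900030001])]⟩,
  ⟨[nat_lit 60, nat_lit 58], [nat_lit 9], [nat_lit 0, nat_lit 0, nat_lit 0], nat_lit 27, nat_lit 1, []⟩,
  ⟨[nat_lit 73], [nat_lit 243, nat_lit 27], [nat_lit 0x1c0249001c019e001c0000, nat_lit 0], nat_lit 162, nat_lit 0, [(nat_lit 1, [nat_lit 0xf30000001b000000000001])]⟩,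
  ⟨[nat_lit 80], [nat_lit 243, nat_lit 27], [nat_lit 0x4cc19a104cc334204cc0000, nat_lit 0], nat_lit 162, nat_lit 0, [(nat_lit 1, [nat_lit 0xf30000001b000000000001])]⟩,
  ⟨[nat_lit 80], [nat_lit 243, nat_lit 27], [nat_lit 0x4cd334204cd19a104cd0000, nat_lit 0], nat_lit 162, nat_lit 0, [(nat_lit 1, [nat_lit 0xf30000001b000000000001])]⟩,
  ⟨[nat_lit 73], [nat_lit 243, nat_lit 27], [nat_lit 0x1d1c7a001d1f53001d0000, nat_lit 0], nat_lit 162, nat_lit 0, [(nat_lit 1, [nat_lit 0xf30000001b000000000001])]⟩,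
  ⟨[nat_lit 80], [nat_lit 243, nat_lit 27], [nat_lit 0x4ce19a104ce334204ce0000, nat_lit 0], nat_lit 162, nat_lit 0, [(nat_lit 1, [nat_lit 0xf30000001b000000000001])]⟩,
  ⟨[nat_lit 80], [nat_lit 243, nat_lit 27], [nat_lit 0x4cf334204cf19a104cf0000, nat_lit 0], nat_lit 162, nat_lit 0, [(nat_lit 1, [nat_lit 0xf30000001b000000000001])]⟩,
  ⟨[nat_lit 73], [nat_lit 243, nat_lit 27], [nat_lit 0x1e1f53001e1c7a001e0000, nat_lit 0], nat_lit 162, nat_lit 0, [(nat_lit 1, [nat_lit 0xf30000001b000000000001])]⟩,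
  ⟨[nat_lit 80], [nat_lit 243, nat_lit 27], [nat_lit 0x4d019a104d0334204d00000, nat_lit 0], nat_lit 162, nat_lit 0, [(nat_lit 1, [nat_lit 0xf30000001b000000000001])]⟩,
  ⟨[nat_lit 80], [nat_lit 243, nat_lit 27], [nat_lit 0x4d1334204d119a104d10000, nat_lit 0], nat_lit 162, nat_lit 0, [(nat_lit 1, [nat_lit 0xf30000001b000000000001])]⟩,
  ⟨[nat_lit 80, nat_lit 76], [nat_lit 243], [nat_lit 0], nat_lit 3, nat_lit 1, []⟩,
  ⟨[nat_lit 80, nat_lit 76], [nat_lit 243], [nat_lit 0], nat_lit 3, nat_lit 1, []⟩,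
  ⟨[nat_lit 74, nat_lit 73], [nat_lit 729], [nat_lit 0x4d4000004d3000004d20000, nat_lit 0, nat_lit 0], nat_lit 27, nat_lit 1, []⟩,
  ⟨[nat_lit 75, nat_lit 73], [], [nat_lit 0, nat_lit 0], nat_lit 18, nat_lit 1, []⟩,
  ⟨[nat_lit 75, nat_lit 73], [], [nat_lit 0, nat_lit 0], nat_lit 18, nat_lit 1, []⟩,
  ⟨[nat_lit 78, nat_lit 73], [], [nat_lit 0, nat_lit 0], nat_lit 18, nat_lit 1, []⟩,
  ⟨[nat_lit 78, nat_lit 73], [], [nat_lit 0, nat_lit 0], nat_lit 18, nat_lit 1, []⟩,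
  ⟨[nat_lit 80], [], [nat_lit 0x4d5241204d52baa04d5029a04d5231f04d512b404d5024904d5222c04d52ab704d519a104d53db304d5135f04d5019e04d53cc004d52c5504d5014d04d53bcd04d5445804d5334204d50a7104d5120904d51b3f04d5097e04d512fc04d51aee04d5088b04d5111604d50000, nat_lit 0], nat_lit 9, nat_lit 0, [(nat_lit 299, [nat_lit 1, nat_lit 3, nat_lit 27, nat_lit 729])]⟩,
  ⟨[nat_lit 80], [], [nat_lit 0x4d63db304d6454b04d61b3f04d63cc004d612b404d61aee04d63bcd04d6445804d6334204d6241204d62baa04d6019e04d6231f04d645f604d6014d04d6222c04d62ab704d619a104d60a7104d6120904d634e004d6097e04d62c5504d6348f04d6088b04d6111604d60000, nat_lit 0], nat_lit 9, nat_lit 0, [(nat_lit 299, [nat_lit 1, nat_lit 3, nat_lit 27, nat_lit 729])]⟩,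
  ⟨[nat_lit 78, nat_lit 73], [], [nat_lit 0x1ab500001a9a00001ad000001ab200001a9700001acd00001aaf00001a9400001aca, nat_lit 0], nat_lit 243, nat_lit 1, []⟩,
  ⟨[nat_lit 78, nat_lit 75], [], [nat_lit 0x204c0000208200002067000020490000207f00002064000020460000207c00002061, nat_lit 0], nat_lit 666, nat_lit 1, []⟩,
  ⟨[nat_lit 78, nat_lit 75], [], [nat_lit 0x1da900001d8e00001d7300001da600001d8b00001d7000001da300001d8800001d6d, nat_lit 0], nat_lit 585, nat_lit 1, []⟩,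
  ⟨[nat_lit 80, nat_lit 78], [], [nat_lit 0x1abe00001aa300001ad900001abb00001aa000001ad600001ab800001a9d00001ad3, nat_lit 0], nat_lit 243, nat_lit 1, []⟩,
  ⟨[nat_lit 80, nat_lit 78], [], [nat_lit 0x20550000208b0000207000002052000020880000206d0000204f000020850000206a, nat_lit 0], nat_lit 666, nat_lit 1, []⟩,
  ⟨[nat_lit 80, nat_lit 78], [], [nat_lit 0x1db200001d9700001d7c00001daf00001d9400001d7900001dac00001d9100001d76, nat_lit 0], nat_lit 585, nat_lit 1, []⟩,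
  ⟨[nat_lit 80, nat_lit 78], [], [nat_lit 0x1ac700001aac00001ae200001ac400001aa900001adf00001ac100001aa600001adc, nat_lit 0], nat_lit 243, nat_lit 1, []⟩,
  ⟨[nat_lit 80, nat_lit 78], [], [nat_lit 0x205e00002094000020790000205b0000209100002076000020580000208e00002073, nat_lit 0], nat_lit 666, nat_lit 1, []⟩,
  ⟨[nat_lit 80, nat_lit 78], [], [nat_lit 0x1dbb00001da000001d8500001db800001d9d00001d8200001db500001d9a00001d7f, nat_lit 0], nat_lit 585, nat_lit 1, []⟩,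
  ⟨[nat_lit 78, nat_lit 73], [], [nat_lit 0x1b8d00001bc300001ba800001b8a00001bc000001ba500001b8700001bbd00001ba2, nat_lit 0], nat_lit 243, nat_lit 1, []⟩,
  ⟨[nat_lit 78, nat_lit 75], [], [nat_lit 0x1e9c00001e8100001e6600001e9900001e7e00001e6300001e9600001e7b00001e60, nat_lit 0], nat_lit 585, nat_lit 1, []⟩,
  ⟨[nat_lit 78, nat_lit 75], [], [nat_lit 0x215a0000213f00002175000021570000213c0000217200002154000021390000216f, nat_lit 0], nat_lit 666, nat_lit 1, []⟩,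
  ⟨[nat_lit 80, nat_lit 78], [], [nat_lit 0x1b9600001bcc00001bb100001b9300001bc900001bae00001b9000001bc600001bab, nat_lit 0], nat_lit 243, nat_lit 1, []⟩,
  ⟨[nat_lit 80, nat_lit 78], [], [nat_lit 0x1ea500001e8a00001e6f00001ea200001e8700001e6c00001e9f00001e8400001e69, nat_lit 0], nat_lit 585, nat_lit 1, []⟩,
  ⟨[nat_lit 80, nat_lit 78], [], [nat_lit 0x2163000021480000217e00002160000021450000217b0000215d0000214200002178, nat_lit 0], nat_lit 666, nat_lit 1, []⟩,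
  ⟨[nat_lit 80, nat_lit 78], [], [nat_lit 0x1b9f00001bd500001bba00001b9c00001bd200001bb700001b9900001bcf00001bb4, nat_lit 0], nat_lit 243, nat_lit 1, []⟩,
  ⟨[nat_lit 80, nat_lit 78], [], [nat_lit 0x1eae00001e9300001e7800001eab00001e9000001e7500001ea800001e8d00001e72, nat_lit 0], nat_lit 585, nat_lit 1, []⟩,
  ⟨[nat_lit 80, nat_lit 78], [], [nat_lit 0x216c0000215100002187000021690000214e00002184000021660000214b00002181, nat_lit 0], nat_lit 666, nat_lit 1, []⟩,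
  ⟨[nat_lit 78, nat_lit 74], [nat_lit 744], [nat_lit 0x4d9000004d8000004d70000, nat_lit 0, nat_lit 0], nat_lit 27, nat_lit 1, []⟩,
  ⟨[nat_lit 78, nat_lit 73], [], [nat_lit 0, nat_lit 0], nat_lit 9, nat_lit 1, []⟩,
  ⟨[nat_lit 78, nat_lit 75], [], [nat_lit 0, nat_lit 0], nat_lit 9, nat_lit 1, []⟩,
  ⟨[nat_lit 78, nat_lit 75], [], [nat_lit 0, nat_lit 0], nat_lit 9, nat_lit 1, []⟩,
  ⟨[nat_lit 78, nat_lit 73], [], [nat_lit 0, nat_lit 0], nat_lit 18, nat_lit 1, []⟩,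
  ⟨[nat_lit 80], [], [nat_lit 0x4da27de04da2d9004da19a104da417f04da4a0a04da38f404da28d104da111604da1de604da222c04da306904da1c7a04da097e04da12b404da334204da088b04da2f5004da20a004da3f9904da2ab704da1f5304da3ea604da473104da361b04da0b6404da320704da0000, nat_lit 0], nat_lit 9, nat_lit 0, [(nat_lit 299, [nat_lit 1, nat_lit 3, nat_lit 27, nat_lit 738])]⟩,
  ⟨[nat_lit 80], [], [nat_lit 0x4db3cc004db2ab704db1f5304db3bcd04db445804db334204db0e3d04db111604db1aee04db27de04db2d9004db19a104db097e04db12b404db014d04db088b04db2c5504db1de604db222c04db306904db1c7a04db417f04db4a0a04db38f404db231f04db2f5004db0000, nat_lit 0], nat_lit 9, nat_lit 0, [(nat_lit 299, [nat_lit 1, nat_lit 3, nat_lit 27, nat_lit 738])]⟩,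
  ⟨[nat_lit 78, nat_lit 74], [nat_lit 750], [nat_lit 0x4de000004dd000004dc0000, nat_lit 0, nat_lit 0], nat_lit 27, nat_lit 1, []⟩,
  ⟨[nat_lit 78, nat_lit 73], [], [nat_lit 0, nat_lit 0], nat_lit 9, nat_lit 1, []⟩,
  ⟨[nat_lit 78, nat_lit 75], [], [nat_lit 0, nat_lit 0], nat_lit 9, nat_lit 1, []⟩,
  ⟨[nat_lit 78, nat_lit 75], [], [nat_lit 0, nat_lit 0], nat_lit 9, nat_lit 1, []⟩,
  ⟨[nat_lit 78, nat_lit 73], [], [nat_lit 0, nat_lit 0], nat_lit 18, nat_lit 1, []⟩,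
  ⟨[nat_lit 80], [], [nat_lit 0x4df3ea604df473104df361b04df27de04df2d9004df19a104df088b04df2e8304df20f104df3bcd04df120904df334204df250504df2ab704df1f5304df0e3d04df111604df1e1804df417f04df4a0a04df38f404df222c04df306904df1c7a04df0b6404df315c04df0000, nat_lit 0], nat_lit 9, nat_lit 0, [(nat_lit 299, [nat_lit 1, nat_lit 3, nat_lit 27, nat_lit 747])]⟩,
  ⟨[nat_lit 80], [], [nat_lit 0x4e03bcd04e0445804e0334204e0222c04e0306904e01c7a04e0088b04e0315c04e01b3f04e0417f04e0120904e0019e04e027de04e02d9004e019a104e00e3d04e0111604e020f104e03ea604e0473104e0361b04e0250504e02ab704e01f5304e00b6404e02baa04e00000, nat_lit 0], nat_lit 9, nat_lit 0, [(nat_lit 299, [nat_lit 1, nat_lit 3, nat_lit 27, nat_lit 747])]⟩,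
  ⟨[nat_lit 74, nat_lit 73], [nat_lit 972], [nat_lit 0x4e3000004e2000004e10000, nat_lit 0, nat_lit 0], nat_lit 27, nat_lit 1, []⟩,
  ⟨[nat_lit 73], [], [nat_lit 0x4e6014d04e51e1804e4029a04e61de604e5019e04e4024904e620a004e520f104e401f804e621ed04e5024904e4019e04e6029a04e5219c04e4014d04e61f5204e51ec304e400fc04e601e604e500f304e400a204e600f304e501e604e4005104e6000004e5000004e40000, nat_lit 0], nat_lit 243, nat_lit 0, [(nat_lit 299, [nat_lit 1, nat_lit 3, nat_lit 27, nat_lit 6561])]⟩]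
theorem cc14 : (Nat.beq (lst ndF cl14 678) 0 && Nat.beq (678 + cl14.length) 764) = true := by
  decide +kernel
noncomputable def cl15 : List Nd := [
  ⟨[nat_lit 75, nat_lit 73], [], [nat_lit 0, nat_lit 0], nat_lit 18, nat_lit 1, []⟩,
  ⟨[nat_lit 75, nat_lit 73], [], [nat_lit 0, nat_lit 0], nat_lit 18, nat_lit 1, []⟩,
  ⟨[nat_lit 78, nat_lit 73], [], [nat_lit 0, nat_lit 0], nat_lit 18, nat_lit 1, []⟩,
  ⟨[nat_lit 78, nat_lit 73], [], [nat_lit 0, nat_lit 0], nat_lit 18, nat_lit 1, []⟩,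
  ⟨[nat_lit 80], [], [nat_lit 0x4e91b8704e81a9404e7029a04e91a9404e81b8704e7024904e919a104e819a104e719a104e9352804e8343504e7019e04e9343504e8352804e7014d04e9334204e8334204e7334204e901e604e800f304e71b3f04e900f304e801e604e71aee04e9000004e8000004e70000, nat_lit 0], nat_lit 666, nat_lit 0, [(nat_lit 299, [nat_lit 1, nat_lit 3, nat_lit 27, nat_lit 8569])]⟩,
  ⟨[nat_lit 80, nat_lit 78], [], [nat_lit 0, nat_lit 0], nat_lit 18, nat_lit 1, []⟩,
  ⟨[nat_lit 80, nat_lit 78], [], [nat_lit 0, nat_lit 0], nat_lit 18, nat_lit 1, []⟩,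
  ⟨[nat_lit 80], [], [nat_lit 0x4ec352804eb343504ea1b3f04ec343504eb352804ea1aee04ec334204eb334204ea334204ec1b8704eb1a9404ea019e04ec1a9404eb1b8704ea014d04ec19a104eb19a104ea19a104ec01e604eb00f304ea34e004ec00f304eb01e604ea348f04ec000004eb000004ea0000, nat_lit 0], nat_lit 414, nat_lit 0, [(nat_lit 299, [nat_lit 1, nat_lit 3, nat_lit 27, nat_lit 7551])]⟩,
  ⟨[nat_lit 80, nat_lit 78], [], [nat_lit 0, nat_lit 0], nat_lit 18, nat_lit 1, []⟩,
  ⟨[nat_lit 80, nat_lit 78], [], [nat_lit 0, nat_lit 0], nat_lit 18, nat_lit 1, []⟩,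
  ⟨[nat_lit 78, nat_lit 73], [], [nat_lit 0x1ab500001a9a00001ad000001ab200001a9700001acd00001aaf00001a9400001aca, nat_lit 0], nat_lit 243, nat_lit 1, []⟩,
  ⟨[nat_lit 78, nat_lit 75], [], [nat_lit 0x1f8f00001f7400001f5900001f8c00001f7100001f5600001f8900001f6e00001f53, nat_lit 0], nat_lit 666, nat_lit 1, []⟩,
  ⟨[nat_lit 78, nat_lit 75], [], [nat_lit 0x1e9c00001e8100001e6600001e9900001e7e00001e6300001e9600001e7b00001e60, nat_lit 0], nat_lit 585, nat_lit 1, []⟩,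
  ⟨[nat_lit 80, nat_lit 78], [], [nat_lit 0x1abe00001aa300001ad900001abb00001aa000001ad600001ab800001a9d00001ad3, nat_lit 0], nat_lit 243, nat_lit 1, []⟩,
  ⟨[nat_lit 80, nat_lit 78], [], [nat_lit 0x1f9800001f7d00001f6200001f9500001f7a00001f5f00001f9200001f7700001f5c, nat_lit 0], nat_lit 666, nat_lit 1, []⟩,
  ⟨[nat_lit 80, nat_lit 78], [], [nat_lit 0x1ea500001e8a00001e6f00001ea200001e8700001e6c00001e9f00001e8400001e69, nat_lit 0], nat_lit 585, nat_lit 1, []⟩,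
  ⟨[nat_lit 80, nat_lit 78], [], [nat_lit 0x1ac700001aac00001ae200001ac400001aa900001adf00001ac100001aa600001adc, nat_lit 0], nat_lit 243, nat_lit 1, []⟩,
  ⟨[nat_lit 80, nat_lit 78], [], [nat_lit 0x1fa100001f8600001f6b00001f9e00001f8300001f6800001f9b00001f8000001f65, nat_lit 0], nat_lit 666, nat_lit 1, []⟩,
  ⟨[nat_lit 80, nat_lit 78], [], [nat_lit 0x1eae00001e9300001e7800001eab00001e9000001e7500001ea800001e8d00001e72, nat_lit 0], nat_lit 585, nat_lit 1, []⟩,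
  ⟨[nat_lit 78, nat_lit 73], [], [nat_lit 0x1b8d00001bc300001ba800001b8a00001bc000001ba500001b8700001bbd00001ba2, nat_lit 0], nat_lit 243, nat_lit 1, []⟩,
  ⟨[nat_lit 78, nat_lit 75], [], [nat_lit 0x1cb600001c9b00001c8000001cb300001c9800001c7d00001cb000001c9500001c7a, nat_lit 0], nat_lit 585, nat_lit 1, []⟩,
  ⟨[nat_lit 78, nat_lit 75], [], [nat_lit 0x204c0000208200002067000020490000207f00002064000020460000207c00002061, nat_lit 0], nat_lit 666, nat_lit 1, []⟩,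
  ⟨[nat_lit 80, nat_lit 78], [], [nat_lit 0x1b9600001bcc00001bb100001b9300001bc900001bae00001b9000001bc600001bab, nat_lit 0], nat_lit 243, nat_lit 1, []⟩,
  ⟨[nat_lit 80, nat_lit 78], [], [nat_lit 0x1cbf00001ca400001c8900001cbc00001ca100001c8600001cb900001c9e00001c83, nat_lit 0], nat_lit 585, nat_lit 1, []⟩,
  ⟨[nat_lit 80, nat_lit 78], [], [nat_lit 0x20550000208b0000207000002052000020880000206d0000204f000020850000206a, nat_lit 0], nat_lit 666, nat_lit 1, []⟩,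
  ⟨[nat_lit 80, nat_lit 78], [], [nat_lit 0x1b9f00001bd500001bba00001b9c00001bd200001bb700001b9900001bcf00001bb4, nat_lit 0], nat_lit 243, nat_lit 1, []⟩,
  ⟨[nat_lit 80, nat_lit 78], [], [nat_lit 0x1cc800001cad00001c9200001cc500001caa00001c8f00001cc200001ca700001c8c, nat_lit 0], nat_lit 585, nat_lit 1, []⟩,
  ⟨[nat_lit 80, nat_lit 78], [], [nat_lit 0x205e00002094000020790000205b0000209100002076000020580000208e00002073, nat_lit 0], nat_lit 666, nat_lit 1, []⟩,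
  ⟨[nat_lit 78, nat_lit 74], [nat_lit 987], [nat_lit 0x4ef000004ee000004ed0000, nat_lit 0, nat_lit 0], nat_lit 27, nat_lit 1, []⟩,
  ⟨[nat_lit 78, nat_lit 73], [], [nat_lit 0, nat_lit 0], nat_lit 9, nat_lit 1, []⟩,
  ⟨[nat_lit 78, nat_lit 75], [], [nat_lit 0, nat_lit 0], nat_lit 9, nat_lit 1, []⟩,
  ⟨[nat_lit 78, nat_lit 75], [], [nat_lit 0, nat_lit 0], nat_lit 9, nat_lit 1, []⟩,
  ⟨[nat_lit 78], [], [nat_lit 0x4f219a104f1352804f01c7a04f21b8704f1334204f0361b04f21a9404f1343504f020a004f2343504f119a104f01f5304f2334204f11a9404f0014d04f2352804f11b8704f01aee04f201e604f100f304f019a104f200f304f101e604f0334204f2000004f1000004f00000, nat_lit 0], nat_lit 243, nat_lit 0, [(nat_lit 299, [nat_lit 1, nat_lit 3, nat_lit 27, nat_lit 6642])]⟩,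
  ⟨[nat_lit 78, nat_lit 73], [], [nat_lit 0, nat_lit 0], nat_lit 18, nat_lit 1, []⟩,
  ⟨[nat_lit 80, nat_lit 78], [], [nat_lit 0, nat_lit 0], nat_lit 9, nat_lit 1, []⟩,
  ⟨[nat_lit 80], [], [nat_lit 0x4f5343504f4361b04f319a104f5334204f4019e04f338f404f5352804f41c7a04f31de604f519a104f4024904f31c7a04f51b8704f41f5304f3334204f51a9404f438f404f320a004f501e604f419a104f31f5304f500f304f4334204f3361b04f5000004f4000004f30000, nat_lit 0], nat_lit 666, nat_lit 0, [(nat_lit 299, [nat_lit 1, nat_lit 3, nat_lit 27, nat_lit 8644])]⟩,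
  ⟨[nat_lit 80, nat_lit 78], [], [nat_lit 0, nat_lit 0], nat_lit 18, nat_lit 1, []⟩,
  ⟨[nat_lit 80, nat_lit 78], [], [nat_lit 0, nat_lit 0], nat_lit 9, nat_lit 1, []⟩,
  ⟨[nat_lit 80], [], [nat_lit 0x4f8014d04f719a104f61f5304f81c7a04f71a9404f6334204f8361b04f71b8704f61aee04f838f404f7352804f619a104f8204604f7334204f6014d04f81f5304f7343504f61de604f819a104f700f304f61c7a04f800f304f701e604f638f404f8000004f7000004f60000, nat_lit 0], nat_lit 414, nat_lit 0, [(nat_lit 299, [nat_lit 1, nat_lit 3, nat_lit 27, nat_lit 7620])]⟩,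
  ⟨[nat_lit 80, nat_lit 78], [], [nat_lit 0, nat_lit 0], nat_lit 18, nat_lit 1, []⟩,
  ⟨[nat_lit 78, nat_lit 75], [], [nat_lit 0x1eba00001ef000001ed500001ec000001ef600001edb00001ebd00001ef300001ed8, nat_lit 0], nat_lit 414, nat_lit 1, []⟩,
  ⟨[nat_lit 78, nat_lit 73], [], [nat_lit 0x1b2100001b0600001aeb00001b1e00001b0300001ae800001b1b00001b0000001ae5, nat_lit 0], nat_lit 486, nat_lit 1, []⟩,
  ⟨[nat_lit 78, nat_lit 75], [], [nat_lit 0x1fb900001fef00001fd400001fb600001fec00001fd100001fbc00001ff200001fd7, nat_lit 0], nat_lit 666, nat_lit 1, []⟩,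
  ⟨[nat_lit 80, nat_lit 78], [], [nat_lit 0x1ec300001ef900001ede00001ec900001eff00001ee400001ec600001efc00001ee1, nat_lit 0], nat_lit 414, nat_lit 1, []⟩,
  ⟨[nat_lit 80, nat_lit 78], [], [nat_lit 0x1b2a00001b0f00001af400001b2700001b0c00001af100001b2400001b0900001aee, nat_lit 0], nat_lit 486, nat_lit 1, []⟩,
  ⟨[nat_lit 80, nat_lit 78], [], [nat_lit 0x1fa700001fdd00001fc200001fa400001fda00001fbf00001faa00001fe000001fc5, nat_lit 0], nat_lit 666, nat_lit 1, []⟩,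
  ⟨[nat_lit 80, nat_lit 78], [], [nat_lit 0x1eb100001ee700001ecc00001eb700001eed00001ed200001eb400001eea00001ecf, nat_lit 0], nat_lit 414, nat_lit 1, []⟩,
  ⟨[nat_lit 80, nat_lit 78], [], [nat_lit 0x1b3300001b1800001afd00001b3000001b1500001afa00001b2d00001b1200001af7, nat_lit 0], nat_lit 486, nat_lit 1, []⟩,
  ⟨[nat_lit 80, nat_lit 78], [], [nat_lit 0x1fb000001fe600001fcb00001fad00001fe300001fc800001fb300001fe900001fce, nat_lit 0], nat_lit 666, nat_lit 1, []⟩,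
  ⟨[nat_lit 78, nat_lit 75], [], [nat_lit 0x20c7000020ac000020e2000020c4000020a9000020df000020ca000020af000020e5, nat_lit 0], nat_lit 333, nat_lit 1, []⟩,
  ⟨[nat_lit 78, nat_lit 73], [], [nat_lit 0x1bf900001bde00001c1400001bf600001bdb00001c1100001bf300001bd800001c0e, nat_lit 0], nat_lit 486, nat_lit 1, []⟩,
  ⟨[nat_lit 78, nat_lit 75], [], [nat_lit 0x1cd400001d0a00001cef00001cda00001d1000001cf500001cd700001d0d00001cf2, nat_lit 0], nat_lit 585, nat_lit 1, []⟩,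
  ⟨[nat_lit 80, nat_lit 78], [], [nat_lit 0x20b50000209a000020d0000020b200002097000020cd000020b80000209d000020d3, nat_lit 0], nat_lit 333, nat_lit 1, []⟩,
  ⟨[nat_lit 80, nat_lit 78], [], [nat_lit 0x1c0200001be700001c1d00001bff00001be400001c1a00001bfc00001be100001c17, nat_lit 0], nat_lit 486, nat_lit 1, []⟩,
  ⟨[nat_lit 80, nat_lit 78], [], [nat_lit 0x1cdd00001d1300001cf800001ce300001d1900001cfe00001ce000001d1600001cfb, nat_lit 0], nat_lit 585, nat_lit 1, []⟩,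
  ⟨[nat_lit 80, nat_lit 78], [], [nat_lit 0x20be000020a3000020d9000020bb000020a0000020d6000020c1000020a6000020dc, nat_lit 0], nat_lit 333, nat_lit 1, []⟩,
  ⟨[nat_lit 80, nat_lit 78], [], [nat_lit 0x1c0b00001bf000001c2600001c0800001bed00001c2300001c0500001bea00001c20, nat_lit 0], nat_lit 486, nat_lit 1, []⟩,
  ⟨[nat_lit 80, nat_lit 78], [], [nat_lit 0x1ccb00001d0100001ce600001cd100001d0700001cec00001cce00001d0400001ce9, nat_lit 0], nat_lit 585, nat_lit 1, []⟩,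
  ⟨[nat_lit 78, nat_lit 74], [nat_lit 993], [nat_lit 0x4fb000004fa000004f90000, nat_lit 0, nat_lit 0], nat_lit 27, nat_lit 1, []⟩,
  ⟨[nat_lit 78, nat_lit 73], [], [nat_lit 0, nat_lit 0], nat_lit 9, nat_lit 1, []⟩,
  ⟨[nat_lit 78, nat_lit 75], [], [nat_lit 0, nat_lit 0], nat_lit 9, nat_lit 1, []⟩,
  ⟨[nat_lit 78, nat_lit 75], [], [nat_lit 0, nat_lit 0], nat_lit 9, nat_lit 1, []⟩,
  ⟨[nat_lit 78, nat_lit 73], [], [nat_lit 0, nat_lit 0], nat_lit 18, nat_lit 1, []⟩,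
  ⟨[nat_lit 78], [], [nat_lit 0x4fe334204fd1b8704fc38f404fe352804fd19a104fc1f5304fe343504fd1a9404fc1e1804fe1a9404fd334204fc019e04fe19a104fd343504fc1c7a04fe1b8704fd352804fc1b3f04fe01e604fd00f304fc334204fe00f304fd01e604fc19a104fe000004fd000004fc0000, nat_lit 0], nat_lit 243, nat_lit 0, [(nat_lit 299, [nat_lit 1, nat_lit 3, nat_lit 27, nat_lit 6723])]⟩,
  ⟨[nat_lit 80, nat_lit 78], [], [nat_lit 0, nat_lit 0], nat_lit 9, nat_lit 1, []⟩,
  ⟨[nat_lit 80, nat_lit 78], [], [nat_lit 0, nat_lit 0], nat_lit 18, nat_lit 1, []⟩,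
  ⟨[nat_lit 80], [], [nat_lit 0x5011f530500334204ff361b050105b20500343504ff19a1050138f40500352804ff20f1050102d905001b8704ff33420501361b050019a104ff1f5305011c7a05001a9404ff1e1805013342050000f304ff38f4050119a1050001e604ff1c7a050100000500000004ff0000, nat_lit 0], nat_lit 666, nat_lit 0, [(nat_lit 299, [nat_lit 1, nat_lit 3, nat_lit 27, nat_lit 8746])]⟩,
  ⟨[nat_lit 80, nat_lit 78], [], [nat_lit 0, nat_lit 0], nat_lit 9, nat_lit 1, []⟩,
  ⟨[nat_lit 80, nat_lit 78], [], [nat_lit 0, nat_lit 0], nat_lit 18, nat_lit 1, []⟩,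
  ⟨[nat_lit 80], [], [nat_lit 0x5041a9405031b3f05023342050419a10503019e05021c7a05041b8705031f5305021b3f0504334205031c7a0502019e05043528050320f1050219a1050434350503361b050220f1050401e6050300f30502361b050400f3050319a105021f53050400000503000005020000, nat_lit 0], nat_lit 414, nat_lit 0, [(nat_lit 299, [nat_lit 1, nat_lit 3, nat_lit 27, nat_lit 7707])]⟩,
  ⟨[nat_lit 78, nat_lit 75], [], [nat_lit 0x201900001ffe000020340000201f000020040000203a0000201c0000200100002037, nat_lit 0], nat_lit 333, nat_lit 1, []⟩,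
  ⟨[nat_lit 78, nat_lit 75], [], [nat_lit 0x1f3200001f1700001f4d00001f2f00001f1400001f4a00001f3500001f1a00001f50, nat_lit 0], nat_lit 585, nat_lit 1, []⟩,
  ⟨[nat_lit 78, nat_lit 73], [], [nat_lit 0x1b3c00001b7200001b5700001b3900001b6f00001b5400001b3600001b6c00001b51, nat_lit 0], nat_lit 486, nat_lit 1, []⟩,
  ⟨[nat_lit 80, nat_lit 78], [], [nat_lit 0x2022000020070000203d000020280000200d00002043000020250000200a00002040, nat_lit 0], nat_lit 333, nat_lit 1, []⟩,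
  ⟨[nat_lit 80, nat_lit 78], [], [nat_lit 0x1f2000001f0500001f3b00001f1d00001f0200001f3800001f2300001f0800001f3e, nat_lit 0], nat_lit 585, nat_lit 1, []⟩,
  ⟨[nat_lit 80, nat_lit 78], [], [nat_lit 0x1b4500001b7b00001b6000001b4200001b7800001b5d00001b3f00001b7500001b5a, nat_lit 0], nat_lit 486, nat_lit 1, []⟩,
  ⟨[nat_lit 80, nat_lit 78], [], [nat_lit 0x201000001ff50000202b0000201600001ffb000020310000201300001ff80000202e, nat_lit 0], nat_lit 333, nat_lit 1, []⟩]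
theorem cc15 : (Nat.beq (lst ndF cl15 764) 0 && Nat.beq (764 + cl15.length) 841) = true := by
  decide +kernel
noncomputable def cl16 : List Nd := [
  ⟨[nat_lit 80, nat_lit 78], [], [nat_lit 0x1f2900001f0e00001f4400001f2600001f0b00001f4100001f2c00001f1100001f47, nat_lit 0], nat_lit 585, nat_lit 1, []⟩,
  ⟨[nat_lit 80, nat_lit 78], [], [nat_lit 0x1b4e00001b8400001b6900001b4b00001b8100001b6600001b4800001b7e00001b63, nat_lit 0], nat_lit 486, nat_lit 1, []⟩,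
  ⟨[nat_lit 78, nat_lit 75], [], [nat_lit 0x1d4c00001d3100001d6700001d4900001d2e00001d6400001d4f00001d3400001d6a, nat_lit 0], nat_lit 414, nat_lit 1, []⟩,
  ⟨[nat_lit 78, nat_lit 75], [], [nat_lit 0x21270000210c000020f10000212d00002112000020f70000212a0000210f000020f4, nat_lit 0], nat_lit 666, nat_lit 1, []⟩,
  ⟨[nat_lit 78, nat_lit 73], [], [nat_lit 0x1c6500001c4a00001c2f00001c6200001c4700001c2c00001c5f00001c4400001c29, nat_lit 0], nat_lit 486, nat_lit 1, []⟩,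
  ⟨[nat_lit 80, nat_lit 78], [], [nat_lit 0x1d3a00001d1f00001d5500001d3700001d1c00001d5200001d3d00001d2200001d58, nat_lit 0], nat_lit 414, nat_lit 1, []⟩,
  ⟨[nat_lit 80, nat_lit 78], [], [nat_lit 0x213000002115000020fa000021360000211b000021000000213300002118000020fd, nat_lit 0], nat_lit 666, nat_lit 1, []⟩,
  ⟨[nat_lit 80, nat_lit 78], [], [nat_lit 0x1c6e00001c5300001c3800001c6b00001c5000001c3500001c6800001c4d00001c32, nat_lit 0], nat_lit 486, nat_lit 1, []⟩,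
  ⟨[nat_lit 80, nat_lit 78], [], [nat_lit 0x1d4300001d2800001d5e00001d4000001d2500001d5b00001d4600001d2b00001d61, nat_lit 0], nat_lit 414, nat_lit 1, []⟩,
  ⟨[nat_lit 80, nat_lit 78], [], [nat_lit 0x211e00002103000020e80000212400002109000020ee0000212100002106000020eb, nat_lit 0], nat_lit 666, nat_lit 1, []⟩,
  ⟨[nat_lit 80, nat_lit 78], [], [nat_lit 0x1c7700001c5c00001c4100001c7400001c5900001c3e00001c7100001c5600001c3b, nat_lit 0], nat_lit 486, nat_lit 1, []⟩,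
  ⟨[nat_lit 74, nat_lit 73], [nat_lit 1215], [nat_lit 0x50700000506000005050000, nat_lit 0, nat_lit 0], nat_lit 27, nat_lit 1, []⟩,
  ⟨[nat_lit 73], [], [nat_lit 0x50a014d050920f10508029a050a20a00509019e05080249050a1de605091e18050801f8050a1f52050902490508019e050a029a05091ec30508014d050a21ed0509219c050800fc050a01e6050900f3050800a2050a00f3050901e605080051050a00000509000005080000, nat_lit 0], nat_lit 243, nat_lit 0, [(nat_lit 299, [nat_lit 1, nat_lit 3, nat_lit 27, nat_lit 6561])]⟩,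
  ⟨[nat_lit 75, nat_lit 73], [], [nat_lit 0, nat_lit 0], nat_lit 18, nat_lit 1, []⟩,
  ⟨[nat_lit 75, nat_lit 73], [], [nat_lit 0, nat_lit 0], nat_lit 18, nat_lit 1, []⟩,
  ⟨[nat_lit 78, nat_lit 73], [], [nat_lit 0, nat_lit 0], nat_lit 18, nat_lit 1, []⟩,
  ⟨[nat_lit 78, nat_lit 73], [], [nat_lit 0, nat_lit 0], nat_lit 18, nat_lit 1, []⟩,
  ⟨[nat_lit 80], [], [nat_lit 0x50d1b87050c1a94050b029a050d1a94050c1b87050b0249050d19a1050c19a1050b19a1050d3528050c3435050b019e050d3435050c3528050b014d050d3342050c3342050b3342050d01e6050c00f3050b1b3f050d00f3050c01e6050b1aee050d0000050c0000050b0000, nat_lit 0], nat_lit 414, nat_lit 0, [(nat_lit 299, [nat_lit 1, nat_lit 3, nat_lit 27, nat_lit 7785])]⟩,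
  ⟨[nat_lit 80, nat_lit 78], [], [nat_lit 0, nat_lit 0], nat_lit 18, nat_lit 1, []⟩,
  ⟨[nat_lit 80, nat_lit 78], [], [nat_lit 0, nat_lit 0], nat_lit 18, nat_lit 1, []⟩,
  ⟨[nat_lit 80], [], [nat_lit 0x5103528050f3435050e1b3f05103435050f3528050e1aee05103342050f3342050e334205101b87050f1a94050e019e05101a94050f1b87050e014d051019a1050f19a1050e19a1051001e6050f00f3050e34e0051000f3050f01e6050e348f05100000050f0000050e0000, nat_lit 0], nat_lit 666, nat_lit 0, [(nat_lit 299, [nat_lit 1, nat_lit 3, nat_lit 27, nat_lit 8309])]⟩,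
  ⟨[nat_lit 80, nat_lit 78], [], [nat_lit 0, nat_lit 0], nat_lit 18, nat_lit 1, []⟩,
  ⟨[nat_lit 80, nat_lit 78], [], [nat_lit 0, nat_lit 0], nat_lit 18, nat_lit 1, []⟩,
  ⟨[nat_lit 78, nat_lit 73], [], [nat_lit 0x1ab500001a9a00001ad000001ab200001a9700001acd00001aaf00001a9400001aca, nat_lit 0], nat_lit 243, nat_lit 1, []⟩,
  ⟨[nat_lit 78, nat_lit 75], [], [nat_lit 0x215a0000213f00002175000021570000213c0000217200002154000021390000216f, nat_lit 0], nat_lit 666, nat_lit 1, []⟩,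
  ⟨[nat_lit 78, nat_lit 75], [], [nat_lit 0x1cb600001c9b00001c8000001cb300001c9800001c7d00001cb000001c9500001c7a, nat_lit 0], nat_lit 585, nat_lit 1, []⟩,
  ⟨[nat_lit 80, nat_lit 78], [], [nat_lit 0x1abe00001aa300001ad900001abb00001aa000001ad600001ab800001a9d00001ad3, nat_lit 0], nat_lit 243, nat_lit 1, []⟩,
  ⟨[nat_lit 80, nat_lit 78], [], [nat_lit 0x2163000021480000217e00002160000021450000217b0000215d0000214200002178, nat_lit 0], nat_lit 666, nat_lit 1, []⟩,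
  ⟨[nat_lit 80, nat_lit 78], [], [nat_lit 0x1cbf00001ca400001c8900001cbc00001ca100001c8600001cb900001c9e00001c83, nat_lit 0], nat_lit 585, nat_lit 1, []⟩,
  ⟨[nat_lit 80, nat_lit 78], [], [nat_lit 0x1ac700001aac00001ae200001ac400001aa900001adf00001ac100001aa600001adc, nat_lit 0], nat_lit 243, nat_lit 1, []⟩,
  ⟨[nat_lit 80, nat_lit 78], [], [nat_lit 0x216c0000215100002187000021690000214e00002184000021660000214b00002181, nat_lit 0], nat_lit 666, nat_lit 1, []⟩,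
  ⟨[nat_lit 80, nat_lit 78], [], [nat_lit 0x1cc800001cad00001c9200001cc500001caa00001c8f00001cc200001ca700001c8c, nat_lit 0], nat_lit 585, nat_lit 1, []⟩,
  ⟨[nat_lit 78, nat_lit 73], [], [nat_lit 0x1b8d00001bc300001ba800001b8a00001bc000001ba500001b8700001bbd00001ba2, nat_lit 0], nat_lit 243, nat_lit 1, []⟩,
  ⟨[nat_lit 78, nat_lit 75], [], [nat_lit 0x1da900001d8e00001d7300001da600001d8b00001d7000001da300001d8800001d6d, nat_lit 0], nat_lit 585, nat_lit 1, []⟩,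
  ⟨[nat_lit 78, nat_lit 75], [], [nat_lit 0x1f8f00001f7400001f5900001f8c00001f7100001f5600001f8900001f6e00001f53, nat_lit 0], nat_lit 666, nat_lit 1, []⟩,
  ⟨[nat_lit 80, nat_lit 78], [], [nat_lit 0x1b9600001bcc00001bb100001b9300001bc900001bae00001b9000001bc600001bab, nat_lit 0], nat_lit 243, nat_lit 1, []⟩,
  ⟨[nat_lit 80, nat_lit 78], [], [nat_lit 0x1db200001d9700001d7c00001daf00001d9400001d7900001dac00001d9100001d76, nat_lit 0], nat_lit 585, nat_lit 1, []⟩,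
  ⟨[nat_lit 80, nat_lit 78], [], [nat_lit 0x1f9800001f7d00001f6200001f9500001f7a00001f5f00001f9200001f7700001f5c, nat_lit 0], nat_lit 666, nat_lit 1, []⟩,
  ⟨[nat_lit 80, nat_lit 78], [], [nat_lit 0x1b9f00001bd500001bba00001b9c00001bd200001bb700001b9900001bcf00001bb4, nat_lit 0], nat_lit 243, nat_lit 1, []⟩,
  ⟨[nat_lit 80, nat_lit 78], [], [nat_lit 0x1dbb00001da000001d8500001db800001d9d00001d8200001db500001d9a00001d7f, nat_lit 0], nat_lit 585, nat_lit 1, []⟩,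
  ⟨[nat_lit 80, nat_lit 78], [], [nat_lit 0x1fa100001f8600001f6b00001f9e00001f8300001f6800001f9b00001f8000001f65, nat_lit 0], nat_lit 666, nat_lit 1, []⟩,
  ⟨[nat_lit 78, nat_lit 74], [nat_lit 1230], [nat_lit 0x51300000512000005110000, nat_lit 0, nat_lit 0], nat_lit 27, nat_lit 1, []⟩,
  ⟨[nat_lit 78, nat_lit 73], [], [nat_lit 0, nat_lit 0], nat_lit 9, nat_lit 1, []⟩,
  ⟨[nat_lit 78, nat_lit 75], [], [nat_lit 0, nat_lit 0], nat_lit 9, nat_lit 1, []⟩,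
  ⟨[nat_lit 78, nat_lit 75], [], [nat_lit 0, nat_lit 0], nat_lit 9, nat_lit 1, []⟩,
  ⟨[nat_lit 78], [], [nat_lit 0x51619a10515352805141c7a05161b87051533420514361b05161a9405153435051420a005163435051519a105141f530516334205151a940514014d0516352805151b8705141aee051601e6051500f3051419a1051600f3051501e605143342051600000515000005140000, nat_lit 0], nat_lit 243, nat_lit 0, [(nat_lit 299, [nat_lit 1, nat_lit 3, nat_lit 27, nat_lit 6642])]⟩,
  ⟨[nat_lit 78, nat_lit 73], [], [nat_lit 0, nat_lit 0], nat_lit 18, nat_lit 1, []⟩,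
  ⟨[nat_lit 80, nat_lit 78], [], [nat_lit 0, nat_lit 0], nat_lit 9, nat_lit 1, []⟩,
  ⟨[nat_lit 80], [], [nat_lit 0x5193435051802d9051719a10519334205181c7a051738f4051935280518361b05171de6051919a1051838f405171c7a05191b87051805b20517334205191a9405181f53051720a0051901e6051819a105171f53051900f3051833420517361b051900000518000005170000, nat_lit 0], nat_lit 414, nat_lit 0, [(nat_lit 299, [nat_lit 1, nat_lit 3, nat_lit 27, nat_lit 7881])]⟩,
  ⟨[nat_lit 80, nat_lit 78], [], [nat_lit 0, nat_lit 0], nat_lit 18, nat_lit 1, []⟩,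
  ⟨[nat_lit 80, nat_lit 78], [], [nat_lit 0, nat_lit 0], nat_lit 9, nat_lit 1, []⟩,
  ⟨[nat_lit 80], [], [nat_lit 0x51c014d051b19a1051a1f53051c1aee051b1a94051a3342051c1c7a051b1b87051a1aee051c2046051b3528051a19a1051c1f53051b3342051a014d051c38f4051b3435051a1de6051c19a1051b00f3051a1c7a051c00f3051b01e6051a38f4051c0000051b0000051a0000, nat_lit 0], nat_lit 666, nat_lit 0, [(nat_lit 299, [nat_lit 1, nat_lit 3, nat_lit 27, nat_lit 8384])]⟩,
  ⟨[nat_lit 80, nat_lit 78], [], [nat_lit 0, nat_lit 0], nat_lit 18, nat_lit 1, []⟩,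
  ⟨[nat_lit 78, nat_lit 75], [], [nat_lit 0x1cd400001d0a00001cef00001cda00001d1000001cf500001cd700001d0d00001cf2, nat_lit 0], nat_lit 414, nat_lit 1, []⟩,
  ⟨[nat_lit 78, nat_lit 73], [], [nat_lit 0x1b2100001b0600001aeb00001b1e00001b0300001ae800001b1b00001b0000001ae5, nat_lit 0], nat_lit 486, nat_lit 1, []⟩,
  ⟨[nat_lit 78, nat_lit 75], [], [nat_lit 0x21d5000021ba0000219f000021d2000021b70000219c000021d8000021bd000021a2, nat_lit 0], nat_lit 666, nat_lit 1, []⟩,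
  ⟨[nat_lit 80, nat_lit 78], [], [nat_lit 0x1cdd00001d1300001cf800001ce300001d1900001cfe00001ce000001d1600001cfb, nat_lit 0], nat_lit 414, nat_lit 1, []⟩,
  ⟨[nat_lit 80, nat_lit 78], [], [nat_lit 0x1b2a00001b0f00001af400001b2700001b0c00001af100001b2400001b0900001aee, nat_lit 0], nat_lit 486, nat_lit 1, []⟩,
  ⟨[nat_lit 80, nat_lit 78], [], [nat_lit 0x21c3000021a80000218d000021c0000021a50000218a000021c6000021ab00002190, nat_lit 0], nat_lit 666, nat_lit 1, []⟩,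
  ⟨[nat_lit 80, nat_lit 78], [], [nat_lit 0x1ccb00001d0100001ce600001cd100001d0700001cec00001cce00001d0400001ce9, nat_lit 0], nat_lit 414, nat_lit 1, []⟩,
  ⟨[nat_lit 80, nat_lit 78], [], [nat_lit 0x1b3300001b1800001afd00001b3000001b1500001afa00001b2d00001b1200001af7, nat_lit 0], nat_lit 486, nat_lit 1, []⟩,
  ⟨[nat_lit 80, nat_lit 78], [], [nat_lit 0x21cc000021b100002196000021c9000021ae00002193000021cf000021b400002199, nat_lit 0], nat_lit 666, nat_lit 1, []⟩,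
  ⟨[nat_lit 78, nat_lit 75], [], [nat_lit 0x1fb900001fef00001fd400001fb600001fec00001fd100001fbc00001ff200001fd7, nat_lit 0], nat_lit 333, nat_lit 1, []⟩,
  ⟨[nat_lit 78, nat_lit 73], [], [nat_lit 0x1bf900001bde00001c1400001bf600001bdb00001c1100001bf300001bd800001c0e, nat_lit 0], nat_lit 486, nat_lit 1, []⟩,
  ⟨[nat_lit 78, nat_lit 75], [], [nat_lit 0x1dc700001dfd00001de200001dcd00001e0300001de800001dca00001e0000001de5, nat_lit 0], nat_lit 585, nat_lit 1, []⟩,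
  ⟨[nat_lit 80, nat_lit 78], [], [nat_lit 0x1fa700001fdd00001fc200001fa400001fda00001fbf00001faa00001fe000001fc5, nat_lit 0], nat_lit 333, nat_lit 1, []⟩,
  ⟨[nat_lit 80, nat_lit 78], [], [nat_lit 0x1c0200001be700001c1d00001bff00001be400001c1a00001bfc00001be100001c17, nat_lit 0], nat_lit 486, nat_lit 1, []⟩,
  ⟨[nat_lit 80, nat_lit 78], [], [nat_lit 0x1dd000001e0600001deb00001dd600001e0c00001df100001dd300001e0900001dee, nat_lit 0], nat_lit 585, nat_lit 1, []⟩,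
  ⟨[nat_lit 80, nat_lit 78], [], [nat_lit 0x1fb000001fe600001fcb00001fad00001fe300001fc800001fb300001fe900001fce, nat_lit 0], nat_lit 333, nat_lit 1, []⟩,
  ⟨[nat_lit 80, nat_lit 78], [], [nat_lit 0x1c0b00001bf000001c2600001c0800001bed00001c2300001c0500001bea00001c20, nat_lit 0], nat_lit 486, nat_lit 1, []⟩,
  ⟨[nat_lit 80, nat_lit 78], [], [nat_lit 0x1dbe00001df400001dd900001dc400001dfa00001ddf00001dc100001df700001ddc, nat_lit 0], nat_lit 585, nat_lit 1, []⟩,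
  ⟨[nat_lit 78, nat_lit 74], [nat_lit 1236], [nat_lit 0x51f0000051e0000051d0000, nat_lit 0, nat_lit 0], nat_lit 27, nat_lit 1, []⟩,
  ⟨[nat_lit 78, nat_lit 73], [], [nat_lit 0, nat_lit 0], nat_lit 9, nat_lit 1, []⟩,
  ⟨[nat_lit 78, nat_lit 75], [], [nat_lit 0, nat_lit 0], nat_lit 9, nat_lit 1, []⟩,
  ⟨[nat_lit 78, nat_lit 75], [], [nat_lit 0, nat_lit 0], nat_lit 9, nat_lit 1, []⟩,
  ⟨[nat_lit 78, nat_lit 73], [], [nat_lit 0, nat_lit 0], nat_lit 18, nat_lit 1, []⟩,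
  ⟨[nat_lit 78], [], [nat_lit 0x522334205211b87052038f405223528052119a105201f530522343505211a9405201e1805221a94052133420520019e052219a10521343505201c7a05221b870521352805201b3f052201e6052100f305203342052200f3052101e6052019a1052200000521000005200000, nat_lit 0], nat_lit 243, nat_lit 0, [(nat_lit 299, [nat_lit 1, nat_lit 3, nat_lit 27, nat_lit 6723])]⟩,
  ⟨[nat_lit 80, nat_lit 78], [], [nat_lit 0, nat_lit 0], nat_lit 9, nat_lit 1, []⟩,
  ⟨[nat_lit 80, nat_lit 78], [], [nat_lit 0, nat_lit 0], nat_lit 18, nat_lit 1, []⟩,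
  ⟨[nat_lit 80], [], [nat_lit 0x525014d052433420523361b052538f405243435052319a105251f5305243528052320f105251c7a05241b87052333420525029a052419a105231f530525361b05241a9405231e1805253342052400f3052338f4052519a1052401e605231c7a052500000524000005230000, nat_lit 0], nat_lit 414, nat_lit 0, [(nat_lit 299, [nat_lit 1, nat_lit 3, nat_lit 27, nat_lit 7941])]⟩]
theorem cc16 : (Nat.beq (lst ndF cl16 841) 0 && Nat.beq (841 + cl16.length) 921) = true := by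
  decide +kernel
noncomputable def cl17 : List Nd := [
  ⟨[nat_lit 80, nat_lit 78], [], [nat_lit 0, nat_lit 0], nat_lit 9, nat_lit 1, []⟩,
  ⟨[nat_lit 80, nat_lit 78], [], [nat_lit 0, nat_lit 0], nat_lit 18, nat_lit 1, []⟩,
  ⟨[nat_lit 80], [], [nat_lit 0x5281a9405271f5305263342052819a10527019e05261c7a05281b87052738f405261b3f0528334205271d6d0526019e052835280527361b052619a10528343505271c7a052620f1052801e6052700f30526361b052800f3052719a105261f53052800000527000005260000, nat_lit 0], nat_lit 666, nat_lit 0, [(nat_lit 299, [nat_lit 1, nat_lit 3, nat_lit 27, nat_lit 8459])]⟩,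
  ⟨[nat_lit 78, nat_lit 75], [], [nat_lit 0x21e40000221a000021ff000021ea0000222000002205000021e70000221d00002202, nat_lit 0], nat_lit 333, nat_lit 1, []⟩,
  ⟨[nat_lit 78, nat_lit 75], [], [nat_lit 0x1d4c00001d3100001d6700001d4900001d2e00001d6400001d4f00001d3400001d6a, nat_lit 0], nat_lit 585, nat_lit 1, []⟩,
  ⟨[nat_lit 78, nat_lit 73], [], [nat_lit 0x1b3c00001b7200001b5700001b3900001b6f00001b5400001b3600001b6c00001b51, nat_lit 0], nat_lit 486, nat_lit 1, []⟩,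
  ⟨[nat_lit 80, nat_lit 78], [], [nat_lit 0x21ed0000222300002208000021f3000022290000220e000021f0000022260000220b, nat_lit 0], nat_lit 333, nat_lit 1, []⟩,
  ⟨[nat_lit 80, nat_lit 78], [], [nat_lit 0x1d3a00001d1f00001d5500001d3700001d1c00001d5200001d3d00001d2200001d58, nat_lit 0], nat_lit 585, nat_lit 1, []⟩,
  ⟨[nat_lit 80, nat_lit 78], [], [nat_lit 0x1b4500001b7b00001b6000001b4200001b7800001b5d00001b3f00001b7500001b5a, nat_lit 0], nat_lit 486, nat_lit 1, []⟩,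
  ⟨[nat_lit 80, nat_lit 78], [], [nat_lit 0x21db00002211000021f6000021e100002217000021fc000021de00002214000021f9, nat_lit 0], nat_lit 333, nat_lit 1, []⟩,
  ⟨[nat_lit 80, nat_lit 78], [], [nat_lit 0x1d4300001d2800001d5e00001d4000001d2500001d5b00001d4600001d2b00001d61, nat_lit 0], nat_lit 585, nat_lit 1, []⟩,
  ⟨[nat_lit 80, nat_lit 78], [], [nat_lit 0x1b4e00001b8400001b6900001b4b00001b8100001b6600001b4800001b7e00001b63, nat_lit 0], nat_lit 486, nat_lit 1, []⟩,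
  ⟨[nat_lit 78, nat_lit 75], [], [nat_lit 0x1e3f00001e2400001e5a00001e3c00001e2100001e5700001e4200001e2700001e5d, nat_lit 0], nat_lit 414, nat_lit 1, []⟩,
  ⟨[nat_lit 78, nat_lit 75], [], [nat_lit 0x201900001ffe000020340000201f000020040000203a0000201c0000200100002037, nat_lit 0], nat_lit 666, nat_lit 1, []⟩,
  ⟨[nat_lit 78, nat_lit 73], [], [nat_lit 0x1c6500001c4a00001c2f00001c6200001c4700001c2c00001c5f00001c4400001c29, nat_lit 0], nat_lit 486, nat_lit 1, []⟩,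
  ⟨[nat_lit 80, nat_lit 78], [], [nat_lit 0x1e2d00001e1200001e4800001e2a00001e0f00001e4500001e3000001e1500001e4b, nat_lit 0], nat_lit 414, nat_lit 1, []⟩,
  ⟨[nat_lit 80, nat_lit 78], [], [nat_lit 0x2022000020070000203d000020280000200d00002043000020250000200a00002040, nat_lit 0], nat_lit 666, nat_lit 1, []⟩,
  ⟨[nat_lit 80, nat_lit 78], [], [nat_lit 0x1c6e00001c5300001c3800001c6b00001c5000001c3500001c6800001c4d00001c32, nat_lit 0], nat_lit 486, nat_lit 1, []⟩,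
  ⟨[nat_lit 80, nat_lit 78], [], [nat_lit 0x1e3600001e1b00001e5100001e3300001e1800001e4e00001e3900001e1e00001e54, nat_lit 0], nat_lit 414, nat_lit 1, []⟩,
  ⟨[nat_lit 80, nat_lit 78], [], [nat_lit 0x201000001ff50000202b0000201600001ffb000020310000201300001ff80000202e, nat_lit 0], nat_lit 666, nat_lit 1, []⟩,
  ⟨[nat_lit 80, nat_lit 78], [], [nat_lit 0x1c7700001c5c00001c4100001c7400001c5900001c3e00001c7100001c5600001c3b, nat_lit 0], nat_lit 486, nat_lit 1, []⟩,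
  ⟨[nat_lit 78, nat_lit 73], [], [nat_lit 0x19dd000019c2000019a7000019da000019bf000019a4000019d7000019bc000019a1, nat_lit 0], nat_lit 486, nat_lit 1, []⟩,
  ⟨[nat_lit 78, nat_lit 75], [], [nat_lit 0x1ccb00001d0100001ce600001cd100001d0700001cec00001cce00001d0400001ce9, nat_lit 0], nat_lit 414, nat_lit 1, []⟩,
  ⟨[nat_lit 78, nat_lit 75], [], [nat_lit 0x201000001ff50000202b0000201600001ffb000020310000201300001ff80000202e, nat_lit 0], nat_lit 666, nat_lit 1, []⟩,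
  ⟨[nat_lit 80, nat_lit 78], [], [nat_lit 0x19e6000019cb000019b0000019e3000019c8000019ad000019e0000019c5000019aa, nat_lit 0], nat_lit 486, nat_lit 1, []⟩,
  ⟨[nat_lit 80, nat_lit 78], [], [nat_lit 0x1cd400001d0a00001cef00001cda00001d1000001cf500001cd700001d0d00001cf2, nat_lit 0], nat_lit 414, nat_lit 1, []⟩,
  ⟨[nat_lit 80, nat_lit 78], [], [nat_lit 0x201900001ffe000020340000201f000020040000203a0000201c0000200100002037, nat_lit 0], nat_lit 666, nat_lit 1, []⟩,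
  ⟨[nat_lit 80, nat_lit 78], [], [nat_lit 0x19ef000019d4000019b9000019ec000019d1000019b6000019e9000019ce000019b3, nat_lit 0], nat_lit 486, nat_lit 1, []⟩,
  ⟨[nat_lit 80, nat_lit 78], [], [nat_lit 0x1cdd00001d1300001cf800001ce300001d1900001cfe00001ce000001d1600001cfb, nat_lit 0], nat_lit 414, nat_lit 1, []⟩,
  ⟨[nat_lit 80, nat_lit 78], [], [nat_lit 0x2022000020070000203d000020280000200d00002043000020250000200a00002040, nat_lit 0], nat_lit 666, nat_lit 1, []⟩,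
  ⟨[nat_lit 78, nat_lit 74], [nat_lit 813], [nat_lit 0x52b0000052a000005290000, nat_lit 0, nat_lit 0], nat_lit 27, nat_lit 1, []⟩,
  ⟨[nat_lit 78, nat_lit 75], [], [nat_lit 0, nat_lit 0], nat_lit 18, nat_lit 1, []⟩,
  ⟨[nat_lit 78, nat_lit 75], [], [nat_lit 0, nat_lit 0], nat_lit 18, nat_lit 1, []⟩,
  ⟨[nat_lit 78, nat_lit 73], [], [nat_lit 0, nat_lit 0], nat_lit 9, nat_lit 1, []⟩,
  ⟨[nat_lit 78, nat_lit 73], [], [nat_lit 0, nat_lit 0], nat_lit 18, nat_lit 1, []⟩,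
  ⟨[nat_lit 80], [], [nat_lit 0x52e19a1052d1b87052c1c7a052e1b87052d19a1052c1f53052e1a94052d1a94052c19a1052e3435052d3342052c019e052e3342052d3435052c014d052e3528052d3528052c3342052e01e6052d00f3052c1b3f052e00f3052d01e6052c1aee052e0000052d0000052c0000, nat_lit 0], nat_lit 9, nat_lit 0, [(nat_lit 299, [nat_lit 1, nat_lit 3, nat_lit 27, nat_lit 810])]⟩,
  ⟨[nat_lit 80, nat_lit 78], [], [nat_lit 0, nat_lit 0], nat_lit 9, nat_lit 1, []⟩,
  ⟨[nat_lit 80, nat_lit 78], [], [nat_lit 0, nat_lit 0], nat_lit 18, nat_lit 1, []⟩,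
  ⟨[nat_lit 80], [], [nat_lit 0x531343505303342052f361b0531334205303435052f38f40531352805303528052f3342053119a105301b87052f1c7a05311b87053019a1052f1f5305311a9405301a94052f19a1053101e6053000f3052f02d9053100f3053001e6052f05b20531000005300000052f0000, nat_lit 0], nat_lit 9, nat_lit 0, [(nat_lit 299, [nat_lit 1, nat_lit 3, nat_lit 27, nat_lit 810])]⟩,
  ⟨[nat_lit 80, nat_lit 78], [], [nat_lit 0, nat_lit 0], nat_lit 9, nat_lit 1, []⟩,
  ⟨[nat_lit 80, nat_lit 78], [], [nat_lit 0, nat_lit 0], nat_lit 18, nat_lit 1, []⟩,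
  ⟨[nat_lit 78, nat_lit 73], [], [nat_lit 0x1b8d00001bc300001ba800001b8a00001bc000001ba500001b8700001bbd00001ba2, nat_lit 0], nat_lit 486, nat_lit 1, []⟩,
  ⟨[nat_lit 78, nat_lit 75], [], [nat_lit 0x21db00002211000021f6000021e100002217000021fc000021de00002214000021f9, nat_lit 0], nat_lit 333, nat_lit 1, []⟩,
  ⟨[nat_lit 80, nat_lit 78], [], [nat_lit 0x21e40000221a000021ff000021ea0000222000002205000021e70000221d00002202, nat_lit 0], nat_lit 333, nat_lit 1, []⟩,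
  ⟨[nat_lit 78, nat_lit 75], [], [nat_lit 0x1f2900001f0e00001f4400001f2600001f0b00001f4100001f2c00001f1100001f47, nat_lit 0], nat_lit 585, nat_lit 1, []⟩,
  ⟨[nat_lit 78, nat_lit 73], [], [nat_lit 0x1bf900001bde00001c1400001bf600001bdb00001c1100001bf300001bd800001c0e, nat_lit 0], nat_lit 243, nat_lit 1, []⟩,
  ⟨[nat_lit 80, nat_lit 78], [], [nat_lit 0x1f3200001f1700001f4d00001f2f00001f1400001f4a00001f3500001f1a00001f50, nat_lit 0], nat_lit 585, nat_lit 1, []⟩,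
  ⟨[nat_lit 78, nat_lit 75], [], [nat_lit 0x21cc000021b100002196000021c9000021ae00002193000021cf000021b400002199, nat_lit 0], nat_lit 666, nat_lit 1, []⟩,
  ⟨[nat_lit 78, nat_lit 73], [], [nat_lit 0x1c6500001c4a00001c2f00001c6200001c4700001c2c00001c5f00001c4400001c29, nat_lit 0], nat_lit 486, nat_lit 1, []⟩,
  ⟨[nat_lit 80, nat_lit 78], [], [nat_lit 0x21d5000021ba0000219f000021d2000021b70000219c000021d8000021bd000021a2, nat_lit 0], nat_lit 666, nat_lit 1, []⟩,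
  ⟨[nat_lit 78, nat_lit 73], [], [nat_lit 0x19dd000019c2000019a7000019da000019bf000019a4000019d7000019bc000019a1, nat_lit 0], nat_lit 486, nat_lit 1, []⟩,
  ⟨[nat_lit 78, nat_lit 75], [], [nat_lit 0x1fa700001fdd00001fc200001fa400001fda00001fbf00001faa00001fe000001fc5, nat_lit 0], nat_lit 666, nat_lit 1, []⟩,
  ⟨[nat_lit 78, nat_lit 75], [], [nat_lit 0x1d3a00001d1f00001d5500001d3700001d1c00001d5200001d3d00001d2200001d58, nat_lit 0], nat_lit 414, nat_lit 1, []⟩,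
  ⟨[nat_lit 80, nat_lit 78], [], [nat_lit 0x19e6000019cb000019b0000019e3000019c8000019ad000019e0000019c5000019aa, nat_lit 0], nat_lit 486, nat_lit 1, []⟩,
  ⟨[nat_lit 80, nat_lit 78], [], [nat_lit 0x1fb000001fe600001fcb00001fad00001fe300001fc800001fb300001fe900001fce, nat_lit 0], nat_lit 666, nat_lit 1, []⟩,
  ⟨[nat_lit 80, nat_lit 78], [], [nat_lit 0x1d4300001d2800001d5e00001d4000001d2500001d5b00001d4600001d2b00001d61, nat_lit 0], nat_lit 414, nat_lit 1, []⟩,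
  ⟨[nat_lit 80, nat_lit 78], [], [nat_lit 0x19ef000019d4000019b9000019ec000019d1000019b6000019e9000019ce000019b3, nat_lit 0], nat_lit 486, nat_lit 1, []⟩,
  ⟨[nat_lit 80, nat_lit 78], [], [nat_lit 0x1fb900001fef00001fd400001fb600001fec00001fd100001fbc00001ff200001fd7, nat_lit 0], nat_lit 666, nat_lit 1, []⟩,
  ⟨[nat_lit 80, nat_lit 78], [], [nat_lit 0x1d4c00001d3100001d6700001d4900001d2e00001d6400001d4f00001d3400001d6a, nat_lit 0], nat_lit 414, nat_lit 1, []⟩,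
  ⟨[nat_lit 78, nat_lit 73], [], [nat_lit 0x1ab500001a9a00001ad000001ab200001a9700001acd00001aaf00001a9400001aca, nat_lit 0], nat_lit 486, nat_lit 1, []⟩,
  ⟨[nat_lit 78, nat_lit 75], [], [nat_lit 0x1e2d00001e1200001e4800001e2a00001e0f00001e4500001e3000001e1500001e4b, nat_lit 0], nat_lit 585, nat_lit 1, []⟩,
  ⟨[nat_lit 80, nat_lit 78], [], [nat_lit 0x1abe00001aa300001ad900001abb00001aa000001ad600001ab800001a9d00001ad3, nat_lit 0], nat_lit 486, nat_lit 1, []⟩,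
  ⟨[nat_lit 78, nat_lit 74], [nat_lit 897], [nat_lit 0x53400000533000005320000, nat_lit 0, nat_lit 0], nat_lit 27, nat_lit 1, []⟩,
  ⟨[nat_lit 78, nat_lit 75], [], [nat_lit 0, nat_lit 0], nat_lit 18, nat_lit 1, []⟩,
  ⟨[nat_lit 78, nat_lit 75], [], [nat_lit 0, nat_lit 0], nat_lit 18, nat_lit 1, []⟩,
  ⟨[nat_lit 78, nat_lit 73], [], [nat_lit 0, nat_lit 0], nat_lit 18, nat_lit 1, []⟩,
  ⟨[nat_lit 78, nat_lit 73], [], [nat_lit 0, nat_lit 0], nat_lit 9, nat_lit 1, []⟩,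
  ⟨[nat_lit 80], [], [nat_lit 0x5371a94053619a105351f53053719a105361a9405351c7a05371b8705361b87053519a105373342053635280535019e05373528053633420535014d053734350536343505353342053701e6053600f305351b3f053700f3053601e605351aee053700000536000005350000, nat_lit 0], nat_lit 9, nat_lit 0, [(nat_lit 299, [nat_lit 1, nat_lit 3, nat_lit 27, nat_lit 891])]⟩,
  ⟨[nat_lit 80, nat_lit 78], [], [nat_lit 0, nat_lit 0], nat_lit 18, nat_lit 1, []⟩,
  ⟨[nat_lit 80, nat_lit 78], [], [nat_lit 0, nat_lit 0], nat_lit 9, nat_lit 1, []⟩,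
  ⟨[nat_lit 80], [], [nat_lit 0x53a334205393528053838f4053a3528053933420538361b053a34350539343505383342053a1a94053919a105381f53053a19a105391a9405381c7a053a1b8705391b87053819a1053a01e6053900f3053805b2053a00f3053901e6053802d9053a00000539000005380000, nat_lit 0], nat_lit 9, nat_lit 0, [(nat_lit 299, [nat_lit 1, nat_lit 3, nat_lit 27, nat_lit 891])]⟩,
  ⟨[nat_lit 80, nat_lit 78], [], [nat_lit 0, nat_lit 0], nat_lit 18, nat_lit 1, []⟩,
  ⟨[nat_lit 80, nat_lit 78], [], [nat_lit 0, nat_lit 0], nat_lit 9, nat_lit 1, []⟩,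
  ⟨[nat_lit 78, nat_lit 75], [], [nat_lit 0x213000002115000020fa000021360000211b000021000000213300002118000020fd, nat_lit 0], nat_lit 666, nat_lit 1, []⟩,
  ⟨[nat_lit 78, nat_lit 73], [], [nat_lit 0x1b2100001b0600001aeb00001b1e00001b0300001ae800001b1b00001b0000001ae5, nat_lit 0], nat_lit 486, nat_lit 1, []⟩,
  ⟨[nat_lit 80, nat_lit 78], [], [nat_lit 0x1b2a00001b0f00001af400001b2700001b0c00001af100001b2400001b0900001aee, nat_lit 0], nat_lit 486, nat_lit 1, []⟩,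
  ⟨[nat_lit 78, nat_lit 75], [], [nat_lit 0x1dd000001e0600001deb00001dd600001e0c00001df100001dd300001e0900001dee, nat_lit 0], nat_lit 585, nat_lit 1, []⟩,
  ⟨[nat_lit 78, nat_lit 73], [], [nat_lit 0x1b3c00001b7200001b5700001b3900001b6f00001b5400001b3600001b6c00001b51, nat_lit 0], nat_lit 243, nat_lit 1, []⟩,
  ⟨[nat_lit 80, nat_lit 78], [], [nat_lit 0x1b4500001b7b00001b6000001b4200001b7800001b5d00001b3f00001b7500001b5a, nat_lit 0], nat_lit 243, nat_lit 1, []⟩,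
  ⟨[nat_lit 59, nat_lit 57], [nat_lit 6561], [nat_lit 0], nat_lit 3, nat_lit 1, []⟩,
  ⟨[nat_lit 77, nat_lit 59], [], [nat_lit 0], nat_lit 3, nat_lit 1, []⟩,
  ⟨[nat_lit 77, nat_lit 59], [], [nat_lit 0], nat_lit 3, nat_lit 1, []⟩,
  ⟨[nat_lit 80, nat_lit 59], [nat_lit 6570], [nat_lit 0], nat_lit 3, nat_lit 1, []⟩,
  ⟨[nat_lit 80, nat_lit 59], [], [nat_lit 0], nat_lit 3, nat_lit 1, []⟩,
  ⟨[nat_lit 80, nat_lit 59], [], [nat_lit 0], nat_lit 3, nat_lit 1, []⟩,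
  ⟨[nat_lit 80, nat_lit 59], [nat_lit 6579], [nat_lit 0], nat_lit 3, nat_lit 1, []⟩,
  ⟨[nat_lit 80, nat_lit 59], [], [nat_lit 0], nat_lit 3, nat_lit 1, []⟩,
  ⟨[nat_lit 80, nat_lit 59], [], [nat_lit 0], nat_lit 3, nat_lit 1, []⟩,
  ⟨[nat_lit 78, nat_lit 59], [nat_lit 6858], [nat_lit 0], nat_lit 3, nat_lit 1, []⟩,
  ⟨[nat_lit 78, nat_lit 77], [], [nat_lit 0], nat_lit 3, nat_lit 1, []⟩,
  ⟨[nat_lit 78, nat_lit 77], [], [nat_lit 0], nat_lit 3, nat_lit 1, []⟩,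
  ⟨[nat_lit 80, nat_lit 78], [nat_lit 6867], [nat_lit 0], nat_lit 3, nat_lit 1, []⟩,
  ⟨[nat_lit 80, nat_lit 78], [], [nat_lit 0], nat_lit 3, nat_lit 1, []⟩,
  ⟨[nat_lit 80, nat_lit 78], [], [nat_lit 0], nat_lit 3, nat_lit 1, []⟩,
  ⟨[nat_lit 80, nat_lit 78], [nat_lit 6876], [nat_lit 0], nat_lit 3, nat_lit 1, []⟩,
  ⟨[nat_lit 80, nat_lit 78], [], [nat_lit 0], nat_lit 3, nat_lit 1, []⟩,
  ⟨[nat_lit 80, nat_lit 78], [], [nat_lit 0], nat_lit 3, nat_lit 1, []⟩,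
  ⟨[nat_lit 78, nat_lit 75], [nat_lit 8289], [nat_lit 0], nat_lit 3, nat_lit 1, []⟩,
  ⟨[nat_lit 78, nat_lit 77], [], [nat_lit 0], nat_lit 3, nat_lit 1, []⟩,
  ⟨[nat_lit 78, nat_lit 77], [], [nat_lit 0], nat_lit 3, nat_lit 1, []⟩,
  ⟨[nat_lit 80, nat_lit 78], [nat_lit 8298], [nat_lit 0], nat_lit 3, nat_lit 1, []⟩,
  ⟨[nat_lit 80, nat_lit 78], [], [nat_lit 0], nat_lit 3, nat_lit 1, []⟩,
  ⟨[nat_lit 80, nat_lit 78], [], [nat_lit 0], nat_lit 3, nat_lit 1, []⟩,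
  ⟨[nat_lit 80, nat_lit 78], [nat_lit 8307], [nat_lit 0], nat_lit 3, nat_lit 1, []⟩,
  ⟨[nat_lit 80, nat_lit 78], [], [nat_lit 0], nat_lit 3, nat_lit 1, []⟩,
  ⟨[nat_lit 80, nat_lit 78], [], [nat_lit 0], nat_lit 3, nat_lit 1, []⟩,
  ⟨[nat_lit 78, nat_lit 75], [nat_lit 7533], [nat_lit 0], nat_lit 3, nat_lit 1, []⟩,
  ⟨[nat_lit 78, nat_lit 77], [], [nat_lit 0], nat_lit 3, nat_lit 1, []⟩,
  ⟨[nat_lit 78, nat_lit 77], [], [nat_lit 0], nat_lit 3, nat_lit 1, []⟩,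
  ⟨[nat_lit 80, nat_lit 78], [nat_lit 7542], [nat_lit 0], nat_lit 3, nat_lit 1, []⟩,
  ⟨[nat_lit 80, nat_lit 78], [], [nat_lit 0], nat_lit 3, nat_lit 1, []⟩,
  ⟨[nat_lit 80, nat_lit 78], [], [nat_lit 0], nat_lit 3, nat_lit 1, []⟩,
  ⟨[nat_lit 80, nat_lit 78], [nat_lit 7551], [nat_lit 0], nat_lit 3, nat_lit 1, []⟩,
  ⟨[nat_lit 80, nat_lit 78], [], [nat_lit 0], nat_lit 3, nat_lit 1, []⟩,
  ⟨[nat_lit 80, nat_lit 78], [], [nat_lit 0], nat_lit 3, nat_lit 1, []⟩,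
  ⟨[nat_lit 78, nat_lit 59], [nat_lit 7074], [nat_lit 0], nat_lit 3, nat_lit 1, []⟩,
  ⟨[nat_lit 78, nat_lit 77], [], [nat_lit 0], nat_lit 3, nat_lit 1, []⟩,
  ⟨[nat_lit 78, nat_lit 77], [], [nat_lit 0], nat_lit 3, nat_lit 1, []⟩,
  ⟨[nat_lit 80, nat_lit 78], [nat_lit 7083], [nat_lit 0], nat_lit 3, nat_lit 1, []⟩,
  ⟨[nat_lit 80, nat_lit 78], [], [nat_lit 0], nat_lit 3, nat_lit 1, []⟩]
theorem cc17 : (Nat.beq (lst ndF cl17 921) 0 && Nat.beq (921 + cl17.length) 1041) = true := by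
  decide +kernel
noncomputable def cl18 : List Nd := [
  ⟨[nat_lit 80, nat_lit 78], [], [nat_lit 0], nat_lit 3, nat_lit 1, []⟩,
  ⟨[nat_lit 80, nat_lit 78], [nat_lit 7092], [nat_lit 0], nat_lit 3, nat_lit 1, []⟩,
  ⟨[nat_lit 80, nat_lit 78], [], [nat_lit 0], nat_lit 3, nat_lit 1, []⟩,
  ⟨[nat_lit 80, nat_lit 78], [], [nat_lit 0], nat_lit 3, nat_lit 1, []⟩,
  ⟨[nat_lit 78, nat_lit 75], [nat_lit 8559], [nat_lit 0], nat_lit 3, nat_lit 1, []⟩,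
  ⟨[nat_lit 78, nat_lit 77], [], [nat_lit 0], nat_lit 3, nat_lit 1, []⟩,
  ⟨[nat_lit 78, nat_lit 77], [], [nat_lit 0], nat_lit 3, nat_lit 1, []⟩,
  ⟨[nat_lit 80, nat_lit 78], [nat_lit 8568], [nat_lit 0], nat_lit 3, nat_lit 1, []⟩,
  ⟨[nat_lit 80, nat_lit 78], [], [nat_lit 0], nat_lit 3, nat_lit 1, []⟩,
  ⟨[nat_lit 80, nat_lit 78], [], [nat_lit 0], nat_lit 3, nat_lit 1, []⟩,
  ⟨[nat_lit 80, nat_lit 78], [nat_lit 8577], [nat_lit 0], nat_lit 3, nat_lit 1, []⟩,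
  ⟨[nat_lit 80, nat_lit 78], [], [nat_lit 0], nat_lit 3, nat_lit 1, []⟩,
  ⟨[nat_lit 80, nat_lit 78], [], [nat_lit 0], nat_lit 3, nat_lit 1, []⟩,
  ⟨[nat_lit 78, nat_lit 75], [nat_lit 7776], [nat_lit 0], nat_lit 3, nat_lit 1, []⟩,
  ⟨[nat_lit 78, nat_lit 77], [], [nat_lit 0], nat_lit 3, nat_lit 1, []⟩,
  ⟨[nat_lit 78, nat_lit 77], [], [nat_lit 0], nat_lit 3, nat_lit 1, []⟩,
  ⟨[nat_lit 80, nat_lit 78], [nat_lit 7785], [nat_lit 0], nat_lit 3, nat_lit 1, []⟩,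
  ⟨[nat_lit 80, nat_lit 78], [], [nat_lit 0], nat_lit 3, nat_lit 1, []⟩,
  ⟨[nat_lit 80, nat_lit 78], [], [nat_lit 0], nat_lit 3, nat_lit 1, []⟩,
  ⟨[nat_lit 80, nat_lit 78], [nat_lit 7794], [nat_lit 0], nat_lit 3, nat_lit 1, []⟩,
  ⟨[nat_lit 80, nat_lit 78], [], [nat_lit 0], nat_lit 3, nat_lit 1, []⟩,
  ⟨[nat_lit 80, nat_lit 78], [], [nat_lit 0], nat_lit 3, nat_lit 1, []⟩,
  ⟨[nat_lit 78, nat_lit 59], [nat_lit 6669], [nat_lit 0], nat_lit 3, nat_lit 1, []⟩,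
  ⟨[nat_lit 78, nat_lit 59], [], [nat_lit 0], nat_lit 3, nat_lit 1, []⟩,
  ⟨[nat_lit 78, nat_lit 59], [], [nat_lit 0], nat_lit 3, nat_lit 1, []⟩,
  ⟨[nat_lit 80, nat_lit 59], [nat_lit 6678], [nat_lit 0], nat_lit 3, nat_lit 1, []⟩,
  ⟨[nat_lit 80, nat_lit 59], [], [nat_lit 0], nat_lit 3, nat_lit 1, []⟩,
  ⟨[nat_lit 80, nat_lit 59], [], [nat_lit 0], nat_lit 3, nat_lit 1, []⟩,
  ⟨[nat_lit 80, nat_lit 59], [nat_lit 6687], [nat_lit 0], nat_lit 3, nat_lit 1, []⟩,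
  ⟨[nat_lit 80, nat_lit 59], [], [nat_lit 0], nat_lit 3, nat_lit 1, []⟩,
  ⟨[nat_lit 80, nat_lit 59], [], [nat_lit 0], nat_lit 3, nat_lit 1, []⟩,
  ⟨[nat_lit 78, nat_lit 59], [nat_lit 6777], [nat_lit 0], nat_lit 3, nat_lit 1, []⟩,
  ⟨[nat_lit 78, nat_lit 59], [], [nat_lit 0], nat_lit 3, nat_lit 1, []⟩,
  ⟨[nat_lit 78, nat_lit 59], [], [nat_lit 0], nat_lit 3, nat_lit 1, []⟩,
  ⟨[nat_lit 80, nat_lit 59], [nat_lit 6786], [nat_lit 0], nat_lit 3, nat_lit 1, []⟩,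
  ⟨[nat_lit 80, nat_lit 59], [], [nat_lit 0], nat_lit 3, nat_lit 1, []⟩,
  ⟨[nat_lit 80, nat_lit 59], [], [nat_lit 0], nat_lit 3, nat_lit 1, []⟩,
  ⟨[nat_lit 80, nat_lit 59], [nat_lit 6795], [nat_lit 0], nat_lit 3, nat_lit 1, []⟩,
  ⟨[nat_lit 80, nat_lit 59], [], [nat_lit 0], nat_lit 3, nat_lit 1, []⟩,
  ⟨[nat_lit 80, nat_lit 59], [], [nat_lit 0], nat_lit 3, nat_lit 1, []⟩,
  ⟨[nat_lit 79, nat_lit 78], [nat_lit 729], [nat_lit 0, nat_lit 0], nat_lit 18, nat_lit 0, [(nat_lit 1, [nat_lit 0x2d9000000000000000000000001])]⟩,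
  ⟨[nat_lit 79, nat_lit 78], [nat_lit 729], [nat_lit 0, nat_lit 0], nat_lit 18, nat_lit 0, [(nat_lit 1, [nat_lit 0x2d9000000000000000000000001])]⟩,
  ⟨[nat_lit 80, nat_lit 79], [], [nat_lit 0x53b1cb1053b1f6f053b19a1053b3652053b309a053b3342053b4780053b4a3b053b0000, nat_lit 0], nat_lit 9, nat_lit 0, [(nat_lit 299, [nat_lit 1, nat_lit 3, nat_lit 729, nat_lit 2187])]⟩,
  ⟨[nat_lit 80, nat_lit 79], [nat_lit 729], [nat_lit 0, nat_lit 0], nat_lit 18, nat_lit 0, [(nat_lit 1, [nat_lit 0x2d9000000000000000000000001])]⟩,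
  ⟨[nat_lit 80, nat_lit 79], [nat_lit 729], [nat_lit 0, nat_lit 0], nat_lit 18, nat_lit 0, [(nat_lit 1, [nat_lit 0x2d9000000000000000000000001])]⟩,
  ⟨[nat_lit 80, nat_lit 79], [], [nat_lit 0x53c143e053c16f9053c3342053c4780053c4a3b053c19a1053c2551053c309a053c0000, nat_lit 0], nat_lit 9, nat_lit 0, [(nat_lit 299, [nat_lit 1, nat_lit 3, nat_lit 729, nat_lit 2187])]⟩,
  ⟨[nat_lit 80, nat_lit 79], [nat_lit 729], [nat_lit 0, nat_lit 0], nat_lit 18, nat_lit 0, [(nat_lit 1, [nat_lit 0x2d9000000000000000000000001])]⟩,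
  ⟨[nat_lit 80, nat_lit 79], [nat_lit 729], [nat_lit 0, nat_lit 0], nat_lit 18, nat_lit 0, [(nat_lit 1, [nat_lit 0x2d9000000000000000000000001])]⟩,
  ⟨[nat_lit 79, nat_lit 73], [], [nat_lit 0x53d309a053d1128053d0012053d0894053d111f053d0009053d088b053d1116053d0000, nat_lit 0], nat_lit 9, nat_lit 0, [(nat_lit 1, [nat_lit 1]), (nat_lit 10, [nat_lit 0x2d9000000000000000000030001])]⟩,
  ⟨[nat_lit 79, nat_lit 78], [], [nat_lit 0x53e088b053e1cab053e0012053e089d053e1116053e225d053e309a053e1128053e0000, nat_lit 0], nat_lit 9, nat_lit 0, [(nat_lit 1, [nat_lit 1]), (nat_lit 10, [nat_lit 0x2d9000000000000000000030001])]⟩,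
  ⟨[nat_lit 79, nat_lit 78], [], [nat_lit 0x53f3943053f1116053f0012053f088b053f1128053f4780053f089d053f1f6f053f0000, nat_lit 0], nat_lit 9, nat_lit 0, [(nat_lit 1, [nat_lit 1]), (nat_lit 10, [nat_lit 0x2d9000000000000000000030001])]⟩,
  ⟨[nat_lit 80, nat_lit 79], [], [nat_lit 0x540222c05402ab7054019a105403bcd05404458054033420540088b0540111605400000, nat_lit 0], nat_lit 9, nat_lit 0, [(nat_lit 1, [nat_lit 1]), (nat_lit 10, [nat_lit 0x2d9000000000000000000030001])]⟩,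
  ⟨[nat_lit 80, nat_lit 79], [], [nat_lit 0x541088b05414458054119a10541222c054111160541334205413bcd05412ab705410000, nat_lit 0], nat_lit 9, nat_lit 0, [(nat_lit 1, [nat_lit 1]), (nat_lit 10, [nat_lit 0x2d9000000000000000000030001])]⟩,
  ⟨[nat_lit 80, nat_lit 79], [], [nat_lit 0x5423bcd05421116054219a10542088b05422ab7054233420542222c0542445805420000, nat_lit 0], nat_lit 9, nat_lit 0, [(nat_lit 1, [nat_lit 1]), (nat_lit 10, [nat_lit 0x2d9000000000000000000030001])]⟩,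
  ⟨[nat_lit 80, nat_lit 79], [], [nat_lit 0x5433bcd05434458054333420543222c05432ab7054319a10543088b0543111605430000, nat_lit 0], nat_lit 9, nat_lit 0, [(nat_lit 1, [nat_lit 1]), (nat_lit 10, [nat_lit 0x2d9000000000000000000030001])]⟩,
  ⟨[nat_lit 80, nat_lit 79], [], [nat_lit 0x544088b05442ab70544334205443bcd05441116054419a10544222c0544445805440000, nat_lit 0], nat_lit 9, nat_lit 0, [(nat_lit 1, [nat_lit 1]), (nat_lit 10, [nat_lit 0x2d9000000000000000000030001])]⟩,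
  ⟨[nat_lit 80, nat_lit 79], [], [nat_lit 0x545222c05451116054533420545088b05454458054519a105453bcd05452ab705450000, nat_lit 0], nat_lit 9, nat_lit 0, [(nat_lit 1, [nat_lit 1]), (nat_lit 10, [nat_lit 0x2d9000000000000000000030001])]⟩,
  ⟨[nat_lit 79, nat_lit 73], [], [nat_lit 0x54611280546089d054600120546111f054630b005460009054611160546088b05460000, nat_lit 0], nat_lit 9, nat_lit 0, [(nat_lit 1, [nat_lit 1]), (nat_lit 10, [nat_lit 0x2d9000000000000000000030001])]⟩,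
  ⟨[nat_lit 79, nat_lit 78], [], [nat_lit 0x54739430547088b05470012054711160547089d05472551054711280547478005470000, nat_lit 0], nat_lit 9, nat_lit 0, [(nat_lit 1, [nat_lit 1]), (nat_lit 10, [nat_lit 0x2d9000000000000000000030001])]⟩,
  ⟨[nat_lit 79, nat_lit 78], [], [nat_lit 0x548111605481cab05480012054811280548088b0548309a05481cb10548089d05480000, nat_lit 0], nat_lit 9, nat_lit 0, [(nat_lit 1, [nat_lit 1]), (nat_lit 10, [nat_lit 0x2d9000000000000000000030001])]⟩,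
  ⟨[nat_lit 80, nat_lit 79], [], [nat_lit 0x5492ab70549222c054919a10549445805493bcd05493342054911160549088b05490000, nat_lit 0], nat_lit 9, nat_lit 0, [(nat_lit 1, [nat_lit 1]), (nat_lit 10, [nat_lit 0x2d9000000000000000000030001])]⟩,
  ⟨[nat_lit 80, nat_lit 79], [], [nat_lit 0x54a4458054a088b054a19a1054a1116054a222c054a3342054a2ab7054a3bcd054a0000, nat_lit 0], nat_lit 9, nat_lit 0, [(nat_lit 1, [nat_lit 1]), (nat_lit 10, [nat_lit 0x2d9000000000000000000030001])]⟩,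
  ⟨[nat_lit 80, nat_lit 79], [], [nat_lit 0x54b1116054b3bcd054b19a1054b2ab7054b088b054b3342054b4458054b222c054b0000, nat_lit 0], nat_lit 9, nat_lit 0, [(nat_lit 1, [nat_lit 1]), (nat_lit 10, [nat_lit 0x2d9000000000000000000030001])]⟩,
  ⟨[nat_lit 80, nat_lit 79], [], [nat_lit 0x54c4458054c3bcd054c3342054c2ab7054c222c054c19a1054c1116054c088b054c0000, nat_lit 0], nat_lit 9, nat_lit 0, [(nat_lit 1, [nat_lit 1]), (nat_lit 10, [nat_lit 0x2d9000000000000000000030001])]⟩,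
  ⟨[nat_lit 80, nat_lit 79], [], [nat_lit 0x54d2ab7054d088b054d3342054d1116054d3bcd054d19a1054d4458054d222c054d0000, nat_lit 0], nat_lit 9, nat_lit 0, [(nat_lit 1, [nat_lit 1]), (nat_lit 10, [nat_lit 0x2d9000000000000000000030001])]⟩,
  ⟨[nat_lit 80, nat_lit 79], [], [nat_lit 0x54e1116054e222c054e3342054e4458054e088b054e19a1054e2ab7054e3bcd054e0000, nat_lit 0], nat_lit 9, nat_lit 0, [(nat_lit 1, [nat_lit 1]), (nat_lit 10, [nat_lit 0x2d9000000000000000000030001])]⟩,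
  ⟨[nat_lit 79, nat_lit 78], [nat_lit 744], [nat_lit 0, nat_lit 0], nat_lit 9, nat_lit 0, [(nat_lit 1, [nat_lit 0x2e8000000000000000000000001])]⟩,
  ⟨[nat_lit 79, nat_lit 78], [nat_lit 744], [nat_lit 0, nat_lit 0], nat_lit 18, nat_lit 0, [(nat_lit 1, [nat_lit 0x2e8000000000000000000000001])]⟩,
  ⟨[nat_lit 80, nat_lit 79], [nat_lit 744], [nat_lit 0, nat_lit 0], nat_lit 9, nat_lit 0, [(nat_lit 1, [nat_lit 0x2e8000000000000000000000001])]⟩,
  ⟨[nat_lit 80, nat_lit 79], [], [nat_lit 0x54f2e2e054f3c78054f088b054f2e27054f44fa054f1116054f287c054f30e2054f0000, nat_lit 0], nat_lit 9, nat_lit 0, [(nat_lit 299, [nat_lit 1, nat_lit 3, nat_lit 746, nat_lit 2196])]⟩,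
  ⟨[nat_lit 80, nat_lit 79], [nat_lit 744], [nat_lit 0, nat_lit 0], nat_lit 18, nat_lit 0, [(nat_lit 1, [nat_lit 0x2e8000000000000000000000001])]⟩,
  ⟨[nat_lit 80, nat_lit 79], [nat_lit 744], [nat_lit 0, nat_lit 0], nat_lit 9, nat_lit 0, [(nat_lit 1, [nat_lit 0x2e8000000000000000000000001])]⟩,
  ⟨[nat_lit 80, nat_lit 79], [], [nat_lit 0x550287c055030e20550088b0550424c0550450c0550111605502e2705503c7805500000, nat_lit 0], nat_lit 9, nat_lit 0, [(nat_lit 299, [nat_lit 1, nat_lit 3, nat_lit 746, nat_lit 2196])]⟩,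
  ⟨[nat_lit 80, nat_lit 79], [nat_lit 744], [nat_lit 0, nat_lit 0], nat_lit 18, nat_lit 0, [(nat_lit 1, [nat_lit 0x2e8000000000000000000000001])]⟩,
  ⟨[nat_lit 79, nat_lit 78], [], [nat_lit 0x5510b64055113ef055102d905510e3d055116c8055105b20551088b0551111605510000, nat_lit 0], nat_lit 9, nat_lit 0, [(nat_lit 1, [nat_lit 1]), (nat_lit 10, [nat_lit 0x2e2000000000000000000030001])]⟩,
  ⟨[nat_lit 79, nat_lit 73], [], [nat_lit 0x552088b055216c8055202d905520b6405521116055205b205520e3d055213ef05520000, nat_lit 0], nat_lit 9, nat_lit 0, [(nat_lit 1, [nat_lit 1]), (nat_lit 10, [nat_lit 0x2e2000000000000000000030001])]⟩,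
  ⟨[nat_lit 79, nat_lit 78], [], [nat_lit 0x5530e3d05531116055302d90553088b055313ef055305b205530b64055316c805530000, nat_lit 0], nat_lit 9, nat_lit 0, [(nat_lit 1, [nat_lit 1]), (nat_lit 10, [nat_lit 0x2e2000000000000000000030001])]⟩,
  ⟨[nat_lit 80, nat_lit 79], [], [nat_lit 0x5540b64055413ef055402d905540e3d055416c8055405b20554088b0554111605540000, nat_lit 0], nat_lit 9, nat_lit 0, [(nat_lit 1, [nat_lit 1]), (nat_lit 10, [nat_lit 0x2e2000000000000000000030001])]⟩,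
  ⟨[nat_lit 80, nat_lit 79], [], [nat_lit 0x555088b055516c8055502d905550b6405551116055505b205550e3d055513ef05550000, nat_lit 0], nat_lit 9, nat_lit 0, [(nat_lit 1, [nat_lit 1]), (nat_lit 10, [nat_lit 0x2e2000000000000000000030001])]⟩,
  ⟨[nat_lit 80, nat_lit 79], [], [nat_lit 0x5560e3d05561116055602d90556088b055613ef055605b205560b64055616c805560000, nat_lit 0], nat_lit 9, nat_lit 0, [(nat_lit 1, [nat_lit 1]), (nat_lit 10, [nat_lit 0x2e2000000000000000000030001])]⟩,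
  ⟨[nat_lit 80, nat_lit 79], [], [nat_lit 0x5570b64055713ef055702d905570e3d055716c8055705b20557088b0557111605570000, nat_lit 0], nat_lit 9, nat_lit 0, [(nat_lit 1, [nat_lit 1]), (nat_lit 10, [nat_lit 0x2e2000000000000000000030001])]⟩,
  ⟨[nat_lit 80, nat_lit 79], [], [nat_lit 0x558088b055816c8055802d905580b6405581116055805b205580e3d055813ef05580000, nat_lit 0], nat_lit 9, nat_lit 0, [(nat_lit 1, [nat_lit 1]), (nat_lit 10, [nat_lit 0x2e2000000000000000000030001])]⟩,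
  ⟨[nat_lit 80, nat_lit 79], [], [nat_lit 0x5590e3d05591116055902d90559088b055913ef055905b205590b64055916c805590000, nat_lit 0], nat_lit 9, nat_lit 0, [(nat_lit 1, [nat_lit 1]), (nat_lit 10, [nat_lit 0x2e2000000000000000000030001])]⟩]
theorem cc18 : (Nat.beq (lst ndF cl18 1041) 0 && Nat.beq (1041 + cl18.length) 1124) = true := by
  decide +kernel
noncomputable def cl19 : List Nd := [
  ⟨[nat_lit 79, nat_lit 78], [], [nat_lit 0x55a13ef055a0b64055a287c055a16c8055a0e3d055a05b2055a1116055a088b055a0000, nat_lit 0], nat_lit 9, nat_lit 0, [(nat_lit 1, [nat_lit 1]), (nat_lit 10, [nat_lit 0x2e2000000000000000000030001])]⟩,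
  ⟨[nat_lit 79, nat_lit 73], [], [nat_lit 0x55b16c8055b088b055b02d9055b1116055b0b64055b287c055b13ef055b0e3d055b0000, nat_lit 0], nat_lit 9, nat_lit 0, [(nat_lit 1, [nat_lit 1]), (nat_lit 10, [nat_lit 0x2e2000000000000000000030001])]⟩,
  ⟨[nat_lit 79, nat_lit 78], [], [nat_lit 0x55c1116055c0e3d055c02d9055c13ef055c088b055c05b2055c16c8055c0b64055c0000, nat_lit 0], nat_lit 9, nat_lit 0, [(nat_lit 1, [nat_lit 1]), (nat_lit 10, [nat_lit 0x2e2000000000000000000030001])]⟩,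
  ⟨[nat_lit 80, nat_lit 79], [], [nat_lit 0x55d13ef055d0b64055d02d9055d16c8055d0e3d055d287c055d1116055d088b055d0000, nat_lit 0], nat_lit 9, nat_lit 0, [(nat_lit 1, [nat_lit 1]), (nat_lit 10, [nat_lit 0x2e2000000000000000000030001])]⟩,
  ⟨[nat_lit 80, nat_lit 79], [], [nat_lit 0x55e16c8055e088b055e02d9055e1116055e0b64055e05b2055e13ef055e0e3d055e0000, nat_lit 0], nat_lit 9, nat_lit 0, [(nat_lit 1, [nat_lit 1]), (nat_lit 10, [nat_lit 0x2e2000000000000000000030001])]⟩,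
  ⟨[nat_lit 80, nat_lit 79], [], [nat_lit 0x55f1116055f0e3d055f287c055f13ef055f088b055f05b2055f16c8055f0b64055f0000, nat_lit 0], nat_lit 9, nat_lit 0, [(nat_lit 1, [nat_lit 1]), (nat_lit 10, [nat_lit 0x2e2000000000000000000030001])]⟩,
  ⟨[nat_lit 80, nat_lit 79], [], [nat_lit 0x56013ef05600b64056002d9056016c805600e3d056005b2056011160560088b05600000, nat_lit 0], nat_lit 9, nat_lit 0, [(nat_lit 1, [nat_lit 1]), (nat_lit 10, [nat_lit 0x2e2000000000000000000030001])]⟩,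
  ⟨[nat_lit 80, nat_lit 79], [], [nat_lit 0x56116c80561088b0561287c0561111605610b64056105b2056113ef05610e3d05610000, nat_lit 0], nat_lit 9, nat_lit 0, [(nat_lit 1, [nat_lit 1]), (nat_lit 10, [nat_lit 0x2e2000000000000000000030001])]⟩,
  ⟨[nat_lit 80, nat_lit 79], [], [nat_lit 0x562111605620e3d056202d9056213ef0562088b0562287c056216c805620b6405620000, nat_lit 0], nat_lit 9, nat_lit 0, [(nat_lit 1, [nat_lit 1]), (nat_lit 10, [nat_lit 0x2e2000000000000000000030001])]⟩,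
  ⟨[nat_lit 79, nat_lit 78], [nat_lit 750], [nat_lit 0, nat_lit 0], nat_lit 9, nat_lit 0, [(nat_lit 1, [nat_lit 0x2ee000000000000000000000001])]⟩,
  ⟨[nat_lit 79, nat_lit 78], [nat_lit 750], [nat_lit 0, nat_lit 0], nat_lit 18, nat_lit 0, [(nat_lit 1, [nat_lit 0x2ee000000000000000000000001])]⟩,
  ⟨[nat_lit 80, nat_lit 79], [nat_lit 750], [nat_lit 0, nat_lit 0], nat_lit 9, nat_lit 0, [(nat_lit 1, [nat_lit 0x2ee000000000000000000000001])]⟩,
  ⟨[nat_lit 80, nat_lit 79], [nat_lit 750], [nat_lit 0, nat_lit 0], nat_lit 18, nat_lit 0, [(nat_lit 1, [nat_lit 0x2ee000000000000000000000001])]⟩,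
  ⟨[nat_lit 80, nat_lit 79], [], [nat_lit 0x56344b20563421d056311160563315b056328ab0563088b05633c3005632e6405630000, nat_lit 0], nat_lit 9, nat_lit 0, [(nat_lit 299, [nat_lit 1, nat_lit 3, nat_lit 751, nat_lit 2205])]⟩,
  ⟨[nat_lit 80, nat_lit 79], [nat_lit 750], [nat_lit 0, nat_lit 0], nat_lit 9, nat_lit 0, [(nat_lit 1, [nat_lit 0x2ee000000000000000000000001])]⟩,
  ⟨[nat_lit 80, nat_lit 79], [nat_lit 750], [nat_lit 0, nat_lit 0], nat_lit 18, nat_lit 0, [(nat_lit 1, [nat_lit 0x2ee000000000000000000000001])]⟩,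
  ⟨[nat_lit 80, nat_lit 79], [], [nat_lit 0x56444a905642e640564111605643c3005642e5d0564088b0564315b056428ab05640000, nat_lit 0], nat_lit 9, nat_lit 0, [(nat_lit 299, [nat_lit 1, nat_lit 3, nat_lit 751, nat_lit 2205])]⟩,
  ⟨[nat_lit 79, nat_lit 78], [], [nat_lit 0x5650e3d056516c8056505b205650b64056513ef056528ab0565088b0565111605650000, nat_lit 0], nat_lit 9, nat_lit 0, [(nat_lit 1, [nat_lit 1]), (nat_lit 10, [nat_lit 0x2eb000000000000000000030001])]⟩,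
  ⟨[nat_lit 79, nat_lit 78], [], [nat_lit 0x566088b056613ef056605b205660e3d05661116056602d905660b64056616c805660000, nat_lit 0], nat_lit 9, nat_lit 0, [(nat_lit 1, [nat_lit 1]), (nat_lit 10, [nat_lit 0x2eb000000000000000000030001])]⟩,
  ⟨[nat_lit 79, nat_lit 73], [], [nat_lit 0x5670b6405671116056728ab0567088b056716c8056702d905670e3d056713ef05670000, nat_lit 0], nat_lit 9, nat_lit 0, [(nat_lit 1, [nat_lit 1]), (nat_lit 10, [nat_lit 0x2eb000000000000000000030001])]⟩,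
  ⟨[nat_lit 80, nat_lit 79], [], [nat_lit 0x5680e3d056816c8056805b205680b64056813ef056802d90568088b0568111605680000, nat_lit 0], nat_lit 9, nat_lit 0, [(nat_lit 1, [nat_lit 1]), (nat_lit 10, [nat_lit 0x2eb000000000000000000030001])]⟩,
  ⟨[nat_lit 80, nat_lit 79], [], [nat_lit 0x569088b056913ef056928ab05690e3d05691116056902d905690b64056916c805690000, nat_lit 0], nat_lit 9, nat_lit 0, [(nat_lit 1, [nat_lit 1]), (nat_lit 10, [nat_lit 0x2eb000000000000000000030001])]⟩,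
  ⟨[nat_lit 80, nat_lit 79], [], [nat_lit 0x56a0b64056a1116056a05b2056a088b056a16c8056a28ab056a0e3d056a13ef056a0000, nat_lit 0], nat_lit 9, nat_lit 0, [(nat_lit 1, [nat_lit 1]), (nat_lit 10, [nat_lit 0x2eb000000000000000000030001])]⟩,
  ⟨[nat_lit 80, nat_lit 79], [], [nat_lit 0x56b0e3d056b16c8056b28ab056b0b64056b13ef056b02d9056b088b056b1116056b0000, nat_lit 0], nat_lit 9, nat_lit 0, [(nat_lit 1, [nat_lit 1]), (nat_lit 10, [nat_lit 0x2eb000000000000000000030001])]⟩,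
  ⟨[nat_lit 80, nat_lit 79], [], [nat_lit 0x56c088b056c13ef056c05b2056c0e3d056c1116056c28ab056c0b64056c16c8056c0000, nat_lit 0], nat_lit 9, nat_lit 0, [(nat_lit 1, [nat_lit 1]), (nat_lit 10, [nat_lit 0x2eb000000000000000000030001])]⟩,
  ⟨[nat_lit 80, nat_lit 79], [], [nat_lit 0x56d0b64056d1116056d05b2056d088b056d16c8056d02d9056d0e3d056d13ef056d0000, nat_lit 0], nat_lit 9, nat_lit 0, [(nat_lit 1, [nat_lit 1]), (nat_lit 10, [nat_lit 0x2eb000000000000000000030001])]⟩,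
  ⟨[nat_lit 79, nat_lit 78], [], [nat_lit 0x56e16c8056e0e3d056e05b2056e13ef056e0b64056e02d9056e1116056e088b056e0000, nat_lit 0], nat_lit 9, nat_lit 0, [(nat_lit 1, [nat_lit 1]), (nat_lit 10, [nat_lit 0x2eb000000000000000000030001])]⟩,
  ⟨[nat_lit 79, nat_lit 78], [], [nat_lit 0x56f13ef056f088b056f05b2056f1116056f0e3d056f02d9056f16c8056f0b64056f0000, nat_lit 0], nat_lit 9, nat_lit 0, [(nat_lit 1, [nat_lit 1]), (nat_lit 10, [nat_lit 0x2eb000000000000000000030001])]⟩,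
  ⟨[nat_lit 79, nat_lit 73], [], [nat_lit 0x570111605700b64057005b2057016c80570088b057002d9057013ef05700e3d05700000, nat_lit 0], nat_lit 9, nat_lit 0, [(nat_lit 1, [nat_lit 1]), (nat_lit 10, [nat_lit 0x2eb000000000000000000030001])]⟩,
  ⟨[nat_lit 80, nat_lit 79], [], [nat_lit 0x57116c805710e3d057105b2057113ef05710b64057102d9057111160571088b05710000, nat_lit 0], nat_lit 9, nat_lit 0, [(nat_lit 1, [nat_lit 1]), (nat_lit 10, [nat_lit 0x2eb000000000000000000030001])]⟩,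
  ⟨[nat_lit 80, nat_lit 79], [], [nat_lit 0x57213ef0572088b057205b20572111605720e3d057202d9057216c805720b6405720000, nat_lit 0], nat_lit 9, nat_lit 0, [(nat_lit 1, [nat_lit 1]), (nat_lit 10, [nat_lit 0x2eb000000000000000000030001])]⟩,
  ⟨[nat_lit 80, nat_lit 79], [], [nat_lit 0x573111605730b64057305b2057316c80573088b057302d9057313ef05730e3d05730000, nat_lit 0], nat_lit 9, nat_lit 0, [(nat_lit 1, [nat_lit 1]), (nat_lit 10, [nat_lit 0x2eb000000000000000000030001])]⟩,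
  ⟨[nat_lit 80, nat_lit 79], [], [nat_lit 0x57416c805740e3d057405b2057413ef05740b64057402d9057411160574088b05740000, nat_lit 0], nat_lit 9, nat_lit 0, [(nat_lit 1, [nat_lit 1]), (nat_lit 10, [nat_lit 0x2eb000000000000000000030001])]⟩,
  ⟨[nat_lit 80, nat_lit 79], [], [nat_lit 0x57513ef0575088b057505b20575111605750e3d057502d9057516c805750b6405750000, nat_lit 0], nat_lit 9, nat_lit 0, [(nat_lit 1, [nat_lit 1]), (nat_lit 10, [nat_lit 0x2eb000000000000000000030001])]⟩,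
  ⟨[nat_lit 80, nat_lit 79], [], [nat_lit 0x576111605760b64057605b2057616c80576088b057602d9057613ef05760e3d05760000, nat_lit 0], nat_lit 9, nat_lit 0, [(nat_lit 1, [nat_lit 1]), (nat_lit 10, [nat_lit 0x2eb000000000000000000030001])]⟩,
  ⟨[nat_lit 75], [nat_lit 48], [nat_lit 0x1f287c001f28ab001f0000, nat_lit 0], nat_lit 1458, nat_lit 1, []⟩,
  ⟨[nat_lit 80], [nat_lit 48], [nat_lit 0x577222c0577445805770000, nat_lit 0], nat_lit 1458, nat_lit 1, []⟩,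
  ⟨[nat_lit 80], [nat_lit 48], [nat_lit 0x57844580578222c05780000, nat_lit 0], nat_lit 1458, nat_lit 1, []⟩,
  ⟨[nat_lit 80, nat_lit 76], [], [nat_lit 0], nat_lit 3, nat_lit 1, []⟩,
  ⟨[nat_lit 80, nat_lit 76], [], [nat_lit 0], nat_lit 3, nat_lit 1, []⟩,
  ⟨[nat_lit 80, nat_lit 73], [], [nat_lit 0x579237905794c7605790000, nat_lit 0], nat_lit 171, nat_lit 1, []⟩,
  ⟨[nat_lit 80], [nat_lit 48], [nat_lit 0], nat_lit 3, nat_lit 0, [(nat_lit 1, [nat_lit 0x30000000000001])]⟩,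
  ⟨[nat_lit 80, nat_lit 76], [], [nat_lit 0], nat_lit 3, nat_lit 1, []⟩,
  ⟨[nat_lit 80, nat_lit 76], [], [nat_lit 0], nat_lit 3, nat_lit 1, []⟩,
  ⟨[nat_lit 80, nat_lit 73], [], [nat_lit 0x57a4be2057a00b4057a0000, nat_lit 0], nat_lit 171, nat_lit 1, []⟩,
  ⟨[nat_lit 80], [nat_lit 48], [nat_lit 0], nat_lit 3, nat_lit 0, [(nat_lit 1, [nat_lit 0x30000000000001])]⟩,
  ⟨[nat_lit 80, nat_lit 76], [], [nat_lit 0], nat_lit 3, nat_lit 1, []⟩,
  ⟨[nat_lit 80, nat_lit 76], [], [nat_lit 0], nat_lit 3, nat_lit 1, []⟩,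
  ⟨[nat_lit 75], [nat_lit 42], [nat_lit 0x203c7800203c3000200000, nat_lit 0], nat_lit 1458, nat_lit 1, []⟩,
  ⟨[nat_lit 80], [nat_lit 42], [nat_lit 0x57b2ab7057b3bcd057b0000, nat_lit 0], nat_lit 1458, nat_lit 1, []⟩,
  ⟨[nat_lit 80], [nat_lit 42], [nat_lit 0x57c3bcd057c2ab7057c0000, nat_lit 0], nat_lit 1458, nat_lit 1, []⟩,
  ⟨[nat_lit 80, nat_lit 76], [], [nat_lit 0], nat_lit 3, nat_lit 1, []⟩,
  ⟨[nat_lit 80, nat_lit 76], [], [nat_lit 0], nat_lit 3, nat_lit 1, []⟩,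
  ⟨[nat_lit 80, nat_lit 73], [], [nat_lit 0x57d2c55057d0063057d0000, nat_lit 0], nat_lit 180, nat_lit 1, []⟩,
  ⟨[nat_lit 80], [nat_lit 42], [nat_lit 0], nat_lit 3, nat_lit 0, [(nat_lit 1, [nat_lit 0x2a000000000001])]⟩,
  ⟨[nat_lit 80, nat_lit 76], [], [nat_lit 0], nat_lit 3, nat_lit 1, []⟩,
  ⟨[nat_lit 80, nat_lit 76], [], [nat_lit 0], nat_lit 3, nat_lit 1, []⟩,
  ⟨[nat_lit 80, nat_lit 73], [], [nat_lit 0x57e2d48057e2d00057e0000, nat_lit 0], nat_lit 180, nat_lit 1, []⟩,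
  ⟨[nat_lit 80], [nat_lit 42], [nat_lit 0], nat_lit 3, nat_lit 0, [(nat_lit 1, [nat_lit 0x2a000000000001])]⟩,
  ⟨[nat_lit 80, nat_lit 76], [], [nat_lit 0], nat_lit 3, nat_lit 1, []⟩,
  ⟨[nat_lit 80, nat_lit 76], [], [nat_lit 0], nat_lit 3, nat_lit 1, []⟩,
  ⟨[nat_lit 70], [nat_lit 2430, nat_lit 3, nat_lit 1], [nat_lit 0, nat_lit 0, nat_lit 0], nat_lit 81, nat_lit 1, []⟩,
  ⟨[nat_lit 70], [nat_lit 2673, nat_lit 3, nat_lit 1], [nat_lit 0, nat_lit 0, nat_lit 0], nat_lit 81, nat_lit 1, []⟩,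
  ⟨[nat_lit 74, nat_lit 73], [nat_lit 729], [nat_lit 0x581000005800000057f0000, nat_lit 0, nat_lit 0], nat_lit 54, nat_lit 1, []⟩,
  ⟨[nat_lit 78, nat_lit 74], [nat_lit 777], [nat_lit 0x58400000583000005820000, nat_lit 0, nat_lit 0], nat_lit 27, nat_lit 1, []⟩,
  ⟨[nat_lit 78, nat_lit 74], [nat_lit 798], [nat_lit 0x58700000586000005850000, nat_lit 0, nat_lit 0], nat_lit 27, nat_lit 1, []⟩,
  ⟨[nat_lit 75, nat_lit 73], [], [nat_lit 0, nat_lit 0], nat_lit 9, nat_lit 1, []⟩,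
  ⟨[nat_lit 75, nat_lit 73], [], [nat_lit 0, nat_lit 0], nat_lit 18, nat_lit 1, []⟩,
  ⟨[nat_lit 78, nat_lit 75], [], [nat_lit 0, nat_lit 0], nat_lit 18, nat_lit 1, []⟩,
  ⟨[nat_lit 78, nat_lit 75], [], [nat_lit 0, nat_lit 0], nat_lit 18, nat_lit 1, []⟩,
  ⟨[nat_lit 78, nat_lit 75], [], [nat_lit 0, nat_lit 0], nat_lit 18, nat_lit 1, []⟩,
  ⟨[nat_lit 78, nat_lit 75], [], [nat_lit 0, nat_lit 0], nat_lit 18, nat_lit 1, []⟩,
  ⟨[nat_lit 78, nat_lit 75], [], [nat_lit 0, nat_lit 0], nat_lit 18, nat_lit 1, []⟩,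
  ⟨[nat_lit 78, nat_lit 75], [], [nat_lit 0, nat_lit 0], nat_lit 18, nat_lit 1, []⟩,
  ⟨[nat_lit 80], [], [nat_lit 0x5882b59058811b8058828ab058808ee058811700588287c05882ab7058819a10588222c05880936058811ca058822d705882b1a05881167058800630588334205883bcd0588445805882b62058811c1058800b405882b11058811790588228f0588088b0588111605880000, nat_lit 0], nat_lit 9, nat_lit 0, [(nat_lit 299, [nat_lit 1, nat_lit 3, nat_lit 45, nat_lit 729])]⟩,
  ⟨[nat_lit 80], [], [nat_lit 0x5892b62058911b8058900ab058908ee058911700589228f0589334205893bcd0589445805890936058911ca058928ab05892b08058911670589287c05892ab7058919a10589222c05892b6b058911c1058922d705892b1a058911790589005a0589088b0589111605890000, nat_lit 0], nat_lit 9, nat_lit 0, [(nat_lit 299, [nat_lit 1, nat_lit 3, nat_lit 45, nat_lit 729])]⟩]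
theorem cc19 : (Nat.beq (lst ndF cl19 1124) 0 && Nat.beq (1124 + cl19.length) 1200) = true := by
  decide +kernel
noncomputable def cl20 : List Nd := [
  ⟨[nat_lit 78, nat_lit 75], [], [nat_lit 0x58a00b4058a228f058a28ab058a22d7058a005a058a44b2058a4458058a27de058a0000, nat_lit 0], nat_lit 162, nat_lit 0, [(nat_lit 1, [nat_lit 1]), (nat_lit 10, [nat_lit 0x2d000000030001])]⟩,
  ⟨[nat_lit 78, nat_lit 73], [], [nat_lit 0x58b287c058b005a058b0012058b00b4058b0051058b28ab058b4458058b27de058b0000, nat_lit 0], nat_lit 171, nat_lit 0, [(nat_lit 1, [nat_lit 1]), (nat_lit 10, [nat_lit 0x2d000000030001])]⟩,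
  ⟨[nat_lit 80, nat_lit 78], [], [nat_lit 0x58c2505058c27de058c222c058c4458058c4731058c4a0a058c22d7058c05b2058c0000, nat_lit 0], nat_lit 162, nat_lit 0, [(nat_lit 1, [nat_lit 1]), (nat_lit 10, [nat_lit 0x2d000000030001])]⟩,
  ⟨[nat_lit 78, nat_lit 75], [], [nat_lit 0x58d00b4058d228f058d0012058d22d7058d005a058d287c058d27de058d4458058d0000, nat_lit 0], nat_lit 162, nat_lit 0, [(nat_lit 1, [nat_lit 1]), (nat_lit 10, [nat_lit 0x2d000000030001])]⟩,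
  ⟨[nat_lit 78, nat_lit 73], [], [nat_lit 0x58e00a2058e005a058e287c058e00b4058e28ab058e450c058e27de058e4458058e0000, nat_lit 0], nat_lit 171, nat_lit 0, [(nat_lit 1, [nat_lit 1]), (nat_lit 10, [nat_lit 0x2d000000030001])]⟩,
  ⟨[nat_lit 80, nat_lit 78], [], [nat_lit 0x58f27de058f2505058f222c058f4731058f4458058f4a0a058f05b2058f28ab058f0000, nat_lit 0], nat_lit 171, nat_lit 0, [(nat_lit 1, [nat_lit 1]), (nat_lit 10, [nat_lit 0x2d000000030001])]⟩,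
  ⟨[nat_lit 74, nat_lit 73], [nat_lit 729], [nat_lit 0x59200000591000005900000, nat_lit 0, nat_lit 0], nat_lit 27, nat_lit 1, []⟩,
  ⟨[nat_lit 78, nat_lit 74], [nat_lit 771], [nat_lit 0x59500000594000005930000, nat_lit 0, nat_lit 0], nat_lit 27, nat_lit 1, []⟩,
  ⟨[nat_lit 78, nat_lit 74], [nat_lit 804], [nat_lit 0x59800000597000005960000, nat_lit 0, nat_lit 0], nat_lit 27, nat_lit 1, []⟩,
  ⟨[nat_lit 75, nat_lit 73], [], [nat_lit 0, nat_lit 0], nat_lit 9, nat_lit 1, []⟩,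
  ⟨[nat_lit 75, nat_lit 73], [], [nat_lit 0, nat_lit 0], nat_lit 18, nat_lit 1, []⟩,
  ⟨[nat_lit 78, nat_lit 75], [], [nat_lit 0, nat_lit 0], nat_lit 18, nat_lit 1, []⟩,
  ⟨[nat_lit 78, nat_lit 75], [], [nat_lit 0, nat_lit 0], nat_lit 18, nat_lit 1, []⟩,
  ⟨[nat_lit 78, nat_lit 75], [], [nat_lit 0, nat_lit 0], nat_lit 18, nat_lit 1, []⟩,
  ⟨[nat_lit 78, nat_lit 75], [], [nat_lit 0, nat_lit 0], nat_lit 18, nat_lit 1, []⟩,
  ⟨[nat_lit 78, nat_lit 75], [], [nat_lit 0, nat_lit 0], nat_lit 18, nat_lit 1, []⟩,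
  ⟨[nat_lit 78, nat_lit 75], [], [nat_lit 0, nat_lit 0], nat_lit 18, nat_lit 1, []⟩,
  ⟨[nat_lit 80], [], [nat_lit 0x5990936059928ab05992b62059944bb0599117905992b1a059919a10599222c05992ab705990f0a059911c105993c78059908ee0599228f05993c30059944580599334205993bcd05994503059922d70599424c059944a90599116705992b080599088b0599111605990000, nat_lit 0], nat_lit 9, nat_lit 0, [(nat_lit 299, [nat_lit 1, nat_lit 3, nat_lit 36, nat_lit 729])]⟩,
  ⟨[nat_lit 80], [], [nat_lit 0x59a0936059a22d7059a3c78059a44b2059a1179059a3c30059a4458059a3342059a3bcd059a4503059a11c1059a2b62059a08ee059a1170059a2b1a059a19a1059a222c059a2ab7059a44fa059a11b8059a2b59059a44bb059a228f059a2b11059a088b059a1116059a0000, nat_lit 0], nat_lit 9, nat_lit 0, [(nat_lit 299, [nat_lit 1, nat_lit 3, nat_lit 36, nat_lit 729])]⟩,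
  ⟨[nat_lit 78, nat_lit 75], [], [nat_lit 0x59b3c30059b2b1a059b2ac9059b2b62059b2b11059b3c78059b417f059b3bcd059b0000, nat_lit 0], nat_lit 162, nat_lit 0, [(nat_lit 1, [nat_lit 1]), (nat_lit 10, [nat_lit 0x24000000030001])]⟩,
  ⟨[nat_lit 78, nat_lit 73], [], [nat_lit 0x59c2b62059c2b08059c3c78059c3c30059c2b1a059c2e27059c417f059c3bcd059c0000, nat_lit 0], nat_lit 180, nat_lit 0, [(nat_lit 1, [nat_lit 1]), (nat_lit 10, [nat_lit 0x24000000030001])]⟩,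
  ⟨[nat_lit 80, nat_lit 78], [], [nat_lit 0x59d2d90059d3069059d2ab7059d417f059d3bcd059d3ea6059d02d9059d05b2059d0000, nat_lit 0], nat_lit 162, nat_lit 0, [(nat_lit 1, [nat_lit 1]), (nat_lit 10, [nat_lit 0x24000000030001])]⟩,
  ⟨[nat_lit 78, nat_lit 75], [], [nat_lit 0x59e2b6b059e2b1a059e3c30059e2b62059e3c78059e30f8059e3bcd059e417f059e0000, nat_lit 0], nat_lit 162, nat_lit 0, [(nat_lit 1, [nat_lit 1]), (nat_lit 10, [nat_lit 0x24000000030001])]⟩,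
  ⟨[nat_lit 78, nat_lit 73], [], [nat_lit 0x59f2b62059f3c78059f2ac9059f2b59059f2b1a059f3c30059f3bcd059f417f059f0000, nat_lit 0], nat_lit 180, nat_lit 0, [(nat_lit 1, [nat_lit 1]), (nat_lit 10, [nat_lit 0x24000000030001])]⟩,
  ⟨[nat_lit 80, nat_lit 78], [], [nat_lit 0x5a0306905a02d9005a02ab705a03bcd05a0417f05a03ea605a005b205a002d905a00000, nat_lit 0], nat_lit 180, nat_lit 0, [(nat_lit 1, [nat_lit 1]), (nat_lit 10, [nat_lit 0x24000000030001])]⟩,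
  ⟨[nat_lit 60], [nat_lit 972, nat_lit 9, nat_lit 3], [nat_lit 0, nat_lit 0, nat_lit 0], nat_lit 27, nat_lit 1, []⟩,
  ⟨[nat_lit 60], [nat_lit 1215, nat_lit 9, nat_lit 3], [nat_lit 0, nat_lit 0, nat_lit 0], nat_lit 27, nat_lit 1, []⟩,
  ⟨[nat_lit 80], [nat_lit 6570, nat_lit 243, nat_lit 27], [nat_lit 0], nat_lit 3, nat_lit 1, []⟩,
  ⟨[nat_lit 80], [nat_lit 6579, nat_lit 243, nat_lit 27], [nat_lit 0], nat_lit 3, nat_lit 1, []⟩,
  ⟨[nat_lit 80], [nat_lit 6651, nat_lit 243, nat_lit 27], [nat_lit 0], nat_lit 3, nat_lit 1, []⟩,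
  ⟨[nat_lit 80], [nat_lit 6660, nat_lit 243, nat_lit 27], [nat_lit 0], nat_lit 3, nat_lit 1, []⟩,
  ⟨[nat_lit 80], [nat_lit 6732, nat_lit 243, nat_lit 27], [nat_lit 0], nat_lit 3, nat_lit 1, []⟩,
  ⟨[nat_lit 80], [nat_lit 6741, nat_lit 243, nat_lit 27], [nat_lit 0], nat_lit 3, nat_lit 1, []⟩,
  ⟨[nat_lit 73], [nat_lit 729], [nat_lit 0x2111280021111f00210000, nat_lit 0], nat_lit 27, nat_lit 1, []⟩,
  ⟨[nat_lit 80], [nat_lit 729], [nat_lit 0x5a119a105a1334205a10000, nat_lit 0], nat_lit 27, nat_lit 1, []⟩,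
  ⟨[nat_lit 80], [nat_lit 729], [nat_lit 0x5a2334205a219a105a20000, nat_lit 0], nat_lit 27, nat_lit 1, []⟩,
  ⟨[nat_lit 80], [nat_lit 6570], [nat_lit 0], nat_lit 3, nat_lit 1, []⟩,
  ⟨[nat_lit 80], [nat_lit 6579], [nat_lit 0], nat_lit 3, nat_lit 1, []⟩,
  ⟨[nat_lit 78], [nat_lit 744], [nat_lit 0x22088b0022111600220000, nat_lit 0], nat_lit 27, nat_lit 1, []⟩,
  ⟨[nat_lit 80], [nat_lit 744], [nat_lit 0x5a3088b05a3111605a30000, nat_lit 0], nat_lit 27, nat_lit 1, []⟩,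
  ⟨[nat_lit 80], [nat_lit 744], [nat_lit 0x5a4088b05a4111605a40000, nat_lit 0], nat_lit 27, nat_lit 1, []⟩,
  ⟨[nat_lit 80], [nat_lit 6678], [nat_lit 0], nat_lit 3, nat_lit 1, []⟩,
  ⟨[nat_lit 80], [nat_lit 6687], [nat_lit 0], nat_lit 3, nat_lit 1, []⟩,
  ⟨[nat_lit 78], [nat_lit 750], [nat_lit 0x2311160023088b00230000, nat_lit 0], nat_lit 27, nat_lit 1, []⟩,
  ⟨[nat_lit 80], [nat_lit 750], [nat_lit 0x5a5111605a5088b05a50000, nat_lit 0], nat_lit 27, nat_lit 1, []⟩,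
  ⟨[nat_lit 80], [nat_lit 750], [nat_lit 0x5a6111605a6088b05a60000, nat_lit 0], nat_lit 27, nat_lit 1, []⟩,
  ⟨[nat_lit 80], [nat_lit 6786], [nat_lit 0], nat_lit 3, nat_lit 1, []⟩,
  ⟨[nat_lit 80], [nat_lit 6795], [nat_lit 0], nat_lit 3, nat_lit 1, []⟩,
  ⟨[nat_lit 73], [nat_lit 972], [nat_lit 0x5a7214b05a71db405a70000, nat_lit 0], nat_lit 27, nat_lit 1, []⟩,
  ⟨[nat_lit 80], [nat_lit 972], [nat_lit 0x5a819a105a8334205a80000, nat_lit 0], nat_lit 27, nat_lit 1, []⟩,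
  ⟨[nat_lit 80], [nat_lit 972], [nat_lit 0x5a9334205a919a105a90000, nat_lit 0], nat_lit 27, nat_lit 1, []⟩,
  ⟨[nat_lit 60], [nat_lit 6561], [nat_lit 0], nat_lit 3, nat_lit 1, []⟩,
  ⟨[nat_lit 75], [nat_lit 8559], [nat_lit 0], nat_lit 3, nat_lit 1, []⟩,
  ⟨[nat_lit 75], [nat_lit 7533], [nat_lit 0], nat_lit 3, nat_lit 1, []⟩,
  ⟨[nat_lit 80], [nat_lit 6570], [nat_lit 0], nat_lit 3, nat_lit 1, []⟩,
  ⟨[nat_lit 80], [nat_lit 8568], [nat_lit 0], nat_lit 3, nat_lit 1, []⟩,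
  ⟨[nat_lit 80], [nat_lit 7542], [nat_lit 0], nat_lit 3, nat_lit 1, []⟩,
  ⟨[nat_lit 80], [nat_lit 6579], [nat_lit 0], nat_lit 3, nat_lit 1, []⟩,
  ⟨[nat_lit 80], [nat_lit 8577], [nat_lit 0], nat_lit 3, nat_lit 1, []⟩,
  ⟨[nat_lit 80], [nat_lit 7551], [nat_lit 0], nat_lit 3, nat_lit 1, []⟩,
  ⟨[nat_lit 78], [nat_lit 987], [nat_lit 0x5aa219305aa19fb05aa0000, nat_lit 0], nat_lit 27, nat_lit 1, []⟩,
  ⟨[nat_lit 80], [nat_lit 987], [nat_lit 0x5ab1de605ab37b905ab0000, nat_lit 0], nat_lit 27, nat_lit 1, []⟩,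
  ⟨[nat_lit 80], [nat_lit 987], [nat_lit 0x5ac37b905ac1de605ac0000, nat_lit 0], nat_lit 27, nat_lit 1, []⟩,
  ⟨[nat_lit 78], [nat_lit 6669], [nat_lit 0], nat_lit 3, nat_lit 1, []⟩,
  ⟨[nat_lit 78], [nat_lit 8610], [nat_lit 0], nat_lit 3, nat_lit 1, []⟩,
  ⟨[nat_lit 78], [nat_lit 7653], [nat_lit 0], nat_lit 3, nat_lit 1, []⟩,
  ⟨[nat_lit 80], [nat_lit 6678], [nat_lit 0], nat_lit 3, nat_lit 1, []⟩,
  ⟨[nat_lit 80], [nat_lit 8592], [nat_lit 0], nat_lit 3, nat_lit 1, []⟩,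
  ⟨[nat_lit 80], [nat_lit 7662], [nat_lit 0], nat_lit 3, nat_lit 1, []⟩,
  ⟨[nat_lit 80], [nat_lit 6687], [nat_lit 0], nat_lit 3, nat_lit 1, []⟩,
  ⟨[nat_lit 80], [nat_lit 8601], [nat_lit 0], nat_lit 3, nat_lit 1, []⟩,
  ⟨[nat_lit 80], [nat_lit 7644], [nat_lit 0], nat_lit 3, nat_lit 1, []⟩,
  ⟨[nat_lit 78], [nat_lit 993], [nat_lit 0x5ad1e1805ad21ed05ad0000, nat_lit 0], nat_lit 27, nat_lit 1, []⟩,
  ⟨[nat_lit 80], [nat_lit 993], [nat_lit 0x5ae21e405ae1e1805ae0000, nat_lit 0], nat_lit 27, nat_lit 1, []⟩,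
  ⟨[nat_lit 80], [nat_lit 993], [nat_lit 0x5af21ed05af378705af0000, nat_lit 0], nat_lit 27, nat_lit 1, []⟩,
  ⟨[nat_lit 78], [nat_lit 6777], [nat_lit 0], nat_lit 3, nat_lit 1, []⟩,
  ⟨[nat_lit 78], [nat_lit 8706], [nat_lit 0], nat_lit 3, nat_lit 1, []⟩,
  ⟨[nat_lit 78], [nat_lit 7773], [nat_lit 0], nat_lit 3, nat_lit 1, []⟩,
  ⟨[nat_lit 80], [nat_lit 6786], [nat_lit 0], nat_lit 3, nat_lit 1, []⟩,
  ⟨[nat_lit 80], [nat_lit 8715], [nat_lit 0], nat_lit 3, nat_lit 1, []⟩,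
  ⟨[nat_lit 80], [nat_lit 7755], [nat_lit 0], nat_lit 3, nat_lit 1, []⟩,
  ⟨[nat_lit 80], [nat_lit 6795], [nat_lit 0], nat_lit 3, nat_lit 1, []⟩,
  ⟨[nat_lit 80], [nat_lit 8697], [nat_lit 0], nat_lit 3, nat_lit 1, []⟩,
  ⟨[nat_lit 80], [nat_lit 7764], [nat_lit 0], nat_lit 3, nat_lit 1, []⟩,
  ⟨[nat_lit 73], [nat_lit 1215], [nat_lit 0x5b01e9105b0204f05b00000, nat_lit 0], nat_lit 27, nat_lit 1, []⟩,
  ⟨[nat_lit 80], [nat_lit 1215], [nat_lit 0x5b119a105b1334205b10000, nat_lit 0], nat_lit 27, nat_lit 1, []⟩,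
  ⟨[nat_lit 80], [nat_lit 1215], [nat_lit 0x5b2334205b219a105b20000, nat_lit 0], nat_lit 27, nat_lit 1, []⟩,
  ⟨[nat_lit 60], [nat_lit 6561], [nat_lit 0], nat_lit 3, nat_lit 1, []⟩,
  ⟨[nat_lit 75], [nat_lit 8289], [nat_lit 0], nat_lit 3, nat_lit 1, []⟩,
  ⟨[nat_lit 75], [nat_lit 7776], [nat_lit 0], nat_lit 3, nat_lit 1, []⟩,
  ⟨[nat_lit 80], [nat_lit 6570], [nat_lit 0], nat_lit 3, nat_lit 1, []⟩,
  ⟨[nat_lit 80], [nat_lit 8298], [nat_lit 0], nat_lit 3, nat_lit 1, []⟩,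
  ⟨[nat_lit 80], [nat_lit 7785], [nat_lit 0], nat_lit 3, nat_lit 1, []⟩,
  ⟨[nat_lit 80], [nat_lit 6579], [nat_lit 0], nat_lit 3, nat_lit 1, []⟩,
  ⟨[nat_lit 80], [nat_lit 8307], [nat_lit 0], nat_lit 3, nat_lit 1, []⟩,
  ⟨[nat_lit 80], [nat_lit 7794], [nat_lit 0], nat_lit 3, nat_lit 1, []⟩,
  ⟨[nat_lit 78], [nat_lit 1230], [nat_lit 0x5b320a005b31ec305b30000, nat_lit 0], nat_lit 27, nat_lit 1, []⟩,
  ⟨[nat_lit 80], [nat_lit 1230], [nat_lit 0x5b41ed905b420a005b40000, nat_lit 0], nat_lit 27, nat_lit 1, []⟩,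
  ⟨[nat_lit 80], [nat_lit 1230], [nat_lit 0x5b51ec305b53a9205b50000, nat_lit 0], nat_lit 27, nat_lit 1, []⟩,
  ⟨[nat_lit 78], [nat_lit 6669], [nat_lit 0], nat_lit 3, nat_lit 1, []⟩,
  ⟨[nat_lit 78], [nat_lit 8421], [nat_lit 0], nat_lit 3, nat_lit 1, []⟩,
  ⟨[nat_lit 78], [nat_lit 7896], [nat_lit 0], nat_lit 3, nat_lit 1, []⟩,
  ⟨[nat_lit 80], [nat_lit 6678], [nat_lit 0], nat_lit 3, nat_lit 1, []⟩,
  ⟨[nat_lit 80], [nat_lit 8403], [nat_lit 0], nat_lit 3, nat_lit 1, []⟩,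
  ⟨[nat_lit 80], [nat_lit 7905], [nat_lit 0], nat_lit 3, nat_lit 1, []⟩,
  ⟨[nat_lit 80], [nat_lit 6687], [nat_lit 0], nat_lit 3, nat_lit 1, []⟩,
  ⟨[nat_lit 80], [nat_lit 8412], [nat_lit 0], nat_lit 3, nat_lit 1, []⟩,
  ⟨[nat_lit 80], [nat_lit 7887], [nat_lit 0], nat_lit 3, nat_lit 1, []⟩,
  ⟨[nat_lit 78], [nat_lit 1236], [nat_lit 0x5b61f0b05b61a4c05b60000, nat_lit 0], nat_lit 27, nat_lit 1, []⟩,
  ⟨[nat_lit 80], [nat_lit 1236], [nat_lit 0x5b720f105b73a4105b70000, nat_lit 0], nat_lit 27, nat_lit 1, []⟩,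
  ⟨[nat_lit 80], [nat_lit 1236], [nat_lit 0x5b83a4105b820f105b80000, nat_lit 0], nat_lit 27, nat_lit 1, []⟩,
  ⟨[nat_lit 78], [nat_lit 6777], [nat_lit 0], nat_lit 3, nat_lit 1, []⟩,
  ⟨[nat_lit 78], [nat_lit 8436], [nat_lit 0], nat_lit 3, nat_lit 1, []⟩,
  ⟨[nat_lit 78], [nat_lit 8016], [nat_lit 0], nat_lit 3, nat_lit 1, []⟩,
  ⟨[nat_lit 80], [nat_lit 6786], [nat_lit 0], nat_lit 3, nat_lit 1, []⟩,
  ⟨[nat_lit 80], [nat_lit 8445], [nat_lit 0], nat_lit 3, nat_lit 1, []⟩,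
  ⟨[nat_lit 80], [nat_lit 7998], [nat_lit 0], nat_lit 3, nat_lit 1, []⟩,
  ⟨[nat_lit 80], [nat_lit 6795], [nat_lit 0], nat_lit 3, nat_lit 1, []⟩,
  ⟨[nat_lit 80], [nat_lit 8427], [nat_lit 0], nat_lit 3, nat_lit 1, []⟩,
  ⟨[nat_lit 80], [nat_lit 8007], [nat_lit 0], nat_lit 3, nat_lit 1, []⟩]
theorem cc20 : (Nat.beq (lst ndF cl20 1200) 0 && Nat.beq (1200 + cl20.length) 1320) = true := by
  decide +kernel
noncomputable def cl21 : List Nd := [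
  ⟨[nat_lit 78], [nat_lit 813], [nat_lit 0x240012002420f100240000, nat_lit 0], nat_lit 27, nat_lit 1, []⟩,
  ⟨[nat_lit 80], [nat_lit 813], [nat_lit 0x5b91a9405b9352805b90000, nat_lit 0], nat_lit 27, nat_lit 1, []⟩,
  ⟨[nat_lit 80], [nat_lit 813], [nat_lit 0x5ba352805ba1a9405ba0000, nat_lit 0], nat_lit 27, nat_lit 1, []⟩,
  ⟨[nat_lit 80], [nat_lit 6867], [nat_lit 0], nat_lit 3, nat_lit 1, []⟩,
  ⟨[nat_lit 80], [nat_lit 8436], [nat_lit 0], nat_lit 3, nat_lit 1, []⟩,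
  ⟨[nat_lit 80], [nat_lit 7653], [nat_lit 0], nat_lit 3, nat_lit 1, []⟩,
  ⟨[nat_lit 80], [nat_lit 6876], [nat_lit 0], nat_lit 3, nat_lit 1, []⟩,
  ⟨[nat_lit 80], [nat_lit 8445], [nat_lit 0], nat_lit 3, nat_lit 1, []⟩,
  ⟨[nat_lit 80], [nat_lit 7662], [nat_lit 0], nat_lit 3, nat_lit 1, []⟩,
  ⟨[nat_lit 78], [nat_lit 897], [nat_lit 0x251b9900253a4100250000, nat_lit 0], nat_lit 27, nat_lit 1, []⟩,
  ⟨[nat_lit 80], [nat_lit 897], [nat_lit 0x5bb1b8705bb343505bb0000, nat_lit 0], nat_lit 27, nat_lit 1, []⟩,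
  ⟨[nat_lit 80], [nat_lit 897], [nat_lit 0x5bc343505bc1b8705bc0000, nat_lit 0], nat_lit 27, nat_lit 1, []⟩,
  ⟨[nat_lit 80], [nat_lit 7083], [nat_lit 0], nat_lit 3, nat_lit 1, []⟩,
  ⟨[nat_lit 80], [nat_lit 8601], [nat_lit 0], nat_lit 3, nat_lit 1, []⟩,
  ⟨[nat_lit 80], [nat_lit 8007], [nat_lit 0], nat_lit 3, nat_lit 1, []⟩,
  ⟨[nat_lit 80], [nat_lit 7092], [nat_lit 0], nat_lit 3, nat_lit 1, []⟩,
  ⟨[nat_lit 80], [nat_lit 8610], [nat_lit 0], nat_lit 3, nat_lit 1, []⟩,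
  ⟨[nat_lit 80], [nat_lit 8016], [nat_lit 0], nat_lit 3, nat_lit 1, []⟩,
  ⟨[nat_lit 80, nat_lit 79], [], [nat_lit 0], nat_lit 3, nat_lit 1, []⟩,
  ⟨[nat_lit 80, nat_lit 79], [], [nat_lit 0], nat_lit 3, nat_lit 1, []⟩,
  ⟨[nat_lit 79, nat_lit 69], [], [nat_lit 0], nat_lit 3, nat_lit 1, []⟩,
  ⟨[nat_lit 79, nat_lit 78], [], [nat_lit 0], nat_lit 3, nat_lit 1, []⟩,
  ⟨[nat_lit 79, nat_lit 78], [], [nat_lit 0], nat_lit 3, nat_lit 1, []⟩,
  ⟨[nat_lit 80, nat_lit 79], [], [nat_lit 0], nat_lit 3, nat_lit 1, []⟩,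
  ⟨[nat_lit 80, nat_lit 79], [], [nat_lit 0], nat_lit 3, nat_lit 1, []⟩,
  ⟨[nat_lit 80, nat_lit 79], [], [nat_lit 0], nat_lit 3, nat_lit 1, []⟩,
  ⟨[nat_lit 80, nat_lit 79], [], [nat_lit 0], nat_lit 3, nat_lit 1, []⟩,
  ⟨[nat_lit 80, nat_lit 79], [], [nat_lit 0], nat_lit 3, nat_lit 1, []⟩,
  ⟨[nat_lit 80, nat_lit 79], [], [nat_lit 0], nat_lit 3, nat_lit 1, []⟩,
  ⟨[nat_lit 79, nat_lit 69], [], [nat_lit 0], nat_lit 3, nat_lit 1, []⟩,
  ⟨[nat_lit 79, nat_lit 78], [], [nat_lit 0], nat_lit 3, nat_lit 1, []⟩,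
  ⟨[nat_lit 79, nat_lit 78], [], [nat_lit 0], nat_lit 3, nat_lit 1, []⟩,
  ⟨[nat_lit 80, nat_lit 79], [], [nat_lit 0], nat_lit 3, nat_lit 1, []⟩,
  ⟨[nat_lit 80, nat_lit 79], [], [nat_lit 0], nat_lit 3, nat_lit 1, []⟩,
  ⟨[nat_lit 80, nat_lit 79], [], [nat_lit 0], nat_lit 3, nat_lit 1, []⟩,
  ⟨[nat_lit 80, nat_lit 79], [], [nat_lit 0], nat_lit 3, nat_lit 1, []⟩,
  ⟨[nat_lit 80, nat_lit 79], [], [nat_lit 0], nat_lit 3, nat_lit 1, []⟩,
  ⟨[nat_lit 80, nat_lit 79], [], [nat_lit 0], nat_lit 3, nat_lit 1, []⟩,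
  ⟨[nat_lit 80, nat_lit 79], [], [nat_lit 0], nat_lit 3, nat_lit 1, []⟩,
  ⟨[nat_lit 80, nat_lit 79], [], [nat_lit 0], nat_lit 3, nat_lit 1, []⟩,
  ⟨[nat_lit 79, nat_lit 78], [], [nat_lit 0], nat_lit 3, nat_lit 1, []⟩,
  ⟨[nat_lit 79, nat_lit 69], [], [nat_lit 0], nat_lit 3, nat_lit 1, []⟩,
  ⟨[nat_lit 79, nat_lit 78], [], [nat_lit 0], nat_lit 3, nat_lit 1, []⟩,
  ⟨[nat_lit 80, nat_lit 79], [], [nat_lit 0], nat_lit 3, nat_lit 1, []⟩,
  ⟨[nat_lit 80, nat_lit 79], [], [nat_lit 0], nat_lit 3, nat_lit 1, []⟩,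
  ⟨[nat_lit 80, nat_lit 79], [], [nat_lit 0], nat_lit 3, nat_lit 1, []⟩,
  ⟨[nat_lit 80, nat_lit 79], [], [nat_lit 0], nat_lit 3, nat_lit 1, []⟩,
  ⟨[nat_lit 80, nat_lit 79], [], [nat_lit 0], nat_lit 3, nat_lit 1, []⟩,
  ⟨[nat_lit 80, nat_lit 79], [], [nat_lit 0], nat_lit 3, nat_lit 1, []⟩,
  ⟨[nat_lit 79, nat_lit 78], [], [nat_lit 0], nat_lit 3, nat_lit 1, []⟩,
  ⟨[nat_lit 79, nat_lit 69], [], [nat_lit 0], nat_lit 3, nat_lit 1, []⟩,
  ⟨[nat_lit 79, nat_lit 78], [], [nat_lit 0], nat_lit 3, nat_lit 1, []⟩,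
  ⟨[nat_lit 80, nat_lit 79], [], [nat_lit 0], nat_lit 3, nat_lit 1, []⟩,
  ⟨[nat_lit 80, nat_lit 79], [], [nat_lit 0], nat_lit 3, nat_lit 1, []⟩,
  ⟨[nat_lit 80, nat_lit 79], [], [nat_lit 0], nat_lit 3, nat_lit 1, []⟩,
  ⟨[nat_lit 80, nat_lit 79], [], [nat_lit 0], nat_lit 3, nat_lit 1, []⟩,
  ⟨[nat_lit 80, nat_lit 79], [], [nat_lit 0], nat_lit 3, nat_lit 1, []⟩,
  ⟨[nat_lit 80, nat_lit 79], [], [nat_lit 0], nat_lit 3, nat_lit 1, []⟩,
  ⟨[nat_lit 80, nat_lit 79], [], [nat_lit 0], nat_lit 3, nat_lit 1, []⟩,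
  ⟨[nat_lit 80, nat_lit 79], [], [nat_lit 0], nat_lit 3, nat_lit 1, []⟩,
  ⟨[nat_lit 79, nat_lit 78], [], [nat_lit 0], nat_lit 3, nat_lit 1, []⟩,
  ⟨[nat_lit 79, nat_lit 78], [], [nat_lit 0], nat_lit 3, nat_lit 1, []⟩,
  ⟨[nat_lit 79, nat_lit 69], [], [nat_lit 0], nat_lit 3, nat_lit 1, []⟩,
  ⟨[nat_lit 80, nat_lit 79], [], [nat_lit 0], nat_lit 3, nat_lit 1, []⟩,
  ⟨[nat_lit 80, nat_lit 79], [], [nat_lit 0], nat_lit 3, nat_lit 1, []⟩,
  ⟨[nat_lit 80, nat_lit 79], [], [nat_lit 0], nat_lit 3, nat_lit 1, []⟩,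
  ⟨[nat_lit 80, nat_lit 79], [], [nat_lit 0], nat_lit 3, nat_lit 1, []⟩,
  ⟨[nat_lit 80, nat_lit 79], [], [nat_lit 0], nat_lit 3, nat_lit 1, []⟩,
  ⟨[nat_lit 80, nat_lit 79], [], [nat_lit 0], nat_lit 3, nat_lit 1, []⟩,
  ⟨[nat_lit 79, nat_lit 78], [], [nat_lit 0], nat_lit 3, nat_lit 1, []⟩,
  ⟨[nat_lit 79, nat_lit 78], [], [nat_lit 0], nat_lit 3, nat_lit 1, []⟩,
  ⟨[nat_lit 79, nat_lit 69], [], [nat_lit 0], nat_lit 3, nat_lit 1, []⟩,
  ⟨[nat_lit 80, nat_lit 79], [], [nat_lit 0], nat_lit 3, nat_lit 1, []⟩,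
  ⟨[nat_lit 80, nat_lit 79], [], [nat_lit 0], nat_lit 3, nat_lit 1, []⟩,
  ⟨[nat_lit 80, nat_lit 79], [], [nat_lit 0], nat_lit 3, nat_lit 1, []⟩,
  ⟨[nat_lit 80, nat_lit 79], [], [nat_lit 0], nat_lit 3, nat_lit 1, []⟩,
  ⟨[nat_lit 80, nat_lit 79], [], [nat_lit 0], nat_lit 3, nat_lit 1, []⟩,
  ⟨[nat_lit 80, nat_lit 79], [], [nat_lit 0], nat_lit 3, nat_lit 1, []⟩,
  ⟨[nat_lit 80], [nat_lit 8757, nat_lit 48], [nat_lit 0], nat_lit 3, nat_lit 1, []⟩,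
  ⟨[nat_lit 80], [nat_lit 8766, nat_lit 48], [nat_lit 0], nat_lit 3, nat_lit 1, []⟩,
  ⟨[nat_lit 80], [nat_lit 8991, nat_lit 48], [nat_lit 0], nat_lit 171, nat_lit 1, []⟩,
  ⟨[nat_lit 80], [nat_lit 9234, nat_lit 48], [nat_lit 0], nat_lit 171, nat_lit 1, []⟩,
  ⟨[nat_lit 80], [nat_lit 10944, nat_lit 42], [nat_lit 0], nat_lit 3, nat_lit 1, []⟩,
  ⟨[nat_lit 80], [nat_lit 10953, nat_lit 42], [nat_lit 0], nat_lit 3, nat_lit 1, []⟩,
  ⟨[nat_lit 80], [nat_lit 11178, nat_lit 42], [nat_lit 0], nat_lit 180, nat_lit 1, []⟩,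
  ⟨[nat_lit 80], [nat_lit 11421, nat_lit 42], [nat_lit 0], nat_lit 180, nat_lit 1, []⟩,
  ⟨[nat_lit 73], [nat_lit 729], [nat_lit 0x2611280026478000260000, nat_lit 0], nat_lit 45, nat_lit 1, []⟩,
  ⟨[nat_lit 80], [nat_lit 729], [nat_lit 0x5bd19a105bd334205bd0000, nat_lit 0], nat_lit 45, nat_lit 1, []⟩,
  ⟨[nat_lit 80], [nat_lit 729], [nat_lit 0x5be334205be19a105be0000, nat_lit 0], nat_lit 45, nat_lit 1, []⟩,
  ⟨[nat_lit 78], [nat_lit 777], [nat_lit 0x2711ca002708ee00270000, nat_lit 0], nat_lit 45, nat_lit 1, []⟩,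
  ⟨[nat_lit 80], [nat_lit 777], [nat_lit 0x5bf222c05bf445805bf0000, nat_lit 0], nat_lit 45, nat_lit 1, []⟩,
  ⟨[nat_lit 80], [nat_lit 777], [nat_lit 0x5c0445805c0222c05c00000, nat_lit 0], nat_lit 45, nat_lit 1, []⟩,
  ⟨[nat_lit 78], [nat_lit 798], [nat_lit 0x2809360028117000280000, nat_lit 0], nat_lit 45, nat_lit 1, []⟩,
  ⟨[nat_lit 80], [nat_lit 798], [nat_lit 0x5c1222c05c1445805c10000, nat_lit 0], nat_lit 45, nat_lit 1, []⟩,
  ⟨[nat_lit 80], [nat_lit 798], [nat_lit 0x5c2445805c2222c05c20000, nat_lit 0], nat_lit 45, nat_lit 1, []⟩,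
  ⟨[nat_lit 80], [nat_lit 9486], [nat_lit 0], nat_lit 3, nat_lit 1, []⟩,
  ⟨[nat_lit 80], [nat_lit 9495], [nat_lit 0], nat_lit 3, nat_lit 1, []⟩,
  ⟨[nat_lit 78, nat_lit 75], [], [nat_lit 0], nat_lit 3, nat_lit 1, []⟩,
  ⟨[nat_lit 78, nat_lit 57], [], [nat_lit 0], nat_lit 3, nat_lit 1, []⟩,
  ⟨[nat_lit 80, nat_lit 78], [], [nat_lit 0], nat_lit 3, nat_lit 1, []⟩,
  ⟨[nat_lit 78, nat_lit 75], [], [nat_lit 0], nat_lit 3, nat_lit 1, []⟩,
  ⟨[nat_lit 78, nat_lit 57], [], [nat_lit 0], nat_lit 3, nat_lit 1, []⟩,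
  ⟨[nat_lit 80, nat_lit 78], [], [nat_lit 0], nat_lit 3, nat_lit 1, []⟩,
  ⟨[nat_lit 73], [nat_lit 729], [nat_lit 0x2911280029309a00290000, nat_lit 0], nat_lit 36, nat_lit 1, []⟩,
  ⟨[nat_lit 80], [nat_lit 729], [nat_lit 0x5c319a105c3334205c30000, nat_lit 0], nat_lit 36, nat_lit 1, []⟩,
  ⟨[nat_lit 80], [nat_lit 729], [nat_lit 0x5c4334205c419a105c40000, nat_lit 0], nat_lit 36, nat_lit 1, []⟩,
  ⟨[nat_lit 78], [nat_lit 771], [nat_lit 0x2a08ee002a11ca002a0000, nat_lit 0], nat_lit 36, nat_lit 1, []⟩,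
  ⟨[nat_lit 80], [nat_lit 771], [nat_lit 0x5c52ab705c53bcd05c50000, nat_lit 0], nat_lit 36, nat_lit 1, []⟩,
  ⟨[nat_lit 80], [nat_lit 771], [nat_lit 0x5c63bcd05c62ab705c60000, nat_lit 0], nat_lit 36, nat_lit 1, []⟩,
  ⟨[nat_lit 78], [nat_lit 804], [nat_lit 0x2b1170002b0936002b0000, nat_lit 0], nat_lit 36, nat_lit 1, []⟩,
  ⟨[nat_lit 80], [nat_lit 804], [nat_lit 0x5c72ab705c73bcd05c70000, nat_lit 0], nat_lit 36, nat_lit 1, []⟩,
  ⟨[nat_lit 80], [nat_lit 804], [nat_lit 0x5c83bcd05c82ab705c80000, nat_lit 0], nat_lit 36, nat_lit 1, []⟩,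
  ⟨[nat_lit 80], [nat_lit 12402], [nat_lit 0], nat_lit 3, nat_lit 1, []⟩,
  ⟨[nat_lit 80], [nat_lit 12411], [nat_lit 0], nat_lit 3, nat_lit 1, []⟩,
  ⟨[nat_lit 78, nat_lit 75], [], [nat_lit 0], nat_lit 3, nat_lit 1, []⟩,
  ⟨[nat_lit 78, nat_lit 57], [], [nat_lit 0], nat_lit 3, nat_lit 1, []⟩,
  ⟨[nat_lit 80, nat_lit 78], [], [nat_lit 0], nat_lit 3, nat_lit 1, []⟩,
  ⟨[nat_lit 78, nat_lit 75], [], [nat_lit 0], nat_lit 3, nat_lit 1, []⟩,
  ⟨[nat_lit 78, nat_lit 57], [], [nat_lit 0], nat_lit 3, nat_lit 1, []⟩,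
  ⟨[nat_lit 80, nat_lit 78], [], [nat_lit 0], nat_lit 3, nat_lit 1, []⟩]
theorem cc21 : (Nat.beq (lst ndF cl21 1320) 0 && Nat.beq (1320 + cl21.length) 1440) = true := by
  decide +kernel
noncomputable def cl22 : List Nd := [
  ⟨[nat_lit 80], [nat_lit 6570, nat_lit 729], [nat_lit 0], nat_lit 3, nat_lit 1, []⟩,
  ⟨[nat_lit 80], [nat_lit 6579, nat_lit 729], [nat_lit 0], nat_lit 3, nat_lit 1, []⟩,
  ⟨[nat_lit 80], [nat_lit 6651, nat_lit 744], [nat_lit 0], nat_lit 3, nat_lit 1, []⟩,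
  ⟨[nat_lit 80], [nat_lit 6660, nat_lit 744], [nat_lit 0], nat_lit 3, nat_lit 1, []⟩,
  ⟨[nat_lit 80], [nat_lit 6732, nat_lit 750], [nat_lit 0], nat_lit 3, nat_lit 1, []⟩,
  ⟨[nat_lit 80], [nat_lit 6741, nat_lit 750], [nat_lit 0], nat_lit 3, nat_lit 1, []⟩,
  ⟨[nat_lit 60], [nat_lit 6561, nat_lit 972], [nat_lit 0], nat_lit 3, nat_lit 1, []⟩,
  ⟨[nat_lit 80], [nat_lit 6570, nat_lit 972], [nat_lit 0], nat_lit 3, nat_lit 1, []⟩,
  ⟨[nat_lit 80], [nat_lit 6579, nat_lit 972], [nat_lit 0], nat_lit 3, nat_lit 1, []⟩,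
  ⟨[nat_lit 60], [nat_lit 6642, nat_lit 987], [nat_lit 0], nat_lit 3, nat_lit 1, []⟩,
  ⟨[nat_lit 80], [nat_lit 6651, nat_lit 987], [nat_lit 0], nat_lit 3, nat_lit 1, []⟩,
  ⟨[nat_lit 80], [nat_lit 6660, nat_lit 987], [nat_lit 0], nat_lit 3, nat_lit 1, []⟩,
  ⟨[nat_lit 60], [nat_lit 6723, nat_lit 993], [nat_lit 0], nat_lit 3, nat_lit 1, []⟩,
  ⟨[nat_lit 80], [nat_lit 6732, nat_lit 993], [nat_lit 0], nat_lit 3, nat_lit 1, []⟩,
  ⟨[nat_lit 80], [nat_lit 6741, nat_lit 993], [nat_lit 0], nat_lit 3, nat_lit 1, []⟩,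
  ⟨[nat_lit 60], [nat_lit 6561, nat_lit 1215], [nat_lit 0], nat_lit 3, nat_lit 1, []⟩,
  ⟨[nat_lit 80], [nat_lit 6570, nat_lit 1215], [nat_lit 0], nat_lit 3, nat_lit 1, []⟩,
  ⟨[nat_lit 80], [nat_lit 6579, nat_lit 1215], [nat_lit 0], nat_lit 3, nat_lit 1, []⟩,
  ⟨[nat_lit 60], [nat_lit 6642, nat_lit 1230], [nat_lit 0], nat_lit 3, nat_lit 1, []⟩,
  ⟨[nat_lit 80], [nat_lit 6651, nat_lit 1230], [nat_lit 0], nat_lit 3, nat_lit 1, []⟩,
  ⟨[nat_lit 80], [nat_lit 6660, nat_lit 1230], [nat_lit 0], nat_lit 3, nat_lit 1, []⟩,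
  ⟨[nat_lit 60], [nat_lit 6723, nat_lit 1236], [nat_lit 0], nat_lit 3, nat_lit 1, []⟩,
  ⟨[nat_lit 80], [nat_lit 6732, nat_lit 1236], [nat_lit 0], nat_lit 3, nat_lit 1, []⟩,
  ⟨[nat_lit 80], [nat_lit 6741, nat_lit 1236], [nat_lit 0], nat_lit 3, nat_lit 1, []⟩,
  ⟨[nat_lit 80], [nat_lit 6813, nat_lit 813], [nat_lit 0], nat_lit 3, nat_lit 1, []⟩,
  ⟨[nat_lit 80], [nat_lit 6822, nat_lit 813], [nat_lit 0], nat_lit 3, nat_lit 1, []⟩,
  ⟨[nat_lit 80], [nat_lit 7056, nat_lit 897], [nat_lit 0], nat_lit 3, nat_lit 1, []⟩,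
  ⟨[nat_lit 80], [nat_lit 7065, nat_lit 897], [nat_lit 0], nat_lit 3, nat_lit 1, []⟩,
  ⟨[nat_lit 80], [nat_lit 8757, nat_lit 729], [nat_lit 0], nat_lit 3, nat_lit 1, []⟩,
  ⟨[nat_lit 80], [nat_lit 8766, nat_lit 729], [nat_lit 0], nat_lit 3, nat_lit 1, []⟩,
  ⟨[nat_lit 80], [nat_lit 8757, nat_lit 777], [nat_lit 0], nat_lit 3, nat_lit 1, []⟩,
  ⟨[nat_lit 80], [nat_lit 8766, nat_lit 777], [nat_lit 0], nat_lit 3, nat_lit 1, []⟩,
  ⟨[nat_lit 80], [nat_lit 8757, nat_lit 798], [nat_lit 0], nat_lit 3, nat_lit 1, []⟩,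
  ⟨[nat_lit 80], [nat_lit 8766, nat_lit 798], [nat_lit 0], nat_lit 3, nat_lit 1, []⟩,
  ⟨[nat_lit 80], [nat_lit 10944, nat_lit 729], [nat_lit 0], nat_lit 3, nat_lit 1, []⟩,
  ⟨[nat_lit 80], [nat_lit 10953, nat_lit 729], [nat_lit 0], nat_lit 3, nat_lit 1, []⟩,
  ⟨[nat_lit 80], [nat_lit 10944, nat_lit 771], [nat_lit 0], nat_lit 3, nat_lit 1, []⟩,
  ⟨[nat_lit 80], [nat_lit 10953, nat_lit 771], [nat_lit 0], nat_lit 3, nat_lit 1, []⟩,
  ⟨[nat_lit 80], [nat_lit 10944, nat_lit 804], [nat_lit 0], nat_lit 3, nat_lit 1, []⟩,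
  ⟨[nat_lit 80], [nat_lit 10953, nat_lit 804], [nat_lit 0], nat_lit 3, nat_lit 1, []⟩]
theorem cc22 : (Nat.beq (lst ndF cl22 1440) 0 && Nat.beq (1440 + cl22.length) 1480) = true := by
  decide +kernel
end H16.C9
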