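import Cfsg.Agent.H16.C9o0
import Cfsg.Agent.H16.C9o1
import Cfsg.Agent.H16.C9o2

/-! The centric radical subgroups. -/

set_option autoImplicit false
set_option maxRecDepth 100000
set_option maxHeartbeats 0
set_option Elab.async false

namespace H16.C9
open H26 (jn frc frc_eq)
theorem ca0 : ∀ m < 0, ∃ d, ndF m d = 0 := fun _ h => absurd h (Nat.not_lt_zero _)
theorem ca1 : ∀ m < 43, ∃ d, ndF m d = 0 := lst_step ca0 cc0
theorem ca2 : ∀ m < 44, ∃ d, ndF m d = 0 := lst_step ca1 cc1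
theorem ca3 : ∀ m < 45, ∃ d, ndF m d = 0 := lst_step ca2 cc2
theorem ca4 : ∀ m < 64, ∃ d, ndF m d = 0 := lst_step ca3 cc3
theorem ca5 : ∀ m < 100, ∃ d, ndF m d = 0 := lst_step ca4 cc4
theorem ca6 : ∀ m < 101, ∃ d, ndF m d = 0 := lst_step ca5 cc5
theorem ca7 : ∀ m < 102, ∃ d, ndF m d = 0 := lst_step ca6 cc6
theorem ca8 : ∀ m < 103, ∃ d, ndF m d = 0 := lst_step ca7 cc7
theorem ca9 : ∀ m < 149, ∃ d, ndF m d = 0 := lst_step ca8 cc8
theorem ca10 : ∀ m < 205, ∃ d, ndF m d = 0 := lst_step ca9 cc9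
theorem ca11 : ∀ m < 322, ∃ d, ndF m d = 0 := lst_step ca10 cc10
theorem ca12 : ∀ m < 442, ∃ d, ndF m d = 0 := lst_step ca11 cc11
theorem ca13 : ∀ m < 562, ∃ d, ndF m d = 0 := lst_step ca12 cc12
theorem ca14 : ∀ m < 678, ∃ d, ndF m d = 0 := lst_step ca13 cc13
theorem ca15 : ∀ m < 764, ∃ d, ndF m d = 0 := lst_step ca14 cc14
theorem ca16 : ∀ m < 841, ∃ d, ndF m d = 0 := lst_step ca15 cc15
theorem ca17 : ∀ m < 921, ∃ d, ndF m d = 0 := lst_step ca16 cc16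
theorem ca18 : ∀ m < 1041, ∃ d, ndF m d = 0 := lst_step ca17 cc17
theorem ca19 : ∀ m < 1124, ∃ d, ndF m d = 0 := lst_step ca18 cc18
theorem ca20 : ∀ m < 1200, ∃ d, ndF m d = 0 := lst_step ca19 cc19
theorem ca21 : ∀ m < 1320, ∃ d, ndF m d = 0 := lst_step ca20 cc20
theorem ca22 : ∀ m < 1440, ∃ d, ndF m d = 0 := lst_step ca21 cc21
theorem ca23 : ∀ m < 1480, ∃ d, ndF m d = 0 := lst_step ca22 cc22

theorem call : ∀ m < nat_lit 1480, ∃ d, ndCk nd (nat_lit 1480) SV m d = 0 := by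
  have := ca23
  unfold ndF at this
  exact this

theorem croot : (∀ k < 9, tg (nd 0) k = 0) ∧ ∀ k < 9, bt (tg (nd 0) 10) k ≠ 0 := by decide +kernel

theorem Md.cls {Γ : Type*} [Group Γ] [Finite Γ] {y : ℕ → Γ} (r : Md y) {E : Subgroup Γ → Prop}
    (H : Hy y E) {P : Subgroup Γ} (hP : E P) : Cc y SV P :=
  r.all_ok H call (by decide) croot.1 croot.2 hP

end H16.C9
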