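import Cfsg.Agent.H16.C9e

/-! Orders, stabilizers and weights in the group of order `3 ^ 9`. -/

set_option autoImplicit false
set_option linter.unusedSectionVars false

namespace H16.C9
open H26 (frc frc_eq)
open Subgroup H25 H25.FS H4.G3

variable {Γ : Type*} [Group Γ] {y : ℕ → Γ} {U V W H K P X Y B : Subgroup Γ}
  {a b c e i j k l m n p q s T A C D : ℕ} {x t u g h : Γ}

theorem card_sup_cyc (h1 : t ∈ nz W) (h2 : t ^ 3 ∈ W) (h3 : t ∉ W) :
    Nat.card (W ⊔ zpowers t : Subgroup Γ) = Nat.card W * 3 := by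
  rw [← Nat.card_eq_of_bijective (fun x : W × Fin 3 => (⟨t ^ x.2.1 * x.1, mul_mem
    (mem_sup_right (pow_mem (mem_zpowers t) _)) (mem_sup_left x.1.2)⟩ : (W ⊔ zpowers t : Subgroup Γ)))
    ⟨?_, fun x => ?_⟩]
  · simp
  · suffices H : ∀ (a b : Fin 3) (v w : W), a ≤ b → t ^ a.1 * v = t ^ b.1 * w → (v, a) = (w, b) by
      rintro ⟨v, a⟩ ⟨w, b⟩ h
      rcases le_total a b with h4 | h4
      exacts [H a b v w h4 (congrArg Subtype.val h), (H b a w v h4 (congrArg Subtype.val h).symm).symm]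
    intro a b v w h4 h
    obtain ⟨d, hd⟩ := Nat.exists_eq_add_of_le (show a.1 ≤ b.1 from h4)
    rw [hd, pow_add, mul_assoc, mul_left_cancel_iff] at h
    have h5 : d = 0 := by
      by_contra h5
      refine h3 (mem_of_pow3 h2 (by omega) h5 ?_)
      rw [eq_mul_inv_of_mul_eq h.symm]
      exact mul_mem v.2 (inv_mem w.2)
    subst h5
    exact Prod.ext (Subtype.ext (by simpa using h)) (Fin.ext hd.symm)
  · obtain ⟨a, ha, h⟩ := mem_sup_cyc h1 h2 x.2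
    exact ⟨(⟨_, h⟩, ⟨a, ha⟩), Subtype.ext (by simp)⟩

theorem card_sup_cyc_le (h1 : t ∈ nz W) (h2 : t ^ 3 ∈ W) :
    Nat.card (W ⊔ zpowers t : Subgroup Γ) ≤ Nat.card W * 3 := by
  by_cases h3 : t ∈ W
  · rw [sup_eq_left.2 (zpowers_le.2 h3)]; omega
  · exact (card_sup_cyc h1 h2 h3).le

/-- number of nonzero entries -/
noncomputable def cnt (T m : ℕ) : ℕ :=
  Nat.rec (motive := fun _ => ℕ) 0 (fun k ih => iz (tg T k) ih (ih + 1)) m

/-- exactness of the table of a stabilizer -/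
noncomputable def cmCk (T A B C : ℕ) : ℕ := Nat.add
  (ent C fun c => Nat.add (cd c) (Nat.add (sift T c) (stCk A B c)))
  (trCk T C fun r => a10 (nzf A fun x => sift B (cm x r)))

/-- the quotient is elementary abelian -/
noncomputable def abCk (T C : ℕ) : ℕ :=
  ent T fun t => Nat.add (Nat.add (stCk C C t) (stCk T C t)) (sift C (cu t))

/-- the commutator map on three factors -/
noncomputable def trpCk (p q s : ℕ) : ℕ :=
  Nat.add (Nat.add (ent (cut YT (q + 1)) (stCk (cut YT (p + 1)) (cut YT (s + 1))))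
    (ent (cut YT (q + 1)) (stCk (cut YT p) (cut YT s))))
    (Nat.add (ent (cut YT q) (stCk (cut YT (p + 1)) (cut YT s)))
      (Nat.sub (3 ^ s) (cm (3 ^ p) (inv (3 ^ q)))))

open Classical in
/-- the digit at level `k` -/
noncomputable def dg (y : ℕ → Γ) (k : ℕ) (x : Γ) : ZMod 3 :=
  if x ∈ gen y k then 0 else if (y k)⁻¹ * x ∈ gen y k then 1 else 2

/-- the weight at level `k` -/
noncomputable def wt (y : ℕ → Γ) (g : Γ) (k : ℕ) : ZMod 3 := dg y k (g * y k * g⁻¹)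

theorem Chr.inf (h : Chr P X) (h' : Chr P Y) : Chr P (X ⊓ Y) :=
  ⟨inf_le_left.trans h.1, fun _ hg => mem_nz_inf (h.2 hg) (h'.2 hg)⟩

theorem chr_self : Chr P P := ⟨le_rfl, le_rfl⟩
theorem chr_bot : Chr P ⊥ := ⟨bot_le, le_nz_bot _⟩

theorem st_of [Finite Γ] (h1 : Y ≤ X) (h : ∀ x ∈ X, x⁻¹ * (g * x * g⁻¹) ∈ Y) : g ∈ stab X Y :=
  ⟨mem_nz_of_conj_mem fun x hx => by simpa using mul_mem hx (h1 (h x hx)), h⟩

namespace Md
variable [Finite Γ] (r : Md y)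
include r

theorem card_ech (h : Ech y U T) : Nat.card U = 3 ^ cnt T 9 := by
  suffices H : ∀ m ≤ 9, Nat.card (U ⊓ gen y m : Subgroup Γ) = 3 ^ cnt T m by
    rw [← H 9 le_rfl, inf_eq_left.2 h.le]
  intro m hm
  induction m with
  | zero => rw [gen_zero, inf_bot_eq, card_bot]; rfl
  | succ m ih =>
    replace ih := ih (by omega)
    have h1 : cnt T (m + 1) = iz (tg T m) (cnt T m) (cnt T m + 1) := rfl
    rw [h1, iz_eq]
    split_ifs with h2
    · rw [← ih, le_antisymm (le_inf inf_le_left (h.np hm h2)) (inf_le_inf_left _ (gen_mono y m.le_succ))]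
    have h3 := h.ld hm h2
    have h4 := (h.low m hm).2
    rw [pow_succ, ← ih, ← card_sup_cyc (t := ev y (tg T m)) (mem_nz_inf (le_nz_self _ h4)
      (r.nzL (by omega) (h.le h4))) ⟨pow_mem h4 _, r.cube hm (h3.mem hm)⟩ fun h5 => r.ld_nmem h3 hm h5.2]
    congr 2
    refine le_antisymm (fun x hx => ?_) (sup_le (inf_le_inf_left _ (gen_mono y m.le_succ))
      (zpowers_le.2 ⟨h4, h3.mem hm⟩))
    obtain ⟨a, -, h5⟩ := r.dig' hm (h3.mem hm) (r.ld_nmem h3 hm) hx.2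
    have h6 := mul_mem (pow_mem (mem_sup_right (S := U ⊓ gen y m) (mem_zpowers (ev y (tg T m)))) a)
      (mem_sup_left (mem_inf.2 ⟨mul_mem (inv_mem (pow_mem h4 a)) (mem_inf.1 hx).1, h5⟩))
    simpa using h6

theorem ech_eq (h : Ech y U T) (h' : Ech y V T) : U = V := (r.eq_sp h).trans (r.eq_sp h').symm

theorem echL (hk : k ≤ 9) : Ech y (gen y k) (cut YT k) :=
  ⟨gen_mono y hk, low_YT le_rfl, fun j hj => by
    by_cases h : j < k
    · refine Or.inr ?_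
      have : 0 < 3 ^ j := by positivity
      rw [Ld, tg_cut, if_pos h, tg_YT j hj]; omega
    · exact Or.inl ⟨by rw [tg_cut, if_neg h], inf_le_left.trans (gen_mono y (by omega))⟩⟩

theorem echS : Ech y (gen y 9) (cut YT 9) := r.echL le_rfl

theorem ech_stab (h : Ech y U T) (h1 : Ech y X A) (h2 : Ech y Y C) (h3 : Y ≤ X) (h4 : X ≤ nz Y)
    (h0 : cmCk T A C D = 0) : Ech y (U ⊓ stab X Y) D := by
  refine r.ech_tr h inf_le_left (low_of_ent (Nat.eq_zero_of_add_eq_zero_right h0) fun c h6 => ?_)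
    (Nat.eq_zero_of_add_eq_zero_left h0) fun e he h6 h7 => ?_
  · have h7 := Nat.eq_zero_of_add_eq_zero_left h6
    have h8 := cd_zero (Nat.eq_zero_of_add_eq_zero_right h6)
    have h9 := Nat.eq_zero_of_add_eq_zero_left h7
    exact ⟨h8, r.mem_of_sift h.low h8 (Nat.eq_zero_of_add_eq_zero_right h7),
      r.stab_of h1 h2.low h4 h8 (r.nz_of h1 (h2.low.mono h3) h8 h9) h9⟩
  · obtain ⟨k, hk, h8⟩ := a10_zero h6
    exact h8 (r.stCk_of h1.low h2 he h7.2 k hk)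

theorem ech_cz (h : Ech y U T) (h1 : Ech y X A) (h0 : cmCk T A 0 D = 0) : Ech y (U ⊓ cz X) D :=
  stab_bot X ▸ r.ech_stab h h1 ech_bot bot_le (le_nz_bot _) h0

theorem ech_nz (h : Ech y U T) (h1 : Ech y X A) (h0 : cmCk T A A D = 0) : Ech y (U ⊓ nz X) D :=
  stab_self X ▸ r.ech_stab h h1 h1 le_rfl (le_nz_self _) h0

theorem stab_le (h : Ech y U T) (h1 : Ech y X A) (h2 : Low y Y C) (h3 : X ≤ nz Y) (h4 : U ≤ nz X)
    (h0 : ent T (stCk A C) = 0) : U ≤ stab X Y :=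
  r.up' h h0 fun _ he h5 => r.stab_of h1 h2 h3 he.1 (h4 he.2) h5

theorem cz_of (h1 : Ech y X A) (he : e < 19683) (h0 : stCk A 0 e = 0) : ev y e ∈ cz X :=
  stab_bot X ▸ r.stab_of h1 low_zero (le_nz_bot _) he (r.nz_of h1 low_zero he h0) h0

theorem ab_ok (h : Ech y U T) (h1 : Ech y K C) (h0 : abCk T C = 0) :
    U ≤ nz K ∧ U ≤ stab U K ∧ ∀ x ∈ U, x ^ 3 ∈ K := by
  have h2 : U ≤ nz K := r.up' h h0 fun e he h2 => r.nz_of h1 h1.low he.1
    (Nat.eq_zero_of_add_eq_zero_right (Nat.eq_zero_of_add_eq_zero_right h2))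
  have h3 : U ≤ stab U K := r.up' h h0 fun e he h3 => r.stab_of h h1.low h2 he.1 (le_nz_self _ he.2)
    (Nat.eq_zero_of_add_eq_zero_left (Nat.eq_zero_of_add_eq_zero_right h3))
  refine ⟨h2, h3, fun x hx => (r.up' (H := ⟨⟨⟨{x | x ∈ U ∧ x ^ 3 ∈ K}, ?_⟩, one_mem _, by simp⟩, ?_⟩)
    h h0 (fun e he h4 => ⟨he.2, ?_⟩) hx).2⟩
  · rintro a b ⟨ha, ha'⟩ ⟨hb, hb'⟩
    have h5 := (h3 (inv_mem ha)).2 b hb
    refine ⟨mul_mem ha hb, ?_⟩
    convert mul_mem (mul_mem (mul_mem ha' hb') (conj_mem_of_mem_nz' (h2 hb) (conj_mem_of_mem_nz' (h2 hb)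
      (mul_mem h5 (conj_mem_of_mem_nz' (h2 ha) h5))))) (conj_mem_of_mem_nz' (h2 hb) h5) using 1
    simp only [pow_three]; group
  · rintro a ⟨ha, ha'⟩
    exact ⟨inv_mem ha, by rw [inv_pow]; exact inv_mem ha'⟩
  · rw [← r.ev_cu he.1]
    exact r.mem_of_sift h1.low (r.cu_lt he.1) (Nat.eq_zero_of_add_eq_zero_left h4)

theorem chr_op {L : List ℕ} (h : Ech y P T) (h1 : Chr P X) (h2 : Chr P Y) (h3 : Ech y X A)
    (h4 : Ech y Y C) (h5 : Ech y V D) (h0 : opCk T k A C L (fun Q => smCk Q D) = 0) : Chr P V := by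
  obtain ⟨Q, W, h6, h7, h8⟩ := r.op_ok h h1 h2 h3 h4 h0
  exact r.ech_eq (r.ech_same h7 h8) h5 ▸ h6

theorem nmem_of (h : Ech y U T) (he : e < 19683) (h0 : sift T e ≠ 0) : ev y e ∉ U :=
  fun h1 => h0 ((r.sift_iff h he).2 h1)

/-! ### digits and weights -/

theorem dg_eq (hk : k < 9) (h : (y k ^ a)⁻¹ * x ∈ gen y k) : dg y k x = a := by
  have h1 : (y k ^ (a % 3))⁻¹ * x ∈ gen y k := by
    convert mul_mem (pow_mem (r.cube_gen hk) (a / 3)) h using 1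
    conv_rhs => rw [← Nat.mod_add_div a 3, pow_add, pow_mul, Nat.mod_add_div]
    group
  rw [← ZMod.natCast_mod a 3]
  have h2 := Nat.mod_lt a (by decide : 3 > 0)
  generalize a % 3 = b at *
  have h3 : ∀ b < 3, b ≠ 0 → y k ^ b ∉ gen y k := fun b h3 h4 h5 =>
    r.nmem hk (mem_of_pow3 (r.cube_gen hk) h3 h4 h5)
  unfold dg
  obtain rfl | rfl | rfl : b = 0 ∨ b = 1 ∨ b = 2 := by omega
  · rw [if_pos (by simpa using h1)]; rfl
  · rw [if_neg fun h4 => h3 1 h2 one_ne_zero (inv_mem_iff.1 ((mul_mem_cancel_right h4).1 h1)),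
      if_pos (by simpa using h1)]; rfl
  · rw [if_neg fun h4 => h3 2 h2 two_ne_zero (inv_mem_iff.1 ((mul_mem_cancel_right h4).1 h1)),
      if_neg fun h4 => r.nmem hk ?_]
    · rfl
    · convert mul_mem h4 (inv_mem h1) using 1; group

theorem dg_zero : dg y k x = 0 ↔ x ∈ gen y k := by
  unfold dg
  split_ifs with h
  · simpa using h
  · simpa using h
  · exact ⟨fun h' => absurd h' (by decide), fun h' => absurd h' h⟩

theorem dg_mul (hk : k < 9) (hx : x ∈ gen y (k + 1)) (hu : u ∈ gen y (k + 1)) :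
    dg y k (x * u) = dg y k x + dg y k u := by
  obtain ⟨a, -, ha⟩ := r.dig hk hx
  obtain ⟨b, -, hb⟩ := r.dig hk hu
  rw [r.dg_eq hk ha, r.dg_eq hk hb, ← Nat.cast_add]
  refine r.dg_eq hk ?_
  convert mul_mem (conj_mem_of_mem_nz' (r.nzL hk.le (pow_mem (mem_gen y hk) b)) ha) hb using 1
  rw [pow_add]; group

theorem dg_gen (hk : k < 9) : dg y k (y k) = 1 := by
  simpa using r.dg_eq (a := 1) (x := y k) hk (by simp)

theorem dg_inv (hk : k < 9) (hx : x ∈ gen y (k + 1)) : dg y k x⁻¹ = - dg y k x := by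
  rw [eq_neg_iff_add_eq_zero, ← r.dg_mul hk (inv_mem hx) hx, r.dg_zero]; simp

theorem dg_ev (hk : k < 9) (he : e < 3 ^ (k + 1)) : dg y k (ev y e) = (e / 3 ^ k : ℕ) :=
  r.dg_eq hk (by rw [ev_top' hk he, inv_mul_cancel_left]; exact ev_mem_gen hk.le _ (Nat.mod_lt _ (by positivity)))

theorem dg_hom {f : Γ → ZMod 3} (hk : k < 9)
    (h1 : ∀ x ∈ gen y (k + 1), ∀ u ∈ gen y (k + 1), f (x * u) = f x + f u) (h2 : ∀ x ∈ gen y k, f x = 0)
    (hx : x ∈ gen y (k + 1)) : f x = dg y k x * f (y k) := by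
  obtain ⟨a, -, ha⟩ := r.dig hk hx
  have h3 := mem_gen y k.lt_succ_self
  have h4 : ∀ a : ℕ, f (y k ^ a) = a * f (y k) := fun a => by
    induction a with
    | zero => simpa using h2 1 (one_mem _)
    | succ a ih => rw [pow_succ, h1 _ (pow_mem h3 a) _ h3, ih]; push_cast; ring
  rw [r.dg_eq hk ha, ← h4, ← mul_inv_cancel_left (y k ^ a) x,
    h1 _ (pow_mem h3 a) _ (gen_mono y k.le_succ ha), h2 _ ha, add_zero]

theorem dg_conj (hk : k < 9) (h1 : g ∈ nz (gen y k)) (h2 : g ∈ nz (gen y (k + 1)))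
    (hx : x ∈ gen y (k + 1)) : dg y k (g * x * g⁻¹) = dg y k x * wt y g k :=
  r.dg_hom (f := fun x => dg y k (g * x * g⁻¹)) hk (fun x hx u hu => by
    rw [← r.dg_mul hk (conj_mem_of_mem_nz h2 hx) (conj_mem_of_mem_nz h2 hu)]; congr 1; group)
    (fun x hx => r.dg_zero.2 (conj_mem_of_mem_nz h1 hx)) hx

theorem wt_mul (hk : k < 9) (h1 : g ∈ nz (gen y k)) (h2 : g ∈ nz (gen y (k + 1)))
    (h3 : h ∈ nz (gen y (k + 1))) : wt y (g * h) k = wt y g k * wt y h k := by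
  rw [mul_comm, wt, wt, ← r.dg_conj hk h1 h2 (conj_mem_of_mem_nz h3 (mem_gen y k.lt_succ_self))]
  congr 1; group

theorem wt_ne (hk : k < 9) (h1 : g ∈ nz (gen y k)) : wt y g k ≠ 0 := fun h =>
  r.nmem hk (by simpa [mul_assoc] using conj_mem_of_mem_nz' h1 (r.dg_zero.1 h))

theorem dg_comm (hk : k < 9) (h1 : g ∈ nz (gen y k)) (h2 : g ∈ nz (gen y (k + 1)))
    (hx : x ∈ gen y (k + 1)) : dg y k (x⁻¹ * (g * x * g⁻¹)) = dg y k x * (wt y g k - 1) := by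
  rw [r.dg_mul hk (inv_mem hx) (conj_mem_of_mem_nz h2 hx), r.dg_inv hk hx, r.dg_conj hk h1 h2 hx]; ring

theorem wt_one (hk : k < 9) (h1 : g ∈ nz (gen y k)) (h2 : g ∈ nz (gen y (k + 1))) :
    wt y g k = 1 ↔ g ∈ stab (gen y (k + 1)) (gen y k) := by
  refine ⟨fun h => ⟨h2, fun x hx => by rw [← r.dg_zero, r.dg_comm hk h1 h2 hx, h]; simp⟩, fun h => ?_⟩
  have := r.dg_zero.2 (h.2 _ (mem_gen y k.lt_succ_self))
  rwa [r.dg_comm hk h1 h2 (mem_gen y k.lt_succ_self), r.dg_gen hk, one_mul, sub_eq_zero] at this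

theorem wt_S (hk : k < 9) (hg : g ∈ gen y 9) : wt y g k = 1 :=
  (r.wt_one hk (r.nzL hk.le hg) (r.nzL hk hg)).2 (r.stabL hk hg)

theorem dg_S (hk : k < 9) (hg : g ∈ gen y 9) (hx : x ∈ gen y (k + 1)) :
    dg y k (g * x * g⁻¹) = dg y k x := by
  rw [r.dg_conj hk (r.nzL hk.le hg) (r.nzL hk hg) hx, r.wt_S hk hg, mul_one]

theorem trp (hp : p < 9) (hq : q < 9) (hs : s < 9) (h0 : trpCk p q s = 0) :
    dg y s ((y p)⁻¹ * (y q * y p * (y q)⁻¹)) ≠ 0 ∧ ∀ x ∈ gen y (p + 1), ∀ g ∈ gen y (q + 1),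
      x⁻¹ * (g * x * g⁻¹) ∈ gen y (s + 1) ∧ dg y s (x⁻¹ * (g * x * g⁻¹)) =
        dg y p x * dg y q g * dg y s ((y p)⁻¹ * (y q * y p * (y q)⁻¹)) := by
  have a1 := Nat.eq_zero_of_add_eq_zero_right h0
  have a2 := Nat.eq_zero_of_add_eq_zero_left h0
  have L : ∀ {i j k}, i ≤ 9 → j ≤ 9 → k ≤ 9 → ent (cut YT i) (stCk (cut YT j) (cut YT k)) = 0 →
      ∀ g ∈ gen y i, ∀ x ∈ gen y j, x⁻¹ * (g * x * g⁻¹) ∈ gen y k := fun hi hj hk h g hg =>
    (r.stab_le (r.echL hi) (r.echL hj) (low_YT le_rfl) ((gen_mono y hj).trans (r.nzL hk))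
      ((gen_mono y hi).trans (r.nzL hj)) h hg).2
  have h1 := L hq hp hs (Nat.eq_zero_of_add_eq_zero_right a1)
  have h2 := L hq hp.le hs.le (Nat.eq_zero_of_add_eq_zero_left a1)
  have h3 := L hq.le hp hs.le (Nat.eq_zero_of_add_eq_zero_right a2)
  have h4 : 3 ^ s - cm (3 ^ p) (inv (3 ^ q)) = 0 := Nat.eq_zero_of_add_eq_zero_left a2
  have h5 := r.inv_lt (pow3_lt hq)
  refine ⟨fun h => ?_, fun x hx g hg => ⟨h1 g hg x hx, ?_⟩⟩
  · have := r.ev_cm (pow3_lt hp) h5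
    rw [r.ev_inv (pow3_lt hq), ev_gen hp, ev_gen hq, inv_inv] at this
    rw [r.dg_zero, ← this, r.mem_iff hs.le (r.cm_lt (pow3_lt hp) h5)] at h
    omega
  rw [r.dg_hom (f := fun x => dg y s (x⁻¹ * (g * x * g⁻¹))) hp (fun x hx u hu => ?_)
    (fun x hx => r.dg_zero.2 (h2 g hg x hx)) hx,
    r.dg_hom (f := fun g => dg y s ((y p)⁻¹ * (g * y p * g⁻¹))) hq (fun g hg u hu => ?_)
    (fun g hg => r.dg_zero.2 (h3 g hg _ (mem_gen y p.lt_succ_self))) hg]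
  · ring
  · rw [← r.dg_S hs (gen_mono y hq hg) (h1 u hu _ (mem_gen y p.lt_succ_self)), ← r.dg_mul hs
      (h1 g hg _ (mem_gen y p.lt_succ_self)) (conj_mem_of_mem_nz (r.nzL hs (gen_mono y hq hg))
      (h1 u hu _ (mem_gen y p.lt_succ_self)))]
    congr 1; group
  · rw [← r.dg_S hs (inv_mem (gen_mono y hp hu)) (h1 g hg x hx), ← r.dg_mul hs
      (conj_mem_of_mem_nz (r.nzL hs (inv_mem (gen_mono y hp hu))) (h1 g hg x hx)) (h1 g hg u hu)]
    congr 1; group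

theorem wt_trp (hp : p < 9) (hq : q < 9) (hs : s < 9) (h0 : trpCk p q s = 0)
    (hg : ∀ k ≤ 9, g ∈ nz (gen y k)) : wt y g s = wt y g p * wt y g q := by
  obtain ⟨h1, h2⟩ := r.trp hp hq hs h0
  have h3 := (h2 _ (conj_mem_of_mem_nz (hg _ hp) (mem_gen y p.lt_succ_self)) _
    (conj_mem_of_mem_nz (hg _ hq) (mem_gen y q.lt_succ_self))).2
  have h4 := r.dg_conj hs (hg _ hs.le) (hg _ hs)
    (h2 _ (mem_gen y p.lt_succ_self) _ (mem_gen y q.lt_succ_self)).1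
  rw [show g * ((y p)⁻¹ * (y q * y p * (y q)⁻¹)) * g⁻¹ = (g * y p * g⁻¹)⁻¹ *
    (g * y q * g⁻¹ * (g * y p * g⁻¹) * (g * y q * g⁻¹)⁻¹) by group, h3, mul_comm] at h4
  exact (mul_left_cancel₀ h1 h4).symm

/-- a normal subgroup with an element of leading term `p` has one of leading term `s` -/
theorem lead_trp (hp : p < 9) (hq : q < 9) (hs : s < 9) (h0 : trpCk p q s = 0) (hn : gen y 9 ≤ nz U)
    (h : ¬ U ⊓ gen y (p + 1) ≤ gen y p) : ¬ U ⊓ gen y (s + 1) ≤ gen y s := fun h' => h fun x hx => by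
  obtain ⟨h1, h2⟩ := r.trp hp hq hs h0
  obtain ⟨h3, h4⟩ := h2 x hx.2 _ (mem_gen y q.lt_succ_self)
  rw [r.dg_zero.2 (h' (mem_inf.2 ⟨mul_mem (inv_mem (mem_inf.1 hx).1) (conj_mem_of_mem_nz (hn (mem_gen y hq))
    (mem_inf.1 hx).1), h3⟩)), r.dg_gen hq, mul_one] at h4
  exact r.dg_zero.1 ((mul_eq_zero.1 h4.symm).resolve_right h1)

theorem succ_le (hk : k < 9) (h1 : gen y k ≤ U) (h : ¬ U ⊓ gen y (k + 1) ≤ gen y k) :
    gen y (k + 1) ≤ U := by
  obtain ⟨x, hx, h2⟩ := SetLike.not_le_iff_exists.1 h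
  rw [← r.sup_eq hk hx.2 h2]
  exact sup_le h1 (zpowers_le.2 hx.1)

end Md

end H16.C9
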