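import Cfsg.Agent.H16.C9s
import Cfsg.Agent.H16.C9p
import Cfsg.Agent.H4.G3b

/-! Exclusion of the small candidates for essential subgroups. -/

set_option autoImplicit false
set_option linter.unusedSectionVars false
set_option maxRecDepth 100000
set_option Elab.async false

namespace H16.C9
open H26 (frc frc_eq)
open Subgroup H25 H25.FS H4.G3 H4 Matrix

variable {Γ : Type*} [Group Γ] [Finite Γ] {y : ℕ → Γ} {F : FS Γ} {E H P Q U V W X Y : Subgroup Γ}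
  {c e k n t u z T A C D N : ℕ} {g : Γ} {L : List ℕ}

theorem ess_cj (hF : F.Sat 3) (hE : F.Ess E) (H : F.T (F.N E) g) : F.Ess (cj g E) := by
  have HE := H.mono (le_N hE.le)
  refine (hF.ess_iff (hE.fn.cj H) fun e => (H25.card_lt_of_lt hE.lt).ne (by rw [← e, card_cj])).2
    fun e => hE.not_le ?_
  rw [← cj_le_cj (g := g), HE.cj_A, ← e]
  refine (closure_le _).2 ?_
  rintro a ⟨ha, R, h, hR, H', ag⟩
  obtain ⟨x, hx, x1, x2⟩ := exists_mem_nz_of_lt (hF.pg' H'.le) hR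
  have hx' : x ∈ cj g (F.N E) := hE.fn.cj_eq H ▸ ⟨H'.le hx, x1⟩
  have hh := ag.symm.mem_nz ha
  have h0 : h * x * h⁻¹ ∈ nz (cj g E) := mul_mem (mul_mem hh x1) (inv_mem hh)
  have h1 : h * x * h⁻¹ ∈ cj g (F.N E) := hE.fn.cj_eq H ▸ ⟨H'.conj_mem hx, h0⟩
  have h2 : a * x * a⁻¹ ∈ cj g (ai F.S E) := by
    rw [← ai_inf_nz, cj_ai]
    exact (agree_conj ag hh x1).mem_ai (mem_ai_of_mem h1 h0)
  refine mem_cj.2 ((hF.rec_fn hE.fn).mem_Hx (mem_cj.1 (HE.cj_A ▸ ((H'.mono hR.le).congr ag).mem_A ha))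
    (mem_cj.1 hx') (fun h => x2 (mem_cj.2 h)) ?_)
  simpa [mul_assoc] using mem_cj.1 h2

theorem hy_ess (hF : F.Sat 3) (hS : F.S = gen y 9) : Hy y F.Ess where
  le _ h := hS ▸ h.le
  cen _ h := hS ▸ h.centric.C_le
  cj _ h _ hs := ess_cj hF h (F.of_mem inf_le_left (hS ▸ hs))
  rad P h _ h1 h2 _ hx hx' hD := (lc_of_ess hF h).mem_of ((F.A_le_nz P).trans h1)
    (fun k hk => h2 k (F.A_le_nz P hk)) ⟨hS ▸ hx, hx'⟩ hD

/-- `A` is a table of a subgroup of the group with table `T` -/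
abbrev Sb (A T : ℕ) : Prop := clCk A = 0 ∧ ent A (sift T) = 0

/-- one characteristic subgroup from two others -/
abbrev Oc (T k A C D : ℕ) : Prop := opCk T k A C [D] (fun Q => smCk Q D) = 0

/-- rank at most three and a large normalizer -/
abbrev RkCk (T Q N : ℕ) : Prop := cnt T 9 + 2 ≤ cnt N 9 ∧ cnt T 9 ≤ cnt Q 9 + 3 ∧ clCk Q = 0 ∧ clCk N = 0 ∧
  ent N (stCk T T) = 0

/-- a transvection, and a second element acting trivially modulo the axis -/
abbrev TvCk (T Q A C z t u : ℕ) : Prop := Sb A T ∧ abCk T A = 0 ∧ cnt T 9 ≤ cnt A 9 + 1 ∧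
  (z < 19683 ∧ t < 19683 ∧ u < 19683) ∧ (sift A z = 0 ∧ sift C t = 0 ∧ sift T t ≠ 0 ∧ sift C u ≠ 0) ∧
  (stCk T (add Q z) t = 0 ∧ stCk A Q t = 0 ∧ stCk T A u = 0) ∧ clCk C = 0 ∧ ent T (sift C) = 0

/-- a basis of a section -/
abbrev CoCk (n : ℕ) (L : List ℕ) (T C : ℕ) : Prop := ent C (sift T) = 0 ∧ abCk T C = 0 ∧ cnt T 9 = cnt C 9 + n ∧
  (∀ i : Fin n, nth 0 L i < 19683 ∧ sift T (nth 0 L i) = 0) ∧
  ent T (sift (foL (fun i D => add D (nth 0 L i)) (List.range n) C)) = 0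

/-- a Heisenberg group acting -/
abbrev StCk {n : ℕ} (L : List ℕ) (T : ℕ) (f : P3 → ℕ) (m : P3 → Mt n) : Prop := CoCk n L T 0 ∧
  ∀ p, f p < 19683 ∧ stCk T T (f p) = 0 ∧ (p ≠ 0 → sift T (f p) ≠ 0) ∧ MCk L 0 (inn YT (f p)) (m p)

/-- elements of the Heisenberg group, in reversed order -/
noncomputable def hc (a b c : ℕ) (p : P3) : ℕ :=
  frc (pw3 c (p.2.2 - p.1 * p.2.1)) fun x => frc (pw3 b p.2.1) fun u => frc (pw3 a p.1) fun v =>
    frc (mul u v) (mul x)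

def SD : List (List ℕ × List ℕ) := [
  ([76, 73], [0xf30051001b000000030001, 0x19a10000000000f30051001b000900050001, 5, 9, 729]),
  ([76, 75], [0x222c000002d900f300630031001000030001]),
  ([76, 75], [0x2ab7000002d900f3005a002c000f00030001]),
  ([], []),
  ([73], [0x2d900000000001b000000030001, 0x19a1000002d900000000001b000900050001, 5, 9, 99]),
  ([78], [0x2e200000000001b000000030001, 0x19f2000002e200000000001b000900050001, 5, 9, 99]),
  ([78], [0x2eb00000000001b000000030001, 0x1a43000002eb00000000001b000900050001, 5, 9, 99]),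
  ([78], [0x32a00000000001b000000030001, 0x1a940000032a00000000001b000900050001, 5, 9, 81]),
  ([78], [0x37b00000000001b000000030001, 0x1b870000037b00000000001b000900050001, 5, 9, 81]),
  ([79, 73], [0x19a1088b02d900000000001b000900030001]),
  ([79, 78], [0x19f2088b02e500000000001b000c00040001]),
  ([79, 78], [0x1a43088b02f100000000001b000c00040001]),
  ([], [0x900030001, 0x8a6000000000000001b000900030001, 3, 27, 81]),
  ([], [0x900030001, 0x8c1000000000000001b000900030001, 3, 27, 81]),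
  ([75], [0x2d900000000002d000000030001, 0x222c000002d900000000002d000900050001, 5, 9, 81]),
  ([75], [0x2d9000000000024000000030001, 0x2ab7000002d9000000000024000900050001, 5, 9, 81]),
  ([], [0x900030001, 0x32a00000000001e000900030001, 2, 30, 158]),
  ([], [0x900030001, 0x37b00000000001e000900030001, 2, 30, 158]),
  ([], [0xf30000001b000000000001, 0x19a10000000000f30000001b000000030001, 2, 3, 81]),
  ([], [0xf30000001b000000000001, 0x19f20000000000f30000001b000000050001, 2, 5, 81]),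
  ([], [0xf30000001b000000000001, 0x1a430000000000f30000001b000000050001, 2, 5, 81]),
  ([], [0x222c000002d9000000630031000000030001]),
  ([], [0x2ab7000002d90000005a002c000000030001]),
  ([], [0x19a1088b02d900000000001b000000030001]),
  ([], [0x19f2089402ea00000000001b000000040001]),
  ([], [0x1a43089d02ef00000000001b000000040001]),
  ([], [0x1a940000032a00000000001b000000030001]),
  ([], [0x1b870000037b00000000001b000000030001]),
  ([], [0x19a1088b02d900000000002d000000050001]),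
  ([], [0x1a4308e50309000000000032000000030001]),
  ([], [0x19f2093f031e000000000032000000030001]),
  ([], [0x19a1088b02d9000000000024000000050001]),
  ([], [0x19f208dc030400000000002a000000030001]),
  ([], [0x1a43092d032600000000002a000000030001])]

/-- `⟨b, c, u, v, z⟩` -/
def tV : ℕ := nat_lit 0x88b02d9000000000000000900030001
/-- `⟨c, f, u, v, z⟩` -/
def tQ3 : ℕ := nat_lit 0x2d900000000001b000900030001

theorem swc : SW.length = SD.length ∧ ∀ p ∈ SW.zip SD, p.1 = tV ∨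
    RkCk p.1 (foL (stp p.1) p.2.1 0) (nth 0 p.2.2 0) ∨ TvCk p.1 (foL (stp p.1) p.2.1 0) (nth 0 p.2.2 0)
      (nth 0 p.2.2 1) (nth 0 p.2.2 2) (nth 0 p.2.2 3) (nth 0 p.2.2 4) := by decide +kernel

theorem vc : StCk [1, 6, 729, 9, 2187] tV (hc 81 6561 27) fun p => (M5 p)ᵀ := by decide +kernel

theorem bc : Oc tB 0 tB 0 (cut YT 3) ∧ Oc tB 0 tB (cut YT 3) (cut YT 5) ∧ sift tB 729 ≠ 0 ∧
    stCk tB (cut YT 5) 729 = 0 ∧ stCk (cut YT 5) (cut YT 3) 729 = 0 ∧ stCk (cut YT 3) 0 729 = 0 := by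
  decide +kernel

theorem rc : Oc tR 0 tR 0 (cut YT 3) ∧ cmCk tR tR (cut YT 2) tQ3 = 0 ∧ ent YT (stCk tR tR) = 0 ∧
    (sift tR 6561 ≠ 0 ∧ sift tR 243 ≠ 0) ∧ stCk tR tQ3 6561 = 0 ∧ stCk tQ3 (cut YT 3) 6561 = 0 ∧
    stCk (cut YT 3) 0 243 = 0 ∧ ent (cut YT 3) (sift tQ3) = 0 ∧ ent YT (stCk tQ3 tQ3) = 0 := by
  decide +kernel

namespace Md
variable (r : Md y)
include r

theorem low_stp (h : Ech y U A) (L : List ℕ) : Low y (fr U) (foL (stp A) L 0) := by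
  have hp := r.pg.to_le h.le
  refine foL_ind (I := Low y (fr U)) (fun c _ Q hQ => ?_) _ low_zero
  have h4 : ∀ k < 9, In y U (tq A Q k) := fun k hk => by
    unfold tq
    rw [frc_eq, iz_eq]
    split_ifs
    exacts [(hQ k hk).mono (fr_le U), h.low k hk]
  unfold stp
  rw [frc_eq, frc_eq, frc_eq, frc_eq, iz_eq]
  have h5 := h4 _ (Nat.mod_lt (Nat.div c (nat_lit 9)) (by decide : 9 > 0))
  have h6 := h4 _ (Nat.mod_lt c (by decide : 9 > 0))
  refine r.low_add hQ ?_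
  split_ifs
  · exact ⟨r.cu_lt h5.1, (r.ev_cu h5.1).symm ▸ pow_mem_fr hp h5.2⟩
  · refine ⟨r.cm_lt h5.1 h6.1, (r.ev_cm h5.1 h6.1).symm ▸ commutator_le_fr hp ?_⟩
    simpa [commutatorElement_def, mul_assoc] using commutator_mem_commutator
      (inv_mem h5.2) (inv_mem h6.2)

theorem sb (h : Ech y P T) (h0 : Sb A T) : Ech y (sp y A) A ∧ sp y A ≤ P :=
  ⟨r.ech_sp h0.1, r.le_of_sift (r.ech_sp h0.1) h.low h0.2⟩

theorem el (h : Ech y P T) (h0 : abCk T 0 = 0) : Cm P ∧ ∀ x ∈ P, x ^ 3 = 1 := by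
  obtain ⟨-, h1, h2⟩ := r.ab_ok h ech_bot h0
  rw [stab_bot] at h1
  exact ⟨fun a ha b hb => mem_cz'.1 (h1 hb) a ha, h2⟩

theorem low_one (he : e < 19683) : Low y (zpowers (ev y e)) (add 0 e) :=
  r.low_add low_zero ⟨he, mem_zpowers _⟩

theorem nz_S (h : Ech y P T) (h0 : ent YT (stCk T T) = 0) : gen y 9 ≤ nz P :=
  r.up' r.echS h0 fun _ he e => r.nz_of h h.low he.1 e

theorem rk_ok (hF : F.Sat 3) (hS : F.S = gen y 9) (hP : F.Ess P) (h : Ech y P T)
    (h0 : RkCk T (foL (stp T) L 0) N) : False := by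
  obtain ⟨a1, a2, a3, a4, a5⟩ := h0
  have b1 := card_le_of_le (r.low_stp h L).sp_le
  have hN := r.ech_sp a4
  have b2 := card_le_of_le (le_inf (hS ▸ hN.le) (r.up' hN a5 fun _ he e => r.nz_of h h.low he.1 e) :
    _ ≤ F.N P)
  have b3 := (lc_of_ess hF hP).card_le
  rw [r.card_ech (r.ech_sp a3)] at b1
  rw [r.card_ech hN] at b2
  rw [r.card_ech h] at b3
  have b4 := b2.trans (b3 ((Nat.pow_le_pow_right (by decide) a2).trans
    (by rw [pow_add]; exact Nat.mul_le_mul_right _ b1)))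
  rw [← pow_succ, Nat.pow_le_pow_iff_right (by decide)] at b4
  omega

theorem tv_ok (hF : F.Sat 3) (hS : F.S = gen y 9) (hP : F.Ess P) (h : Ech y P T)
    (h0 : TvCk T (foL (stp T) L 0) A C z t u) : False := by
  obtain ⟨a2, a1, a3, ⟨hz, ht, hu⟩, ⟨b1, b2, b3, b4⟩, ⟨c1, c2, c3⟩, d1, d2⟩ := h0
  obtain ⟨hX, hXP⟩ := r.sb h a2
  have hQ := r.low_stp h L
  have q := lc_of_ess hF hP
  have e1 : ⁅P, P⁆ ≤ fr P := commutator_le_fr q.pE
  have e2 : fr P ≤ sp y A := by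
    obtain ⟨-, h1, h2⟩ := r.ab_ok h hX a1
    exact fr_le_of (commutator_le.2 fun a ha b hb => (mem_stab'.1 (h1 ha)).2 b hb) h2
  have hW := r.ech_sp d1
  have h1 := r.mem_of_sift hX.low hz b1
  have e3 : fr P ⊔ zpowers (ev y z) ≤ P := sup_le (fr_le P) (zpowers_le.2 (hXP h1))
  have e4 := r.low_add (hQ.mono le_sup_left) ⟨hz, mem_sup_right (mem_zpowers _)⟩
  have h3 := r.nz_of h (e4.mono e3) ht c1
  have h4 := r.nz_of h (hX.low.mono hXP) hu c3
  have hA : F.A P ≤ nz (fr P) := q.An.trans (nz_le_nz_fr P)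
  have hN := q.NA.trans hA
  have hE := q.lt.le.trans hN
  have hY : pre (qt (fr P)) ⊥ ≤ P := (pre_qt _).le.trans (fr_le P)
  have le : F.A P ⊓ stab P (fr P) ≤ ai (F.N P) P := q.syl.le_of_normal_pel (cz_le_ai _ _) q.nzc
    (fun k hk => pel_of_fr q.pE hk.2) inf_le_left fun g hg =>
      mem_nz_inf (le_nz_self _ hg) (nz_stab (q.An hg) (hA hg))
  have q' := q.quot (π := qt (fr P)) (D := F.A P ⊓ F.Hx P) hA hY inf_le_left
    (fun h => q.nB (h.trans inf_le_right)) (by rw [pre_qt]; exact le_inf inf_le_left (le.trans q.ai_le))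
    fun a ha x hx hx' h => ⟨ha, q.hB a ha x hx hx' (by rwa [pre_qt, sup_eq_right.2 le] at h)⟩
  have ez : ∀ {x : Γ}, x ∈ nz (fr P) → ∀ {K}, K ≤ nz (fr P) →
      im (qt (fr P)) (K ⊔ zpowers x) = im (qt (fr P)) K ⊔ zpowers (ex (qt (fr P)) x) := fun hx _ hK => by
    rw [im_sup _ hK (zpowers_le.2 hx), im_zpowers _ hx]
  have t1 : ev y t ∈ F.N P := ⟨hS ▸ ev_mem ht, h3⟩
  have u1 : ev y u ∈ F.N P := ⟨hS ▸ ev_mem hu, h4⟩
  have tv : TV 3 _ _ _ _ (im (qt (fr P)) (sp y A)) (ex (qt (fr P)) (ev y z)) (ex (qt (fr P)) (ev y t)) :=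
    ⟨q', (cm_qt hE).2 fun a ha b hb => e1 (commutator_mem_commutator ha hb),
      (pw_qt hE).2 fun a ha => pow_mem_fr q.pE ha, im_mono _ hXP, by
        have c : Nat.card P ≤ Nat.card (sp y A) * 3 := by
          rw [r.card_ech h, r.card_ech hX, ← pow_succ]; exact Nat.pow_le_pow_right (by decide) a3
        rw [card_qt (fr_le P) hE, card_qt e2 (hXP.trans hE), mul_assoc] at c
        exact Nat.le_of_mul_le_mul_left c Nat.card_pos,
      ex_mem_im _ hN t1, fun e => r.nmem_of h ht b3 ((mem_qt (fr_le P) hE (hN t1)).1 e),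
      (cz_qt e2 (hXP.trans hE) (hN t1)).2 (r.stab_of hX hQ (hXP.trans hE) ht
        (r.nz_of hX (hQ.mono e2) ht c2) c2), ex_mem_im _ (hXP.trans hE) h1, by
        have := (stab_qt le_sup_left e3 hE (hN t1)).2 (r.stab_of h e4
          (le_nz_of_commutator_le e3 (e1.trans le_sup_left)) ht h3 c1)
        rw [ez (hE (hXP h1)) (le_nz_self _), im_qt_self, bot_sup_eq] at this
        exact (mem_stab'.1 this).2⟩
  have := tv.mem_of_stab (ex_mem_im _ hN u1) ((stab_qt e2 hXP hE (hN u1)).2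
    (r.stab_of h hX.low (le_nz_of_commutator_le hXP (e1.trans e2)) hu h4 c3))
  rw [← ez (hN t1) hE, mem_qt ((fr_le P).trans le_sup_left) (sup_le hE (zpowers_le.2 (hN t1))) (hN u1)] at this
  exact r.nmem_of hW hu b4 (sup_le (r.le_of_sift h hW.low d2) (zpowers_le.2 (r.mem_of_sift hW.low ht b2)) this)

theorem co (hV : Ech y V T) (hQ : Ech y Q C) (h1 : H ≤ nz V) (h2 : H ≤ nz Q) (h0 : CoCk n L T C) :
    ∃ co ρ, Co V Q H (fun i : Fin n => ev y (nth 0 L i)) co ρ := by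
  obtain ⟨a1, a2, a3, a4, a5⟩ := h0
  obtain ⟨b1, b2, b3⟩ := r.ab_ok hV hQ a2
  exact exists_co (r.le_of_sift hQ hV.low a1) h1 h2 b1 b2 b3 (fun i => r.mem_of_sift hV.low (a4 i).1 (a4 i).2)
    (fun K k1 k2 => r.le_of_sift hV (foL_ind (I := Low y K) (fun i hi _ hD => r.low_add hD
      ⟨(a4 ⟨i, List.mem_range.1 hi⟩).1, k2 ⟨i, List.mem_range.1 hi⟩⟩) _ (hQ.low.mono k1)) a5)
    (by rw [r.card_ech hV, r.card_ech hQ, a3, pow_add])

theorem at_ev (he : e < 19683) : At y (ev y e) (inn YT e) := mul_one (ev y e) ▸ r.at_inn at_YT he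

theorem st {f : P3 → ℕ} {m : P3 → Mt n} (hF : F.Sat 3) (hS : F.S = gen y 9) (hP : F.Ess P) (h : Ech y P T)
    (h0 : StCk L T f m) : ∃ co ρ h, Co P ⊥ (F.A P) (fun i : Fin n => ev y (nth 0 L i)) co ρ ∧
      St m ρ ((F.Hx P).subgroupOf _) h ∧ ∀ p, (h p : Γ) = ev y (f p) := by
  obtain ⟨co, ρ, c⟩ := r.co h ech_bot (F.A_le_nz P) (le_nz_bot _) h0.1
  have q := lc_of_ess hF hP
  have a : ∀ p, ev y (f p) ∈ F.N P := fun p =>
    ⟨hS ▸ ev_mem (h0.2 p).1, r.nz_of h h.low (h0.2 p).1 (h0.2 p).2.1⟩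
  exact ⟨co, ρ, fun p => ⟨_, q.NA (a p)⟩, c, c.st q (fun p => ⟨a p, q.ai_le (q.N_ai (a p))⟩)
    (fun p hp => r.nmem_of h (h0.2 p).1 ((h0.2 p).2.2.1 hp)) fun p =>
      c.mat r.toRl (fun i => (h0.1.2.2.2.1 i).1) low_zero (r.at_ev (h0.2 p).1) (h0.2 p).2.2.2, fun _ => rfl⟩

theorem sw_ok (hF : F.Sat 3) (hS : F.S = gen y 9) (hP : F.Ess P) (h : Ech y P T) (hT : T ∈ SW) : False := by
  obtain ⟨i, hi, rfl⟩ := List.getElem_of_mem hT
  rcases swc.2 (_, SD[i]'(swc.1 ▸ hi)) (List.getElem_zip (l := SW) (l' := SD) (i := i)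
    (h := by simp [← swc.1, hi]) ▸ List.getElem_mem _)
    with e | e | e
  · obtain ⟨-, ρ, _, -, s, -⟩ := r.st hF hS hP ((show SW[i] = tV from e) ▸ h) vc
    obtain ⟨σ, t, -⟩ := s.tr
    exact t.no5
  · exact r.rk_ok hF hS hP h e
  · exact r.tv_ok hF hS hP h e

theorem b_ok (hF : F.Sat 3) (hS : F.S = gen y 9) (hP : F.Ess P) (h : Ech y P tB) : False := by
  obtain ⟨a1, a2, a3, a4, a5, a6⟩ := bc
  have L3 := r.echL (k := 3) (by decide)
  have L5 := r.echL (k := 5) (by decide)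
  have c3 := r.chr_op h chr_self chr_bot h ech_bot L3 a1
  have c5 := r.chr_op h chr_self c3 h L3 L5 a2
  have m := ev_mem (y := y) (e := 729) (by decide)
  have b1 := r.nz_of h (L5.low.mono c5.1) (by decide) a4
  exact r.nmem_of h (by decide) a3 ((hy_ess hF hS).rad P hP (stab P (gen y 5) ⊓ stab (gen y 5) (gen y 3) ⊓
    cz (gen y 3)) (fun g hg => mem_nz_inf (mem_nz_inf (nz_stab hg (c5.2 hg)) (nz_stab (c5.2 hg) (c3.2 hg)))
      (mem_nz_cz (c3.2 hg))) (fun k hk h => pel_of_stab (r.pg.to_le L5.le) h.1.1 h.1.2.1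
        (pel_of_stab_cz (r.pg.to_le L3.le) h.1.2 h.2)) _ m b1 ⟨⟨r.stab_of h L5.low c5.nz (by decide) b1 a4,
      r.stab_of L5 L3.low (L5.le.trans (r.nzL (by decide))) (by decide) (c5.2 b1) a5⟩,
      r.cz_of L3 (by decide) a6⟩)

theorem r_ok (hF : F.Sat 3) (hS : F.S = gen y 9) (hP : F.Ess P) (h : Ech y P tR) : False := by
  obtain ⟨a1, a2, a3, ⟨a4, a5⟩, a6, a7, a8, a9, a10⟩ := rc
  have L2 := r.echL (k := 2) (by decide)
  have L3 := r.echL (k := 3) (by decide)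
  have c3 := r.chr_op h chr_self chr_bot h ech_bot L3 a1
  have l : ∀ {i j}, i ≤ j → gen y i ≤ gen y j := gen_mono y
  have hX := r.ech_stab h h L2 ((l (by decide)).trans c3.1) (h.le.trans (r.nzL (by decide))) a2
  have n1 := r.nz_S h a3
  have n2 := r.nz_S hX a10
  have n3 := r.le_of_sift L3 hX.low a9
  have n4 : ∀ k ∈ F.A P ⊓ cz (gen y 3), k ∈ nz (P ⊓ stab P (gen y 2)) := fun k hk => mem_nz_inf (F.A_le_nz P hk.1)
    (nz_stab (F.A_le_nz P hk.1) (cz_le_nz _ (cz_anti (l (by decide)) hk.2)))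
  generalize P ⊓ stab P (gen y 2) = X at *
  have q := lc_of_ess hF hP
  have m : ∀ e < 19683, ev y e ∈ F.N P := fun e he => ⟨hS ▸ ev_mem he, n1 (ev_mem he)⟩
  have s := ev_mem (y := y) (e := 6561) (by decide)
  have p := fun k (hk : k ≤ 9) => r.pg.to_le (l hk)
  have b1 : ev y 6561 ∈ F.A P ⊓ (stab P X ⊓ stab X (gen y 3) ⊓ stab (gen y 3) (gen y 2) ⊓
      stab (gen y 2) (gen y 1) ⊓ stab (gen y 1) (gen y 0)) := ⟨q.NA (m _ (by decide)),
    ⟨⟨⟨r.stab_of h hX.low (h.le.trans n2) (by decide) (n1 s) a6, r.stab_of hX L3.low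
      (hX.le.trans (r.nzL (by decide))) (by decide) (n2 s) a7⟩, r.stabL (by decide) s⟩, r.stabL (by decide) s⟩,
      r.stabL (by decide) s⟩
  refine q.nB fun g hg => q.conj hg (m 243 (by decide)) (r.nmem_of h (by decide) a5) ?_
  have b2 : g * ev y 243 * g⁻¹ ∈ F.A P ⊓ cz (gen y 3) := conj_mem_of_mem_nz (mem_nz_inf (le_nz_self _ hg)
    (mem_nz_cz (c3.2 (q.An hg)))) ⟨q.NA (m _ (by decide)), r.cz_of L3 (by decide) a8⟩
  generalize g * ev y 243 * g⁻¹ = k at b2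
  have b3 : ∀ i ≤ 3, k ∈ nz (gen y i) := fun i hi => cz_le_nz _ (cz_anti (l hi) b2.2)
  refine q.pair (K := F.A P ⊓ (stab P X ⊓ stab X (gen y 3) ⊓ stab (gen y 3) (gen y 2) ⊓
      stab (gen y 2) (gen y 1) ⊓ stab (gen y 1) (gen y 0))) inf_le_left (fun k ⟨_, ⟨⟨⟨k1, k2⟩, k3⟩, k4⟩, k5⟩ => pel_of_stab (r.pg.to_le hX.le) k1 k2.1
    (pel_of_stab (p 3 (by decide)) k2 k3.1 (pel_of_stab (p 2 (by decide)) k3 k4.1
      (pel_of_stab_cz (p 1 (by decide)) k4 (by rwa [gen_zero, stab_bot] at k5))))) b2.1 (m _ (by decide))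
    (r.nmem_of h (by decide) a4) (m _ (by decide)) (r.nmem_of h (by decide) a4) b1 (conj_mem_of_mem_nz
      (mem_nz_inf (le_nz_self _ b2.1) (mem_nz_inf (mem_nz_inf (mem_nz_inf (mem_nz_inf
        (nz_stab (q.An b2.1) (n4 k b2)) (nz_stab (n4 k b2) (b3 3 le_rfl)))
        (nz_stab (b3 3 le_rfl) (b3 2 (by decide)))) (nz_stab (b3 2 (by decide)) (b3 1 (by decide))))
        (nz_stab (b3 1 (by decide)) (b3 0 (by decide))))) b1)

theorem ess_cases (hF : F.Sat 3) (hS : F.S = gen y 9) (hP : F.Ess P) : ∃ s ∈ gen y 9, F.Ess (cj s P) ∧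
    ∃ T ∈ [tE1, tE2, tE3, tE4, tE5, tJ], cj s P = sp y T := by
  obtain ⟨s, hs, T, hT, h⟩ := r.cls (hy_ess hF hS) hP
  have h1 := (hy_ess hF hS).cj P hP s hs
  refine ⟨s, hs, h1, T, ?_, r.eq_sp h⟩
  simp only [SV, List.mem_cons] at hT ⊢
  rcases hT with rfl | rfl | rfl | rfl | rfl | rfl | rfl | rfl | rfl | hT
  · exact absurd (hS.trans (r.ech_eq r.echS h)) h1.lt.ne'
  iterate 6 simp
  exacts [(r.b_ok hF hS h1 h).elim, (r.r_ok hF hS h1 h).elim, (r.sw_ok hF hS h1 h hT).elim]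

end Md

end H16.C9
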