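import Cfsg.Agent.H16.C9g
import Cfsg.Agent.H16.C9m3

/-! Coordinates on elementary abelian sections. -/

set_option autoImplicit false
set_option linter.unusedSectionVars false

namespace H16.C9
open H26 (frc frc_eq)
open Subgroup H25 H25.FS H4.G3 Matrix
open scoped commutatorElement

variable {Γ : Type*} [Group Γ] [Finite Γ] {y : ℕ → Γ} {A B N Q V : Subgroup Γ} {n L T e : ℕ}
  {x : Fin n → Γ} {co : Γ → Vc n} {ρ : A →* Mt n} {g v : Γ} {X : List ℕ}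

/-- coordinates on `V / Q` and the matrices of the elements of `A` -/
structure Co (V Q A : Subgroup Γ) (x : Fin n → Γ) (co : Γ → Vc n) (ρ : A →* Mt n) : Prop where
  le : Q ≤ V
  nV : A ≤ nz V
  mem : ∀ i, x i ∈ V
  add : ∀ v ∈ V, ∀ w ∈ V, co (v * w) = co v + co w
  ker : ∀ v ∈ V, co v = 0 ↔ v ∈ Q
  bas : ∀ i, co (x i) = Pi.single i 1
  act : ∀ g : A, ∀ v ∈ V, co (g * v * (g : Γ)⁻¹) = ρ g *ᵥ co v

theorem exists_co (h1 : Q ≤ V) (h2 : A ≤ nz V) (h3 : A ≤ nz Q) (h4 : V ≤ nz Q) (h5 : V ≤ stab V Q)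
    (h6 : ∀ v ∈ V, v ^ 3 ∈ Q) (hx : ∀ i, x i ∈ V) (h7 : ∀ H, Q ≤ H → (∀ i, x i ∈ H) → V ≤ H)
    (h8 : Nat.card V = Nat.card Q * 3 ^ n) : ∃ co ρ, Co V Q A x co ρ := by
  have : (Q.subgroupOf V).Normal := (normal_subgroupOf_iff_le_normalizer h1).2 h4
  let : CommGroup (V ⧸ Q.subgroupOf V) := { (inferInstance : Group _) with
    mul_comm := fun a b => by
      obtain ⟨a, rfl⟩ := QuotientGroup.mk_surjective a
      obtain ⟨b, rfl⟩ := QuotientGroup.mk_surjective b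
      refine QuotientGroup.eq.2 (mem_subgroupOf.2 ?_)
      simpa [mul_assoc] using (h5 (inv_mem a.2)).2 _ b.2 }
  let : Module K3 (Additive (V ⧸ Q.subgroupOf V)) := AddCommGroup.zmodModule fun a => by
    obtain ⟨b, e⟩ := QuotientGroup.mk_surjective a.toMul
    exact (congrArg (· ^ 3) e).symm.trans ((QuotientGroup.eq_one_iff (b ^ 3)).2 (h6 _ b.2))
  let φ := Fintype.linearCombination K3 fun i => Additive.ofMul (QuotientGroup.mk (s := Q.subgroupOf V) ⟨x i, hx i⟩)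
  have a1 : ∀ i, φ (Pi.single i 1) = Additive.ofMul (QuotientGroup.mk ⟨x i, hx i⟩) := fun i => by simp [φ]
  have a2 : Function.Surjective φ := fun a => by
    obtain ⟨b, e⟩ := QuotientGroup.mk_surjective a.toMul
    obtain ⟨c, ⟨w, hc⟩, e'⟩ := h7 ((φ.range.toAddSubgroup.toSubgroup'.comap (QuotientGroup.mk' _)).map V.subtype)
      (fun q hq => ⟨⟨q, h1 hq⟩, ⟨0, (map_zero φ).trans ((QuotientGroup.eq_one_iff
        (N := Q.subgroupOf V) ⟨q, h1 hq⟩).2 hq).symm⟩, rfl⟩)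
      (fun i => ⟨⟨_, hx i⟩, ⟨_, a1 i⟩, rfl⟩) b.2
    obtain rfl : c = b := Subtype.ext e'
    exact ⟨w, hc.trans e⟩
  have a3 : Function.Bijective φ := a2.bijective_of_nat_card_le (by
    have := (Q.subgroupOf V).card_mul_index
    rw [Nat.card_congr (subgroupOfEquivOfLe h1).toEquiv, h8] at this
    rw [Nat.card_fun, Nat.card_zmod, Nat.card_eq_fintype_card (α := Fin n), Fintype.card_fin]
    exact (Nat.eq_of_mul_eq_mul_left Nat.card_pos this).ge)
  let ψ := (LinearEquiv.ofBijective φ a3).symm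
  classical
  let co : Γ → Vc n := fun v => if h : v ∈ V then ψ (Additive.ofMul (QuotientGroup.mk ⟨v, h⟩)) else 0
  have b1 : ∀ v ∈ V, ∀ w ∈ V, co (v * w) = co v + co w := fun v hv w hw => by
    simp only [co, dif_pos hv, dif_pos hw, dif_pos (mul_mem hv hw), ← map_add]; rfl
  have b2 : ∀ v ∈ V, co v = 0 ↔ v ∈ Q := fun v hv => by
    simp only [co, dif_pos hv, map_eq_zero_iff ψ ψ.injective]
    exact QuotientGroup.eq_one_iff _
  have b3 : ∀ i, co (x i) = Pi.single i 1 := fun i => by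
    simp only [co, dif_pos (hx i), ← a1]
    exact LinearEquiv.symm_apply_apply _ _
  have b4 : ∀ g ∈ A, ∀ v ∈ V, co (g * v * g⁻¹) = (of fun i j => co (g * x j * g⁻¹) i) *ᵥ co v :=
    fun g hg v hv => (h7 (sgp {v | v ∈ V ∧ co (g * v * g⁻¹) = (of fun i j => co (g * x j * g⁻¹) i) *ᵥ co v}
      ⟨one_mem _, by simp [(b2 1 (one_mem _)).2 (one_mem _)]⟩ fun a ha b hb => ⟨mul_mem ha.1 hb.1, by
        rw [← conj_mul, b1 _ (conj_mem_of_mem_nz (h2 hg) ha.1) _ (conj_mem_of_mem_nz (h2 hg) hb.1), ha.2,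
          hb.2, b1 a ha.1 b hb.1, mulVec_add]⟩)
      (fun q hq => ⟨h1 hq, by
        rw [(b2 q (h1 hq)).2 hq, (b2 _ (h1 (conj_mem_of_mem_nz (h3 hg) hq))).2
          (conj_mem_of_mem_nz (h3 hg) hq), mulVec_zero]⟩)
      (fun i => ⟨hx i, by rw [b3, mulVec_single_one]; rfl⟩) hv).2
  refine ⟨co, ⟨⟨fun g => of fun i j => co (g * x j * (g : Γ)⁻¹) i, ?_⟩, fun g h => ?_⟩,
    h1, h2, hx, b1, b2, b3, fun g => b4 g g.2⟩
  · ext i j; simp [b3, one_apply, Pi.single_apply]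
  · ext i j
    have := congrFun (b4 g g.2 _ (conj_mem_of_mem_nz (h2 h.2) (hx j))) i
    simpa [mul_assoc, mul_apply, mulVec, dotProduct] using this

/-- power of a code -/
noncomputable def pw3 (e : ℕ) (k : K3) : ℕ := iz k.val 0 (iz k.val.pred e (mul e e))
/-- the code with given coordinates -/
noncomputable def cv (X : List ℕ) (w : Vc n) : ℕ :=
  (List.finRange n).foldr (fun (i : Fin n) r => frc (pw3 (nth 0 X i) (w i)) fun t => frc r (mul t)) 0
/-- the table has the given matrix -/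
abbrev MCk (X : List ℕ) (T L : ℕ) (M : Mt n) : Prop := ∀ j : Fin n, ap L (nth 0 X j) ≠ 0 ∧
  sift T (mul (inv (cv X fun i => M i j)) (ap L (nth 0 X j))) = 0

theorem Rl.ev_pw3 (r : Rl y) (he : e < 19683) (k : K3) : pw3 e k < 19683 ∧ ev y (pw3 e k) = ev y e ^ k.val := by
  have := r.mul_lt he he
  have := r.ev_mul he he
  fin_cases k <;> simp_all [pw3, iz_eq, ZMod.val, pow_two]

namespace Co
variable (c : Co V Q A x co ρ)
include c

theorem one : co 1 = 0 := (c.ker 1 (one_mem _)).2 (one_mem _)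

theorem inv (hv : v ∈ V) : co v⁻¹ = -co v := by
  rw [eq_neg_iff_add_eq_zero, ← c.add _ (inv_mem hv) _ hv, inv_mul_cancel, c.one]

theorem pow (hv : v ∈ V) (k : ℕ) : co (v ^ k) = (k : K3) • co v := by
  induction k with
  | zero => simp [c.one]
  | succ k ih => rw [pow_succ, c.add _ (pow_mem hv k) _ hv, ih, Nat.cast_succ, add_smul, one_smul]

theorem eq {w : Γ} (hv : v ∈ V) (hw : w ∈ V) : co v = co w ↔ v⁻¹ * w ∈ Q := by
  rw [← c.ker _ (mul_mem (inv_mem hv) hw), c.add _ (inv_mem hv) _ hw, c.inv hv, neg_add_eq_zero]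

theorem col (g : A) (j : Fin n) : co (g * x j * (g : Γ)⁻¹) = fun i => ρ g i j := by
  rw [c.act g _ (c.mem j), c.bas, mulVec_single_one]; rfl

theorem eq_one {g : A} : ρ g = 1 ↔ (g : Γ) ∈ stab V Q := by
  refine ⟨fun h => ⟨c.nV g.2, fun v hv => (c.eq hv (conj_mem_of_mem_nz (c.nV g.2) hv)).1 (by
    rw [c.act g v hv, h, one_mulVec])⟩, fun h => ?_⟩
  ext i j
  rw [← congrFun (c.col g j) i, ← (c.eq (c.mem j) (conj_mem_of_mem_nz h.1 (c.mem j))).2 (h.2 _ (c.mem j)),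
    c.bas, one_apply, Pi.single_apply]

theorem agree {g h : A} (e : Agree V (g : Γ) h) : ρ g = ρ h := by
  ext i j; rw [← congrFun (c.col g j) i, e _ (c.mem j), c.col]

end Co

theorem Co.cv (c : Co V Q A (fun i => ev y (nth 0 X i)) co ρ) (r : Rl y) (hX : ∀ i : Fin n, nth 0 X i < 19683)
    (w : Vc n) : cv X w < 19683 ∧ ev y (cv X w) ∈ V ∧ co (ev y (cv X w)) = w := by
  conv => enter [2, 2, 2]; rw [← Finset.univ_sum_single w, Fin.sum_univ_def]
  unfold C9.cv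
  induction List.finRange n with
  | nil => exact ⟨by simp, by simp, by simp [c.one]⟩
  | cons i l ih =>
    obtain ⟨h1, h2⟩ := r.ev_pw3 (hX i) (w i)
    rw [List.foldr_cons, frc_eq, frc_eq, r.ev_mul h1 ih.1, h2, c.add _ (pow_mem (c.mem i) _) _ ih.2.1, ih.2.2,
      c.pow (c.mem i), c.bas]
    exact ⟨r.mul_lt h1 ih.1, mul_mem (pow_mem (c.mem i) _) ih.2.1, by simp [← Pi.single_smul]⟩

theorem Co.mat (c : Co V Q A (fun i => ev y (nth 0 X i)) co ρ) (r : Rl y) (hX : ∀ i : Fin n, nth 0 X i < 19683)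
    (hQ : Low y Q T) {g : A} (hg : At y g L) {M : Mt n} (h : MCk X T L M) : ρ g = M := by
  ext i j
  obtain ⟨h1, h2, h3⟩ := c.cv r hX fun i => M i j
  have h4 := r.mem_of_sift hQ (r.mul_lt (r.inv_lt h1) (ap_lt _ _)) (h j).2
  rw [r.ev_mul (r.inv_lt h1) (ap_lt _ _), r.ev_inv h1, ← r.ev_ap hg (hX j) (h j).1,
    ← c.eq h2 (conj_mem_of_mem_nz (c.nV g.2) (c.mem j)), h3, c.col] at h4
  exact (congrFun h4 i).symm

theorem Co.st (c : Co V ⊥ A x co ρ) (r : Lc 3 V N A B) {m : P3 → Mt n} {h : P3 → A}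
    (h1 : ∀ p, (h p : Γ) ∈ N ⊓ B) (h2 : ∀ p, p ≠ 0 → (h p : Γ) ∉ V) (h3 : ∀ p, ρ (h p) = m p) :
    St m ρ (B.subgroupOf A) h := by
  refine ⟨fun e => r.nB (subgroupOf_eq_top.1 e), fun p => (h1 p).2, h3, fun D hD g p q hp hq h4 h5 =>
    r.pair (K := D.map A.subtype) (map_subtype_le _) ?_ g.2 (h1 p).1 (h2 p hp) (h1 q).1 (h2 q hq)
      ⟨_, h4, rfl⟩ ⟨_, h5, rfl⟩, fun g p hp => r.conj g.2 (h1 p).1 (h2 p hp)⟩
  rintro _ ⟨k, hk, rfl⟩
  obtain ⟨i, e⟩ := hD k hk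
  exact ⟨i, stab_bot V ▸ c.eq_one.1 ((map_pow ρ k _).trans e)⟩

theorem St.tr {G : Type*} [Group G] [Finite G] {m : P3 → Mt n} {ρ : G →* Mt n} {B : Subgroup G} {h : P3 → G}
    (s : St (fun p => (m p)ᵀ) ρ B h) : ∃ σ : G →* Mt n, St m σ B (fun p => (h p)⁻¹) ∧ ∀ g, σ g = (ρ g⁻¹)ᵀ := by
  simpa using s.dual (m' := m) 1 1 (mul_one _) id (fun _ h => h) (by simp)

theorem St.sY {G : Type*} [Group G] [Finite G] {ρ : G →* Mt 6} {B : Subgroup G} {h : P3 → G}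
    (s : St (fun p => (Mx p)ᵀ) ρ B h)
    (hn : ∀ b ∈ B, ∀ β γ, ∃ β' γ', ρ b * (Mx (0, β, γ))ᵀ = (Mx (0, β', γ'))ᵀ * ρ b) : False := by
  obtain ⟨σ, t, e⟩ := s.tr
  refine t.sW fun b hb β γ => ?_
  obtain ⟨β', γ', e'⟩ := hn b hb β γ
  refine ⟨β', γ', transpose_injective ?_⟩
  have := congrArg (fun M => ρ b⁻¹ * M * ρ b⁻¹) e'
  simp only [← mul_assoc, ← map_mul, inv_mul_cancel, map_one, one_mul] at this
  rw [e, transpose_mul, transpose_mul, transpose_transpose, this, mul_assoc _ (ρ b), ← map_mul]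
  simp

end H16.C9
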