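import Cfsg.Agent.H16.C9r

/-! Automizers involving `SL₂(3)`. -/

set_option autoImplicit false
set_option linter.unusedSectionVars false
set_option maxRecDepth 100000
set_option Elab.async false

namespace H16.C9
open Subgroup H25 H25.FS H4.G3 H4 Matrix

variable {Γ : Type*} [Group Γ] [Finite Γ] {F : FS Γ} {D E J K Q V Y Z Z' : Subgroup Γ} {g k s v σ τ : Γ}

theorem three (h1 : k ∈ stab E J) (h2 : Y ≤ cz J) (h3 : Y ≤ cz Y) (h4 : k ∈ nz Y) (h5 : E ≤ stab Y Z)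
    (h6 : k ∈ stab Z Z') (h9 : Y ≤ E) :
    k ∈ stab Y (Y ⊓ stab E Z') := by
  refine ⟨h4, fun x hx => ?_⟩
  have a1 := conj_mem_of_mem_nz h4 hx
  have a2 := mul_mem (inv_mem hx) a1
  refine ⟨a2, le_nz_self E (h9 a2), fun e he => ?_⟩
  have b1 := (h5 (inv_mem he)).2 x hx
  have b2 := h6.2 _ b1
  have b3 := mem_cz'.1 (h2 a1) _ (h1.2 _ he)
  have b4 := conj_mem_of_mem_nz' (h5 he).1 hx
  have b5 := conj_mem_of_mem_nz' (h5 he).1 a1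
  have c := fun a (ha : a ∈ Y) b hb => mem_cz'.1 (h3 ha) b hb
  have b6 : k * (e⁻¹ * x * e) * k⁻¹ = e⁻¹ * (k * x * k⁻¹) * e := by
    have b7 := mem_cz'.1 (h2 b5) _ (h1.2 _ he)
    calc _ = (e⁻¹ * (k * e * k⁻¹))⁻¹ * (e⁻¹ * (k * x * k⁻¹) * e) * (e⁻¹ * (k * e * k⁻¹)) := by group
      _ = _ := by rw [mul_assoc, ← b7]; group
  rw [inv_inv, show k * (x⁻¹ * (e⁻¹ * x * e)) * k⁻¹ = (k * x * k⁻¹)⁻¹ * (k * (e⁻¹ * x * e) * k⁻¹) by group,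
    b6] at b2
  generalize k * x * k⁻¹ = w at *
  have b8 : e⁻¹ * (x⁻¹ * w * e * (x⁻¹ * w)⁻¹) =
      (x⁻¹ * (e⁻¹ * x * e))⁻¹ * (w⁻¹ * (e⁻¹ * w * e)) := by
    calc _ = (e⁻¹ * x * e)⁻¹ * ((e⁻¹ * w * e) * (w⁻¹ * x)) := by group
      _ = _ := by
        rw [← c _ b5 _ (mul_mem (inv_mem a1) hx), ← c _ (inv_mem a1) _ hx]; group
  exact b8 ▸ b2

theorem sq0 {G : Type*} [Group G] {t v : G} {k : ℕ} (ht : t * t = 1) (h : (v⁻¹ * t * v * t⁻¹) ^ 3 ^ k = 1) :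
    ∃ m : ℕ, t * (v * (v⁻¹ * t * v * t⁻¹) ^ m) = v * (v⁻¹ * t * v * t⁻¹) ^ m * t := by
  obtain ⟨m, hm⟩ : Odd (3 ^ k) := Odd.pow (by decide)
  have a : t * (v⁻¹ * t * v * t⁻¹) * t⁻¹ = (v⁻¹ * t * v * t⁻¹)⁻¹ := by
    rw [inv_eq_of_mul_eq_one_right ht]; simp [mul_assoc, ht, inv_eq_of_mul_eq_one_right ht]
  refine ⟨m + 1, ?_⟩
  generalize hn : v⁻¹ * t * v * t⁻¹ = n at *
  have b : t * v = v * n * t := by rw [← hn]; group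
  have c : t * n ^ (m + 1) * t⁻¹ = (n ^ (m + 1))⁻¹ := by rw [← conj_pow, a, inv_pow]
  rw [hm] at h
  calc _ = v * n * (t * n ^ (m + 1) * t⁻¹) * t := by rw [← mul_assoc, b]; group
    _ = v * ((n ^ (2 * m + 1))⁻¹ * n ^ (m + 1)) * t := by rw [c]; group
    _ = _ := by rw [h]; group

theorem agree_nm {g h : nz E} : Agree E (g : Γ) h ↔ E.normalizerMonoidHom g = E.normalizerMonoidHom h :=
  ⟨fun e => MulEquiv.ext fun x => Subtype.ext (e x x.2), fun e x hx =>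
    congrArg Subtype.val (MulEquiv.congr_fun e ⟨x, hx⟩)⟩

theorem sq_fix (hE : IsPGroup 3 E) (h1 : τ ∈ nz E) (h2 : v ∈ nz E) (h3 : σ ∈ nz E) (h4 : Agree E (τ * τ) 1)
    (h5 : v⁻¹ * τ * v * τ⁻¹ ∈ ai E E) (h6 : Agree E (σ * τ) (τ * σ)) (h7 : Agree E (σ * v) (v * σ)) :
    ∃ r ∈ ai E E, Agree E (τ * (v * r)) (v * r * τ) ∧ Agree E (σ * (v * r)) (v * r * σ) := by
  obtain ⟨k, hk⟩ := pel_ai hE _ h5
  lift τ to nz E using h1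
  lift v to nz E using h2
  lift σ to nz E using h3
  have a1 := (agree_nm (g := τ * τ) (h := 1)).1 h4
  have a2 := (agree_nm (g := (v⁻¹ * τ * v * τ⁻¹) ^ 3 ^ k) (h := 1)).1 (agree_one_iff.2 hk)
  have a3 := (agree_nm (g := σ * τ) (h := τ * σ)).1 h6
  have a4 := (agree_nm (g := σ * v) (h := v * σ)).1 h7
  simp only [map_mul, map_one, map_pow, map_inv] at a1 a2 a3 a4
  obtain ⟨m, hm⟩ := sq0 a1 a2
  refine ⟨_, pow_mem h5 m, (agree_nm (g := τ * (v * (v⁻¹ * τ * v * τ⁻¹) ^ m))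
    (h := v * (v⁻¹ * τ * v * τ⁻¹) ^ m * τ)).2 (by simpa only [map_mul, map_pow, map_inv] using hm),
    (agree_nm (g := σ * (v * (v⁻¹ * τ * v * τ⁻¹) ^ m)) (h := v * (v⁻¹ * τ * v * τ⁻¹) ^ m * σ)).2 ?_⟩
  simp only [map_mul, map_pow, map_inv]
  have b3 : Commute _ _ := a3
  have b4 : Commute _ _ := a4
  exact (b4.mul_right ((((b4.inv_right.mul_right b3).mul_right b4).mul_right b3.inv_right).pow_right m)).eq

/-- upper unitriangular -/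
def Ut (t : K3) : Mt 2 := !![1, t; 0, 1]
/-- lower unitriangular -/
def Lw : Mt 2 := !![1, 0; 1, 1]

theorem m2a : (∀ s t, Ut s * Ut t = Ut (s + t)) ∧ Ut 0 = 1 ∧ (∀ t, Ut t ^ 3 = 1) ∧ (∀ a < 3, Ut 1 ^ a = 1 → a = 0) ∧
    (Ut 1 * Lw * Lw * Ut 1) ^ 2 = -1 := by decide +kernel

set_option synthInstance.maxSize 4000 in
set_option synthInstance.maxHeartbeats 200000 in
theorem m2b (M M' : Mt 2) (h : M * M' = 1) : (M 1 0 = 0 → ∀ t, ∃ u, M * Ut t * M' = Ut u) ∧ (M 1 0 ≠ 0 →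
    (∃ i < 3, (Lw * Lw * Ut 1 ^ i * M) 1 0 = 0) ∧ ∃ i < 3, ∃ j ∈ [1, 2],
      Ut 1 ^ i * M * Ut 1 ^ j * M' = Lw * Ut 1 ^ i) := by
  have e : ∀ i : ℕ, Ut 1 ^ i = Ut i := fun i => by
    induction i with
    | zero => simp [m2a.2.1]
    | succ i ih => rw [pow_succ, ih, m2a.1, Nat.cast_succ]
  simp only [e]
  rw [eta_fin_two M, eta_fin_two M'] at h ⊢
  simp only [Ut, Lw, mul_fin_two, one_fin_two, of_apply, cons_val', cons_val_zero, cons_val_one,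
    cons_val_fin_one, EmbeddingLike.apply_eq_iff_eq, vecCons_inj, and_true] at h ⊢
  revert h
  generalize M 0 0 = a; generalize M 0 1 = b; generalize M 1 0 = c; generalize M 1 1 = d
  generalize M' 0 0 = a'; generalize M' 0 1 = b'; generalize M' 1 0 = c'; generalize M' 1 1 = d'
  revert a b c d a' b' c' d'; decide +kernel

/-- the automizer of `E` acts on a section of order nine -/
structure Sec (F : FS Γ) (E V Q D : Subgroup Γ) (s : F.A E) (x : Fin 2 → Γ) (co : Γ → Vc 2)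
    (ρ : F.A E →* Mt 2) : Prop where
  c : Co V Q (F.A E) x co ρ
  sat : F.Sat 3
  fn : F.FN E
  sN : (s : Γ) ∈ F.N E
  s3 : (s : Γ) ^ 3 ∈ E
  NE : F.N E ≤ E ⊔ zpowers (s : Γ)
  ρs : ρ s = Ut 1
  VE : V ≤ E
  EV : E ≤ stab V Q
  nD : F.A E ≤ nz D
  aD : ai F.S E ≤ D
  pel : ∀ k ∈ F.A E, k ∈ D → k ∈ stab V Q → PEl 3 (cz E) k

/-- the Sylow subgroup of the automizer is not normal -/
def Mv (F : FS Γ) (E : Subgroup Γ) : Prop := ¬ F.A E ≤ nz (ai F.S E)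

theorem ext_N (hF : F.Sat 3) (hE : F.FN E) (hg : g ∈ F.A E) (h : g ∈ nz (ai F.S E)) :
    ∃ k ∈ F.A (F.N E), Agree E k g :=
  (hF.rec_fn hE).ext_A hg (le_N hE.le) (F.C_le_N E) le_rfl (by
    rw [ai_inf_nz]; exact (cj_mono _ (inf_nz_le_ai _ _)).trans (mem_nz.1 h).le)

theorem mv_of_ess (hF : F.Sat 3) (hE : F.Ess E) : Mv F E := fun h => hE.not_le fun g hg => by
  obtain ⟨k, hk, e⟩ := ext_N hF hE.fn hg (h hg)
  exact mem_Hx (F.A_le_nz E hg) (lc_of_ess hF hE).lt (T_of_mem_A inf_le_left hk) e.symm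

namespace Sec
variable {s : F.A E} {x : Fin 2 → Γ} {co : Γ → Vc 2} {ρ : F.A E →* Mt 2} (q : Sec F E V Q D s x co ρ)
include q

theorem ai_iff {k : F.A E} : (k : Γ) ∈ ai F.S E ↔ (k : Γ) ∈ D ∧ ∃ t, ρ k = Ut t := by
  let K : Subgroup (F.A E) := sgp {k | (k : Γ) ∈ D ∧ ∃ t, ρ k = Ut t} ⟨one_mem _, 0, by simp [m2a.2.1]⟩
    fun a ⟨a1, t, a2⟩ b ⟨b1, u, b2⟩ => ⟨mul_mem a1 b1, _, by rw [map_mul, a2, b2, m2a.1]⟩
  have a : ∀ g ∈ ai F.S E, g ∈ stab V Q → g ∈ K.map (F.A E).subtype := fun g hg h =>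
    ⟨⟨g, F.ai_le_A E hg⟩, ⟨q.aD hg, 0, (q.c.eq_one.2 h).trans m2a.2.1.symm⟩, rfl⟩
  have b : ai F.S E = K.map (F.A E).subtype := ((q.sat.syl q.fn).mono_right (ai_le (q.NE.trans (sup_le
    (fun g hg => a g (inf_nz_le_ai _ _ (le_N q.fn.le hg)) (q.EV hg))
    (zpowers_le.2 ⟨s, ⟨q.aD (inf_nz_le_ai _ _ q.sN), 1, q.ρs⟩, rfl⟩))) fun g hg => a g (cz_le_ai _ _ hg)
      (cz_le_stab _ _ (cz_anti q.VE hg))) (map_subtype_le _)).eq_of_pel (cz_le_ai _ _)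
      ((map_subtype_le _).trans (F.A_le_nz_cz E)) (by
    rintro _ ⟨k, ⟨h1, t, h2⟩, rfl⟩
    exact PEl.of_pow (n := 1) (q.pel _ (pow_mem k.2 _) (pow_mem h1 _)
      (q.c.eq_one.1 (show ρ (k ^ 3) = 1 by rw [map_pow, h2, m2a.2.2.1]))))
  rw [b]
  exact ⟨fun ⟨_, h, e⟩ => Subtype.ext e ▸ h, fun h => ⟨k, h, rfl⟩⟩

theorem nrm {g : F.A E} (h : ρ g 1 0 = 0) : (g : Γ) ∈ nz (ai F.S E) := mem_nz_of_conj_mem fun k hk => by
  lift k to F.A E using F.ai_le_A E hk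
  obtain ⟨h1, t, h2⟩ := q.ai_iff.1 hk
  obtain ⟨u, e⟩ := (m2b (ρ g) (ρ g⁻¹) (by rw [← map_mul]; simp)).1 h t
  exact (q.ai_iff (k := g * k * g⁻¹)).2 ⟨conj_mem_of_mem_nz (q.nD g.2) h1, u, by rw [map_mul, map_mul, h2, e]⟩

theorem o3 {k : F.A E} (h1 : (k : Γ) ∈ D) (h2 : ρ k = 1) : (k : Γ) ∈ ai E E := by
  obtain ⟨n, hn, e⟩ := mem_ai'.1 (q.ai_iff.2 ⟨h1, 0, h2.trans m2a.2.1.symm⟩)
  obtain ⟨a, ha, h3⟩ := mem_sup_cyc q.sN.2 q.s3 (q.NE hn)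
  have h4 := (q.c.eq_one (g := (s ^ a)⁻¹ * ⟨n, F.N_le_A E hn⟩)).2 (q.EV h3)
  have h5 : ρ (s ^ a) = 1 := by
    rw [← h2, q.c.agree (h := ⟨n, F.N_le_A E hn⟩) (e.mono q.VE), ← mul_one (ρ (s ^ a)), ← h4, ← map_mul,
      mul_inv_cancel_left]
  obtain rfl := m2a.2.2.2.1 a ha (by rw [← q.ρs, ← map_pow, h5])
  exact e.mem_ai (le_ai_self E (by simpa using h3))

theorem gen {H : Subgroup Γ} {v : F.A E} (hv : ρ v = Lw) (h1 : (v : Γ) ∈ H) (h2 : (s : Γ) ∈ H)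
    (h3 : F.A E ⊓ nz (ai F.S E) ≤ H) : F.A E ≤ H := fun g hg => by
  lift g to F.A E using hg
  by_cases h : ρ g 1 0 = 0
  · exact h3 ⟨g.2, q.nrm h⟩
  obtain ⟨i, -, e⟩ := ((m2b (ρ g) (ρ g⁻¹) (by rw [← map_mul]; simp)).2 h).1
  exact (mul_mem_cancel_left (mul_mem (mul_mem h1 h1) (pow_mem h2 i))).1 (h3 ⟨(v * v * s ^ i * g).2,
    q.nrm (g := v * v * s ^ i * g) (by simpa only [map_mul, map_pow, hv, q.ρs] using e)⟩)

theorem sl2 (h : Mv F E) : ∃ v : F.A E, ρ v = Lw ∧ (v : Γ) ∈ D ∧ ((s : Γ) ^ 3 = 1 → (v : Γ) ^ 3 = 1) := by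
  obtain ⟨g, hg, hg'⟩ := SetLike.not_le_iff_exists.1 h
  lift g to F.A E using hg
  obtain ⟨i, -, j, -, e⟩ := ((m2b (ρ g) (ρ g⁻¹) (by rw [← map_mul]; simp)).2 (mt q.nrm hg')).2
  refine ⟨s ^ i * g * s ^ j * (s ^ i * g)⁻¹, ?_, conj_mem_of_mem_nz (q.nD (s ^ i * g).2)
    (pow_mem (q.aD (inf_nz_le_ai _ _ q.sN)) j), fun h3 => ?_⟩
  · rw [← q.ρs, ← map_pow, ← map_pow] at e
    rw [_root_.mul_inv_rev, ← mul_assoc, map_mul, map_mul, map_mul, map_mul, e, mul_assoc, ← map_mul]; simp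
  · simp only [coe_mul, coe_inv, coe_pow, conj_pow]
    rw [← pow_mul, mul_comm j, pow_mul, h3]; simp

theorem word {v : F.A E} (hv : ρ v = Lw) (hD : (v : Γ) ∈ D) {W : List ℕ}
    (hW : evA (fun i => if i = 0 then Ut 1 else Lw) W = 1) :
    evA (fun i => if i = 0 then (s : Γ) else v) W ∈ ai E E := by
  have e : ((evA (fun i => if i = 0 then s else v) W : F.A E) : Γ) = evA (fun i => if i = 0 then (s : Γ) else v) W := by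
    rw [← coe_subtype]; simp only [map_evA, apply_ite (F.A E).subtype, coe_subtype]
  rw [← e]
  refine q.o3 ?_ (by simp only [map_evA, apply_ite ρ, hv, q.ρs, hW])
  rw [e]
  exact evA_mem _ fun i _ => by split_ifs; exacts [q.aD (inf_nz_le_ai _ _ q.sN), hD]

theorem tau (h : Mv F E) : ∃ k ∈ F.A (F.N E), ∀ n ∈ F.N E, ∃ g : F.A E, (g : Γ) = k * n ∧ (g : Γ) ∈ D ∧
    ∃ t, ρ g = -Ut t := by
  obtain ⟨v, h1, h2, -⟩ := q.sl2 h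
  have a : ρ ((s * v * v * s) ^ 2) = -1 := by simp only [map_pow, map_mul, h1, q.ρs, m2a.2.2.2.2]
  have b := q.aD (inf_nz_le_ai _ _ q.sN)
  obtain ⟨k, hk, e⟩ := ext_N q.sat q.fn ((s * v * v * s) ^ 2).2 (q.nrm (by rw [a]; rfl))
  refine ⟨k, hk, fun n hn => ?_⟩
  obtain ⟨c, t, d⟩ := (q.ai_iff (k := ⟨n, F.N_le_A E hn⟩)).1 (inf_nz_le_ai _ _ hn)
  exact ⟨⟨k, e.mem_A (Subtype.prop _)⟩ * ⟨n, F.N_le_A E hn⟩, rfl, mul_mem (e.mem_of_cz_le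
    ((cz_le_ai _ _).trans q.aD) (pow_mem (mul_mem (mul_mem (mul_mem b h2) h2) b) 2)) c, t, by
      rw [map_mul, d, q.c.agree (h := (s * v * v * s) ^ 2) (e.mono q.VE), a, neg_one_mul]⟩

theorem fix {v τ : F.A E} (hv : ρ v = Lw) (hD : (v : Γ) ∈ D) (h1 : ρ τ = 1 ∨ ρ τ = -1) (h2 : σ ∈ nz E)
    (h3 : Agree E ((τ : Γ) * τ) 1) (h4 : Agree E (σ * τ) (τ * σ)) (h5 : Agree E (σ * v) (v * σ)) :
    ∃ v : F.A E, ρ v = Lw ∧ (v : Γ) ∈ D ∧ Agree E ((τ : Γ) * v) (v * τ) ∧ Agree E (σ * v) (v * σ) := by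
  obtain ⟨r, hr, e⟩ := sq_fix (q.sat.pg' q.fn.le) (F.A_le_nz E τ.2) (F.A_le_nz E v.2) h2 h3
    (q.o3 (k := v⁻¹ * τ * v * τ⁻¹) (by
      simpa [mul_assoc] using mul_mem (inv_mem hD) (conj_mem_of_mem_nz (q.nD τ.2) hD)) (by
      have : ρ τ * ρ v = ρ v * ρ τ := by rcases h1 with e | e <;> simp [e]
      rw [mul_assoc v⁻¹, map_mul, map_mul, map_mul, this, ← map_mul, ← map_mul, ← map_mul]; simp)) h4 h5
  have a := ai_mono q.fn.le E hr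
  obtain ⟨n, hn, e'⟩ := mem_ai'.1 hr
  exact ⟨v * ⟨r, F.ai_le_A E a⟩, by
    rw [map_mul, hv, (q.c.eq_one (g := ⟨r, _⟩)).2 ((e'.mono q.VE).mem_stab (q.EV hn.1)), mul_one],
    mul_mem hD (q.aD a), e⟩

end Sec

end H16.C9
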