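import Cfsg.Agent.H16.C9v

/-! Tools for the enumeration of automorphisms. -/

set_option autoImplicit false
set_option linter.unusedSectionVars false
set_option maxRecDepth 100000
set_option Elab.async false

namespace H16.C9
open H26 (frc frc_eq)
open Subgroup H25 H25.FS H4.G3 H4 Matrix

variable {Γ : Type*} [Group Γ] [Finite Γ] {y : ℕ → Γ} {F : FS Γ} {D E H Q U V W : Subgroup Γ}
  {a b c e k m n o x B C G L L' M T : ℕ} {g h v τ : Γ} {P R R' X Z : List ℕ} {f : ℕ → ℕ}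

/-- `0` iff some value vanishes -/
noncomputable def anyL {α : Type} (f : α → ℕ) (L : List α) : ℕ :=
  List.rec (motive := fun _ => ℕ) (nat_lit 1) (fun x _ ih => iz (f x) (nat_lit 0) ih) L

theorem anyL_zero {α : Type} {f : α → ℕ} {L : List α} (h : anyL f L = 0) : ∃ x ∈ L, f x = 0 := by
  induction L with
  | nil => cases h
  | cons x L ih =>
    by_cases e : f x = 0
    · exact ⟨x, by simp, e⟩
    · obtain ⟨z, hz, e'⟩ := ih ((if_neg e).symm.trans ((iz_eq _ _ _).symm.trans h))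
      exact ⟨z, by simp [hz], e'⟩

theorem sumL_of {α : Type} {f : α → ℕ} {L : List α} (h : ∀ x ∈ L, f x = 0) : sumL f L = 0 := by
  induction L with
  | nil => rfl
  | cons x L ih => exact show f x + sumL f L = 0 by rw [h x (by simp), ih fun z hz => h z (by simp [hz])]

theorem iz_l (h : iz a b c = 0) (h0 : a = 0) : b = 0 := by rwa [iz_eq, if_pos h0] at h
theorem iz_r (h : iz a b c = 0) (h0 : a ≠ 0) : c = 0 := by rwa [iz_eq, if_neg h0] at h
theorem xor0 (h : Nat.xor a b = 0) : a = b := Nat.xor_eq_zero_iff.1 h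

/-- conjugation by `g` maps `o` to `x` -/
def Pr (y : ℕ → Γ) (g : Γ) (o x : ℕ) : Prop := o < 19683 ∧ x < 19683 ∧ g * ev y o * g⁻¹ = ev y x

theorem pr_zero : Pr y g 0 0 := ⟨by decide, by decide, by simp⟩

theorem pr_nth (h : List.Forall₂ (Pr y g) R R') : ∀ i, Pr y g (nth 0 R i) (nth 0 R' i) := by
  induction h with
  | nil => exact fun _ => pr_zero
  | cons h _ ih => intro i; cases i; exacts [h, ih _]

/-- one operation on registers -/
noncomputable def op3 (c : ℕ) (R : List ℕ) : ℕ :=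
  frc (nth (nat_lit 0) R (Nat.mod (Nat.div c (nat_lit 100)) (nat_lit 100))) fun a =>
  frc (nth (nat_lit 0) R (Nat.mod c (nat_lit 100))) fun b => frc (Nat.div c (nat_lit 10000)) fun o =>
    iz o (mul a b) (iz (Nat.pred o) (cm a b) (inv a))

/-- a straight line program -/
noncomputable def prg (k : List ℕ → ℕ) (P : List ℕ) : List ℕ → ℕ :=
  List.rec (motive := fun _ => List ℕ → ℕ) k (fun c _ ih R => frc (op3 c R) fun v => ih (v :: R)) P

/-- the table computed by a program -/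
noncomputable def tabP (P Z : List ℕ) : List ℕ → ℕ :=
  prg (fun R => tb fun k => frc (nth (nat_lit 99) Z k) (nth (nat_lit 0) R)) P

/-- relators computed by a program -/
noncomputable def zs (P Z : List ℕ) : List ℕ → ℕ := prg (fun R => sumL (nth (nat_lit 0) R) Z) P

/-- `0` if the table fixes or inverts `e` -/
noncomputable def tf (T b e : ℕ) : ℕ :=
  frc (ap T e) fun x => iz x (nat_lit 0) (Nat.xor x (iz b e (inv e)))

/-- the elements of a coset passing the test `f` are listed -/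
noncomputable def cdk (T a : ℕ) (f : ℕ → ℕ) (L : List ℕ) : ℕ :=
  frc a (en T (nat_lit 0) (fun e => iz (f e) (anyL (Nat.xor e) L) (nat_lit 0)) (nat_lit 9))

/-- `0` iff the tables differ -/
noncomputable def dif (L M : ℕ) : ℕ := a10 fun k => frc (tg L k) fun s => iz s (nat_lit 0)
  (frc (tg M k) fun t => iz t (nat_lit 0) (Nat.xor s t))

/-- `0` iff the table is not inner -/
noncomputable def rjw (T M B : ℕ) : ℕ :=
  en T tJ (fun n => frc (inn M n) (dif B)) (nat_lit 9) (nat_lit 0)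

/-- the relations of `SL₂(3)` -/
noncomputable def tst (T M S L c : ℕ) : ℕ :=
  iz (frc (wd [S, L] [1, 1, 1] M) (rjw T M)) (nat_lit 0)
    (iz (frc (wd [S, L] [1, 0, 0, 1, 0, 1, 1, 0] M) (rjw T M)) (nat_lit 0) c)

/-- order divisible by nine -/
noncomputable def o9 (B : ℕ) : ℕ := frc (cmp B B) fun B => frc (cmp B B) fun B =>
  frc (wd [B] [0, 0, 0] tJ) fun B => Nat.add (dif B tJ) (frc (wd [B] [0, 0, 0] tJ) fun C => eqOn tJ C tJ)

/-- the image of a subgroup -/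
noncomputable def imCk (L T C : ℕ) : ℕ := ent T fun x => frc (ap L x) fun t => iz t (nat_lit 1) (sift C t)

/-- normalizes the group of automorphisms induced by a subgroup -/
noncomputable def aiCk (G T : ℕ) (X : List ℕ) : ℕ := ent T fun e => frc (frc (inn tJ e) (cmp G)) fun A =>
  anyL (fun n => Nat.add (Nat.add (cd n) (sift T n)) (frc (inn G n) (eqOn tJ A))) X

/-- a conjugate family of generators -/
abbrev cy (h : Γ) (y : ℕ → Γ) : ℕ → Γ := fun k => h * y k * h⁻¹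

theorem ev_cy (e : ℕ) : ev (cy h y) e = h * ev y e * h⁻¹ :=
  (map_ev (MulAut.conj h).toMonoidHom (fun _ _ => rfl) e).symm
theorem gen_cy (k : ℕ) : gen (cy h y) k = cj h (gen y k) := (map_gen (MulAut.conj h).toMonoidHom y k).symm
theorem sp_cy (T : ℕ) : sp (cy h y) T = cj h (sp y T) := by
  rw [sp, sp, ← gen_cy]; simp only [ev_cy]
theorem Md.cy (r : Md y) (h : Γ) : Md (cy h y) := r.map (MulAut.conj h).toMonoidHom (MulAut.conj h).injective

theorem jc : tJ = cut YT 6 ∧ tE1 = cut YT 8 ∧ eqOn tJ tJ YT = 0 ∧ cmCk (cut YT 9) tJ 0 tJ = 0 ∧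
    en (cut YT 9) tJ (fun e => sift tJ (cu e)) 9 0 = 0 ∧
    evA (fun i => if i = 0 then Ut 1 else Lw) [1, 1, 1] = 1 ∧
    evA (fun i => if i = 0 then Ut 1 else Lw) [1, 0, 0, 1, 0, 1, 1, 0] = 1 := by decide +kernel

theorem at_J : At y 1 tJ := at_one jc.2.2.1

theorem supp (h : eqOn M M tJ = 0) (hk : k < 9) (h0 : tg M k ≠ 0) : y k ∈ gen y 6 := by
  have := (eqOn_zero h hk h0).2
  rw [jc.1, tg_cut] at this
  exact mem_gen y (by by_contra h; exact h0 (this.trans (if_neg h)))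

theorem Co.cos {co : Γ → Vc n} {ρ : H →* Mt n} {N : Mt n}
    (c : Co V Q H (fun i => ev y (nth 0 X i)) co ρ) (r : Rl y) (hX : ∀ i : Fin n, nth 0 X i < 19683)
    {g : H} (hg : ρ g = N) (j : Fin n) : C9.cv X (fun i => N i j) < 19683 ∧
      (ev y (C9.cv X fun i => N i j))⁻¹ * (g * ev y (nth 0 X j) * (g : Γ)⁻¹) ∈ Q := by
  obtain ⟨h1, h2, h3⟩ := c.cv r hX fun i => N i j
  exact ⟨h1, (c.eq h2 (conj_mem_of_mem_nz (c.nV g.2) (c.mem j))).1 (by rw [h3, c.col, hg])⟩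

namespace Md
variable (r : Md y)
include r

theorem pr_op (h : List.Forall₂ (Pr y g) R R') (c : ℕ) : Pr y g (op3 c R) (op3 c R') := by
  obtain ⟨a1, a2, a3⟩ := pr_nth h (Nat.mod (Nat.div c 100) 100)
  obtain ⟨b1, b2, b3⟩ := pr_nth h (Nat.mod c 100)
  simp only [op3, frc_eq, iz_eq]
  split_ifs
  · exact ⟨r.mul_lt a1 b1, r.mul_lt a2 b2, by rw [r.ev_mul a1 b1, r.ev_mul a2 b2, ← a3, ← b3]; group⟩
  · exact ⟨r.cm_lt a1 b1, r.cm_lt a2 b2, by rw [r.ev_cm a1 b1, r.ev_cm a2 b2, ← a3, ← b3]; group⟩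
  · exact ⟨r.inv_lt a1, r.inv_lt a2, by rw [r.ev_inv a1, r.ev_inv a2, ← a3]; group⟩

theorem prg_ok (P : List ℕ) : ∀ {R R'}, List.Forall₂ (Pr y g) R R' → ∃ A A', List.Forall₂ (Pr y g) A A' ∧
    ∀ k, prg k P R = k A ∧ prg k P R' = k A' := by
  induction P with
  | nil => exact fun h => ⟨_, _, h, fun _ => ⟨rfl, rfl⟩⟩
  | cons c P ih => exact fun h => ih (.cons (r.pr_op h c) h)

theorem pr0 (h : Pr y g o x) (h0 : o = 0) : x = 0 := (r.eq_one h.2.1).1 (by rw [← h.2.2, h0]; simp)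

theorem at_tab (h : List.Forall₂ (Pr y g) R R') (h0 : frc (tabP P Z R) (fun M => eqOn M M YT) = 0) :
    At y g (tabP P Z R') := by
  obtain ⟨A, A', h1, h2⟩ := r.prg_ok P h
  rw [frc_eq] at h0
  have a := at_one (y := y) h0
  rw [tabP, (h2 _).1] at a
  rw [tabP, (h2 _).2]
  simp only [frc_eq] at a ⊢
  intro k hk
  have b := pr_nth h1 (nth 99 Z k)
  have c := ev_of_one a hk
  rw [tg_tb (f := fun k => nth 0 A (nth 99 Z k)) (fun k _ => (pr_nth h1 _).1) hk] at c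
  rw [tg_tb (f := fun k => nth 0 A' (nth 99 Z k)) (fun k _ => (pr_nth h1 _).2.1) hk]
  exact ⟨b.2.1, fun h => by rw [← b.2.2, c, if_neg (mt (r.pr0 b) h)]⟩

theorem zs_ok (h : List.Forall₂ (Pr y g) R R') (h0 : zs P Z R = 0) : zs P Z R' = 0 := by
  obtain ⟨A, A', h1, h2⟩ := r.prg_ok P h
  rw [zs, (h2 _).1] at h0
  rw [zs, (h2 _).2]
  exact sumL_of fun i hi => r.pr0 (pr_nth h1 i) (sumL_zero h0 i hi)

theorem tf_ok (hτ : At y τ T) (e : Agree E (τ * v) (v * τ)) (ho : ev y o ∈ E) (h0 : ap T o ≠ 0 ∧ tf T b o = 0)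
    (h : Pr y v o x) : tf T b x = 0 := by
  have a : ∀ o < 19683, iz b o (inv o) < 19683 ∧ ev y (iz b o (inv o)) = ev y o ^ (if b = 0 then 1 else -1 : ℤ) :=
    fun o ho => by rw [iz_eq]; split_ifs; exacts [⟨ho, by simp⟩, ⟨r.inv_lt ho, by simp [r.ev_inv ho]⟩]
  have b1 := r.ev_ap hτ h.1 h0.1
  rw [xor0 (iz_r h0.2 h0.1), (a o h.1).2] at b1
  rw [tf, frc_eq, iz_eq]
  split_ifs with h1
  · rfl
  · refine Nat.xor_eq_zero_iff.2 (r.inj (ap_lt _ _) (a x h.2.1).1 ?_)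
    rw [← r.ev_ap hτ h.2.1 h1, (a x h.2.1).2, ← h.2.2, conj_zpow, ← b1]
    convert e _ ho using 1 <;> group

theorem cand (h : Ech y U T) (ha : a < 19683) (ho : o < 19683) (hx : (ev y a)⁻¹ * (v * ev y o * v⁻¹) ∈ U)
    (hf : ∀ x, Pr y v o x → f x = 0) (h0 : cdk T a f X = 0) : ∃ x ∈ X, Pr y v o x := by
  rw [cdk, frc_eq] at h0
  obtain ⟨e, he, h1, b, hb, h2⟩ := r.en_ok h bot_le low_zero (fun k _ => .inl (tg_zero k)) le_rfl a ha h0 _
    ⟨hx, h.le hx⟩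
  have p : Pr y v o e := ⟨ho, he, by rw [mem_bot.1 hb, mul_one, mul_inv_cancel_left] at h2; exact h2.symm⟩
  obtain ⟨x, hx, h3⟩ := anyL_zero (iz_l (a := f e) (b := anyL (Nat.xor e) X) (c := 0) h1 (hf e p))
  exact ⟨x, hx, xor0 h3 ▸ p⟩

theorem dif_ne (hg : At y g L) (hh : At y h M) (e : Agree U g h) (hU : ∀ k < 9, tg M k ≠ 0 → y k ∈ U) :
    dif L M ≠ 0 := fun h0 => by
  obtain ⟨k, hk, h1⟩ := a10_zero h0
  simp only [frc_eq, iz_eq] at h1
  split_ifs at h1 with h2 h3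
  iterate 2 exact h1 rfl
  exact h1 (Nat.xor_eq_zero_iff.2 (r.inj (hg k hk).1 (hh k hk).1
    (((hg k hk).2 h2).symm.trans ((e _ (hU k hk h3)).trans ((hh k hk).2 h3)))))

theorem eJ : Ech y (gen y 6) tJ := jc.1 ▸ r.echL (by decide)
theorem e1 : Ech y (gen y 8) tE1 := jc.2.1 ▸ r.echL (by decide)
theorem czJ : gen y 9 ⊓ cz (gen y 6) = gen y 6 := r.ech_eq (r.ech_cz r.echS r.eJ jc.2.2.2.1) r.eJ
theorem abJ : gen y 6 ≤ cz (gen y 6) := r.czJ.ge.trans inf_le_right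

theorem enJ (h : Ech y E T) (hJ : gen y 6 ≤ E) (h0 : en T tJ f 9 0 = 0) (hu : g ∈ E) :
    ∃ e < 19683, f e = 0 ∧ ∃ b ∈ gen y 6, ev y e * b = g := by
  simpa using r.en_ok h hJ r.eJ.low (fun k hk => (r.eJ.h k hk).imp_left And.left) le_rfl 0 (by decide) h0 _
    ⟨hu, h.le hu⟩

theorem rjw_ne (h : Ech y E T) (hJ : gen y 6 ≤ E) (hM : eqOn M M tJ = 0) (hg : At y g B) (h1 : g ∈ ai E E) :
    rjw T M B ≠ 0 := fun h0 => by
  obtain ⟨-, u, hu, e⟩ := h1
  obtain ⟨n, hn, h2, b, hb, rfl⟩ := r.enJ h hJ h0 hu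
  refine r.dif_ne hg (r.at_inn (at_J.sub hM) hn) (by
    rw [mul_one]; exact (e.mono hJ).trans (agree_mul_cz _ (r.abJ hb))) (fun k hk h3 => supp hM hk fun h4 => h3 ?_) h2
  have := r.at_inn (at_J.sub hM) hn
  rw [inn, frc_eq] at this ⊢
  rw [tg_tb (fun j hj => by
    rw [frc_eq, iz_eq]; split_ifs; exacts [by decide, r.cjn_lt ((at_J (y := y)).sub hM j hj).1 (r.inv_lt hn)]) hk,
    frc_eq, h4]
  rfl

theorem tst_ok {s v : F.A E} {x : Fin 2 → Γ} {co : Γ → Vc 2} {ρ : F.A E →* Mt 2} (q : Sec F E V Q D s x co ρ)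
    (h : Ech y E T) (hJ : gen y 6 ≤ E) (hM : eqOn M M tJ = 0) (hs : At y s B) (hv : At y v L) (h1 : ρ v = Lw)
    (h2 : (v : Γ) ∈ D) (h0 : tst T M B L c = 0) : c = 0 := by
  have a : ∀ W, evA (fun i => if i = 0 then Ut 1 else Lw) W = 1 → rjw T M (wd [B, L] W M) ≠ 0 := fun W hW =>
    r.rjw_ne h hJ hM (r.at_wd (w := fun i => if i = 0 then (s : Γ) else v) (fun i _ => by
      rcases i with _ | _ | i; exacts [hs, hv, at_zero]) 1 M (at_J.sub hM)) (by
        rw [mul_one]; exact q.word h1 h2 hW)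
  exact iz_r (iz_r h0 (a _ jc.2.2.2.2.2.1)) (a _ jc.2.2.2.2.2.2)

theorem cuJ (hg : g ∈ gen y 9) : g ^ 3 ∈ gen y 6 := by
  obtain ⟨e, he, h1, b, hb, rfl⟩ := r.enJ r.echS r.eJ.le jc.2.2.2.2.1 hg
  obtain ⟨c, hc, h2⟩ := H25.exists_mul_pow_eq (r.nzL (by decide) (ev_mem he)) hb 3
  rw [h2, ← r.ev_cu he]
  exact mul_mem (r.mem_of_sift r.eJ.low (r.cu_lt he) h1) hc

theorem fnL (hS : F.S = gen y 9) (hk : k ≤ 9) : F.FN (gen y k) :=
  FN_of_le_nz (hS ▸ gen_mono y hk) (hS ▸ r.nzL hk)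

theorem o9_ne (hF : F.Sat 3) (hS : F.S = gen y 9) (hg : g ∈ F.A (gen y 6)) (h : At y g B) : o9 B ≠ 0 :=
  fun h0 => by
  simp only [o9, frc_eq] at h0
  obtain ⟨h1, h2⟩ := Nat.add_eq_zero_iff.1 h0
  have a : ∀ {g B}, At y g B → At y (g ^ 3) (wd [B] [0, 0, 0] tJ) := fun {g B} h => by
    have := r.at_wd (w := fun _ => g) (Ls := [B]) (W := [0, 0, 0]) (by simpa using h) 1 _ at_J
    simpa [pow_three, mul_assoc] using this
  have b := a (r.at_cmp (r.at_cmp h h) (r.at_cmp h h))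
  have c := mul_mem (mul_mem hg hg) (mul_mem hg hg)
  generalize g * g * (g * g) = k at b c
  have d := agree_one_iff.1 ((a b).agree at_J at_J h2)
  rw [← r.eq_sp r.eJ, ← pow_mul] at d
  obtain ⟨t, ht, e⟩ := (hF.syl (r.fnL hS (by decide))).exists_cj_le_of_pel (cz_le_ai _ _) (F.A_le_nz_cz _)
    (PEl.zpowers ⟨2, d⟩) (zpowers_le.2 c)
  obtain ⟨h3, u, hu, e'⟩ := e (conj_mem_cj t (mem_zpowers k))
  have h4 := (e'.pow h3 3).mem_of_cz_le le_rfl (r.abJ (r.cuJ (hS ▸ hu)))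
  rw [conj_pow] at h4
  exact r.dif_ne b at_J (agree_one_iff.2 (by simpa [mul_assoc] using conj_mem_of_mem_nz' (F.A_le_nz_cz _ ht) h4))
    (fun k hk => supp (by decide +kernel) hk) h1

theorem cj_le (hg : At y g L) (h : Ech y U T) (h' : Low y V C) (h0 : imCk L T C = 0) : cj g U ≤ V :=
  cj_le_iff.2 (r.up' h h0 fun e he h1 => mem_cj.2 (by
    have a : ap L e ≠ 0 := fun h2 => by cases iz_l h1 h2
    rw [inv_inv, r.ev_ap hg he.1 a]
    exact r.mem_of_sift h' (ap_lt _ _) (iz_r h1 a)))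

theorem cj_ai (hg : g ∈ nz (gen y 6)) (hG : At y g G) (h : Ech y W T) (h0 : aiCk G T X = 0) :
    cj g W ≤ ai W (gen y 6) := cj_le_iff.2 (r.up' h h0 fun e he h1 => mem_cj.2 (by
  rw [frc_eq, frc_eq] at h1
  obtain ⟨n, -, h2⟩ := anyL_zero h1
  obtain ⟨h2, h3⟩ := Nat.add_eq_zero_iff.1 h2
  rw [frc_eq] at h3
  obtain ⟨h2, h4⟩ := Nat.add_eq_zero_iff.1 h2
  have a := (r.at_cmp hG (r.at_inn at_J he.1)).agree (r.at_inn hG (cd_zero h2)) at_J h3
  rw [← r.eq_sp r.eJ, ← mem_nz.1 (inv_mem hg)] at a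
  refine ⟨mul_mem (mul_mem (inv_mem (inv_mem hg)) (r.nzL (by decide) (ev_mem he.1))) (inv_mem hg), _,
    r.mem_of_sift h.low (cd_zero h2) h4, ?_⟩
  simpa using a.mul_right))

theorem extJ (hF : F.Sat 3) (hS : F.S = gen y 9) (h1 : gen y 6 ≤ W) (h2 : W ≤ gen y 9) (hg : g ∈ F.A (gen y 6))
    (h3 : cj g W ≤ ai W (gen y 6)) : ∃ k ∈ F.A W, Agree (gen y 6) k g :=
  (hF.rec_fn (r.fnL hS (by decide))).ext_A hg h1 ((hS ▸ r.czJ.le :).trans h1)
    (le_inf (hS ▸ h2) (h2.trans (r.nzL (by decide)))) h3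

theorem not_nz (hG : At y g G) (hk : k < m) (hm : m ≤ 9) (h : 3 ^ m ≤ tg G k) : g ∉ nz (gen y m) := fun h1 => by
  have a := hG k (by omega)
  have := conj_mem_of_mem_nz h1 (mem_gen y hk)
  rw [show g * y k * g⁻¹ = _ from a.2 (by have := Nat.pow_pos (n := m) (show 0 < 3 by decide); omega),
    r.mem_iff hm a.1] at this
  omega

theorem at_chg (hh : At y h C) (hg : At y g L) (h0 : eqOn L' (cmp L C) (cmp C L') = 0)
    (h1 : ∀ k < 9, tg L' k < 19683) : At (C9.cy h y) g L' := fun k hk => ⟨h1 k hk, fun h2 => by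
  obtain ⟨h3, h4⟩ := eqOn_zero h0 hk h2
  have a := (r.at_cmp hg hh k hk).2 h3
  rw [h4] at a h3
  simp only [cmp, frc_eq] at a h3
  rw [tg_tb (f := fun k => ap C (tg L' k)) (fun _ _ => ap_lt _ _) hk] at a h3
  rw [ev_cy, r.ev_ap hh (h1 k hk) h3, ← a]; group⟩

end Md

end H16.C9
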