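import Cfsg.Agent.H16.C9x
import Cfsg.Agent.H25.Amb

/-! Characteristic subgroups, weights, and the normal form of the automizer of the Sylow subgroup. -/

set_option autoImplicit false
set_option linter.unusedSectionVars false
set_option maxRecDepth 100000
set_option Elab.async false

namespace H16.C9
open H26 (frc frc_eq)
open Subgroup H25 H25.FS H4.G3 H4 Matrix

variable {Γ : Type*} [Group Γ] [Finite Γ] {y : ℕ → Γ} {F : FS Γ} {H K P U : Subgroup Γ}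
  {i j k L : ℕ} {g h τ : Γ} {ε : Prop}

/-- `⟨c, e, f, u, v, z⟩` -/
def tD : ℕ := nat_lit 0x2d900000051001b000900030001
/-- `⟨ab, c, d, e, f, u, v, z⟩` -/
def tN4 : ℕ := nat_lit 0x222c000002d900f30051001b000900030001
/-- `⟨f, v, z⟩` -/
def tF : ℕ := nat_lit 0x1b000000030001
/-- `⟨eu2, fu2v2, v, z⟩` -/
def tQ4 : ℕ := nat_lit 0x630033000000030001

theorem clc : ∀ T ∈ [tE2, tE3, tE4, tE5, tR, tQ3, tQ4, tD, tF], clCk T = 0 := by decide +kernel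

theorem chc : Oc (cut YT 9) 1 (cut YT 9) (cut YT 9) tD ∧ Oc (cut YT 9) 0 (cut YT 9) 0 (cut YT 1) ∧
    Oc (cut YT 9) 1 (cut YT 9) tD (cut YT 4) ∧ Oc (cut YT 9) 0 (cut YT 9) (cut YT 1) (cut YT 2) ∧
    Oc (cut YT 9) 0 tD 0 (cut YT 3) ∧ Oc (cut YT 9) 0 tD (cut YT 3) tR ∧ Oc (cut YT 9) 0 (cut YT 4) 0 tJ ∧
    Oc (cut YT 9) 0 (cut YT 4) (cut YT 1) (cut YT 7) ∧ Oc (cut YT 9) 0 (cut YT 2) 0 tE1 ∧
    Oc (cut YT 9) 1 tE1 tE1 (cut YT 5) ∧ Oc (cut YT 9) 0 tJ (cut YT 4) tE2 ∧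
    Oc (cut YT 9) 0 tR (cut YT 2) tQ3 ∧ Oc (cut YT 9) 0 tR tQ3 tE3 := by decide +kernel

theorem chd : (Oc tE1 1 tE1 tE1 (cut YT 5) ∧ Oc tE1 0 tE1 0 (cut YT 3) ∧ Oc tE1 0 (cut YT 5) 0 tJ) ∧
    (Oc tE2 1 tE2 tE2 tF ∧ Oc tE2 0 tE2 0 (cut YT 1) ∧ Oc tE2 0 tF 0 tJ) ∧
    (Oc tE3 1 tE3 tE3 tQ3 ∧ Oc tE3 0 tE3 0 (cut YT 1) ∧ Oc tE3 1 tE3 tQ3 (cut YT 2) ∧
      Oc tE3 0 tQ3 0 (cut YT 3) ∧ Oc tE3 0 (cut YT 2) 0 tR) ∧
    Oc tE4 1 tE4 tE4 tQ4 ∧ Oc tE4 0 tQ4 0 tJ := by decide +kernel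

theorem trc : trpCk 1 8 0 = 0 ∧ trpCk 2 8 1 = 0 ∧ trpCk 4 7 2 = 0 ∧ trpCk 4 8 3 = 0 ∧ trpCk 5 7 4 = 0 ∧
    trpCk 7 8 6 = 0 := by decide +kernel

set_option synthInstance.maxSize 4000 in
theorem dgc : (∀ i < 8, rlCk (nth 0 DG i) = 0 ∧ imCk (nth 0 DG i) (cut YT 9) (cut YT 9) = 0 ∧
    eqOn (cut YT 9) (nth 0 DG i) (nth 0 DG i) = 0 ∧
    (∀ k < 9, tg (nth 0 DG i) k ≠ 0 ∧ tg (nth 0 DG i) k < 3 ^ (k + 1)) ∧
    ∀ j < 8, i ^^^ j < 8 ∧ cmp (nth 0 DG i) (nth 0 DG j) = nth 0 DG (i ^^^ j)) ∧ nth 0 DG 0 = YT ∧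
    (∀ a b c : K3, a ≠ 0 → b ≠ 0 → c ≠ 0 → ∃ i < 8, (c = 1 → i < 4) ∧ (tg (nth 0 DG i) 8 / 3 ^ 8 : ℕ) = a ∧
      (tg (nth 0 DG i) 7 / 3 ^ 7 : ℕ) = b ∧ (tg (nth 0 DG i) 5 / 3 ^ 5 : ℕ) = c) ∧
    eqOn (cut YT 9) (cut YT 9) YT = 0 ∧ imCk (nth 0 DG 2) tE4 tE5 = 0 ∧ imCk (nth 0 DG 2) tE5 tE4 = 0 := by
  decide +kernel

/-- the automizer of the Sylow subgroup is diagonal -/
def Nd0 (F : FS Γ) (y : ℕ → Γ) : Prop := ∀ k ∈ F.A F.S, ∃ n ∈ F.S, ∃ i < 8, At y (k * n) (nth 0 DG i)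

/-- a diagonal automorphism lies in the fusion system -/
def Dg (F : FS Γ) (y : ℕ → Γ) (i : ℕ) : Prop := ∃ g ∈ F.A F.S, At y g (nth 0 DG i)

/-- automorphisms are induced by the ambient group -/
def Am (S : Subgroup Γ) : Prop := ∀ y x : ℕ → Γ, Md y → Md x → gen y 9 = S → gen x 9 ≤ S →
  ∃ g, ∀ k < 9, g * y k * g⁻¹ = x k

theorem am_of_good {N : ℕ} {S : Subgroup (Univ N)} (h : Good S) : Am S := fun y x r r' h1 h2 => by
  obtain ⟨f, hf, e⟩ := r.hom r'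
  obtain ⟨g, hg⟩ := exists_conj_of_good (gen y 9).subtype f (subtype_injective _) hf
    (by rwa [range_subtype, h1]) (h.mono (by
      rintro _ ⟨⟨a, ha⟩, rfl⟩
      obtain ⟨c, hc, rfl⟩ := r.ex ha
      exact e c hc ▸ h2 (ev_mem hc)))
  refine ⟨g, fun k hk => ?_⟩
  have := (hg _).symm.trans (e _ (pow3_lt hk))
  simpa [ev_gen hk] using this

/-- trivial weights -/
def K0 (y : ℕ → Γ) : Subgroup Γ := ⨅ k : Fin 9, stab (gen y (k + 1)) (gen y k)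

namespace Md
variable (r : Md y)
include r

theorem e2 : Ech y (sp y tE2) tE2 := r.ech_sp (clc _ (by simp))
theorem e3 : Ech y (sp y tE3) tE3 := r.ech_sp (clc _ (by simp))
theorem e4 : Ech y (sp y tE4) tE4 := r.ech_sp (clc _ (by simp))
theorem eR : Ech y (sp y tR) tR := r.ech_sp (clc _ (by simp))
theorem eQ3 : Ech y (sp y tQ3) tQ3 := r.ech_sp (clc _ (by simp))
theorem eQ4 : Ech y (sp y tQ4) tQ4 := r.ech_sp (clc _ (by simp))
theorem eF : Ech y (sp y tF) tF := r.ech_sp (clc _ (by simp))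

theorem chrS : (∀ k ≤ 9, Chr (gen y 9) (gen y k)) ∧ Chr (gen y 9) (sp y tE2) ∧ Chr (gen y 9) (sp y tE3) := by
  obtain ⟨aD, a1, a4, a2, a3, aR, a6, a7, a8, a5, b2, aQ, b3⟩ := chc
  have S := r.echS
  have D := r.ech_sp (clc tD (by simp))
  have L := fun k hk => r.echL (k := k) hk
  have cD := r.chr_op S chr_self chr_self S S D aD
  have c1 := r.chr_op S chr_self chr_bot S ech_bot (L 1 (by decide)) a1
  have c4 := r.chr_op S chr_self cD S D (L 4 (by decide)) a4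
  have c2 := r.chr_op S chr_self c1 S (L 1 (by decide)) (L 2 (by decide)) a2
  have c3 := r.chr_op S cD chr_bot D ech_bot (L 3 (by decide)) a3
  have cR := r.chr_op S cD c3 D (L 3 (by decide)) r.eR aR
  have c6 := r.chr_op S c4 chr_bot (L 4 (by decide)) ech_bot r.eJ a6
  have c7 := r.chr_op S c4 c1 (L 4 (by decide)) (L 1 (by decide)) (L 7 (by decide)) a7
  have c8 := r.chr_op S c2 chr_bot (L 2 (by decide)) ech_bot r.e1 a8
  have c5 := r.chr_op S c8 c8 r.e1 r.e1 (L 5 (by decide)) a5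
  have cQ := r.chr_op S cR c2 r.eR (L 2 (by decide)) r.eQ3 aQ
  refine ⟨fun k hk => ?_, r.chr_op S c6 c4 r.eJ (L 4 (by decide)) r.e2 b2, r.chr_op S cR cQ r.eR r.eQ3 r.e3 b3⟩
  interval_cases k
  exacts [gen_zero y ▸ chr_bot, c1, c2, c3, c4, c5, c6, c7, c8, chr_self]

theorem chr1 : Chr (gen y 8) (gen y 5) ∧ Chr (gen y 8) (gen y 3) ∧ Chr (gen y 8) (gen y 6) := by
  obtain ⟨⟨a5, a3, a6⟩, -⟩ := chd
  have c5 := r.chr_op r.e1 chr_self chr_self r.e1 r.e1 (r.echL (by decide)) a5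
  exact ⟨c5, r.chr_op r.e1 chr_self chr_bot r.e1 ech_bot (r.echL (by decide)) a3,
    r.chr_op r.e1 c5 chr_bot (r.echL (by decide)) ech_bot r.eJ a6⟩

theorem chr2 : Chr (sp y tE2) (sp y tF) ∧ Chr (sp y tE2) (gen y 1) ∧ Chr (sp y tE2) (gen y 6) := by
  obtain ⟨-, ⟨a5, a3, a6⟩, -⟩ := chd
  have c5 := r.chr_op r.e2 chr_self chr_self r.e2 r.e2 r.eF a5
  exact ⟨c5, r.chr_op r.e2 chr_self chr_bot r.e2 ech_bot (r.echL (by decide)) a3,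
    r.chr_op r.e2 c5 chr_bot r.eF ech_bot r.eJ a6⟩

theorem chr3 : Chr (sp y tE3) (sp y tQ3) ∧ Chr (sp y tE3) (gen y 1) ∧ Chr (sp y tE3) (gen y 3) ∧
    Chr (sp y tE3) (sp y tR) := by
  obtain ⟨-, -, ⟨aQ, a1, a2, a3, aR⟩, -⟩ := chd
  have cQ := r.chr_op r.e3 chr_self chr_self r.e3 r.e3 r.eQ3 aQ
  have c2 := r.chr_op r.e3 chr_self cQ r.e3 r.eQ3 (r.echL (by decide)) a2
  exact ⟨cQ, r.chr_op r.e3 chr_self chr_bot r.e3 ech_bot (r.echL (by decide)) a1,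
    r.chr_op r.e3 cQ chr_bot r.eQ3 ech_bot (r.echL (by decide)) a3,
    r.chr_op r.e3 c2 chr_bot (r.echL (by decide)) ech_bot r.eR aR⟩

theorem chr4 : Chr (sp y tE4) (sp y tQ4) ∧ Chr (sp y tE4) (gen y 6) := by
  obtain ⟨-, -, -, aQ, a6⟩ := chd
  have cQ := r.chr_op r.e4 chr_self chr_self r.e4 r.e4 r.eQ4 aQ
  exact ⟨cQ, r.chr_op r.e4 cQ chr_bot r.eQ4 ech_bot r.eJ a6⟩

theorem nzk (hg : g ∈ nz (gen y 9)) (k : ℕ) (hk : k ≤ 9) : g ∈ nz (gen y k) := (r.chrS.1 k hk).2 hg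

theorem wts (hg : g ∈ nz (gen y 9)) : wt y g 0 = wt y g 5 ∧
    (wt y g 8 = 1 → wt y g 7 = 1 → wt y g 5 = 1 → g ∈ K0 y) := by
  have h := r.nzk hg
  obtain ⟨a0, a1, a2, a3, a4, a6⟩ := trc
  have b0 := r.wt_trp (by decide) (by decide) (by decide) a0 h
  have b1 := r.wt_trp (by decide) (by decide) (by decide) a1 h
  have b2 := r.wt_trp (by decide) (by decide) (by decide) a2 h
  have b3 := r.wt_trp (by decide) (by decide) (by decide) a3 h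
  have b4 := r.wt_trp (by decide) (by decide) (by decide) a4 h
  have b6 := r.wt_trp (by decide) (by decide) (by decide) a6 h
  refine ⟨?_, fun h8 h7 h5 => mem_iInf.2 fun ⟨k, hk⟩ => (r.wt_one hk (h k hk.le) (h _ hk)).1 ?_⟩
  · rw [b0, b1, b2, b4]
    exact (by decide : ∀ a b c : K3, a ≠ 0 → b ≠ 0 → c * b * b * a * a = c) _ _ _
      (r.wt_ne (by decide) (h 8 (by decide))) (r.wt_ne (by decide) (h 7 (by decide)))
  · interval_cases k <;> simp only [b0, b1, b2, b3, b4, b6, h8, h7, h5, mul_one]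

theorem pel0 (hg : g ∈ K0 y) : PEl 3 (cz (gen y 9)) g := by
  have h : ∀ k < 9, g ∈ stab (gen y (k + 1)) (gen y k) := fun k hk => mem_iInf.1 hg ⟨k, hk⟩
  suffices H : ∀ k ≤ 9, PEl 3 (cz (gen y k)) g from H 9 le_rfl
  intro k hk
  induction k with
  | zero => exact .of_mem (by rw [gen_zero]; exact mem_cz.2 fun x hx => by rw [mem_bot.1 hx]; simp)
  | succ k ih =>
    exact pel_of_stab (r.pg.to_le (gen_mono y (by omega))) (h k hk) (r.nzk (h 8 (by decide)).1 k (by omega))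
      (ih (by omega))

theorem ai0 (hF : F.Sat 3) (hS : F.S = gen y 9) (hg : g ∈ F.A F.S) (h : g ∈ K0 y) : g ∈ ai F.S F.S :=
  (hF.syl F.FN_S).mem_of_pel ((F.A_le_nz _).trans (nz_le_nz_ai_self _)) hg
    ((hS ▸ r.pel0 h :).mono (cz_le_ai _ _))

theorem dg_nz (hi : i < 8) (h : At y g (nth 0 DG i)) : g ∈ nz (gen y 9) :=
  mem_nz_of_le (r.cj_le h r.echS r.echS.low (dgc.1 i hi).2.1)

theorem dg_ag (hi : i < 8) (hg : At y g (nth 0 DG i)) (hh : At y h (nth 0 DG i)) : Agree (gen y 9) g h :=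
  r.eq_sp r.echS ▸ hg.agree hh (at_one dgc.2.2.2.1) (dgc.1 i hi).2.2.1

theorem dg_xor (hi : i < 8) (hj : j < 8) (hg : At y g (nth 0 DG i)) (hh : At y h (nth 0 DG j)) :
    At y (g * h) (nth 0 DG (i ^^^ j)) := ((dgc.1 i hi).2.2.2.2 j hj).2 ▸ r.at_cmp hg hh

theorem split (hg : g ∈ nz (gen y 9)) : ∃ i < 8, (g * y 0 * g⁻¹ ≠ (y 0)⁻¹ → i < 4) ∧
    ∀ h, At y h (nth 0 DG i) → g * h⁻¹ ∈ K0 y := by
  have a := r.nzk hg
  obtain ⟨i, hi, h1, h2⟩ := dgc.2.2.1 _ _ _ (r.wt_ne (k := 8) (by decide) (a 8 (by decide)))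
    (r.wt_ne (k := 7) (by decide) (a 7 (by decide))) (r.wt_ne (k := 5) (by decide) (a 5 (by decide)))
  refine ⟨i, hi, fun h => h1 ?_, fun h hh => ?_⟩
  · obtain ⟨e, he, h3⟩ := (r.mem_gen_iff (k := 1) (by decide)).1
      (conj_mem_of_mem_nz (a 1 (by decide)) (mem_gen y (show 0 < 1 by decide)))
    have h4 := r.wt_ne (k := 0) (by decide) (a 0 (by decide))
    rw [← (r.wts hg).1]
    rw [wt, ← h3, r.dg_ev (by decide) he] at h4 ⊢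
    have h5 := r.cube_gen (k := 0) (by decide)
    rw [gen_zero, mem_bot] at h5
    interval_cases e
    · exact absurd rfl h4
    · rfl
    · refine absurd (h3.symm.trans ((ev_pw (k := 0) (d := 2) (by decide) (by decide)).trans ?_)) h
      exact eq_inv_of_mul_eq_one_left (by rw [← pow_succ, h5])
  have b := r.dg_nz hi hh
  have c : ∀ k < 9, (tg (nth 0 DG i) k / 3 ^ k : ℕ) = wt y g k → wt y (g * h⁻¹) k = 1 := fun k hk e => by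
    have d := (dgc.1 i hi).2.2.2.1 k hk
    have f := r.wt_mul hk (r.nzk (mul_mem hg (inv_mem b)) k hk.le) (r.nzk (mul_mem hg (inv_mem b)) _ hk)
      (r.nzk b _ hk)
    rw [inv_mul_cancel_right, wt.eq_1 y h, show h * y k * h⁻¹ = _ from (hh k hk).2 d.1, r.dg_ev hk d.2, e] at f
    exact (mul_eq_right₀ (r.wt_ne hk (a k hk.le))).1 f.symm
  exact (r.wts (mul_mem hg (inv_mem b))).2 (c 8 (by decide) h2.1) (c 7 (by decide) h2.2.1) (c 5 (by decide) h2.2.2)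

theorem am_tab (hA : Am (gen y 9)) (h : rlCk L = 0) : ∃ g, At y g L := by
  obtain ⟨h1, h2⟩ := r.of_tab h
  obtain ⟨g, hg⟩ := hA _ _ r h1 rfl (gen_le.2 fun k hk => ev_mem (h2 k hk))
  exact ⟨g, fun k hk => ⟨h2 k hk, fun _ => hg k hk⟩⟩

theorem norm (hF : F.Sat 3) (hS : F.S = gen y 9) (hA : Am (gen y 9)) :
    ∃ h ∈ nz (gen y 9), Nd0 F (C9.cy h y) := by
  have : Fact (Nat.Prime 2) := Nat.fact_prime_two
  let D : Subgroup Γ := sgp {g | ∃ i < 8, At y g (nth 0 DG i)} ⟨0, by decide, dgc.2.1 ▸ at_YT⟩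
    fun a ⟨i, hi, ha⟩ b ⟨j, hj, hb⟩ => ⟨_, ((dgc.1 i hi).2.2.2.2 j hj).1, r.dg_xor hi hj ha hb⟩
  have a0 : K0 y ≤ nz (gen y 9) := fun g hg => (mem_iInf.1 hg ⟨8, by decide⟩).1
  have a1 : Syl 2 D (nz (gen y 9)) := ⟨fun g ⟨i, hi, h⟩ => r.dg_nz hi h, by
    rw [relIndex_eq_of_cover a0 fun g hg => by
      obtain ⟨i, hi, -, h⟩ := r.split hg
      obtain ⟨d, hd⟩ := r.am_tab hA (dgc.1 i hi).1
      exact ⟨_, h d hd, by rw [show (g * d⁻¹)⁻¹ * g = d by group]; exact ⟨i, hi, hd⟩⟩]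
    obtain ⟨n, hn⟩ := relIndex_pow_of_pel (a0.trans (nz_le_nz_cz _)) fun _ => r.pel0
    exact fun h => absurd (Nat.prime_two.dvd_of_dvd_pow (hn ▸ h.trans (relIndex_dvd_of_le_left _ fun g hg =>
      ⟨0, by decide, dgc.2.1 ▸ at_YT.congr (agree_one_iff.2 hg) fun k hk _ => mem_gen y hk⟩))) (by decide)⟩
  obtain ⟨Y, hY, a2⟩ := exists_syl (p := 2) (F.A F.S)
  have a3 : F.A F.S ≤ nz (gen y 9) := hS ▸ F.A_le_nz _
  obtain ⟨h, hh, a4⟩ := a1.exists_cj_le hY (a2.le.trans a3)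
  have a5 : F.A F.S ≤ nz (ai F.S F.S) := (F.A_le_nz _).trans (nz_le_nz_ai_self _)
  refine ⟨h⁻¹, inv_mem hh, fun k hk => ?_⟩
  rw [← (a2.mono_left le_sup_left (sup_le a2.le (F.ai_le_A _))).eq_of_pel le_sup_right a5 fun g hg =>
    ⟨1, r.ai0 hF hS (pow_mem hg _) (mem_iInf.2 fun ⟨k, hk⟩ => by
      have b := r.nzk (a3 hg)
      rw [pow_one, pow_two]
      exact (r.wt_one hk (mul_mem (b k hk.le) (b k hk.le)) (mul_mem (b _ hk) (b _ hk))).1 (by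
        rw [r.wt_mul hk (b k hk.le) (b _ hk) (b _ hk)]
        exact (by decide : ∀ a : K3, a ≠ 0 → a * a = 1) _ (r.wt_ne hk (b k hk.le))))⟩] at hk
  obtain ⟨t, ht, m, ⟨-, n, hn, e⟩, rfl⟩ := (mem_sup_of_le_nz_right (a2.le.trans a5)).1 hk
  obtain ⟨i, hi, b⟩ := a4 (conj_mem_cj h ht)
  refine ⟨n⁻¹, inv_mem hn, i, hi, (b.cj h⁻¹).congr (U := F.S) ?_ fun k hk _ => hS ▸ by
    simpa using conj_mem_of_mem_nz' hh (mem_gen y hk)⟩
  rw [show h⁻¹ * (h * t * h⁻¹) * h⁻¹⁻¹ = t by group, mul_assoc]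
  exact agree_mul_cz _ (by simpa [cj_eq_of_mem hn] using agree_iff'.1 e)

theorem dg_all (h1 : Dg F y 1) (h2 : Dg F y 2) (h4 : ε → Dg F y 4) (i : ℕ) (hi : i < 8) (h : i < 4 ∨ ε) :
    Dg F y i := by
  have a : ∀ i < 8, ∀ j < 8, Dg F y i → Dg F y j → Dg F y (i ^^^ j) := fun i hi j hj ⟨g, b, c⟩ ⟨h, d, e⟩ =>
    ⟨_, mul_mem b d, r.dg_xor hi hj c e⟩
  have b : ∀ i < 4, Dg F y i := fun i hi => by
    interval_cases i
    exacts [⟨1, one_mem _, dgc.2.1 ▸ at_YT⟩, h1, h2, a 1 (by decide) 2 (by decide) h1 h2]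
  by_cases c : i < 4
  · exact b i c
  · have := a _ (by omega) 4 (by decide) (b (i - 4) (by omega)) (h4 (h.resolve_left c))
    rwa [show (i - 4) ^^^ 4 = i by interval_cases i <;> simp at c ⊢] at this

theorem ess2 (hF : F.Sat 3) (hS : F.S = gen y 9) (hP : F.Ess P) (hK : gen y 9 ≤ K) (hτ : τ ∈ K)
    (h : At y τ (nth 0 DG 2)) : P = gen y 8 ∨ P = sp y tE2 ∨ P = sp y tE3 ∨ P = gen y 6 ∨
      ∃ h ∈ K, P = sp (C9.cy h y) tE4 := by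
  obtain ⟨s, hs, -, T, hT, e⟩ := r.ess_cases hF hS hP
  have h2 : ∀ {U}, Chr (gen y 9) U → cj s P = U → P = U := fun h e => by
    rw [cj_eq_iff.1 e, mem_nz.1 (inv_mem (h.nz hs))]
  simp only [List.mem_cons, List.not_mem_nil, or_false] at hT
  rcases hT with rfl | rfl | rfl | rfl | rfl | rfl
  · exact .inl (h2 (r.chrS.1 8 (by decide)) (e.trans (r.eq_sp r.e1).symm))
  · exact .inr (.inl (h2 r.chrS.2.1 e))
  · exact .inr (.inr (.inl (h2 r.chrS.2.2 e)))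
  · exact .inr (.inr (.inr (.inr ⟨_, inv_mem (hK hs), by rw [sp_cy, cj_eq_iff.1 e]⟩)))
  · have e5 := r.ech_sp (clc tE5 (by simp))
    have a := r.cj_le h r.e4 e5.low dgc.2.2.2.2.1
    have b := cj_mono τ (r.cj_le h e5 r.e4.low dgc.2.2.2.2.2)
    have c := b.trans a
    rw [cj_cj] at b c
    refine .inr (.inr (.inr (.inr ⟨_, mul_mem (inv_mem (hK hs)) hτ, ?_⟩)))
    rw [sp_cy, ← cj_cj, a.antisymm (cj_eq_of_le c ▸ b), cj_eq_iff.1 e]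
  · exact .inr (.inr (.inr (.inl (h2 (r.chrS.1 6 (by decide)) (e.trans (r.eq_sp r.eJ).symm)))))

end Md

end H16.C9
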