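import Cfsg.Agent.H16.C9h

/-! The automizers of the candidates for essential subgroups. -/

set_option autoImplicit false
set_option linter.unusedSectionVars false
set_option maxRecDepth 100000
set_option Elab.async false
set_option synthInstance.maxSize 4000

namespace H16.C9
open H26 (frc frc_eq)
open Subgroup H25 H25.FS H4.G3 H4 Matrix

variable {Γ : Type*} [Group Γ] [Finite Γ] {y : ℕ → Γ} {F : FS Γ} {D E H Q U V Y : Subgroup Γ}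
  {a c i j o u A B C G L N T : ℕ} {g v σ τ : Γ} {X Z : List ℕ} {f : ℕ → ℕ}

/-- a section of order nine with a basis given by codes -/
def Se (F : FS Γ) (y : ℕ → Γ) (E V Q D : Subgroup Γ) (X : List ℕ) (c : ℕ) : Prop := ∃ s co ρ,
  Sec F E V Q D s (fun i => ev y (nth 0 X i)) co ρ ∧ (s : Γ) = ev y c

abbrev SecCk (T N A C B G s : ℕ) (X : List ℕ) : Prop := CoCk 2 X A C ∧ cmCk (cut YT 9) T T N = 0 ∧
  (s < 19683 ∧ sift N s = 0 ∧ sift T (cu s) = 0) ∧ ent N (sift (add T s)) = 0 ∧ MCk X C (inn YT s) (Ut 1) ∧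
  ent T (stCk A C) = 0 ∧ ent N (stCk B G) = 0

/-- the matrix of a diagonal table -/
noncomputable def dm (X : List ℕ) (L : ℕ) : Mt 2 := diagonal fun j => if ap L (nth 0 X j) = nth 0 X j then 1 else -1

abbrev TauCk (X : List ℕ) (C G u j : ℕ) : Prop := u < 19683 ∧ ∀ i < 8, MCk X C (nth 0 DG i) (dm X (nth 0 DG i)) ∧
  ap (nth 0 DG i) u ≠ 0 ∧ (sift G (mul (inv u) (ap (nth 0 DG i) u)) = 0 → ∀ t, dm X (nth 0 DG i) = -Ut t → i = j)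

/-- `v` and the normalizer of a Sylow subgroup generate the automizer -/
def Gn (F : FS Γ) (E : Subgroup Γ) (v : Γ) : Prop := ∀ H, v ∈ H → F.A E ⊓ nz (ai F.S E) ≤ H → F.A E ≤ H

theorem sck : SecCk tE1 (cut YT 9) tE1 tJ tJ (cut YT 5) 6561 [729, 2187] ∧
    SecCk tE2 (cut YT 9) tE2 tJ (cut YT 1) 0 4374 [729, 6561] ∧
    SecCk tE3 (cut YT 9) tR tQ3 tE3 tR 486 [81, 2187] ∧ SecCk tE4 tN4 tJ tQ4 tE4 tJ 729 [27, 243] := by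
  decide +kernel

theorem frk : ent (cut YT 5) (sift (foL (stp tE1) [68, 67, 66, 59, 57] 0)) = 0 ∧
    ent tF (sift (foL (stp tE2) [76, 74, 73] 0)) = 0 ∧ ent tQ3 (sift (foL (stp tE3) [79, 76, 74, 73, 67] 0)) = 0 ∧
    ent tQ4 (sift (foL (stp tE4) [77, 76, 75, 74] 0)) = 0 ∧ ent tF (sift tJ) = 0 ∧
    ent tE2 (stCk tF (cut YT 1)) = 0 ∧ ent tE2 (stCk tJ tF) = 0 ∧ cmCk tF tE2 0 (cut YT 1) = 0 ∧
    cmCk tJ tE2 (cut YT 1) tF = 0 := by decide +kernel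

theorem tck : TauCk [729, 2187] tJ (cut YT 5) 243 2 ∧ TauCk [729, 6561] tJ 0 1 1 ∧
    (dm [729, 2187] (nth 0 DG 2) = -1 ∧ dm [729, 6561] (nth 0 DG 1) = -1 ∧ dm [81, 2187] (nth 0 DG 1) = 1 ∧
      dm [81, 2187] (nth 0 DG 2) = -1) ∧ (∀ i < 8, MCk [81, 2187] tQ3 (nth 0 DG i) (dm [81, 2187] (nth 0 DG i))) ∧
    MCk [729, 2187] tJ V1 Lw ∧ (∀ V ∈ [V20, V22], MCk [729, 6561] tJ V Lw) ∧ MCk [81, 2187] tQ3 V3 Lw := by
  decide +kernel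

theorem pel3 (hE : IsPGroup 3 E) (h : Chr E U) (h1 : Y ≤ fr E) (h2 : g ∈ stab E U) (h3 : g ∈ stab U Y) :
    PEl 3 (cz E) g :=
  .of_pow (n := 1) (pel_of_fr hE (cube_stab hE h (stab_mono le_sup_left h2) (stab_mono h1 h3)))

theorem Sec.gn {s v : F.A E} {x : Fin 2 → Γ} {co : Γ → Vc 2} {ρ : F.A E →* Mt 2} (q : Sec F E V Q D s x co ρ)
    (h : ρ v = Lw) : Gn F E v := fun _ h1 h2 =>
  q.gen h h1 (h2 ⟨s.2, le_nz_self _ (inf_nz_le_ai _ _ q.sN)⟩) h2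

namespace Md
variable (r : Md y)
include r

theorem sec (hF : F.Sat 3) (hS : F.S = gen y 9) (hE : F.FN E) (h : Ech y E T) (h1 : Ech y V A) (h2 : Ech y Q C)
    (h3 : Ech y U B) (h4 : Ech y Y G) (c1 : Chr E V) (c2 : Chr E Q) (c3 : Chr E U) (c4 : Chr E Y)
    (h0 : SecCk T N A C B G c X) (hp : ∀ k, k ∈ stab U Y → k ∈ stab V Q → k ∈ nz E → PEl 3 (cz E) k) :
    Se F y E V Q (stab U Y) X c := by
  obtain ⟨a1, a2, ⟨a3, a4, a5⟩, a6, a7, a8, a9⟩ := h0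
  obtain ⟨co, ρ, q⟩ := r.co h1 h2 ((F.A_le_nz E).trans c1.2) ((F.A_le_nz E).trans c2.2) a1
  have b := r.ech_nz r.echS h a2
  rw [← hS] at b
  have d := r.mem_of_sift b.low a3 a4
  exact ⟨⟨_, F.N_le_A E d⟩, co, ρ, ⟨q, hF, hE, d, r.ev_cu a3 ▸ r.mem_of_sift h.low (r.cu_lt a3) a5,
    r.le_of_sift b (r.low_add (h.low.mono le_sup_left) ⟨a3, mem_sup_right (mem_zpowers _)⟩) a6,
    q.mat r.toRl (fun i => (a1.2.2.2.1 i).1) h2.low (r.at_ev a3) a7, c1.1,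
    r.stab_le h h1 h2.low (c1.1.trans c2.nz) c1.nz a8,
    fun g hg => nz_stab (c3.2 (F.A_le_nz E hg)) (c4.2 (F.A_le_nz E hg)),
    ai_le (by
      exact r.stab_le b h3 h4.low (c3.1.trans c4.nz) (inf_le_right.trans c3.2) a9)
      ((cz_anti c3.1).trans (cz_le_stab _ _)), fun k hk h h' => hp k h h' (F.A_le_nz E hk)⟩, rfl⟩

variable (hF : F.Sat 3) (hS : F.S = gen y 9)
include hF hS

theorem se1 : Se F y (gen y 8) (gen y 8) (gen y 6) (stab (gen y 6) (gen y 5)) [729, 2187] 6561 :=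
  r.sec hF hS (r.fnL hS (by decide)) r.e1 r.e1 r.eJ r.eJ (r.echL (by decide)) chr_self r.chr1.2.2 r.chr1.2.2
    r.chr1.1 sck.1 fun _ h1 h2 _ => pel3 (r.pg.to_le r.e1.le) r.chr1.2.2
      (r.le_of_sift (r.echL (by decide)) (r.low_stp r.e1 _) frk.1) h2 h1

theorem se2 : Se F y (sp y tE2) (sp y tE2) (gen y 6) (stab (gen y 1) ⊥) [729, 6561] 4374 := by
  obtain ⟨c1, c2, c3⟩ := r.chr2
  obtain ⟨-, a1, -, -, a2, a3, a4, a5, a6⟩ := frk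
  have L1 := r.echL (k := 1) (by decide)
  have b := (r.le_of_sift r.eF r.eJ.low a2).trans r.abJ
  refine r.sec hF hS (FN_of_le_nz (hS ▸ r.e2.le) (hS ▸ r.chrS.2.1.nz)) r.e2 r.e2 r.eJ L1 ech_bot chr_self c3 c2
    chr_bot sck.2.1 fun k h1 h2 h3 => pel3 (r.pg.to_le r.e2.le) c3 (r.le_of_sift r.eF (r.low_stp r.e2 _) a1) h2 ?_
  have d := three h2 b (b.trans (cz_anti (r.le_of_sift r.eF r.eJ.low a2))) (c1.2 h3)
    (r.stab_le r.e2 r.eF L1.low (c1.1.trans c2.nz) c1.nz a3) h1 c1.1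
  rw [stab_bot, r.ech_eq (r.ech_cz r.eF r.e2 a5) L1] at d
  have e := three h2 r.abJ r.abJ (c3.2 h3) (r.stab_le r.e2 r.eJ r.eF.low (c3.1.trans c1.nz) c3.nz a4) d c3.1
  rwa [r.ech_eq (r.ech_stab r.eJ r.e2 L1 c2.1 c2.nz a6) r.eF] at e

theorem se3 : Se F y (sp y tE3) (sp y tR) (sp y tQ3) (stab (sp y tE3) (sp y tR)) [81, 2187] 486 :=
  r.sec hF hS (FN_of_le_nz (hS ▸ r.e3.le) (hS ▸ r.chrS.2.2.nz)) r.e3 r.eR r.eQ3 r.e3 r.eR r.chr3.2.2.2 r.chr3.1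
    chr_self r.chr3.2.2.2 sck.2.2.1 fun _ h1 h2 _ => pel3 (r.pg.to_le r.e3.le) r.chr3.2.2.2
      (r.le_of_sift r.eQ3 (r.low_stp r.e3 _) frk.2.2.1) h1 h2

theorem se4 (h : F.FN (sp y tE4)) :
    Se F y (sp y tE4) (gen y 6) (sp y tQ4) (stab (sp y tE4) (gen y 6)) [27, 243] 729 :=
  r.sec hF hS h r.e4 r.eJ r.eQ4 r.e4 r.eJ r.chr4.2 r.chr4.1 chr_self r.chr4.2 sck.2.2.2 fun _ h1 h2 _ =>
    pel3 (r.pg.to_le r.e4.le) r.chr4.2 (r.le_of_sift r.eQ4 (r.low_stp r.e4 _) frk.2.2.2.1) h1 h2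

omit hF in
theorem tau (q : Se F y E V Q (stab U Y) X c) (hE : Chr (gen y 9) E) (hX : ∀ i : Fin 2, nth 0 X i < 19683)
    (h1 : Low y Q C) (h2 : Ech y Y G) (hu : ev y u ∈ U) (h0 : TauCk X C G u j) (hN : Nd0 F y) (h : Mv F E) :
    Dg F y j := by
  obtain ⟨s, co, ρ, q, -⟩ := q
  obtain ⟨k, hk, h3⟩ := q.tau h
  rw [show F.N E = F.S from inf_eq_left.2 (hS ▸ hE.nz)] at hk h3
  obtain ⟨n, hn, i, hi, h4⟩ := hN k hk
  obtain ⟨g, h5, h6, t, h7⟩ := h3 n hn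
  obtain ⟨a1, a2, a3⟩ := h0.2 i hi
  rw [← h5] at h4
  obtain rfl := a3 ((r.sift_iff h2 (r.mul_lt (r.inv_lt h0.1) (ap_lt _ _))).2 (by
    rw [r.ev_mul (r.inv_lt h0.1) (ap_lt _ _), r.ev_inv h0.1, ← r.ev_ap h4 h0.1 a2]
    exact h6.2 _ hu)) t ((q.c.mat r.toRl hX h1 h4 a1).symm.trans h7)
  exact ⟨_, mul_mem hk (F.N_le_A _ (le_N le_rfl hn)), h5 ▸ h4⟩

theorem tau1 (hN : Nd0 F y) (h : Mv F (gen y 8)) : Dg F y 2 :=
  r.tau hS (r.se1 hF hS) (r.chrS.1 8 (by decide)) (by decide) r.eJ.low (r.echL (by decide))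
    (ev_mem_gen (by decide) _ (by decide)) tck.1 hN h

theorem tau2 (hN : Nd0 F y) (h : Mv F (sp y tE2)) : Dg F y 1 :=
  r.tau hS (r.se2 hF hS) r.chrS.2.1 (by decide) r.eJ.low ech_bot (ev_mem_gen (by decide) _ (by decide))
    tck.2.1 hN h

theorem gn1 (hv : v ∈ F.A (gen y 8)) (h : At y v V1) : Gn F (gen y 8) v := by
  obtain ⟨s, co, ρ, q, -⟩ := r.se1 hF hS
  exact q.gn (v := ⟨v, hv⟩) (q.c.mat r.toRl (by decide) r.eJ.low h tck.2.2.2.2.1)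

theorem gn2 (hv : v ∈ F.A (sp y tE2)) (hL : L ∈ [V20, V22]) (h : At y v L) : Gn F (sp y tE2) v := by
  obtain ⟨s, co, ρ, q, -⟩ := r.se2 hF hS
  exact q.gn (v := ⟨v, hv⟩) (q.c.mat r.toRl (by decide) r.eJ.low h (tck.2.2.2.2.2.1 _ hL))

theorem gn3 (hv : v ∈ F.A (sp y tE3)) (h : At y v V3) : Gn F (sp y tE3) v := by
  obtain ⟨s, co, ρ, q, -⟩ := r.se3 hF hS
  exact q.gn (v := ⟨v, hv⟩) (q.c.mat r.toRl (by decide) r.eQ3.low h tck.2.2.2.2.2.2)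

omit hF in
theorem fix {s v : F.A E} {co : Γ → Vc 2} {ρ : F.A E →* Mt 2}
    (q : Sec F E V Q D s (fun i => ev y (nth 0 X i)) co ρ) (hE : Chr (gen y 9) E)
    (hX : ∀ i : Fin 2, nth 0 X i < 19683) (h1 : Low y Q C) (hv : ρ v = Lw) (hD : (v : Γ) ∈ D) (hi : i < 8)
    (hj : j < 8) (hτ : τ ∈ F.A F.S) (h2 : At y τ (nth 0 DG i)) (h3 : At y σ (nth 0 DG j))
    (h4 : MCk X C (nth 0 DG i) (dm X (nth 0 DG i))) (h5 : dm X (nth 0 DG i) = 1 ∨ dm X (nth 0 DG i) = -1)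
    (h6 : Agree E (σ * v) (v * σ)) : ∃ v : F.A E, ρ v = Lw ∧ (v : Γ) ∈ D ∧ Agree E (τ * v) (v * τ) ∧
      Agree E (σ * v) (v * σ) := by
  have a := r.dg_xor hi hi h2 h2
  rw [Nat.xor_self] at a
  exact q.fix (τ := ⟨τ, mem_A_of_le le_rfl hτ q.fn.le (hE.2 (r.dg_nz hi h2))⟩) hv hD
    (by rwa [q.c.mat r.toRl hX h1 h2 h4]) (hE.2 (r.dg_nz hj h3))
    ((r.dg_ag (by decide) a (dgc.2.1 ▸ at_YT)).mono hE.1)
    ((r.dg_ag ((dgc.1 j hj).2.2.2.2 i hi).1 (r.dg_xor hj hi h3 h2) (Nat.xor_comm i j ▸ r.dg_xor hi hj h2 h3)).mono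
      hE.1) h6

omit hF in
theorem acc_ok (h : Ech y E T) (hv : v ∈ F.A E) (h1 : At y v L) (h0 : acc T L X Z = 0) :
    ∃ V ∈ Z, ∃ v ∈ F.A E, At y v V := by
  obtain ⟨n, -, h2⟩ := anyL_zero h0
  obtain ⟨h2, h3⟩ := Nat.add_eq_zero_iff.1 h2
  obtain ⟨h2, h4⟩ := Nat.add_eq_zero_iff.1 h2
  rw [frc_eq] at h3
  obtain ⟨V, hV, h5⟩ := anyL_zero h3
  exact ⟨V, hV, _, mul_mem (F.N_le_A E (le_N (hS ▸ h.le) (r.mem_of_sift h.low (cd_zero h2) h4))) hv,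
    xor0 h5 ▸ r.at_inn h1 (cd_zero h2)⟩

end Md

end H16.C9
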