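import Cfsg.Agent.H8.E8H
import Cfsg.Agent.S0765

/-! The Sylow `2`-subgroup of `Sp₆(2)` and fixed vectors on the adjoint module of `E₈(3)`. -/

set_option autoImplicit false
set_option maxRecDepth 100000
set_option exponentiation.threshold 20000

namespace H16.E8
open Cfsg H8.E8 H0.BC Subgroup Matrix

namespace S6
/-- the elements of the Sylow subgroup -/
def tabN : ℕ := 0x9f36470c19f36070c19f26c70c19f26870c19f16c70c19f16870c19f06470c19f06070c19b37c70c19b37870c19b27470c19b27070c19b17470c19b17070c19b07c70c19b07870c19777c70c19777870c19767470c19767070c19757470c19757070c19747c70c19747870c19376470c19376070c19366c70c19366870c19356c70c19356870c19346470c19346070c19f3fc60c19f3f860c19f2f460c19f2f060c19f1f460c19f1f060c19f0fc60c19f0f860c19b3e460c19b3e060c19b2ec60c19b2e860c19b1ec60c19b1e860c19b0e460c19b0e060c1977ec60c1977e860c1976e460c1976e060c1975e460c1975e060c1974ec60c1974e860c1937f460c1937f060c1936fc60c1936f860c1935fc60c1935f860c1934f460c1934f060c18f76470c18f76070c18f66c70c18f66870c18f56c70c18f56870c18f4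6470c18f46070c18b77c70c18b77870c18b67470c18b67070c18b57470c18b57070c18b47c70c18b47870c18737c70c18737870c18727470c18727070c18717470c18717070c18707c70c18707870c18336470c18336070c18326c70c18326870c18316c70c18316870c18306470c18306070c18f7ec60c18f7e860c18f6e460c18f6e060c18f5e460c18f5e060c18f4ec60c18f4e860c18b7f460c18b7f060c18b6fc60c18b6f860c18b5fc60c18b5f860c18b4f460c18b4f060c1873fc60c1873f860c1872f460c1872f060c1871f460c1871f060c1870fc60c1870f860c1833e460c1833e060c1832ec60c1832e860c1831ec60c1831e860c1830e460c1830e060c19d7fc50c19d7f850c19d6f450c19d6f050c19d5f450c19d5f050c19d4fc50c19d4f850c1997ec50c1997e850c1996e450c1996e050c1995e450c1995e050c1994ec50c1994e850c1953e450c1953e050c1952ec50c1952e850c1951ec50c1951e850c1950e450c1950e050c1913f450c1913f050c1912fc50c1912f850c1911fc50c1911f850c1910f450c1910f050c19d76440c19d76040c19d66c40c19d66840c19d56c40c19d56840c19d46440c19d46040c19977440c19977040c19967c40c19967840c19957c40c19957840c19947440c19947040c19537440c19537040c19527c40c19527840c19517c40c19517840c195074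40c19507040c19136440c19136040c19126c40c19126840c19116c40c19116840c19106440c19106040c18d7ec50c18d7e850c18d6e450c18d6e050c18d5e450c18d5e050c18d4ec50c18d4e850c1897fc50c1897f850c1896f450c1896f050c1895f450c1895f050c1894fc50c1894f850c1853f450c1853f050c1852fc50c1852f850c1851fc50c1851f850c1850f450c1850f050c1813e450c1813e050c1812ec50c1812e850c1811ec50c1811e850c1810e450c1810e050c18d76440c18d76040c18d66c40c18d66840c18d56c40c18d56840c18d46440c18d46040c18977440c18977040c18967c40c18967840c18957c40c18957840c18947440c18947040c18537440c18537040c18527c40c18527840c18517c40c18517840c18507440c18507040c18136440c18136040c18126c40c18126840c18116c40c18116840c18106440c18106040c19f3ac70819f3a870819f2a470819f2a070819f1ac70819f1a870819f0a470819f0a070819b3b470819b3b070819b2bc70819b2b870819b1b470819b1b070819b0bc70819b0b87081977a47081977a07081976ac7081976a87081975a47081975a07081974ac7081974a87081937bc7081937b87081936b47081936b07081935bc7081935b87081934b47081934b070819f33460819f33060819f23c60819f23860819f13460819f13060819f03c60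819f03860819b32c60819b32860819b22460819b22060819b12c60819b12860819b02460819b02060819773460819773060819763c60819763860819753460819753060819743c60819743860819372c60819372860819362460819362060819352c60819352860819342460819342060818f7bc70818f7b870818f6b470818f6b070818f5bc70818f5b870818f4b470818f4b070818b7a470818b7a070818b6ac70818b6a870818b5a470818b5a070818b4ac70818b4a87081873b47081873b07081872bc7081872b87081871b47081871b07081870bc7081870b87081833ac7081833a87081832a47081832a07081831ac7081831a87081830a47081830a070818f73460818f73060818f63c60818f63860818f53460818f53060818f43c60818f43860818b72c60818b72860818b62460818b62060818b52c60818b52860818b42460818b42060818733460818733060818723c60818723860818713460818713060818703c60818703860818332c60818332860818322460818322060818312c60818312860818302460818302060819d7a450819d7a050819d6ac50819d6a850819d5a450819d5a050819d4ac50819d4a85081997b45081997b05081996bc5081996b85081995b45081995b05081994bc5081994b85081953ac5081953a85081952a45081952a05081951ac5081951a85081950a45081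950a05081913bc5081913b85081912b45081912b05081911bc5081911b85081910b45081910b050819d73c40819d73840819d63440819d63040819d53c40819d53840819d43440819d43040819972c40819972840819962440819962040819952c40819952840819942440819942040819533c40819533840819523440819523040819513c40819513840819503440819503040819132c40819132840819122440819122040819112c40819112840819102440819102040818d7b450818d7b050818d6bc50818d6b850818d5b450818d5b050818d4bc50818d4b85081897a45081897a05081896ac5081896a85081895a45081895a05081894ac5081894a85081853bc5081853b85081852b45081852b05081851bc5081851b85081850b45081850b05081813ac5081813a85081812a45081812a05081811ac5081811a85081810a45081810a050818d73c40818d73840818d63440818d63040818d53c40818d53840818d43440818d43040818972c40818972840818962440818962040818952c40818952840818942440818942040818533c40818533840818523440818523040818513c40818513840818503440818503040818132c40818132840818122440818122040818112c4081811284081810244081810204081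
/-- class labels -/
def labN : ℕ := 0xbbbbaaaabbbbaaaabbbbaaaabbbbaaaabbbbaaaabbbbaaaabbbbaaaabbbbaaaa9999555599995555999955559999555599995555999955559999555599995555444499994444999965658787656587878787656587876565999944449999444499995555999955558787323287873232999955559999555587873232878732328989979789899797898997978989979789897979989897978989797998989797343442426565555565655555343442426565555543434242656555554343424287879999878799999999878799998787134434434431344343344413344344316565555565655555444432324444323234344242434342424444323213313210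
/-- conjugating words -/
def wdN : ℕ := 0x64200003100063100004200063100005200065200003100006200007200034100000200006200007200076200000200001500064100004100005100004100005100001500003200054100000100006100007100006100007100054100000100001200003400004300005300071200003400001200005300006300002100062100000300006300007300051200000300006500000400006400000500006500000400006400000500000600000700007600000000000600000700007600000005cb510005cb00c2b100c2b500c2b10005cb005c4b00c2b4000c4b000c7b00cb510000cb000c4b000c7b00cb310000cb003c4b003c7b03cb510003cb003c4b003c7b03cb310003cb53cb510053cb03c2b103c2b503c2b10053cb053c4b03c2b4000cb1000cb500c7b1000cb300c7b1000cb4000cb1000cb3005cb1005cb50c2b51000c2b00c42b005cb4005cb1000c2b003cb1003cb503c7b1003cb303c7b1003cb4003cb1003cb3053cb1053cb53c2b51003c2b03c42b053cb4053cb1003c2b00b3c10007bc00bc210000bc000b21000b52000b12000b32000bc1000bc2007bc1000b3c00b321000b4200b5210000b20000b400bca40000b300b3ca0000b50000b50000b30000b30000b100bc1a00000b000bca00007b00007b00000b00000b0002b30002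b30002b50002b50002b302b3ca0002b402bca400072b00072b00002b00002b0002b102bc1a00002b002bca002b12002b32002b21002b5202bc210002bc02b3c10072bc02b321002b4202b5210002b2002bc1002bc2072bc1002b3c0000b10000b50007b10000b30007b10000b40000b10000b300004b00007b000b5100000b00004b00007b000b3100000b000b52000b52000b32000b3200b3cb00b3cb00bc2b00bc2b000b12000b120000b20000b2000bcb000bcb007bcb007bcb0072b10002b30002b10002b50002b10002b30072b10002b400042b00072b002b5100002b00042b00072b002b3100002b002b32002b3200cb3200cb3202bc2b02bc2b0cbc2b0cbc2b002b12002b120002b20002b2002bcb002bcb072bcb072bcb0000a3000a53000a530000a300a531000a53000a310000a30000a2000a52000a520000a200a521000a52000a210000a2000a3200004a00004a000a320004a100004a00a321000a3200000a0000a50000a500000a000a510000a50000a100000a001a520001a20001a2001a52001a5201a5210001a2001a210001a3001a53001a530001a301a531001a53001a310001a300041a001a32001a3200041a00041a0041a1001a3201a32100001a0001a50001a500001a001a510001a50001a100001a00ca2b000ca2000cab0000ca00ca21000cab000ca100ca2b00000a0000a4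00000c00000a000a310000c4000c3100000c0000a3000a230000a10000a30000a10003c4000a2100003c03ca2b003ca2003cab0003ca03ca21003cab003ca103ca2b0000c100001a0000c30001a4000c21000c230000c10000c3000c1a00c1ab00c1a20c1a2b0c1a2100c1ab00c1a10c1a2b0001a10001a3000ca1000ca3000ca10001a10003c10003c3003c1a03c1ab03c1a23c1a2b3c1a2103c1ab03c1a13c1a2b0000120000120000320000320003210000420000120000320000520000520000020000020000210000520005210000020000310000530005310000030000530000530000030000030000010000050000510000000000050000050000000000000000ba000b1a000b2100000b001aba0002ba001ab1004aba0000b10000b20000ba000b1a000aba002ba2000ab1041aba000b1a00ab1a000bab0000ba002b2100002b0002ba002b1a00a2ba000ba20004ba004bab0002b10002b20002ba002b1a000001000c1a0000030003ca000021000023000001000003000004000ca40000000000ca0003210000040000310000000000c10000c2000c2100000c0000cb0000cb000c2b000c2b0003c10003c2003c2100003c0003cb0003cb003c2b003c2b000a2b0000a20000ab00000a000a210000ab0000a1000a2b00001a0001ab0001a2001a2b001a210001ab0001a1001a2b00000100000200002100000000000b00000b00002b00002b00000a00001a00000a00001a000000000000000000000000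
/-- words for the transvections -/
def twN : ℕ := 0xabc434cba0000a7bc3cb7a00009abc3cba9000000abc3cba009abc232cba90000abc232cba00006abc3cba60000ab3c3c3ba00007bc434cb70000007bc3cb7000000bc434cb00000000bc3cb0000bc12321cb000000bc232cb0000b3c434c3b000000b3c3c3b001a7bc3cb7a100babc232cbab0091abc3cba1900001abc3cba1001abc232cba100ba7bc3cb7ab0061abc3cba16001ab3c3c3ba1000000c12321c00000000c232c00000000c434c0000000000c3c00003c12321c30000003c232c30000003c434c3000000003c3c300cabc434cbac0000a2bc3cb2a00004abc3cba40000cabc3cbac9a2bc232cb2a900a2bc232cb2a0054abc3cba4500a2b3c3c3b2a00002bc434cb20000002bc3cb20000cbc434cbc000000cbc3cbc002bc12321cb200002bc232cb2002b3c434c3b200002b3c3c3b2001a2bc3cb2a1cbabc232cbabc0041abc3cba1400c1abc3cba1c1a2bc232cb2a14ba7bc3cb7ab4641abc3cba1461a2b3c3c3b2a10000000012321000000000023200000000004340000000000003000000b12321b00000000b232b0000ab12321ba0000000000000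
/-- the generators -/
def gl : List ℕ := [34630287489, 34634481857, 35167166593, 38925254785, 34638680193, 36844880001, 35705077889, 34663841921, 34647588993, 34630549633, 34764505219, 51810156929, 34630418561]
/-- class representatives -/
def rl : List ℕ := [0, 1, 2, 3, 12, 48, 53, 96, 97, 100, 448, 452]

/-- strict evaluation -/
noncomputable def frc {α : Type} (x : ℕ) (f : ℕ → α) : α :=
  Nat.rec (motive := fun _ => α) (f 0) (fun m _ => f m.succ) x
theorem frc_eq {α : Type} (x : ℕ) (f : ℕ → α) : frc x f = f x := by cases x <;> rfl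
/-- one bit in every column -/
def O : ℕ := 1090785345
/-- a bit as a field element -/
def bt (X k : ℕ) : ZMod 2 := if X.testBit k then 1 else 0
/-- the matrix with entry `(i, j)` the bit `6 j + i` -/
def toM (X : ℕ) : Matrix (Fin 6) (Fin 6) (ZMod 2) := Matrix.of fun i j => bt X (6 * j + i)
def row (Y a : ℕ) : ℕ := Nat.land (Nat.shiftRight Y a) O
def col (X a : ℕ) : ℕ := Nat.land (Nat.shiftRight X (Nat.mul 6 a)) 63
/-- product -/
noncomputable def mu (X Y : ℕ) : ℕ := frc X fun X => frc Y fun Y =>
  Nat.rec (motive := fun _ => ℕ) 0 (fun a acc => Nat.xor acc (Nat.mul (row Y a) (col X a))) 6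

theorem bt_xor (X Y k : ℕ) : bt (Nat.xor X Y) k = bt X k + bt Y k := by
  have := Nat.testBit_xor X Y k
  unfold bt; rw [show Nat.xor X Y = X ^^^ Y from rfl, this]
  cases X.testBit k <;> cases Y.testBit k <;> decide

theorem bt_zero (k : ℕ) : bt 0 k = 0 := by simp [bt]

/-- equally spaced bits -/
def ones (s : ℕ) : ℕ → ℕ
  | 0 => 0
  | n + 1 => 2 ^ s * ones s n + 1

theorem ones_bit {s : ℕ} (hs : 0 < s) (n : ℕ) : ∀ k, (ones s n).testBit k = (decide (k % s = 0) && decide (k < s * n)) := by
  induction n with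
  | zero => simp [ones]
  | succ n ih =>
    intro k
    rw [ones, Nat.testBit_two_pow_mul_add _ (Nat.one_lt_two_pow hs.ne'), Nat.mul_succ]
    split_ifs with h
    · rw [Nat.mod_eq_of_lt h, decide_eq_true (show k < s * n + s by omega)]
      rcases k with _ | k <;> simp [Nat.testBit_succ]
    · rw [ih, ← Nat.mod_eq_sub_mod (by omega)]
      congr 1; simp; omega

theorem O_bit (k : ℕ) : O.testBit k = (decide (k % 6 = 0) && decide (k < 36)) := by
  rw [show O = ones 6 6 by decide +kernel, ones_bit (by decide)]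

theorem mul_bit {c : ℕ} (hc : c < 2 ^ 6) (j : ℕ) : ∀ {T : ℕ}, (∀ k, T.testBit k → k % 6 = 0) → ∀ i < 6,
    (T * c).testBit (6 * j + i) = (T.testBit (6 * j) && c.testBit i) := by
  have key : ∀ T : ℕ, (∀ k, T.testBit k → k % 6 = 0) → T % 2 ^ 6 = (T.testBit 0).toNat := fun T h => by
    refine Nat.eq_of_testBit_eq fun k => ?_
    rw [Nat.testBit_mod_two_pow]
    rcases k with _ | k
    · cases T.testBit 0 <;> simp
    · have : ((T.testBit 0).toNat).testBit (k + 1) = false := by
        cases T.testBit 0 <;> simp [Nat.testBit_succ]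
      rw [this]
      by_cases h1 : k + 1 < 6
      · cases e : T.testBit (k + 1)
        · simp
        · have := h _ e; omega
      · simp [h1]
  have dec : ∀ T : ℕ, (∀ k, T.testBit k → k % 6 = 0) →
      T * c = 2 ^ 6 * (T / 2 ^ 6 * c) + (T.testBit 0).toNat * c := fun T h => by
    rw [← key T h, ← mul_assoc, ← add_mul, Nat.div_add_mod]
  have lt : ∀ b : Bool, b.toNat * c < 2 ^ 6 := fun b => by
    cases b
    · simp
    · simpa using hc
  induction j with
  | zero =>
    intro T h i hi
    rw [dec T h, Nat.testBit_two_pow_mul_add _ (lt _), if_pos (by omega)]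
    cases T.testBit 0 <;> simp
  | succ j ih =>
    intro T h i hi
    rw [dec T h, Nat.testBit_two_pow_mul_add _ (lt _), if_neg (by omega),
      show 6 * (j + 1) + i - 6 = 6 * j + i by omega, ih (fun k e => ?_) i hi, Nat.testBit_div_two_pow]
    · congr 2
    · rw [Nat.testBit_div_two_pow] at e; have := h _ e; omega

theorem row_bit (Y a k : ℕ) : (row Y a).testBit k = (Y.testBit (a + k) && O.testBit k) := by
  rw [← Nat.testBit_shiftRight, ← Nat.testBit_and]; rfl

theorem col_bit (X a k : ℕ) : (col X a).testBit k = (X.testBit (6 * a + k) && decide (k < 6)) := by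
  rw [← Nat.testBit_shiftRight, ← Nat.testBit_two_pow_sub_one, ← Nat.testBit_and]; rfl

theorem col_lt (X a : ℕ) : col X a < 2 ^ 6 :=
  Nat.lt_pow_two_of_testBit _ fun i h => by rw [col_bit]; simp; omega

theorem bt_rc (X Y a : ℕ) {i j : ℕ} (hi : i < 6) (hj : j < 6) :
    bt (Nat.mul (row Y a) (col X a)) (6 * j + i) = bt X (6 * a + i) * bt Y (6 * j + a) := by
  have := mul_bit (col_lt X a) j (T := row Y a) (fun k e => by rw [row_bit, O_bit] at e; simp at e; omega) i hi
  rw [row_bit, col_bit, O_bit, decide_eq_true hi, decide_eq_true (show 6 * j % 6 = 0 by omega),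
    decide_eq_true (show 6 * j < 36 by omega), add_comm a] at this
  unfold bt; rw [show Nat.mul (row Y a) (col X a) = row Y a * col X a from rfl, this]
  cases X.testBit (6 * a + i) <;> cases Y.testBit (6 * j + a) <;> decide

theorem toM_mul (X Y : ℕ) : toM (mu X Y) = toM X * toM Y := by
  ext i j
  rw [mu, frc_eq, frc_eq, Matrix.mul_apply]
  simp only [toM, of_apply]
  rw [Fin.sum_univ_eq_sum_range (fun a => bt X (6 * a + i) * bt Y (6 * j + a))]
  have : ∀ k : ℕ, bt (Nat.rec (motive := fun _ => ℕ) 0 (fun a acc => Nat.xor acc (Nat.mul (row Y a) (col X a))) k) (6 * j + i) =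
      ∑ a ∈ Finset.range k, bt X (6 * a + i) * bt Y (6 * j + a) := fun k => by
    induction k with
    | zero => exact bt_zero _
    | succ k ih => rw [Finset.sum_range_succ, ← ih, ← bt_rc X Y k i.2 j.2]; exact bt_xor _ _ _
  exact this 6

/-- a table entry -/
def ent (T w k : ℕ) : ℕ := Nat.mod (Nat.shiftRight T (Nat.mul w k)) (Nat.pow 2 w)
def tab (k : ℕ) : ℕ := ent tabN 36 k
def lab (k : ℕ) : ℕ := ent labN 4 k
def gc (d : ℕ) : ℕ := gl.getD d 34630287489
/-- value of a word -/
noncomputable def ev (w : ℕ) (n : ℕ) : ℕ := Nat.rec (gc 0) (fun i r => mu r (gc (ent w 4 i))) n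
/-- the coordinates -/
def ps : List (Fin 6 × Fin 6) := [(0, 1), (1, 2), (2, 5), (0, 2), (1, 5), (0, 5), (1, 4), (0, 4), (0, 3)]
def bb (X p : ℕ) : ℕ := Nat.mod (Nat.shiftRight X p) 2
noncomputable def hc (X : ℕ) : ℕ := frc X fun X =>
  (Nat.add (Nat.mul 2 (Nat.add (Nat.mul 2 (Nat.add (Nat.mul 2 (Nat.add (Nat.mul 2 (Nat.add (Nat.mul 2 (Nat.add (Nat.mul 2 (Nat.add (Nat.mul 2 (Nat.add (Nat.mul 2 (Nat.add (Nat.mul 2 0) (bb X 6))) (bb X 13))) (bb X 32))) (bb X 12))) (bb X 31))) (bb X 30))) (bb X 25))) (bb X 24))) (bb X 18))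
def hm (A : Matrix (Fin 6) (Fin 6) (ZMod 2)) : ℕ := ps.foldl (fun r p => 2 * r + (A p.1 p.2).val) 0
theorem val_bt (X k : ℕ) : (bt X k).val = bb X k := by
  have : bb X k = (X.testBit k).toNat := by rw [Nat.toNat_testBit, ← Nat.shiftRight_eq_div_pow]; rfl
  rw [this]; unfold bt; cases X.testBit k <;> rfl
theorem hm_toM (X : ℕ) : hm (toM X) = hc X := by
  simp only [hm, hc, toM, of_apply, val_bt, frc_eq, ps, List.foldl_cons, List.foldl_nil]; rfl

/-- the index bijection -/
abbrev ee : Fin 3 ⊕ Fin 3 ≃ Fin 6 := finSumFinEquiv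
/-- decoding -/
def mt (X : ℕ) : Matrix (Fin 3 ⊕ Fin 3) (Fin 3 ⊕ Fin 3) (ZMod 2) := (toM X).submatrix ee ee
theorem mt_mu (X Y : ℕ) : mt (mu X Y) = mt X * mt Y := by
  rw [mt, toM_mul, mt, mt, submatrix_mul_equiv]
/-- the index of an element -/
def ix (t : Sp) : ℕ := hm (t.1.submatrix ee.symm ee.symm)
theorem ix_of {t : Sp} {X : ℕ} (h : t.1 = mt X) : ix t = hc X := by
  rw [ix, h, mt, submatrix_submatrix, ← hm_toM]; simp
theorem rmul {s t : Sp} {X Y : ℕ} (h : s.1 = mt X) (k : t.1 = mt Y) : (s * t).1 = mt (mu X Y) := by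
  rw [mt_mu, ← h, ← k]; rfl
open Classical in
/-- the element with a given code -/
noncomputable def φ (X : ℕ) : Sp := if h : mt X ∈ Sp then ⟨_, h⟩ else 1
theorem φ_of {t : Sp} {X : ℕ} (h : t.1 = mt X) : φ X = t := by
  rw [φ, dif_pos (h ▸ t.2)]; exact Subtype.ext h.symm

theorem c_ok : ∀ c ∈ gl, mt c * J (Fin 3) (ZMod 2) * (mt c)ᵀ = J (Fin 3) (ZMod 2) := by decide +kernel
theorem c_one : mt (gc 0) = 1 ∧ tab 0 = gc 0 ∧ ∀ d < 13, mu (gc d) (gc d) = gc 0 := by decide +kernel
/-- the generators -/
noncomputable def gs (d : ℕ) : Sp := φ (gc d)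
theorem gs_r (d : ℕ) : (gs d).1 = mt (gc d) := by
  have : mt (gc d) ∈ Sp := SymplecticGroup.mem_iff.2 (c_ok _ (by
    rcases lt_or_ge d gl.length with h | h
    · rw [gc, List.getD_eq_getElem _ _ h]; exact List.getElem_mem h
    · rw [gc, List.getD_eq_default _ _ h]; decide))
  rw [gs, φ, dif_pos this]
theorem gs_zero : gs 0 = 1 := Subtype.ext ((gs_r 0).trans c_one.1)
theorem gs_big {d : ℕ} (h : 13 ≤ d) : gs d = 1 := by
  rw [← gs_zero, gs, gs, gc, gc, List.getD_eq_default _ _ h]; rfl
theorem gs_sq (d : ℕ) : gs d * gs d = 1 := by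
  rcases lt_or_ge d 13 with h | h
  · exact Subtype.ext ((rmul (gs_r d) (gs_r d)).trans (by rw [c_one.2.2 d h]; exact c_one.1))
  · rw [gs_big h, one_mul]
theorem gs_inv (d : ℕ) : (gs d)⁻¹ = gs d := inv_eq_of_mul_eq_one_right (gs_sq d)
theorem ev_ex {K : Subgroup Sp} (h : ∀ d, gs d ∈ K) (w n : ℕ) : ∃ t ∈ K, t.1 = mt (ev w n) := by
  induction n with
  | zero => exact ⟨_, h 0, gs_r 0⟩
  | succ n ih =>
    obtain ⟨t, h1, h2⟩ := ih
    exact ⟨_, mul_mem h1 (h _), rmul h2 (gs_r _)⟩

/-- the Sylow subgroup -/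
noncomputable def T : Subgroup Sp := closure (gs '' Set.Iio 10)
theorem gs_T {d : ℕ} (h : d < 10) : gs d ∈ T := subset_closure ⟨d, h, rfl⟩
theorem c_cl : ∀ k < 512, hc (tab k) = k ∧ (k = 0 ∨ ∃ d < 10, frc (hc (mu (gc d) (tab k))) (fun j =>
    Nat.blt j k && Nat.beq (mu (gc d) (tab j)) (tab k)) = true) ∧ ∀ d < 10, frc (mu (gc d) (tab k)) (fun Y => frc (hc Y) fun j =>
      Nat.blt j 512 && Nat.beq (tab j) Y && Nat.beq (j / 64) (Nat.xor (hc (gc d) / 64) (k / 64))) = true := by
  decide +kernel
theorem c_lab : ∀ k < 512, lab k < 12 ∧ frc (ev (ent wdN 24 k) 6) (fun W =>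
    Nat.beq (mu W (tab k)) (mu (tab (rl.getD (lab k) 0)) W)) = true := by decide +kernel
theorem el_ex (k : ℕ) : k < 512 → ∃ t ∈ T, t.1 = mt (tab k) := by
  induction k using Nat.strong_induction_on with
  | _ k ih =>
    intro h
    rcases (c_cl k h).2.1 with rfl | ⟨d, h1, h2⟩
    · exact ⟨1, one_mem _, (c_one.2.1 ▸ c_one.1).symm⟩
    · simp only [frc_eq, Bool.and_eq_true, Nat.blt_eq, Nat.beq_eq] at h2
      obtain ⟨t, h3, h4⟩ := ih _ h2.1 (h2.1.trans h)
      exact ⟨_, mul_mem (gs_T h1) h3, h2.2 ▸ rmul (gs_r d) h4⟩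
/-- the elements of `T` -/
noncomputable def el (k : ℕ) : Sp := φ (tab k)
theorem el_sp {k : ℕ} (h : k < 512) : el k ∈ T ∧ (el k).1 = mt (tab k) ∧ ix (el k) = k := by
  obtain ⟨t, h1, h2⟩ := el_ex k h
  rw [el, φ_of h2]
  exact ⟨h1, h2, (ix_of h2).trans (c_cl k h).1⟩
theorem gs_el {d k : ℕ} (hd : d < 10) (h : k < 512) : ∃ j < 512, gs d * el k = el j ∧ j / 64 = ix (gs d) / 64 ^^^ k / 64 := by
  have := (c_cl k h).2.2 d hd
  simp only [frc_eq, Bool.and_eq_true, Nat.blt_eq, Nat.beq_eq] at this
  refine ⟨_, this.1.1, (φ_of ?_).symm, by rw [this.2, ix_of (gs_r d)]; rfl⟩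
  rw [this.1.2]; exact rmul (gs_r d) (el_sp h).2.1
theorem el_zero : el 0 = 1 := by rw [el, c_one.2.1]; exact gs_zero
theorem T_ind {a : Sp} (ha : a ∈ T) : ∀ k < 512, ∃ j < 512, a * el k = el j ∧ j / 64 = ix a / 64 ^^^ k / 64 := by
  have step : ∀ x ∈ gs '' Set.Iio 10, ∀ y : Sp, (∀ k < 512, ∃ j < 512, y * el k = el j ∧ j / 64 = ix y / 64 ^^^ k / 64) →
      ∀ k < 512, ∃ j < 512, x * y * el k = el j ∧ j / 64 = ix (x * y) / 64 ^^^ k / 64 := by
    rintro _ ⟨d, hd, rfl⟩ y ih k hk
    obtain ⟨j, h1, h2, h3⟩ := ih k hk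
    obtain ⟨j', h4, h5, h6⟩ := gs_el hd h1
    obtain ⟨i, h7, h8, h9⟩ := ih 0 (by norm_num)
    obtain ⟨i', h10, h11, h12⟩ := gs_el hd h7
    rw [el_zero, mul_one] at h8
    refine ⟨j', h4, by rw [mul_assoc, h2, h5], ?_⟩
    rw [h8, h11, (el_sp h10).2.2, h12, h6, h3, h9, Nat.zero_div, Nat.xor_zero, Nat.xor_assoc]
  induction ha using closure_induction_left with
  | one => exact fun k h => ⟨k, h, one_mul _, by rw [← el_zero, (el_sp (by norm_num)).2.2]; simp⟩
  | mul_left x hx y _ ih => exact step x hx y ih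
  | inv_mul_cancel x hx y _ ih =>
    obtain ⟨d, hd, rfl⟩ := hx
    rw [gs_inv]; exact step _ ⟨d, hd, rfl⟩ y ih
theorem T_el {a : Sp} (ha : a ∈ T) : ix a < 512 ∧ el (ix a) = a := by
  obtain ⟨j, h1, h2, -⟩ := T_ind ha 0 (by norm_num)
  rw [el_zero, mul_one] at h2
  rw [h2, (el_sp h1).2.2]; exact ⟨h1, rfl⟩
theorem ix_mul {a b : Sp} (ha : a ∈ T) (hb : b ∈ T) : ix (a * b) / 64 = ix a / 64 ^^^ ix b / 64 := by
  obtain ⟨j, h1, h2, h3⟩ := T_ind ha _ (T_el hb).1
  rw [(T_el hb).2] at h2
  rw [h2, (el_sp h1).2.2, h3]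
theorem ix_one : ix 1 = 0 := by rw [← el_zero, (el_sp (by norm_num)).2.2]

/-- masks of subgroups -/
def Gm (μ : ℕ) : Prop := μ.testBit 0 = true ∧ ∀ x < 8, ∀ y < 8, μ.testBit x = true → μ.testBit y = true → μ.testBit (x ^^^ y) = true
instance (μ : ℕ) : Decidable (Gm μ) := by unfold Gm; infer_instance
theorem top_lt {a : Sp} (ha : a ∈ T) : ix a / 64 < 8 := by have := (T_el ha).1; omega
/-- subgroups of index at most two -/
def Rm (μ : ℕ) (h : Gm μ := by decide) : Subgroup Sp where
  carrier := {a | a ∈ T ∧ μ.testBit (ix a / 64) = true}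
  one_mem' := ⟨one_mem _, by rw [ix_one]; exact h.1⟩
  mul_mem' ha hb := ⟨mul_mem ha.1 hb.1, by rw [ix_mul ha.1 hb.1]; exact h.2 _ (top_lt ha.1) _ (top_lt hb.1) ha.2 hb.2⟩
  inv_mem' {a} ha := ⟨inv_mem ha.1, by
    have := ix_mul ha.1 (inv_mem ha.1)
    rw [mul_inv_cancel, ix_one, Nat.zero_div, eq_comm, Nat.xor_eq_zero_iff] at this
    rw [← this]; exact ha.2⟩
theorem Rm_le {μ : ℕ} {h : Gm μ} : Rm μ h ≤ T := fun _ h => h.1
theorem Rm_top : Rm 255 = T := le_antisymm Rm_le fun a ha =>
  ⟨ha, (by decide : ∀ x < 8, Nat.testBit 255 x = true) _ (top_lt ha)⟩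
/-- class counts -/
def cnt (μ l : ℕ) : ℕ := ((Finset.range 512).filter fun k => μ.testBit (k / 64) = true ∧ lab k = l).card

theorem hr (l : ℕ) : rl.getD l 0 < 512 := by
  rcases lt_or_ge l rl.length with h | h
  · exact (by decide : ∀ l < rl.length, rl.getD l 0 < 512) l h
  · rw [List.getD_eq_default _ _ h]; norm_num
theorem cls {β : Sp → ℂ} (hβ : IsClassFunction Sp β) (k : ℕ) (hk : k < 512) : β (el k) = β (el (rl.getD (lab k) 0)) := by
  have := (c_lab k hk).2
  simp only [frc_eq, Nat.beq_eq] at this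
  obtain ⟨t, -, ht⟩ := ev_ex (K := ⊤) (fun _ => trivial) (ent wdN 24 k) 6
  have e : t * el k = el (rl.getD (lab k) 0) * t :=
    Subtype.ext ((rmul ht (el_sp hk).2.1).trans (this ▸ (rmul (el_sp (hr _)).2.1 ht).symm))
  rw [← hβ (el k) t, e, mul_inv_cancel_right]
theorem sum_Rm {μ : ℕ} {h : Gm μ} [Fintype (Rm μ h)] {β : Sp → ℂ} (hβ : IsClassFunction Sp β) :
    ∑ a : Rm μ h, β a = ∑ l ∈ Finset.range 12, cnt μ l * β (el (rl.getD l 0)) := by
  have key := cls hβ
  rw [Finset.sum_bij (t := (Finset.range 512).filter fun k => μ.testBit (k / 64) = true)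
    (g := fun k => β (el (rl.getD (lab k) 0))) (fun (a : Rm μ h) _ => ix a)
    (fun a _ => Finset.mem_filter.2 ⟨Finset.mem_range.2 (T_el a.2.1).1, a.2.2⟩)
    (fun a _ b _ e => Subtype.ext (by rw [← (T_el a.2.1).2, e, (T_el b.2.1).2]))
    (fun k hk => by
      rw [Finset.mem_filter, Finset.mem_range] at hk
      exact ⟨⟨el k, (el_sp hk.1).1, by rw [(el_sp hk.1).2.2]; exact hk.2⟩, Finset.mem_univ _, (el_sp hk.1).2.2⟩)
    (fun a _ => by rw [← key _ (T_el a.2.1).1, (T_el a.2.1).2]),
    ← Finset.sum_fiberwise_of_maps_to (t := Finset.range 12) (g := lab) fun k hk =>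
      Finset.mem_range.2 (c_lab k (Finset.mem_range.1 (Finset.mem_filter.1 hk).1)).1]
  refine Finset.sum_congr rfl fun l _ => ?_
  rw [Finset.sum_congr rfl fun k hk => by rw [(Finset.mem_filter.1 hk).2], Finset.sum_const, Finset.filter_filter, cnt,
    nsmul_eq_mul]
theorem card_Rm {μ : ℕ} {h : Gm μ} : Nat.card (Rm μ h) = ∑ l ∈ Finset.range 12, cnt μ l := by
  have := Fintype.ofFinite (Rm μ h)
  have := sum_Rm (h := h) (β := fun _ => 1) fun _ _ => rfl
  simp only [Finset.sum_const, Finset.card_univ, nsmul_eq_mul, mul_one] at this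
  rw [Nat.card_eq_fintype_card]
  exact_mod_cast this

theorem c_cnt : [255, 15, 51, 85, 153, 165, 105].map (fun μ => (List.range 12).map (cnt μ)) =
    [[1, 7, 27, 41, 68, 92, 20, 40, 40, 112, 32, 32], [1, 7, 19, 33, 52, 36, 12, 24, 24, 48, 0, 0],
     [1, 7, 19, 33, 52, 36, 12, 24, 24, 48, 0, 0], [1, 3, 27, 29, 36, 84, 12, 8, 8, 48, 0, 0],
     [1, 3, 19, 21, 20, 28, 4, 24, 24, 48, 32, 32], [1, 3, 19, 21, 52, 44, 20, 8, 8, 16, 32, 32],
     [1, 3, 11, 13, 36, 52, 12, 24, 24, 80, 0, 0]] := by decide +kernel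
theorem c_tv : ∀ n < 64, mt (ev (ent twN 52 n) 13) = sympTransvection 3 (fun i => bt n (ee i)) 1 := by decide +kernel
theorem c_w : ∀ i < 3, mu (mu (gc (i + 1)) (gc (i + 10))) (gc (i + 1)) = mu (mu (gc (i + 10)) (gc (i + 1))) (gc (i + 10)) ∧
    frc (mu (mu (gc (i + 1)) (gc (i + 10))) (gc (i + 1))) (fun W => decide (∀ k < 512,
      ([15, 51, 85].getD i 0).testBit (k / 64) = true → frc (mu (mu W (tab k)) W) (fun Y => frc (hc Y) fun j =>
        Nat.blt j 512 && Nat.beq (tab j) Y) = true)) = true := by decide +kernel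
end S6

end H16.E8
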