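import Cfsg.Agent.H16.F3z
import Cfsg.Agent.H25.Loc

/-! The chief series, echelon tables of subgroups, sifting. -/

set_option autoImplicit false
set_option linter.unusedSectionVars false

namespace H16.F3
open H26 (frc frc_eq)
open Subgroup H25 H25.FS

variable {Γ : Type*} [Group Γ] {y : ℕ → Γ} {U V W H K P X Y : Subgroup Γ} {a b e k m T : ℕ} {x t u g : Γ}

/-- the elements `x` with `x⁻¹ (g x g⁻¹) ∈ K` -/
def cmK (g : Γ) (K : Subgroup Γ) : Subgroup Γ where
  carrier := {x | x ∈ nz K ∧ x⁻¹ * (g * x * g⁻¹) ∈ K}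
  one_mem' := ⟨one_mem _, by simp⟩
  mul_mem' := by
    rintro a b ⟨ha, ha'⟩ ⟨hb, hb'⟩
    refine ⟨mul_mem ha hb, ?_⟩
    convert mul_mem (conj_mem_of_mem_nz' hb ha') hb' using 1
    group
  inv_mem' := by
    rintro a ⟨ha, ha'⟩
    refine ⟨inv_mem ha, ?_⟩
    convert conj_mem_of_mem_nz ha (inv_mem ha') using 1
    group

theorem mem_sup_cyc (h1 : t ∈ nz W) (h2 : t ^ 3 ∈ W) (hx : x ∈ W ⊔ zpowers t) :
    ∃ a < 3, (t ^ a)⁻¹ * x ∈ W := by
  rw [sup_comm] at hx
  obtain ⟨_, ⟨n, rfl⟩, b, hb, rfl⟩ := (mem_sup_of_le_nz_right (zpowers_le_of_mem h1)).1 hx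
  have h3 : 0 ≤ n % 3 := Int.emod_nonneg _ (by decide)
  refine ⟨(n % 3).toNat, by omega, ?_⟩
  have : t ^ n = t ^ (n % 3).toNat * (t ^ 3) ^ (n / 3) := by
    rw [← zpow_natCast, ← zpow_natCast, ← zpow_mul, ← zpow_add, Int.toNat_of_nonneg h3]
    congr 1; push_cast; omega
  show (t ^ _)⁻¹ * (t ^ n * b) ∈ W
  rw [this, mul_assoc, inv_mul_cancel_left]
  exact mul_mem (zpow_mem h2 _) hb

theorem mem_of_pow3 (h3 : t ^ 3 ∈ W) (ha : a < 3) (h0 : a ≠ 0) (h : t ^ a ∈ W) : t ∈ W := by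
  obtain rfl | rfl : a = 1 ∨ a = 2 := by omega
  · simpa using h
  · convert mul_mem h3 (inv_mem h) using 1; group

theorem gen_succ (y : ℕ → Γ) (k : ℕ) : gen y (k + 1) = gen y k ⊔ zpowers (y k) :=
  le_antisymm (gen_le.2 fun j hj => by
    rcases Nat.lt_succ_iff_lt_or_eq.1 hj with h | rfl
    · exact mem_sup_left (mem_gen y h)
    · exact mem_sup_right (mem_zpowers _))
    (sup_le (gen_mono y k.le_succ) (zpowers_le_of_mem (mem_gen y k.lt_succ_self)))

theorem ev_mem_gen (hk : k ≤ 10) : ∀ e < 3 ^ k, ev y e ∈ gen y k := by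
  induction k with
  | zero => intro e he; obtain rfl : e = 0 := by simpa using he
            simp
  | succ k ih =>
    intro e he
    rw [ev_top' hk he]
    exact mul_mem (pow_mem (mem_gen y k.lt_succ_self) _)
      (gen_mono y k.le_succ (ih (by omega) _ (Nat.mod_lt _ (by positivity))))

theorem pow3_lt (hk : k < 10) : 3 ^ k < 59049 :=
  lt_of_lt_of_le (Nat.pow_lt_pow_right (by decide) hk) (by decide)

theorem pow3_le (hk : k ≤ 10) : 3 ^ k ≤ 59049 :=
  le_trans (Nat.pow_le_pow_right (by decide) hk) (by decide)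

theorem ev_mem (he : e < 59049) : ev y e ∈ gen y 10 := ev_mem_gen le_rfl e he

namespace Rl
variable (r : Rl y)
include r

theorem mul_lt (ha : a < 59049) (hb : b < 59049) : mul a b < 59049 := (r.ops.mul a ha b hb).1
theorem ev_mul (ha : a < 59049) (hb : b < 59049) : ev y (mul a b) = ev y a * ev y b :=
  (r.ops.mul a ha b hb).2
theorem inv_lt (ha : a < 59049) : inv a < 59049 := (r.ops.inv a ha).1
theorem ev_inv (ha : a < 59049) : ev y (inv a) = (ev y a)⁻¹ := (r.ops.inv a ha).2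
theorem cm_lt (ha : a < 59049) (hb : b < 59049) : cm a b < 59049 :=
  r.mul_lt (r.inv_lt (r.mul_lt hb ha)) (r.mul_lt ha hb)
theorem ev_cm (ha : a < 59049) (hb : b < 59049) :
    ev y (cm a b) = (ev y a)⁻¹ * ((ev y b)⁻¹ * ev y a * ev y b) := by
  show ev y (mul (inv (mul b a)) (mul a b)) = _
  rw [r.ev_mul (r.inv_lt (r.mul_lt hb ha)) (r.mul_lt ha hb), r.ev_inv (r.mul_lt hb ha),
    r.ev_mul hb ha, r.ev_mul ha hb]
  group
theorem cu_lt (ha : a < 59049) : cu a < 59049 := r.mul_lt ha (r.mul_lt ha ha)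
theorem ev_cu (ha : a < 59049) : ev y (cu a) = ev y a ^ 3 := by
  show ev y (mul a (mul a a)) = _
  rw [r.ev_mul ha (r.mul_lt ha ha), r.ev_mul ha ha, pow_three]
theorem cjn_lt (ha : a < 59049) (hb : b < 59049) : cjn a b < 59049 :=
  r.mul_lt (r.inv_lt hb) (r.mul_lt ha hb)
theorem ev_cjn (ha : a < 59049) (hb : b < 59049) :
    ev y (cjn a b) = (ev y b)⁻¹ * ev y a * ev y b := by
  show ev y (mul (inv b) (mul a b)) = _
  rw [r.ev_mul (r.inv_lt hb) (r.mul_lt ha hb), r.ev_inv hb, r.ev_mul ha hb, mul_assoc]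

theorem ex_inv (hk : k ≤ 10) : ∀ e < 3 ^ k, ∃ c < 3 ^ k, ev y c = (ev y e)⁻¹ := by
  induction k with
  | zero => intro e he; obtain rfl : e = 0 := by simpa using he
            exact ⟨0, he, by simp⟩
  | succ k ih =>
    intro e he
    have h0 : 0 < 3 ^ k := by positivity
    have h1 : e / 3 ^ k < 3 := (Nat.div_lt_iff_lt_mul h0).2 (by rw [pow_succ] at he; omega)
    obtain ⟨c, hc, e1⟩ := ih (by omega) _ (Nat.mod_lt e h0)
    obtain ⟨p, hp, e2⟩ := r.pw' (k := k) hk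
    obtain ⟨p', hp', e3⟩ := ih (by omega) _ hp
    obtain ⟨d, hd, e4⟩ := r.sm (k := k) (by omega) _ hc _ hp'
    by_cases h2 : e / 3 ^ k = 0
    · exact ⟨c, by rw [pow_succ]; omega, by rw [ev_top' hk he, h2, e1]; simp⟩
    have h3 : 3 - e / 3 ^ k < 3 := Nat.sub_lt (by decide) (Nat.pos_of_ne_zero h2)
    obtain ⟨f, hf, e5⟩ := r.sm hk d (by rw [pow_succ]; omega) ((3 - e / 3 ^ k) * 3 ^ k)
      (by simpa using lt_succ3 h3 h0)
    refine ⟨f, hf, ?_⟩
    rw [e5, e4, e1, e3, ← e2, ev_pw hk h3, ev_top' hk he, mul_inv_rev, mul_assoc]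
    congr 1
    rw [inv_mul_eq_iff_eq_mul, eq_mul_inv_iff_mul_eq, ← pow_add, Nat.sub_add_cancel h1.le]

theorem mem_gen_iff (hk : k ≤ 10) : x ∈ gen y k ↔ ∃ e < 3 ^ k, ev y e = x := by
  refine ⟨fun h => ?_, fun ⟨e, he, h⟩ => h ▸ ev_mem_gen hk e he⟩
  refine closure_induction (p := fun x _ => ∃ e < 3 ^ k, ev y e = x) ?_ ⟨0, by positivity, ev_zero⟩
    ?_ ?_ h
  · rintro _ ⟨j, hj, rfl⟩
    exact ⟨3 ^ j, Nat.pow_lt_pow_right (by decide) hj, ev_gen (lt_of_lt_of_le hj hk)⟩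
  · rintro _ _ _ _ ⟨a, ha, rfl⟩ ⟨b, hb, rfl⟩; exact r.sm hk a ha b hb
  · rintro _ _ ⟨a, ha, rfl⟩; exact r.ex_inv hk a ha

theorem ex (hx : x ∈ gen y 10) : ∃ e < 59049, ev y e = x := (r.mem_gen_iff le_rfl).1 hx

theorem cube_gen (hk : k < 10) : y k ^ 3 ∈ gen y k := by
  obtain ⟨c, hc, e⟩ := r.pw' hk
  exact e ▸ ev_mem_gen hk.le c hc

theorem cm_gen (hk : k < 10) (hm : m < 10) : (y k)⁻¹ * ((y m)⁻¹ * y k * y m) ∈ gen y k := by
  have := ev_mem_gen (y := y) hk.le _ (ccen k hk m hm)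
  rwa [r.ev_cm (pow3_lt hk) (pow3_lt hm), ev_gen hk, ev_gen hm] at this

variable [Finite Γ]

theorem nzL (hk : k ≤ 10) : gen y 10 ≤ nz (gen y k) := gen_le.2 fun m hm => by
  rw [← inv_mem_iff]
  refine mem_nz_of_le ?_
  rw [cj_le_iff, gen_le]
  intro j hj
  rw [mem_cj, inv_inv]
  have := mul_mem (mem_gen y hj) (gen_mono y hj.le (r.cm_gen (k := j) (by omega) hm))
  simpa using this

theorem stabL (hk : k < 10) : gen y 10 ≤ stab (gen y (k + 1)) (gen y k) := gen_le.2 fun m hm => by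
  rw [← inv_mem_iff]
  refine ⟨inv_mem (r.nzL hk (mem_gen y hm)), fun x hx => ?_⟩
  refine (gen_le (A := cmK (y m)⁻¹ (gen y k))).2 (fun j hj => ⟨r.nzL hk.le (mem_gen y (by omega)), ?_⟩) hx |>.2
  rw [inv_inv]
  exact gen_mono y (by omega) (r.cm_gen (k := j) (by omega) hm)

theorem dig (hk : k < 10) (hx : x ∈ gen y (k + 1)) : ∃ a < 3, (y k ^ a)⁻¹ * x ∈ gen y k :=
  mem_sup_cyc (r.nzL hk.le (mem_gen y hk)) (r.cube_gen hk) (gen_succ y k ▸ hx)

theorem cube (hk : k < 10) (hx : x ∈ gen y (k + 1)) : x ^ 3 ∈ gen y k := by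
  obtain ⟨a, -, h⟩ := r.dig hk hx
  have h1 : y k ^ a ∈ nz (gen y k) := r.nzL hk.le (pow_mem (mem_gen y hk) _)
  have h2 : (y k ^ a) ^ 3 ∈ gen y k := by rw [← pow_mul, mul_comm, pow_mul]; exact pow_mem (r.cube_gen hk) _
  generalize y k ^ a = s at *
  convert mul_mem (mul_mem (mul_mem h2 (conj_mem_of_mem_nz' h1 (conj_mem_of_mem_nz' h1 h)))
    (conj_mem_of_mem_nz' h1 h)) h using 1
  simp only [pow_three]; group

/-- an element outside the next term of the series generates the factor -/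
theorem sup_eq (hk : k < 10) (ht : t ∈ gen y (k + 1)) (ht' : t ∉ gen y k) :
    gen y k ⊔ zpowers t = gen y (k + 1) := by
  refine le_antisymm (sup_le (gen_mono y k.le_succ) (zpowers_le_of_mem ht)) ?_
  obtain ⟨a, ha, h⟩ := r.dig hk ht
  rw [gen_succ]
  refine sup_le le_sup_left (zpowers_le_of_mem (mem_of_pow3 (mem_sup_left (r.cube_gen hk)) ha ?_ ?_))
  · rintro rfl; exact ht' (by simpa using h)
  · convert mul_mem (mem_sup_right (mem_zpowers t)) (inv_mem (mem_sup_left h)) using 1; group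

theorem dig' (hk : k < 10) (ht : t ∈ gen y (k + 1)) (ht' : t ∉ gen y k) (hx : x ∈ gen y (k + 1)) :
    ∃ a < 3, (t ^ a)⁻¹ * x ∈ gen y k :=
  mem_sup_cyc (r.nzL hk.le (gen_mono y hk ht)) (r.cube hk ht) ((r.sup_eq hk ht ht').symm ▸ hx)

end Rl

/-- the relations hold and the last generator is not trivial -/
structure Md (y : ℕ → Γ) : Prop extends Rl y where
  ne : y 0 ≠ 1

namespace Md
variable [Finite Γ] (r : Md y)
include r

theorem nmem (hk : k < 10) : y k ∉ gen y k := by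
  suffices H : ∀ k ≤ 10, ∀ e < 3 ^ k, ev y e = 1 → e = 0 ∧ ∀ j < k, y j ∉ gen y j from
    (H (k + 1) hk 0 (by positivity) ev_zero).2 k k.lt_succ_self
  intro k hk
  induction k with
  | zero => intro e he _; exact ⟨by simpa using he, by simp⟩
  | succ k ih =>
    replace ih := ih (by omega)
    have h0 : 0 < 3 ^ k := by positivity
    have h1 : y k ∉ gen y k := fun h => by
      obtain ⟨w, hw, e⟩ := (r.mem_gen_iff (by omega)).1 (inv_mem h)
      have e1 : ev y (3 ^ k + w) = 1 := by rw [ev_gen_add hk (by omega), e]; simp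
      by_cases hk0 : k = 0
      · subst hk0; rw [gen_zero] at h; exact r.ne h
      have h2 : zEnt (3 ^ k) w = 0 := by
        rcases Nat.lt_succ_iff_lt_or_eq.1 (show k < 10 from hk) with h | rfl
        · exact allZ_sound0 ((cz8 k h).resolve_left hk0) w hw
        · exact allZ_sound0 cz9 w hw
      have h3 : 3 ^ k + w < 59049 := by
        have := pow3_le hk; rw [pow_succ] at this; omega
      have h4 : ∀ g < 59049, cm (3 ^ k + w) g + 1 - 3 ^ k = 0 → cm (3 ^ k + w) g = 0 := fun g hg h5 =>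
        (ih _ (by omega) (by rw [r.ev_cm h3 hg, e1]; simp)).1
      have h5 : cond (Nat.beq (cm (3 ^ k + w) 19683) 0) (cond (Nat.beq (cm (3 ^ k + w) 6561) 0) 1
        (cm (3 ^ k + w) 6561 + 1 - 3 ^ k)) (cm (3 ^ k + w) 19683 + 1 - 3 ^ k) = 0 := h2
      simp only [Bool.cond_eq_ite, Nat.beq_eq] at h5
      split_ifs at h5 with h6 h7
      · exact h7 (h4 _ (by decide) h5)
      · exact h6 (h4 _ (by decide) h5)
    intro e he h
    refine ⟨?_, fun j hj => ?_⟩
    · rw [ev_top' hk he] at h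
      have h2 : e / 3 ^ k = 0 := by
        by_contra h2
        refine h1 (mem_of_pow3 (r.cube_gen hk) ((Nat.div_lt_iff_lt_mul h0).2
          (by rw [pow_succ] at he; omega)) h2 ?_)
        rw [eq_inv_of_mul_eq_one_left h]
        exact inv_mem (ev_mem_gen (by omega) _ (Nat.mod_lt _ h0))
      rw [h2, pow_zero, one_mul] at h
      have := (ih _ (Nat.mod_lt _ h0) h).1
      have := Nat.div_add_mod e (3 ^ k)
      rw [h2] at this; omega
    · rcases Nat.lt_succ_iff_lt_or_eq.1 hj with h | rfl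
      exacts [(ih 0 h0 ev_zero).2 j h, h1]

theorem inj' (hk : k ≤ 10) : ∀ a < 3 ^ k, ∀ b < 3 ^ k, ev y a = ev y b → a = b := by
  induction k with
  | zero => intro a ha b hb _; simp at ha hb; omega
  | succ k ih =>
    replace ih := ih (by omega)
    have h0 : 0 < 3 ^ k := by positivity
    suffices H : ∀ a < 3 ^ (k + 1), ∀ b < 3 ^ (k + 1), a / 3 ^ k ≤ b / 3 ^ k → ev y a = ev y b → a = b by
      intro a ha b hb h
      rcases le_total (a / 3 ^ k) (b / 3 ^ k) with h1 | h1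
      exacts [H a ha b hb h1 h, (H b hb a ha h1 h.symm).symm]
    intro a ha b hb h1 h
    rw [ev_top' hk ha, ev_top' hk hb] at h
    obtain ⟨d, hd⟩ := Nat.exists_eq_add_of_le h1
    have h2 : b / 3 ^ k < 3 := (Nat.div_lt_iff_lt_mul h0).2 (by rw [pow_succ] at hb; omega)
    rw [hd, pow_add, mul_assoc, mul_left_cancel_iff] at h
    have h3 : d = 0 := by
      by_contra h3
      refine r.nmem hk (mem_of_pow3 (r.cube_gen hk) (lt_of_le_of_lt (Nat.le_add_left _ _) (hd ▸ h2)) h3 ?_)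
      rw [eq_mul_inv_of_mul_eq h.symm]
      exact mul_mem (ev_mem_gen (by omega) _ (Nat.mod_lt _ h0))
        (inv_mem (ev_mem_gen (by omega) _ (Nat.mod_lt _ h0)))
    subst h3
    rw [pow_zero, one_mul] at h
    rw [← Nat.div_add_mod a (3 ^ k), ← Nat.div_add_mod b (3 ^ k), hd,
      ih _ (Nat.mod_lt _ h0) _ (Nat.mod_lt _ h0) h, Nat.add_zero]

theorem inj (ha : a < 59049) (hb : b < 59049) (h : ev y a = ev y b) : a = b :=
  r.inj' le_rfl a ha b hb h

theorem eq_one (ha : a < 59049) : ev y a = 1 ↔ a = 0 :=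
  ⟨fun h => r.inj ha (by decide) (h.trans ev_zero.symm), fun h => h ▸ ev_zero⟩

theorem mem_iff (hk : k ≤ 10) (he : e < 59049) : ev y e ∈ gen y k ↔ e < 3 ^ k := by
  refine ⟨fun h => ?_, ev_mem_gen hk e⟩
  obtain ⟨c, hc, h1⟩ := (r.mem_gen_iff hk).1 h
  exact r.inj (hc.trans_le (pow3_le hk)) he h1 ▸ hc

theorem card_gen (hk : k ≤ 10) : Nat.card (gen y k) = 3 ^ k := by
  rw [← Nat.card_eq_of_bijective (fun e : Fin (3 ^ k) => (⟨ev y e, ev_mem_gen hk e e.2⟩ : gen y k))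
    ⟨fun a b h => Fin.ext (r.inj' hk _ a.2 _ b.2 (congrArg Subtype.val h)), fun x => by
      obtain ⟨e, he, h⟩ := (r.mem_gen_iff hk).1 x.2
      exact ⟨⟨e, he⟩, Subtype.ext h⟩⟩]
  simp

theorem pg : IsPGroup 3 (gen y 10) := IsPGroup.of_card (r.card_gen le_rfl)

end Md

end H16.F3
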