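import Cfsg.Agent.H16.F3b

/-! Echelon tables of subgroups, sifting, enumeration. -/

set_option autoImplicit false
set_option linter.unusedSectionVars false

namespace H16.F3
open H26 (frc frc_eq)
open Subgroup H25 H25.FS

variable {Γ : Type*} [Group Γ] {y : ℕ → Γ} {U V W H K P X Y B : Subgroup Γ} {a b e i j k m T C D : ℕ}
  {x t u g : Γ} {f z : ℕ → ℕ}

/-- sum over the ten levels -/
noncomputable def s10 (f : ℕ → ℕ) : ℕ :=
  Nat.add (Nat.add (Nat.add (f (nat_lit 0)) (f (nat_lit 1))) (Nat.add (f (nat_lit 2))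
    (Nat.add (f (nat_lit 3)) (f (nat_lit 4))))) (Nat.add (Nat.add (f (nat_lit 5)) (f (nat_lit 6)))
    (Nat.add (f (nat_lit 7)) (Nat.add (f (nat_lit 8)) (f (nat_lit 9)))))

theorem s10_zero (h : s10 f = 0) (k : ℕ) (hk : k < 10) : f k = 0 := by
  have h' : f 0 + f 1 + (f 2 + (f 3 + f 4)) + (f 5 + f 6 + (f 7 + (f 8 + f 9))) = 0 := h
  interval_cases k <;> omega

/-- `0` iff some value is not zero -/
noncomputable def a10 (f : ℕ → ℕ) : ℕ :=
  Nat.rec (motive := fun _ => ℕ) (nat_lit 1) (fun k ih =>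
    Nat.rec (motive := fun _ => ℕ) ih (fun _ _ => nat_lit 0) (f k)) (nat_lit 10)

theorem a10_zero (h : a10 f = 0) : ∃ k < 10, f k ≠ 0 := by
  suffices H : ∀ n : ℕ, Nat.rec (motive := fun _ => ℕ) 1 (fun k ih =>
    Nat.rec (motive := fun _ => ℕ) ih (fun _ _ => 0) (f k)) n = 0 → ∃ k < n, f k ≠ 0 from H 10 h
  intro n
  induction n with
  | zero => intro h; exact absurd h one_ne_zero
  | succ n ih =>
    intro h
    by_cases h1 : f n = 0
    · simp only [h1] at h
      obtain ⟨k, hk, h2⟩ := ih h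
      exact ⟨k, by omega, h2⟩
    · exact ⟨n, by omega, h1⟩

/-- `if x = 0 then a else b` -/
noncomputable def iz (x a b : ℕ) : ℕ := Nat.rec (motive := fun _ => ℕ) a (fun _ _ => b) x

theorem iz_eq (x a b : ℕ) : iz x a b = if x = 0 then a else b := by cases x <;> rfl

theorem brec_eq (a b : ℕ) (c : Bool) : Bool.rec (motive := fun _ => ℕ) a b c = if c then b else a := by
  cases c <;> rfl

/-- apply `f` to the entry `k` unless it is zero -/
noncomputable def nzf (T : ℕ) (f : ℕ → ℕ) (k : ℕ) : ℕ := frc (tg T k) fun t => iz t (nat_lit 0) (f t)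

theorem nzf_zero (h : nzf T f k = 0) : tg T k = 0 ∨ f (tg T k) = 0 := by
  have h' : iz (tg T k) 0 (f (tg T k)) = 0 := h
  rw [iz_eq] at h'
  split_ifs at h' with h1
  exacts [Or.inl h1, Or.inr h']

/-- `f` vanishes on the nonzero entries -/
noncomputable def ent (T : ℕ) (f : ℕ → ℕ) : ℕ := s10 (nzf T f)

theorem ent_zero (h : ent T f = 0) (k : ℕ) (hk : k < 10) : tg T k = 0 ∨ f (tg T k) = 0 :=
  nzf_zero (s10_zero h k hk)

/-! ### packed tables -/

theorem tg_bit (T k i : ℕ) : (tg T k).testBit i = (T.testBit (k * 16 + i) && decide (i < 16)) := by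
  show ((T >>> (k * 16)) &&& (2 ^ 16 - 1)).testBit i = _
  rw [Nat.testBit_and, Nat.testBit_shiftRight, Nat.testBit_two_pow_sub_one]

theorem tg_zero (k : ℕ) : tg 0 k = 0 := Nat.eq_of_testBit_eq fun i => by simp [tg_bit]

theorem tg_lor (A B k : ℕ) : tg (Nat.lor A B) k = tg A k ||| tg B k := Nat.eq_of_testBit_eq fun i => by
  show (tg (A ||| B) k).testBit i = _
  rw [Nat.testBit_or, tg_bit, tg_bit, tg_bit, Nat.testBit_or]
  cases decide (i < 16) <;> simp

theorem tg_shl (hx : e < 59049) (k j : ℕ) : tg (Nat.shiftLeft e (Nat.mul k (nat_lit 16))) j =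
    if j = k then e else 0 := Nat.eq_of_testBit_eq fun i => by
  show (tg (e <<< (k * 16)) j).testBit i = _
  have h : ∀ i, 16 ≤ i → e.testBit i = false := fun i hi =>
    Nat.testBit_lt_two_pow (lt_of_lt_of_le (by omega : e < 2 ^ 16) (Nat.pow_le_pow_right (by decide) hi))
  rw [tg_bit, Nat.testBit_shiftLeft]
  split_ifs with h1
  · subst h1
    by_cases h2 : i < 16
    · simp [h2]
    · simp [h2, h i (by omega)]
  · by_cases h2 : i < 16
    · by_cases h3 : j < k
      · simp; omega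
      · simp [h (j * 16 + i - k * 16) (by omega)]
    · simp [h2]

/-- put `x` at place `k` -/
noncomputable def ins (T k x : ℕ) : ℕ := Nat.lor T (Nat.shiftLeft x (Nat.mul k (nat_lit 16)))

theorem tg_ins (hx : e < 59049) (h : tg T k = 0) (j : ℕ) :
    tg (ins T k e) j = if j = k then e else tg T j := by
  unfold ins
  rw [tg_lor, tg_shl hx]
  split_ifs with h1
  · rw [h1, h]; simp
  · simp

/-- the entries below `j` -/
noncomputable def cut (T j : ℕ) : ℕ :=
  Nat.mod T (Nat.shiftLeft (nat_lit 1) (Nat.mul j (nat_lit 16)))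

theorem tg_cut (T j k : ℕ) : tg (cut T j) k = if k < j then tg T k else 0 :=
  Nat.eq_of_testBit_eq fun i => by
    show (tg (T % (1 <<< (j * 16))) k).testBit i = _
    rw [Nat.one_shiftLeft, tg_bit, Nat.testBit_mod_two_pow]
    split_ifs with h
    · rw [tg_bit]
      by_cases h2 : i < 16
      · simp [show k * 16 + i < j * 16 by omega]
      · simp [h2]
    · simp [show ¬ k * 16 + i < j * 16 by omega]

/-- the table of the generators -/
def YT : ℕ := nat_lit 0x4ce319a1088b02d900f30051001b000900030001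

theorem tg_YT : ∀ k < 10, tg YT k = 3 ^ k := by decide +kernel

/-- `e` is the code of an element of `U` -/
def In (y : ℕ → Γ) (U : Subgroup Γ) (e : ℕ) : Prop := e < 59049 ∧ ev y e ∈ U

/-- the entries are elements of `U` -/
def Low (y : ℕ → Γ) (U : Subgroup Γ) (T : ℕ) : Prop := ∀ k < 10, In y U (tg T k)

/-- the entry has leading term at its place -/
def Ld (T k : ℕ) : Prop := 3 ^ k ≤ tg T k ∧ tg T k < 2 * 3 ^ k

/-- `T` is an echelon table of `U` -/
structure Ech (y : ℕ → Γ) (U : Subgroup Γ) (T : ℕ) : Prop where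
  le : U ≤ gen y 10
  low : Low y U T
  h : ∀ k < 10, (tg T k = 0 ∧ U ⊓ gen y (k + 1) ≤ gen y k) ∨ Ld T k

theorem in_zero : In y U 0 := ⟨by decide, by simp⟩
theorem In.mono (h : In y U e) (h' : U ≤ V) : In y V e := ⟨h.1, h' h.2⟩
theorem Low.mono (h : Low y U T) (h' : U ≤ V) : Low y V T := fun k hk => (h k hk).mono h'
theorem low_zero : Low y U 0 := fun k _ => by rw [tg_zero]; exact in_zero
theorem Low.ins (h : Low y U T) (h0 : tg T k = 0) (he : In y U e) : Low y U (ins T k e) :=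
  fun j hj => by rw [tg_ins he.1 h0]; split_ifs; exacts [he, h j hj]
theorem low_cut (h : ∀ k < 10, k < j → In y U (tg T k)) : Low y U (cut T j) := fun k hk => by
  rw [tg_cut]; split_ifs with h1; exacts [h k hk h1, in_zero]
theorem low_YT (h : gen y j ≤ U) : Low y U (cut YT j) := low_cut fun k hk h1 => by
  rw [tg_YT k hk]; exact ⟨pow3_lt hk, ev_gen (y := y) hk ▸ h (mem_gen y h1)⟩
theorem low_of_ent (h : ent T f = 0) (h' : ∀ e, f e = 0 → In y U e) : Low y U T := fun k hk => by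
  rcases ent_zero h k hk with h1 | h1
  exacts [h1 ▸ in_zero, h' _ h1]
theorem Ld.lt (h : Ld T k) (hk : k < 10) : tg T k < 59049 := by
  have := pow3_le hk; have := h.2; rw [pow_succ] at *; omega
theorem Ld.mem (h : Ld T k) (hk : k < 10) : ev y (tg T k) ∈ gen y (k + 1) :=
  ev_mem_gen hk _ (by have := h.2; rw [pow_succ]; omega)
theorem Ld.ne (h : Ld T k) : tg T k ≠ 0 := by have := h.1; have : 0 < 3 ^ k := by positivity
                                              omega

/-- leading terms, and `z k = 0` at the empty places -/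
noncomputable def eCk (T : ℕ) (z : ℕ → ℕ) : ℕ := s10 fun k => frc (tg T k) fun t =>
  iz t (z k) (frc (Nat.pow (nat_lit 3) k) fun n =>
    Nat.add (Nat.sub n t) (Nat.sub (Nat.succ t) (Nat.add n n)))

theorem eCk_zero (h : eCk T z = 0) (k : ℕ) (hk : k < 10) : (tg T k = 0 ∧ z k = 0) ∨ Ld T k := by
  have h' : iz (tg T k) (z k) (3 ^ k - tg T k + (tg T k + 1 - (3 ^ k + 3 ^ k))) = 0 := s10_zero h k hk
  rw [iz_eq] at h'
  split_ifs at h' with h1
  · exact Or.inl ⟨h1, h'⟩
  · exact Or.inr ⟨by omega, by omega⟩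

theorem ech_of (h : eCk T z = 0) (h1 : U ≤ gen y 10) (h2 : Low y U T)
    (h3 : ∀ k < 10, tg T k = 0 → z k = 0 → U ⊓ gen y (k + 1) ≤ gen y k) : Ech y U T :=
  ⟨h1, h2, fun k hk => (eCk_zero h k hk).imp_left fun h => ⟨h.1, h3 k hk h.1 h.2⟩⟩

theorem ech_bot : Ech y ⊥ 0 := ⟨bot_le, low_zero, fun k _ => Or.inl ⟨tg_zero k, by simp⟩⟩

theorem Ech.np (h : Ech y U T) (hk : k < 10) (h0 : tg T k = 0) : U ⊓ gen y (k + 1) ≤ gen y k :=
  ((h.h k hk).resolve_right fun h => h.ne h0).2

theorem Ech.ld (h : Ech y U T) (hk : k < 10) (h0 : tg T k ≠ 0) : Ld T k :=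
  (h.h k hk).resolve_left fun h => h0 h.1

/-- sifting through the first `k` levels -/
noncomputable def sf (T k : ℕ) : ℕ → ℕ :=
  Nat.rec (motive := fun _ => ℕ → ℕ) (fun e => e) (fun k ih e =>
    Bool.rec (motive := fun _ => ℕ) (ih e) (frc (tg T k) fun t => iz t e
      (frc (Bool.rec (motive := fun _ => ℕ) (inv t) t
        (Nat.ble (Nat.mul (nat_lit 2) (Nat.pow (nat_lit 3) k)) e)) fun t' =>
        frc (mul e t') fun e' => iz e' (nat_lit 0) (ih e'))) (Nat.ble (Nat.pow (nat_lit 3) k) e)) k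

theorem sf_succ (T k e : ℕ) : sf T (k + 1) e = if 3 ^ k ≤ e then if tg T k = 0 then e else
    (fun e' => if e' = 0 then 0 else sf T k e')
      (mul e (if 2 * 3 ^ k ≤ e then tg T k else inv (tg T k))) else sf T k e := by
  have : sf T (k + 1) e = Bool.rec (motive := fun _ => ℕ) (sf T k e) (iz (tg T k) e
    ((fun e' => iz e' 0 (sf T k e')) (mul e (Bool.rec (motive := fun _ => ℕ) (inv (tg T k)) (tg T k)
      (Nat.ble (2 * 3 ^ k) e))))) (Nat.ble (3 ^ k) e) := rfl
  rw [this]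
  simp only [brec_eq, Nat.ble_eq, iz_eq]

/-- sifting -/
noncomputable def sift (T e : ℕ) : ℕ := frc e fun e => iz e (nat_lit 0) (sf T (nat_lit 10) e)

/-- enumeration of a transversal -/
noncomputable def en (T C : ℕ) (f : ℕ → ℕ) (k : ℕ) : ℕ → ℕ :=
  Nat.rec (motive := fun _ => ℕ → ℕ) f (fun k ih a => iz (tg C k) (frc (tg T k) fun t => iz t (ih a)
    (Nat.add (ih a) (frc (mul a t) fun a1 => Nat.add (ih a1) (frc (mul a1 t) ih)))) (ih a)) k

theorem en_succ (T C : ℕ) (f : ℕ → ℕ) (k a : ℕ) : en T C f (k + 1) a = if tg C k = 0 then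
    if tg T k = 0 then en T C f k a else en T C f k a + (en T C f k (mul a (tg T k)) +
      en T C f k (mul (mul a (tg T k)) (tg T k))) else en T C f k a := by
  rw [← iz_eq, ← iz_eq]; rfl

/-- exactness of a table through a transversal -/
noncomputable def trCk (T C : ℕ) (f : ℕ → ℕ) : ℕ := eCk C fun k => nzf T (en T C f k) k

/-- closure of a table -/
noncomputable def clCk (T : ℕ) : ℕ := Nat.add (eCk T fun _ => nat_lit 0) (s10 fun j =>
  nzf T (fun t => frc (cut T j) fun A => Nat.add (sift A (cu t)) (ent A fun s => sift A (cjn s t))) j)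

/-- the subgroup generated by a table -/
noncomputable def sp (y : ℕ → Γ) (T : ℕ) : Subgroup Γ := gen (fun k => ev y (tg T k)) 10

theorem sp_le : sp y T ≤ U ↔ ∀ k < 10, ev y (tg T k) ∈ U := gen_le
theorem Low.sp_le (h : Low y U T) : sp y T ≤ U := F3.sp_le.2 fun k hk => (h k hk).2

namespace Rl
variable (r : Rl y)
include r

theorem in_mul (ha : In y U a) (hb : In y U b) : In y U (mul a b) :=
  ⟨r.mul_lt ha.1 hb.1, by rw [r.ev_mul ha.1 hb.1]; exact mul_mem ha.2 hb.2⟩
theorem in_inv (ha : In y U a) : In y U (inv a) :=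
  ⟨r.inv_lt ha.1, by rw [r.ev_inv ha.1]; exact inv_mem ha.2⟩

theorem sf_low (h : Low y U T) (hk : k ≤ 10) :
    ∀ e < 59049, sf T k e < 59049 ∧ (ev y (sf T k e) ∈ U ↔ ev y e ∈ U) := by
  induction k with
  | zero => intro e he; exact ⟨he, Iff.rfl⟩
  | succ k ih =>
    replace ih := ih (by omega)
    intro e he
    rw [sf_succ]
    by_cases h1 : 3 ^ k ≤ e
    swap
    · rw [if_neg h1]; exact ih e he
    rw [if_pos h1]
    by_cases h2 : tg T k = 0
    · rw [if_pos h2]; exact ⟨he, Iff.rfl⟩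
    rw [if_neg h2]
    have h3 : In y U (if 2 * 3 ^ k ≤ e then tg T k else inv (tg T k)) := by
      split_ifs; exacts [h k hk, r.in_inv (h k hk)]
    generalize (if 2 * 3 ^ k ≤ e then tg T k else inv (tg T k)) = t at h3
    have h4 : ev y (mul e t) ∈ U ↔ ev y e ∈ U := by
      rw [r.ev_mul he h3.1]; exact mul_mem_cancel_right h3.2
    beta_reduce
    split_ifs with h5
    · rw [← h4, h5]; exact ⟨by decide, Iff.rfl⟩
    · rw [← h4]; exact ih _ (r.mul_lt he h3.1)

theorem sift_low (h : Low y U T) (he : e < 59049) :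
    sift T e < 59049 ∧ (ev y (sift T e) ∈ U ↔ ev y e ∈ U) := by
  show iz e 0 (sf T 10 e) < _ ∧ (ev y (iz e 0 (sf T 10 e)) ∈ U ↔ _)
  rw [iz_eq]
  split_ifs with h1
  · rw [h1]; exact ⟨by decide, Iff.rfl⟩
  · exact r.sf_low h le_rfl e he

theorem mem_of_sift (h : Low y U T) (he : e < 59049) (h0 : sift T e = 0) : ev y e ∈ U := by
  rw [← (r.sift_low h he).2, h0]; simp

theorem in_sift (h : Low y U T) (he : In y U e) : In y U (sift T e) :=
  ⟨(r.sift_low h he.1).1, (r.sift_low h he.1).2.2 he.2⟩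

end Rl

namespace Md
variable [Finite Γ] (r : Md y)
include r

theorem ld_nmem (h : Ld T k) (hk : k < 10) : ev y (tg T k) ∉ gen y k := fun h1 =>
  absurd ((r.mem_iff hk.le (h.lt hk)).1 h1) (not_lt.2 h.1)

theorem sf_ech (h : Ech y U T) (hk : k ≤ 10) : ∀ e < 3 ^ k, ev y e ∈ U → sf T k e = 0 := by
  induction k with
  | zero => intro e he _; exact Nat.lt_one_iff.1 he
  | succ k ih =>
    replace ih := ih (by omega)
    intro e he hU
    have he' : e < 59049 := he.trans_le (pow3_le hk)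
    have h0 : 0 < 3 ^ k := by positivity
    rw [sf_succ]
    by_cases h1 : 3 ^ k ≤ e
    swap
    · rw [if_neg h1]; exact ih e (by omega) hU
    rw [if_pos h1]
    by_cases h2 : tg T k = 0
    · exact absurd ((r.mem_iff (by omega) he').1 (h.np hk h2 ⟨hU, ev_mem_gen hk e he⟩)) (by omega)
    rw [if_neg h2]
    obtain ⟨h3, h4⟩ := h.ld hk h2
    have h5 := h.low k hk
    obtain ⟨t, ht⟩ := Nat.exists_eq_add_of_le h3
    obtain ⟨w, rfl⟩ := Nat.exists_eq_add_of_le h1
    have hn : y k ∈ nz (gen y k) := r.nzL (by omega) (mem_gen y hk)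
    have h6 : ev y t ∈ gen y k := ev_mem_gen (by omega) _ (by omega)
    have h7 : ∀ s, In y U s → ev y (3 ^ k + w) * ev y s ∈ gen y k → (fun e' => if e' = 0 then 0
        else sf T k e') (mul (3 ^ k + w) s) = 0 := fun s hs h8 => by
      beta_reduce
      split_ifs
      · rfl
      · rw [← r.ev_mul he' hs.1, r.mem_iff (by omega) (r.mul_lt he' hs.1)] at h8
        exact ih _ h8 (r.in_mul ⟨he', hU⟩ hs).2
    rw [pow_succ] at he
    split_ifs with h8
    · refine h7 _ h5 ?_
      obtain ⟨w, rfl⟩ : ∃ v, w = 3 ^ k + v := Nat.exists_eq_add_of_le (by omega)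
      rw [ht, ev_gen_add hk (by omega), ev_gen_add hk (by omega), ev_gen_add hk (by omega)]
      convert mul_mem (mul_mem (r.cube_gen hk) (conj_mem_of_mem_nz' hn
        (ev_mem_gen (y := y) (k := k) (by omega) w (by omega)))) h6 using 1
      simp only [pow_three]; group
    · refine h7 _ (r.in_inv h5) ?_
      rw [r.ev_inv h5.1, ht, ev_gen_add hk (by omega), ev_gen_add hk (by omega)]
      convert conj_mem_of_mem_nz hn (mul_mem
        (ev_mem_gen (y := y) (k := k) (by omega) w (by omega)) (inv_mem h6)) using 1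
      group

theorem sift_iff (h : Ech y U T) (he : e < 59049) : sift T e = 0 ↔ ev y e ∈ U := by
  refine ⟨r.mem_of_sift h.low he, fun hU => ?_⟩
  show iz e 0 (sf T 10 e) = 0
  rw [iz_eq]
  split_ifs
  exacts [rfl, r.sf_ech h le_rfl e he hU]

theorem inf_le (h : Ech y U T) (hm : m ≤ 10) (h' : ∀ k < m, ev y (tg T k) ∈ H) :
    U ⊓ gen y m ≤ H := by
  induction m with
  | zero => rw [gen_zero]; exact inf_le_right.trans bot_le
  | succ m ih =>
    replace ih := ih (by omega) fun k hk => h' k (by omega)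
    intro x hx
    obtain ⟨h1, h2⟩ := mem_inf.1 hx
    rcases h.h m hm with h3 | h3
    · exact ih ⟨h1, h3.2 ⟨h1, h2⟩⟩
    · obtain ⟨a, -, h4⟩ := r.dig' hm (h3.mem hm) (r.ld_nmem h3 hm) h2
      have := ih (mem_inf.2 ⟨mul_mem (inv_mem (pow_mem (h.low m hm).2 a)) h1, h4⟩)
      exact (mul_mem_cancel_left (inv_mem (pow_mem (h' m m.lt_succ_self) a))).1 this

theorem up (h : Ech y U T) (h' : ∀ k < 10, ev y (tg T k) ∈ H) : U ≤ H :=
  (le_inf le_rfl h.le).trans (r.inf_le h le_rfl h')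

theorem up' (h : Ech y U T) (h' : ent T f = 0) (h2 : ∀ e, In y U e → f e = 0 → ev y e ∈ H) : U ≤ H :=
  r.up h fun k hk => by
    rcases ent_zero h' k hk with h1 | h1
    · rw [h1]; simp
    · exact h2 _ (h.low k hk) h1

theorem eq_sp (h : Ech y U T) : U = sp y T :=
  le_antisymm (r.up h fun _ hk => mem_gen (fun k => ev y (tg T k)) hk) h.low.sp_le

theorem le_of_sift (h : Ech y U T) (h' : Low y V C) (h0 : ent T (sift C) = 0) : U ≤ V :=
  r.up' h h0 fun _ he h1 => r.mem_of_sift h' he.1 h1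

theorem en_ok (h : Ech y P T) (hB : B ≤ P) (h1 : Low y B C) (h2 : ∀ k < 10, tg C k = 0 ∨ Ld C k)
    (hk : k ≤ 10) : ∀ a < 59049, en T C f k a = 0 → ∀ u ∈ P ⊓ gen y k,
      ∃ e < 59049, f e = 0 ∧ ∃ b ∈ B, ev y e * b = ev y a * u := by
  induction k with
  | zero =>
    intro a ha h0 u hu
    rw [gen_zero] at hu
    exact ⟨a, ha, h0, 1, one_mem _, by rw [mem_bot.1 hu.2]⟩
  | succ k ih =>
    replace ih := ih (by omega)
    intro a ha h0 u hu
    obtain ⟨hu, hu'⟩ := mem_inf.1 hu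
    rw [en_succ] at h0
    split_ifs at h0 with h3 h4
    · exact ih a ha h0 u ⟨hu, h.np hk h4 ⟨hu, hu'⟩⟩
    · have h5 := h.ld hk h4
      have h6 := h.low k hk
      obtain ⟨j, hj, h7⟩ := r.dig' hk (h5.mem hk) (r.ld_nmem h5 hk) hu'
      have h8 := ih a ha (by omega)
      have h9 := ih _ (r.mul_lt ha h6.1) (by omega)
      have h10 := ih _ (r.mul_lt (r.mul_lt ha h6.1) h6.1) (by omega)
      rw [r.ev_mul (r.mul_lt ha h6.1) h6.1] at h10
      rw [r.ev_mul ha h6.1] at h9 h10
      have h11 : (ev y (tg T k) ^ j)⁻¹ * u ∈ P ⊓ gen y k :=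
        mem_inf.2 ⟨mul_mem (inv_mem (pow_mem h6.2 _)) hu, h7⟩
      obtain rfl | rfl | rfl : j = 0 ∨ j = 1 ∨ j = 2 := by omega
      · simpa using h8 _ h11
      · simpa [mul_assoc] using h9 _ h11
      · simpa [mul_assoc, pow_two] using h10 _ h11
    · have h5 := (h2 k hk).resolve_left h3
      have h6 := (h1 k hk).2
      obtain ⟨j, hj, h7⟩ := r.dig' hk (h5.mem hk) (r.ld_nmem h5 hk) hu'
      obtain ⟨e, he, h8, b, hb, h9⟩ := ih a ha h0 (u * (ev y (tg C k) ^ j)⁻¹)
        (mem_inf.2 ⟨mul_mem hu (inv_mem (pow_mem (hB h6) _)), by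
          convert conj_mem_of_mem_nz (r.nzL (by omega) (pow_mem (h.le (hB h6)) j)) h7 using 1
          group⟩)
      exact ⟨e, he, h8, b * ev y (tg C k) ^ j, mul_mem hb (pow_mem h6 _), by
        rw [← mul_assoc, h9]; group⟩

/-- all elements of a subgroup -/
theorem en_all (h : Ech y P T) (h0 : en T 0 f 10 0 = 0) (hu : u ∈ P) :
    ∃ e < 59049, f e = 0 ∧ ev y e = u := by
  obtain ⟨e, he, h1, b, hb, h2⟩ := r.en_ok h bot_le low_zero (fun k _ => Or.inl (tg_zero k)) le_rfl 0
    (by decide) h0 u ⟨hu, h.le hu⟩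
  exact ⟨e, he, h1, by simpa [mem_bot.1 hb] using h2⟩

theorem ech_tr (h : Ech y P T) (hV : V ≤ P) (h1 : Low y V C) (h0 : trCk T C f = 0)
    (hf : ∀ e < 59049, f e = 0 → ev y e ∉ V) : Ech y V C := by
  refine ech_of h0 (hV.trans h.le) h1 fun k hk _ h2 => ?_
  rcases nzf_zero h2 with h3 | h3
  · exact (inf_le_inf_right _ hV).trans (h.np hk h3)
  by_cases h4 : tg T k = 0
  · exact (inf_le_inf_right _ hV).trans (h.np hk h4)
  have h5 := h.ld hk h4
  have h6 := h.low k hk
  have h7 : ∀ u ∈ V, (ev y (tg T k))⁻¹ * u ∉ gen y k := fun u hu h8 => by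
    obtain ⟨e, he, h9, b, hb, h10⟩ := r.en_ok h hV h1 (fun k hk => (eCk_zero h0 k hk).imp_left And.left)
      hk.le _ h6.1 h3 _ (mem_inf.2 ⟨mul_mem (inv_mem h6.2) (hV hu), h8⟩)
    rw [mul_inv_cancel_left] at h10
    exact hf e he h9 ((mul_mem_cancel_right hb).1 (h10 ▸ hu))
  intro u hu
  obtain ⟨hu, hu'⟩ := mem_inf.1 hu
  obtain ⟨j, hj, h8⟩ := r.dig' hk (h5.mem hk) (r.ld_nmem h5 hk) hu'
  obtain rfl | rfl | rfl : j = 0 ∨ j = 1 ∨ j = 2 := by omega
  · simpa using h8
  · exact absurd (by simpa using h8) (h7 u hu)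
  · refine absurd ?_ (h7 _ (inv_mem hu))
    have h9 := r.nzL hk.le (h.le h6.2)
    convert mul_mem (conj_mem_of_mem_nz' h9 (inv_mem h8)) (inv_mem (r.cube hk (h5.mem hk))) using 1
    simp only [pow_three, pow_two]; group

theorem ech_sp (h : clCk T = 0) : Ech y (sp y T) T := by
  have h1 := eCk_zero (Nat.eq_zero_of_add_eq_zero_right h)
  have h2 := s10_zero (Nat.eq_zero_of_add_eq_zero_left h)
  have h3 : ∀ k < 10, tg T k < 59049 ∧ ev y (tg T k) ∈ gen y (k + 1) := fun k hk => by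
    rcases h1 k hk with h | h
    · rw [h.1]; simp
    · exact ⟨h.lt hk, h.mem hk⟩
  have h4 : ∀ j ≤ 10, gen (fun k => ev y (tg T k)) j ≤ gen y j := fun j hj =>
    gen_le.2 fun k hk => gen_mono y hk (h3 k (by omega)).2
  have h5 : ∀ j ≤ 10, ∀ m < 10, tg T m = 0 → gen (fun k => ev y (tg T k)) j ⊓ gen y (m + 1) ≤ gen y m := by
    intro j hj m hm h0
    induction j with
    | zero => rw [gen_zero]; exact inf_le_left.trans bot_le
    | succ j ih =>
      replace ih := ih (by omega)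
      by_cases h6 : tg T j = 0
      · rw [gen_succ, h6, ev_zero, zpowers_one_eq_bot, sup_bot_eq]; exact ih
      by_cases h7 : j < m
      · exact inf_le_left.trans ((h4 _ hj).trans (gen_mono y h7))
      have h8 : m < j := lt_of_le_of_ne (by omega) (by rintro rfl; exact h6 h0)
      have h9 := (h1 j hj).resolve_left fun h => h6 h.1
      have h10 : sift (cut T j) (cu (tg T j)) + ent (cut T j) (fun s => sift (cut T j)
        (cjn s (tg T j))) = 0 := (nzf_zero (h2 j hj)).resolve_left h6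
      have h11 : Low y (gen (fun k => ev y (tg T k)) j) (cut T j) := low_cut fun k hk h =>
        ⟨(h3 k hk).1, mem_gen (fun k => ev y (tg T k)) h⟩
      have h12 := r.mem_of_sift h11 (r.cu_lt (h3 j hj).1) (by omega)
      rw [r.ev_cu (h3 j hj).1] at h12
      intro u hu
      obtain ⟨hu, hu'⟩ := mem_inf.1 hu
      rw [gen_succ] at hu
      suffices hn : ev y (tg T j) ∈ nz (gen (fun k => ev y (tg T k)) j) by
        obtain ⟨a, ha, h13⟩ := mem_sup_cyc hn h12 hu
        by_cases h14 : a = 0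
        · subst h14; exact ih ⟨by simpa using h13, hu'⟩
        · refine absurd (mem_of_pow3 (r.cube hj (h9.mem hj)) ha h14 ?_) (r.ld_nmem h9 hj)
          exact inv_mem_iff.1 ((mul_mem_cancel_right (gen_mono y h8 hu')).1 (h4 j (by omega) h13))
      rw [← inv_mem_iff]
      refine mem_nz_of_le ?_
      rw [cj_le_iff, gen_le]
      intro k hk
      rw [mem_cj, inv_inv]
      rcases ent_zero (Nat.eq_zero_of_add_eq_zero_left h10) k (by omega) with h14 | h14 <;>
        rw [tg_cut, if_pos hk] at h14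
      · simp [h14]
      · have := r.mem_of_sift h11 (r.cjn_lt (h3 k (by omega)).1 (h3 j hj).1) h14
        rw [r.ev_cjn (h3 k (by omega)).1 (h3 j hj).1] at this
        simpa using this
  exact ⟨h4 10 le_rfl, fun k hk => ⟨(h3 k hk).1, mem_gen (fun k => ev y (tg T k)) hk⟩, fun k hk =>
    (h1 k hk).imp_left fun h => ⟨h.1, h5 10 le_rfl k hk h.1⟩⟩

end Md

end H16.F3
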