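import Cfsg.Agent.H16.F3c
import Cfsg.Agent.H4.G3a

/-! Characteristic subgroups with echelon tables; elimination of non-radical subgroups. -/

set_option autoImplicit false
set_option linter.unusedSectionVars false

namespace H16.F3
open H26 (frc frc_eq)
open Subgroup H25 H25.FS H4.G3

variable {Γ : Type*} [Group Γ] {y : ℕ → Γ} {U V W H K P X Y B : Subgroup Γ}
  {a b c e i j k l m n T A C D Q R : ℕ} {x t u g : Γ} {f z : ℕ → ℕ}

/-- iteration over the ten levels -/
noncomputable def fo10 (F : ℕ → ℕ → ℕ) (A : ℕ) : ℕ :=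
  Nat.rec (motive := fun _ => ℕ) A (fun k ih => frc ih (F k)) (nat_lit 10)

theorem fo10_ind {F : ℕ → ℕ → ℕ} {I : ℕ → Prop} (h : ∀ k < 10, ∀ A, I A → I (F k A)) (h0 : I A) :
    I (fo10 F A) := by
  suffices H : ∀ n ≤ 10, I (Nat.rec (motive := fun _ => ℕ) A (fun k ih => frc ih (F k)) n) from H 10 le_rfl
  intro n hn
  induction n with
  | zero => exact h0
  | succ n ih => exact h n hn _ (ih (by omega))

/-- iteration over a list -/
noncomputable def foL (F : ℕ → ℕ → ℕ) (L : List ℕ) : ℕ → ℕ :=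
  List.rec (motive := fun _ => ℕ → ℕ) (fun A => A) (fun c _ ih A => frc (F c A) ih) L

theorem foL_ind {F : ℕ → ℕ → ℕ} {I : ℕ → Prop} {L : List ℕ} (h : ∀ c ∈ L, ∀ A, I A → I (F c A)) :
    ∀ A, I A → I (foL F L A) := by
  induction L with
  | nil => exact fun _ h => h
  | cons c L ih =>
    exact fun A hA => ih (fun d hd => h d (List.mem_cons_of_mem _ hd)) _ (h c List.mem_cons_self A hA)

/-- the leading level -/
noncomputable def ldv (e : ℕ) : ℕ :=
  Nat.rec (motive := fun _ => ℕ) (nat_lit 0) (fun k ih =>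
    Bool.rec (motive := fun _ => ℕ) ih k (Nat.ble (Nat.pow (nat_lit 3) k) e)) (nat_lit 10)

/-- sift and insert -/
noncomputable def add (A x : ℕ) : ℕ := frc (sift A x) fun e => iz e A (frc (ldv e) fun k =>
  iz (tg A k) (ins A k (Bool.rec (motive := fun _ => ℕ) e (inv e)
    (Nat.ble (Nat.mul (nat_lit 2) (Nat.pow (nat_lit 3) k)) e))) A)

/-- fill the empty places -/
noncomputable def mrg (A B : ℕ) : ℕ := fo10 (fun k C => iz (tg C k) (ins C k (tg B k)) C) A

theorem Low.mrg (h : Low y U A) (h' : Low y U C) : Low y U (mrg A C) :=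
  fo10_ind (I := Low y U) (fun k hk D hD => by
    rw [iz_eq]; split_ifs with h1; exacts [hD.ins h1 (h' k hk), hD]) h

/-- `0` iff `e` is a code -/
noncomputable def cd (e : ℕ) : ℕ := Nat.sub e (nat_lit 59048)

theorem cd_zero (h : cd e = 0) : e < 59049 := by
  have : e - 59048 = 0 := h
  omega

/-- `0` iff the commutators of the entries with `g` sift to zero -/
noncomputable def stCk (A B g : ℕ) : ℕ := ent A fun x => sift B (cm x g)

/-- `X` is invariant under the normalizer of `P` -/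
def Chr (P X : Subgroup Γ) : Prop := X ≤ P ∧ nz P ≤ nz X

theorem Chr.nz (h : Chr P X) : P ≤ nz X := (le_nz_self P).trans h.2

/-- generated by the elements of order three -/
def om (P : Subgroup Γ) : Subgroup Γ := closure {x | x ∈ P ∧ x ^ 3 = 1}

theorem chr_om [Finite Γ] : Chr P (om P) := ⟨(closure_le _).2 fun _ h => h.1, fun g hg => by
  refine mem_nz_of_le ?_
  rw [om, cj_closure, closure_le]
  rintro _ ⟨x, hx, rfl⟩
  exact subset_closure ⟨conj_mem_of_mem_nz hg hx.1, by rw [conj_pow, hx.2]; simp⟩⟩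

theorem Chr.comm (h : Chr P X) (h' : Chr P Y) : Chr P ⁅X, Y⁆ :=
  ⟨commutator_le_iff'.2 fun x hx y hy =>
    mul_mem (mul_mem (mul_mem (h.1 hx) (h'.1 hy)) (inv_mem (h.1 hx))) (inv_mem (h'.1 hy)),
  fun g hg => by rw [mem_nz, cj_commutator, mem_nz.1 (h.2 hg), mem_nz.1 (h'.2 hg)]⟩

theorem Chr.cm [Finite Γ] (h : Chr P X) (h' : Chr P Y) : Chr P (P ⊓ stab X Y) :=
  ⟨inf_le_left, fun _ hg => mem_nz_inf hg (nz_stab (h.2 hg) (h'.2 hg))⟩

theorem chr_fr : Chr P (fr P) := ⟨fr_le P, nz_le_nz_fr P⟩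

/-- one characteristic subgroup from two others -/
noncomputable def opCk (T k A B : ℕ) (L : List ℕ) (F : ℕ → ℕ) : ℕ :=
  iz k (frc (nth (nat_lit 0) L (nat_lit 0)) fun C => Nat.add (Nat.add
      (ent C fun c => Nat.add (cd c) (Nat.add (sift T c) (stCk A B c)))
      (trCk T C fun r => a10 (nzf A fun x => sift B (cm x r)))) (F C))
    (iz (Nat.pred k) (frc (fo10 (fun j D => fo10 (fun k D => add D (cm (tg A j) (tg B k))) D)
      (nat_lit 0)) fun D => Nat.add (Nat.add (clCk D) (Nat.add (ent T (stCk D D)) (ent B (stCk A D))))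
        (F D))
    (frc (foL (fun x D => add D x) L (nat_lit 0)) fun D => Nat.add (Nat.add (Nat.add (clCk D)
      (sumL (fun c => Nat.add (cd c) (Nat.add (sift T c) (cu c))) L))
      (en T (nat_lit 0) (fun e => iz (cu e) (sift D e) (nat_lit 0)) (nat_lit 10) (nat_lit 0))) (F D)))

/-- a program of characteristic subgroups -/
noncomputable def opsCk (T : ℕ) (F : List ℕ → ℕ) (O : List (ℕ × List ℕ)) : List ℕ → ℕ :=
  List.rec (motive := fun _ => List ℕ → ℕ) F (fun o _ ih L =>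
    frc (nth (nat_lit 0) L (Nat.mod o.1 (nat_lit 10))) fun B =>
    frc (nth (nat_lit 0) L (Nat.mod (Nat.div o.1 (nat_lit 10)) (nat_lit 10))) fun A =>
    opCk T (Nat.div o.1 (nat_lit 100)) A B o.2 fun C => ih (C :: L)) O

/-- `g` stabilizes the chain -/
noncomputable def chCk (T Q g C : ℕ) : ℕ :=
  Nat.add (Nat.add (cd g) (iz (sift T g) (nat_lit 1) (nat_lit 0)))
    (Nat.add (frc (fo10 (fun k J => add J (tg C k)) Q) fun J => stCk T J g) (stCk C Q g))

/-- `C` is another table of the same subgroup -/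
noncomputable def smCk (T C : ℕ) : ℕ :=
  Nat.add (ent C fun c => Nat.add (cd c) (sift T c)) (eCk C (tg T))

/-- the hypotheses on the family of subgroups -/
structure Hy (y : ℕ → Γ) (E : Subgroup Γ → Prop) : Prop where
  le : ∀ P, E P → P ≤ gen y 10
  cen : ∀ P, E P → gen y 10 ⊓ cz P ≤ P
  cj : ∀ P, E P → ∀ s ∈ gen y 10, E (cj s P)
  rad : ∀ P, E P → ∀ D, nz P ≤ nz D → (∀ k ∈ nz P, k ∈ D → PEl 3 (cz P) k) →
    ∀ x ∈ gen y 10, x ∈ nz P → x ∈ D → x ∈ P

theorem cube_stab [Finite Γ] (hP : IsPGroup 3 P) (h : Chr P X) (h1 : g ∈ stab P (X ⊔ fr P))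
    (h2 : g ∈ stab X (fr P)) : g ^ 3 ∈ stab P (fr P) := by
  have : Fact (Nat.Prime 3) := ⟨by decide⟩
  have h3 : g ∈ nz (fr P) := nz_le_nz_fr P h1.1
  have h4 : g ∈ stab (X ⊔ fr P) (fr P) := mem_stab_sup h2 (by rw [stab_self]; exact h3)
    (h.1.trans chr_fr.nz) (le_nz_self _)
  refine ⟨pow_mem h1.1 _, fun x hx => ?_⟩
  have h5 := h1.2 x hx
  have h6 := h4.2 _ h5
  have h7 : x⁻¹ * (g * x * g⁻¹) ∈ P := sup_le h.1 (fr_le P) h5
  have h8 := pow_mem_fr hP h7
  convert mul_mem (mul_mem (mul_mem h8 (conj_mem_of_mem_nz' (chr_fr.nz h7) h6)) h6)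
    (conj_mem_of_mem_nz h3 h6) using 1
  simp only [pow_three]; group

theorem Rl.low_add (r : Rl y) (h : Low y U A) (he : In y U e) : Low y U (add A e) := by
  have h1 := r.in_sift h he
  show Low y U (iz (sift A e) A (iz (tg A (ldv (sift A e))) (ins A (ldv (sift A e))
    (Bool.rec (motive := fun _ => ℕ) (sift A e) (inv (sift A e))
    (Nat.ble (2 * 3 ^ (ldv (sift A e))) (sift A e)))) A))
  rw [iz_eq, iz_eq, brec_eq]
  split_ifs with h2 h3
  exacts [h, h.ins h3 (r.in_inv h1), h.ins h3 h1, h]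

namespace Md
variable [Finite Γ] (r : Md y)
include r

theorem stab_of (h : Ech y X A) (h' : Low y Y C) (h1 : X ≤ nz Y) (he : e < 59049)
    (h2 : ev y e ∈ nz X) (h0 : stCk A C e = 0) : ev y e ∈ stab X Y := by
  rw [← inv_mem_iff]
  refine ⟨inv_mem h2, fun x hx => (r.up' (H := cmK (ev y e)⁻¹ Y) h h0 (fun a ha h3 => ⟨h1 ha.2, ?_⟩) hx).2⟩
  have := r.mem_of_sift h' (r.cm_lt ha.1 he) h3
  rwa [r.ev_cm ha.1 he, ← inv_inv (ev y e), inv_inv (ev y e)⁻¹] at this

theorem nz_of (h : Ech y X A) (h' : Low y X C) (he : e < 59049) (h0 : stCk A C e = 0) :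
    ev y e ∈ nz X := by
  rw [← inv_mem_iff]
  refine mem_nz_of_le ?_
  rw [cj_le_iff]
  refine r.up' h h0 fun a ha h3 => ?_
  have := r.mem_of_sift h' (r.cm_lt ha.1 he) h3
  rw [r.ev_cm ha.1 he, mul_mem_cancel_left (inv_mem ha.2)] at this
  simpa [mem_cj] using this

theorem stCk_of (h : Low y X A) (h' : Ech y Y C) (he : e < 59049) (h2 : ev y e ∈ stab X Y) (k : ℕ)
    (hk : k < 10) : nzf A (fun x => sift C (cm x e)) k = 0 := by
  show iz (tg A k) 0 (sift C (cm (tg A k) e)) = 0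
  rw [iz_eq]
  split_ifs
  · rfl
  · rw [r.sift_iff h' (r.cm_lt (h k hk).1 he), r.ev_cm (h k hk).1 he]
    simpa using (inv_mem h2).2 _ (h k hk).2

theorem ech_same (h : Ech y P T) (h0 : smCk T C = 0) : Ech y P C :=
  ech_of (Nat.eq_zero_of_add_eq_zero_left h0) h.le
    (low_of_ent (Nat.eq_zero_of_add_eq_zero_right h0) fun _ h1 =>
      have h2 := cd_zero (Nat.eq_zero_of_add_eq_zero_right h1)
      ⟨h2, r.mem_of_sift h.low h2 (Nat.eq_zero_of_add_eq_zero_left h1)⟩) fun _ hk _ h1 => h.np hk h1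

theorem op_ok {L : List ℕ} {F : ℕ → ℕ} (h : Ech y P T) (h1 : Chr P X) (h2 : Chr P Y) (h3 : Ech y X A)
    (h4 : Ech y Y C) (h0 : opCk T k A C L F = 0) : ∃ D W, Chr P W ∧ Ech y W D ∧ F D = 0 := by
  unfold opCk at h0
  rw [iz_eq k, iz_eq (Nat.pred k), frc_eq, frc_eq, frc_eq] at h0
  split_ifs at h0
  · have h5 := Nat.eq_zero_of_add_eq_zero_right h0
    refine ⟨_, _, h1.cm h2, r.ech_tr h inf_le_left (low_of_ent (Nat.eq_zero_of_add_eq_zero_right h5)
      fun c h6 => ?_) (Nat.eq_zero_of_add_eq_zero_left h5) fun e he h6 h7 => ?_,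
      Nat.eq_zero_of_add_eq_zero_left h0⟩
    · have h7 : cd c + (sift T c + stCk A C c) = 0 := h6
      have h8 := cd_zero (e := c) (by omega)
      have h9 := r.mem_of_sift h.low h8 (by omega)
      exact ⟨h8, h9, r.stab_of h3 h4.low (h1.1.trans h2.nz) h8 (h1.nz h9) (by omega)⟩
    · obtain ⟨k, hk, h8⟩ := a10_zero h6
      exact h8 (r.stCk_of h3.low h4 he h7.2 k hk)
  · have h5 : Low y ⁅X, Y⁆ (fo10 (fun j D => fo10 (fun k D => add D (cm (tg A j) (tg C k))) D) 0) :=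
      fo10_ind (I := Low y ⁅X, Y⁆) (fun j hj D hD => fo10_ind (I := Low y ⁅X, Y⁆) (fun k hk D hD =>
        r.low_add hD ⟨r.cm_lt (h3.low j hj).1 (h4.low k hk).1, by
          rw [r.ev_cm (h3.low j hj).1 (h4.low k hk).1]
          simpa [commutatorElement_def, mul_assoc] using commutator_mem_commutator
            (inv_mem (h3.low j hj).2) (inv_mem (h4.low k hk).2)⟩) hD) low_zero
    generalize fo10 _ _ = D at h0 h5
    have h6 : clCk D + (ent T (stCk D D) + ent C (stCk A D)) + F D = 0 := h0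
    have h7 := r.ech_sp (T := D) (by omega)
    have h8 : P ≤ nz (sp y D) := r.up' h (f := stCk D D) (by omega) fun e he h8 => r.nz_of h7 h7.low he.1 h8
    have h9 : Y ≤ stab X (sp y D) := r.up' h4 (f := stCk A D) (by omega) fun e he h9 =>
      r.stab_of h3 h7.low (h1.1.trans h8) he.1 (h1.nz (h2.1 he.2)) h9
    refine ⟨D, _, h1.comm h2, ?_, by omega⟩
    rwa [le_antisymm (commutator_le_iff'.2 fun a ha b hb => ?_) h5.sp_le]
    simpa [mul_assoc] using (h9 hb).2 _ (inv_mem ha)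
  · have h5 := Nat.eq_zero_of_add_eq_zero_right h0
    have h6 := Nat.eq_zero_of_add_eq_zero_right h5
    have h7 : Low y (om P) (foL (fun x D => add D x) L 0) :=
      foL_ind (I := Low y (om P)) (fun c hc D hD => by
        have h7 : cd c + (sift T c + cu c) = 0 := sumL_zero (Nat.eq_zero_of_add_eq_zero_left h6) c hc
        have h8 := cd_zero (e := c) (by omega)
        exact r.low_add hD ⟨h8, subset_closure ⟨r.mem_of_sift h.low h8 (by omega), by
          rw [← r.ev_cu h8, show cu c = 0 by omega, ev_zero]⟩⟩) _ low_zero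
    generalize foL _ _ _ = D at h0 h5 h6 h7
    have h8 := r.ech_sp (Nat.eq_zero_of_add_eq_zero_right h6)
    refine ⟨D, _, chr_om, ?_, Nat.eq_zero_of_add_eq_zero_left h0⟩
    rwa [le_antisymm (a := om P) ((closure_le _).2 fun u hu => ?_) h7.sp_le]
    obtain ⟨e, he, h9, rfl⟩ := r.en_all h (Nat.eq_zero_of_add_eq_zero_left h5) hu.1
    rw [iz_eq, if_pos (by rw [← r.eq_one (r.cu_lt he), r.ev_cu he]; exact hu.2)] at h9
    exact r.mem_of_sift h8.low he h9

theorem ops_ok {F : List ℕ → ℕ} (h : Ech y P T) (O : List (ℕ × List ℕ)) : ∀ L : List ℕ,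
    (∀ i, ∃ W, Chr P W ∧ Ech y W (nth 0 L i)) → opsCk T F O L = 0 →
      ∃ L : List ℕ, (∀ i, ∃ W, Chr P W ∧ Ech y W (nth 0 L i)) ∧ F L = 0 := by
  induction O with
  | nil => exact fun L h1 h2 => ⟨L, h1, h2⟩
  | cons o O ih =>
    intro L h1 h2
    obtain ⟨X, h3, h4⟩ := h1 (o.1 / 10 % 10)
    obtain ⟨Y, h5, h6⟩ := h1 (o.1 % 10)
    obtain ⟨D, W, h7, h8, h9⟩ := r.op_ok h h3 h5 h4 h6 h2
    exact ih (D :: L) (fun i => by cases i; exacts [⟨W, h7, h8⟩, h1 _]) h9

theorem ch_ok {E : Subgroup Γ → Prop} (H : Hy y E) (hP : E P) (h : Ech y P T) (h1 : Low y (fr P) Q)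
    (h2 : Chr P X) (h3 : Ech y X C) (h0 : chCk T Q e C = 0) : False := by
  have : Fact (Nat.Prime 3) := ⟨by decide⟩
  have h4 : Low y (X ⊔ fr P) (fo10 (fun k J => add J (tg C k)) Q) :=
    fo10_ind (I := Low y (X ⊔ fr P)) (fun k hk D hD => r.low_add hD ((h3.low k hk).mono le_sup_left))
      (h1.mono le_sup_right)
  have h5 : cd e + iz (sift T e) 1 0 + (stCk T (fo10 (fun k J => add J (tg C k)) Q) e +
    stCk C Q e) = 0 := h0
  generalize fo10 _ _ = J at h4 h5
  have he := cd_zero (e := e) (by omega)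
  have h6 := r.nz_of h (h4.mono (sup_le h2.1 (fr_le P))) he (by omega)
  have h7 : nz P ≤ nz (X ⊔ fr P) := fun g hg => mem_nz_sup (h2.2 hg) (nz_le_nz_fr P hg)
  have h8 := H.rad P hP (stab P (X ⊔ fr P) ⊓ stab X (fr P)) (fun g hg =>
    mem_nz_inf (nz_stab hg (h7 hg)) (nz_stab (h2.2 hg) (nz_le_nz_fr P hg))) (fun k _ hk =>
      PEl.of_pow (n := 1) (pel_of_fr (r.pg.to_le h.le) (cube_stab (r.pg.to_le h.le) h2 hk.1 hk.2)))
    _ (ev_mem he) h6 ⟨r.stab_of h h4 ((le_nz_self P).trans h7) he h6 (by omega),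
      r.stab_of h3 h1 (h2.1.trans chr_fr.nz) he (h2.2 h6) (by omega)⟩
  rw [iz_eq, if_pos ((r.sift_iff h he).2 h8)] at h5
  omega

end Md

end H16.F3
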