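import Cfsg.Agent.H16.F3d

/-! Enumeration of the centric subgroups along the chief series. -/

set_option autoImplicit false
set_option linter.unusedSectionVars false

namespace H16.F3
open H26 (frc frc_eq)
open Subgroup H25 H25.FS H4.G3

variable {Γ : Type*} [Group Γ] {y : ℕ → Γ} {U V W H K P X Y B : Subgroup Γ}
  {a b c e i j k l m n T A C D Q R N : ℕ} {x t u g : Γ} {f z nd : ℕ → ℕ} {SV : List ℕ}
  {E : Subgroup Γ → Prop}

/-- bit `k` -/
noncomputable def bt (M k : ℕ) : ℕ := Nat.land (Nat.shiftRight M k) (nat_lit 1)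

/-- `0` iff `z` commutes with the entries -/
noncomputable def ceCk (A z : ℕ) : ℕ := Nat.add (cd z) (ent A fun t => Nat.xor (mul t z) (mul z t))

/-- the maximal subgroups avoiding the generator `i` -/
noncomputable def kd (T Q i : ℕ) (F : ℕ → ℕ → ℕ) (m : ℕ) : ℕ → ℕ → ℕ :=
  Nat.rec (motive := fun _ => ℕ → ℕ → ℕ) F (fun m ih A n =>
    frc (Nat.add (Nat.succ i) m) fun k => frc (tg Q k) fun q => iz q (frc (tg T k) fun t => iz t (ih A n)
      (frc (Nat.mul n (nat_lit 3)) fun n' => frc (Nat.pow (nat_lit 3) i) fun x =>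
        Nat.add (Nat.add (frc (ins A k t) fun A' => ih A' n')
        (frc (ins A k (mul t x)) fun A' => frc (Nat.succ n') (ih A')))
        (frc (ins A k (frc (Nat.add x x) (mul t))) fun A' => frc (Nat.add n' (nat_lit 2)) (ih A'))))
      (frc (ins A k q) fun A' => ih A' n)) m

theorem kd_succ (T Q i : ℕ) (F : ℕ → ℕ → ℕ) (m A n : ℕ) : kd T Q i F (m + 1) A n =
    if tg Q (i + 1 + m) = 0 then if tg T (i + 1 + m) = 0 then kd T Q i F m A n else
      kd T Q i F m (ins A (i + 1 + m) (tg T (i + 1 + m))) (n * 3) +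
      kd T Q i F m (ins A (i + 1 + m) (mul (tg T (i + 1 + m)) (3 ^ i))) (n * 3 + 1) +
      kd T Q i F m (ins A (i + 1 + m) (mul (tg T (i + 1 + m)) (3 ^ i + 3 ^ i))) (n * 3 + 2)
    else kd T Q i F m (ins A (i + 1 + m) (tg Q (i + 1 + m))) n := by
  rw [← iz_eq, ← iz_eq]; rfl

/-- a maximal subgroup is not centric, or conjugate to a listed subgroup -/
noncomputable def kidCk (nd : ℕ → ℕ) (N T i c A n : ℕ) : ℕ :=
  frc (Nat.land (Nat.shiftRight c (Nat.mul n (nat_lit 32))) (nat_lit 4294967295)) fun e =>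
  frc (Nat.land e (nat_lit 65535)) fun s => frc (Nat.shiftRight e (nat_lit 16)) fun w =>
  Nat.add (eCk A fun k => iz (Nat.xor k i) (nat_lit 0) (tg T k))
    (iz w (Nat.add (ceCk A s) (iz (sift A s) (nat_lit 1) (nat_lit 0)))
      (frc (nd (Nat.pred w)) fun R => Nat.add (Nat.add (Nat.add (cd s) (Nat.sub w N))
        (ent R fun g => Nat.add (cd g) (sift A (cjn g s))))
        (Nat.add (frc (tg R (nat_lit 10)) fun M => s10 fun k => iz (bt M k) (tg A k) (nat_lit 0))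
          (Nat.xor (tg R (nat_lit 11)) i))))

/-- one level -/
noncomputable def lvCk (nd : ℕ → ℕ) (N T Q c i : ℕ) : ℕ := iz (tg Q i)
  (frc (cut YT i) fun A => kd T Q i (kidCk nd N T i c) (Nat.sub (nat_lit 9) i) A (nat_lit 0)) (nat_lit 0)

/-- all levels -/
noncomputable def lvs (F : ℕ → ℕ → ℕ) (L : List ℕ) : ℕ → ℕ :=
  List.rec (motive := fun _ => ℕ → ℕ) (fun i => i) (fun c _ ih i =>
    Nat.rec (motive := fun _ => ℕ) (nat_lit 1) (fun j _ => Nat.add (F c j) (ih j)) i) L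

theorem lvs_zero {F : ℕ → ℕ → ℕ} {L : List ℕ} : ∀ l, lvs F L l = 0 → ∀ i < l, ∃ c, F c i = 0 := by
  induction L with
  | nil => intro l h i hi; have : l = 0 := h; omega
  | cons c L ih =>
    intro l h i hi
    cases l with
    | zero => omega
    | succ l =>
      have h' : F c l + lvs F L l = 0 := h
      rcases Nat.lt_succ_iff_lt_or_eq.1 hi with h1 | rfl
      exacts [ih l (by omega) i h1, ⟨c, by omega⟩]

/-- an entry of one of two tables -/
noncomputable def tq (A B k : ℕ) : ℕ := frc (tg A k) fun t => iz t (tg B k) t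

/-- one more element of the Frattini subgroup -/
noncomputable def stp (A c Q : ℕ) : ℕ :=
  frc (Nat.mod (Nat.div c (nat_lit 10)) (nat_lit 10)) fun j => frc (Nat.mod c (nat_lit 10)) fun k =>
  frc (tq A Q j) fun a => add Q (iz (Nat.xor j k) (cu a) (frc (tq A Q k) (cm a)))

/-- certificate of a subgroup -/
structure Nd where
  st : List ℕ
  zs : List ℕ
  lv : List ℕ
  g : ℕ
  c : ℕ
  op : List (ℕ × List ℕ)

/-- the subgroup itself is not radical, or listed -/
noncomputable def lfCk (SV : List ℕ) (T Q : ℕ) (d : Nd) : ℕ :=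
  iz d.g (Nat.add (Nat.sub (Nat.succ d.c) SV.length) (smCk T (nth (nat_lit 0) SV d.c)))
    (opsCk T (fun L => frc (nth (nat_lit 0) L d.c) (chCk T Q d.g)) d.op [T])

/-- check of a certificate -/
noncomputable def ndCk (nd : ℕ → ℕ) (N : ℕ) (SV : List ℕ) (n : ℕ) (d : Nd) : ℕ :=
  frc (nd n) fun R => frc (tg R (nat_lit 11)) fun l => frc (Nat.lor R (cut YT l)) fun A =>
  frc (foL (stp A) d.st (nat_lit 0)) fun Q => frc (mrg A Q) fun T =>
  frc (foL (fun z B => add B z) d.zs Q) fun Q' =>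
  Nat.add (Nat.add (Nat.add (Nat.sub l (nat_lit 10)) (cut R l))
    (Nat.add (eCk T (bt (tg R (nat_lit 10)))) (eCk Q' fun _ => nat_lit 0)))
    (Nat.add (Nat.add (sumL (ceCk T) d.zs) (lvs (lvCk nd N T Q') d.lv l)) (lfCk SV T Q d))

/-- check of a list of certificates -/
noncomputable def lst (F : ℕ → Nd → ℕ) (L : List Nd) : ℕ → ℕ :=
  List.rec (motive := fun _ => ℕ → ℕ) (fun _ => nat_lit 0) (fun d _ ih n =>
    Nat.add (F n d) (frc (Nat.succ n) ih)) L

theorem lst_zero {F : ℕ → Nd → ℕ} {L : List Nd} : ∀ n, lst F L n = 0 →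
    ∀ m, n ≤ m → m < n + L.length → ∃ d, F m d = 0 := by
  induction L with
  | nil => intro n _ m h1 h2; simp at h2; omega
  | cons d L ih =>
    intro n h m h1 h2
    have h' : F n d + lst F L (n + 1) = 0 := h
    rcases h1.eq_or_lt with rfl | h3
    exacts [⟨d, by omega⟩, ih (n + 1) (by omega) m h3 (by simp at h2; omega)]

theorem lst_step {F : ℕ → Nd → ℕ} {L : List Nd} (h1 : ∀ m < n, ∃ d, F m d = 0)
    (h : (Nat.beq (lst F L n) 0 && Nat.beq (n + L.length) k) = true) : ∀ m < k, ∃ d, F m d = 0 := by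
  rw [Bool.and_eq_true] at h
  intro m hm
  by_cases h2 : m < n
  exacts [h1 m h2, lst_zero n (Nat.eq_of_beq_eq_true h.1) m (by omega)
    (by rw [Nat.eq_of_beq_eq_true h.2]; exact hm)]

/-- conjugate to a listed subgroup -/
def Cc (y : ℕ → Γ) (SV : List ℕ) (P : Subgroup Γ) : Prop :=
  ∃ s ∈ gen y 10, ∃ T ∈ SV, Ech y (cj s P) T

/-- the claim attached to a record -/
def Cl (y : ℕ → Γ) (E : Subgroup Γ → Prop) (SV : List ℕ) (R : ℕ) : Prop :=
  ∀ P, E P → Low y (P ⊔ gen y (tg R 11)) R → (∀ k < 10, bt (tg R 10) k = 0 →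
    (P ⊔ gen y (tg R 11)) ⊓ gen y (k + 1) ≤ gen y k) → Cc y SV P

namespace Md
variable [Finite Γ] (r : Md y)
include r

theorem ce_ok (h : Ech y U A) (h0 : ceCk A e = 0) : e < 59049 ∧ ev y e ∈ cz U := by
  have he := cd_zero (Nat.eq_zero_of_add_eq_zero_right h0)
  refine ⟨he, zpowers_le.1 (le_cz_comm.1 (r.up' h (Nat.eq_zero_of_add_eq_zero_left h0)
    fun a ha h1 => ?_))⟩
  rw [mem_cz_zpowers, mul_inv_eq_iff_eq_mul, ← r.ev_mul ha.1 he, ← r.ev_mul he ha.1, xor_zero h1]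

theorem kd_ok {F : ℕ → ℕ → ℕ} (hi : i < 10) (h1 : Low y U T) (h2 : Low y W Q)
    (h3 : ∀ u ∈ U, ∃ a < 3, u * y i ^ a ∈ W) (hm : i + 1 + m ≤ 10) : ∀ A n, Low y W A →
    (∀ k, i < k → k < i + 1 + m → tg A k = 0) → kd T Q i F m A n = 0 →
      ∃ A n, Low y W A ∧ F A n = 0 := by
  induction m with
  | zero => exact fun A n h _ h' => ⟨A, n, h, h'⟩
  | succ m ih =>
    intro A n h4 h5 h6
    have h7 := h5 (i + 1 + m) (by omega) (by omega)
    have h8 : ∀ e n, In y W e → kd T Q i F m (ins A (i + 1 + m) e) n = 0 → ∃ A n, Low y W A ∧ F A n = 0 :=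
      fun e n he => ih (by omega) _ n (h4.ins h7 he) fun k h9 h10 => by
        rw [tg_ins he.1 h7, if_neg (by omega)]; exact h5 k h9 (by omega)
    rw [kd_succ] at h6
    split_ifs at h6
    · exact ih (by omega) A n h4 (fun k h9 h10 => h5 k h9 (by omega)) h6
    · have h9 := h1 (i + 1 + m) (by omega)
      obtain ⟨a, ha, h10⟩ := h3 _ h9.2
      have h11 := pow3_lt hi
      have h12 : 3 ^ i + 3 ^ i < 59049 := by have := pow3_le hi; rw [pow_succ] at this; omega
      obtain rfl | rfl | rfl : a = 0 ∨ a = 1 ∨ a = 2 := by omega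
      · exact h8 _ (n * 3) ⟨h9.1, by simpa using h10⟩ (by omega)
      · exact h8 _ (n * 3 + 1) ⟨r.mul_lt h9.1 h11, by
          rw [r.ev_mul h9.1 h11, ev_gen hi]; simpa using h10⟩ (by omega)
      · exact h8 _ (n * 3 + 2) ⟨r.mul_lt h9.1 h12, by
          rwa [r.ev_mul h9.1 h12, ← two_mul, ev_pw hi (by decide)]⟩ (by omega)
    · exact h8 _ n (h2 _ (by omega)) h6

theorem cj_gen (hk : k ≤ 10) (hg : g ∈ gen y 10) : cj g (gen y k) = gen y k := mem_nz.1 (r.nzL hk hg)

theorem kid_ok (H : Hy y E) (hi : i < 10) (hC : ∀ n < N, tg (nd n) 11 = i → Cl y E SV (nd n))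
    (hP : E P) (h1 : Ech y (P ⊔ gen y (i + 1)) T) (h2 : y i ∉ P ⊔ gen y i) (h3 : Low y (P ⊔ gen y i) A)
    (h0 : kidCk nd N T i c A n = 0) : Cc y SV P := by
  unfold kidCk at h0
  rw [frc_eq, frc_eq, frc_eq, iz_eq, frc_eq] at h0
  generalize Nat.land (Nat.shiftRight c _) _ = e at h0
  generalize Nat.land e _ = s at h0
  generalize Nat.shiftRight e _ = w at h0
  have h4 : Ech y (P ⊔ gen y i) A := ech_of (Nat.eq_zero_of_add_eq_zero_right h0)
    (sup_le (H.le P hP) (gen_mono y hi.le)) h3 fun k hk _ h5 => by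
      rw [iz_eq] at h5
      split_ifs at h5 with h6
      · obtain rfl := xor_zero h6
        intro u hu
        by_contra h7
        refine h2 ((?_ : gen y (k + 1) ≤ _) (mem_gen y k.lt_succ_self))
        rw [← r.sup_eq hk hu.2 h7]
        exact sup_le le_sup_right (zpowers_le.2 hu.1)
      · exact (inf_le_inf_right _ (sup_le_sup_left (gen_mono y i.le_succ) _)).trans (h1.np hk h5)
  replace h0 := Nat.eq_zero_of_add_eq_zero_left h0
  split_ifs at h0 with h5
  · obtain ⟨h6, h7⟩ := r.ce_ok h4 (Nat.eq_zero_of_add_eq_zero_right h0)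
    replace h0 := Nat.eq_zero_of_add_eq_zero_left h0
    rw [iz_eq, if_pos ((r.sift_iff h4 h6).2 (mem_sup_left (H.cen P hP
      ⟨ev_mem h6, cz_anti le_sup_left h7⟩)))] at h0
    exact absurd h0 one_ne_zero
  · have h6 := Nat.eq_zero_of_add_eq_zero_right h0
    have h7 := Nat.eq_zero_of_add_eq_zero_left h0
    have h8 := Nat.eq_zero_of_add_eq_zero_right h6
    have hs := cd_zero (Nat.eq_zero_of_add_eq_zero_right h8)
    have h9 : w - N = 0 := Nat.eq_zero_of_add_eq_zero_left h8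
    have h10 := xor_zero (Nat.eq_zero_of_add_eq_zero_left h7)
    have h11 := s10_zero (frc_eq _ _ ▸ Nat.eq_zero_of_add_eq_zero_right h7)
    have hs' := ev_mem (y := y) hs
    have h12 : cj (ev y s) P ⊔ gen y i = cj (ev y s) (P ⊔ gen y i) := by rw [cj_sup, r.cj_gen hi.le hs']
    obtain ⟨s', h13, T', h14, h15⟩ := hC w.pred (by rw [Nat.pred_eq_sub_one]; omega) h10 _
      (H.cj P hP _ hs') (low_of_ent (Nat.eq_zero_of_add_eq_zero_left h6) fun g h13 => by
        have h14 := cd_zero (Nat.eq_zero_of_add_eq_zero_right h13)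
        refine ⟨h14, ?_⟩
        rw [h10, h12, mem_cj, ← r.ev_cjn h14 hs]
        exact r.mem_of_sift h3 (r.cjn_lt h14 hs) (Nat.eq_zero_of_add_eq_zero_left h13))
      fun k hk h13 => by
        have h14 := h11 k hk
        rw [iz_eq, if_pos h13] at h14
        rw [h10, h12, ← r.cj_gen hk hs', ← r.cj_gen hk.le hs', ← cj_inf, cj_le_cj]
        exact h4.np hk h14
    exact ⟨s' * ev y s, mul_mem h13 hs', T', h14, cj_cj s' _ P ▸ h15⟩

theorem lv_ok (H : Hy y E) (hi : i < 10) (hC : ∀ n < N, tg (nd n) 11 = i → Cl y E SV (nd n))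
    (hP : E P) (hU : P ⊔ gen y (i + 1) = U) (h1 : Ech y U T) (h2 : Low y (fr U ⊔ gen y 10 ⊓ cz U) Q)
    (h3 : eCk Q (fun _ => 0) = 0) (h0 : lvCk nd N T Q c i = 0) : Cc y SV P ∨ P ⊔ gen y i = U := by
  have : Fact (Nat.Prime 3) := ⟨by decide⟩
  by_cases h4 : y i ∈ P ⊔ gen y i
  · refine Or.inr (le_antisymm (hU ▸ sup_le_sup_left (gen_mono y i.le_succ) _) ?_)
    rw [← hU, gen_succ]
    exact sup_le le_sup_left (sup_le le_sup_right (zpowers_le.2 h4))
  left
  have h5 : ∀ u ∈ P ⊔ gen y i, ∀ a, (y i ^ a)⁻¹ * u * y i ^ a * u⁻¹ ∈ P ⊔ gen y i := fun u hu a => by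
    have := (r.stabL hi (sup_le (H.le P hP) (gen_mono y hi.le) hu)).2 _
      (pow_mem (mem_gen y i.lt_succ_self) a)
    exact mem_sup_right (by simpa [mul_assoc] using this)
  have h6 : ∀ a, y i ^ a ∈ nz (P ⊔ gen y i) := fun a => inv_mem_iff.1 (mem_nz_of_conj_mem
    fun u hu => by simpa using mul_mem (h5 u hu a) hu)
  have h7 : ∀ u ∈ U, ∃ a < 3, (y i ^ a)⁻¹ * u ∈ P ⊔ gen y i := fun u hu =>
    mem_sup_cyc (by simpa using h6 1) (mem_sup_right (r.cube_gen hi))
      (by rwa [sup_assoc, ← gen_succ, hU])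
  have h8 : fr U ⊔ gen y 10 ⊓ cz U ≤ P ⊔ gen y i := by
    refine sup_le (fr_le_of (p := 3) (commutator_le_iff'.2 fun u hu v hv => ?_) fun u hu => ?_)
      ((inf_le_inf_left _ (cz_anti (hU ▸ le_sup_left))).trans ((H.cen P hP).trans le_sup_left))
    · obtain ⟨a, -, ha⟩ := h7 u hu
      obtain ⟨b, -, hb⟩ := h7 v hv
      obtain ⟨u, rfl⟩ : ∃ w, u = y i ^ a * w := ⟨_, (mul_inv_cancel_left _ u).symm⟩
      obtain ⟨v, rfl⟩ : ∃ w, v = y i ^ b * w := ⟨_, (mul_inv_cancel_left _ v).symm⟩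
      rw [inv_mul_cancel_left] at ha hb
      convert conj_mem_of_mem_nz (mul_mem (h6 a) (h6 b)) (mul_mem (mul_mem (mul_mem
        (conj_mem_of_mem_nz' (h6 b) ha) hb) (conj_mem_of_mem_nz' (h6 b)
        (conj_mem_of_mem_nz (h6 b) (inv_mem ha)))) (conj_mem_of_mem_nz' (h6 a) (inv_mem hb))) using 1
      group
    · obtain ⟨a, -, ha⟩ := h7 u hu
      have h9 : (y i ^ a) ^ 3 ∈ P ⊔ gen y i := by
        rw [← pow_mul, mul_comm, pow_mul]; exact pow_mem (mem_sup_right (r.cube_gen hi)) _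
      have h10 := h6 a
      generalize y i ^ a = s at *
      convert mul_mem (mul_mem (mul_mem h9 (conj_mem_of_mem_nz' h10 (conj_mem_of_mem_nz' h10 ha)))
        (conj_mem_of_mem_nz' h10 ha)) ha using 1
      simp only [pow_three]; group
  unfold lvCk at h0
  rw [iz_eq, frc_eq] at h0
  by_cases h9 : tg Q i = 0
  swap
  · have h10 := (eCk_zero h3 i hi).resolve_left fun h => h9 h.1
    refine absurd ((?_ : gen y (i + 1) ≤ _) (mem_gen y i.lt_succ_self)) h4
    rw [← r.sup_eq hi (h10.mem hi) (r.ld_nmem h10 hi)]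
    exact sup_le le_sup_right (zpowers_le.2 (h8 (h2 i hi).2))
  rw [if_pos h9] at h0
  obtain ⟨A, n, h10, h11⟩ := r.kd_ok (W := P ⊔ gen y i) (m := 9 - i) hi h1.low (h2.mono h8) (fun u hu => by
    obtain ⟨a, ha, h10⟩ := h7 _ (inv_mem hu)
    exact ⟨a, ha, by simpa using inv_mem h10⟩) (by omega) _ _ (low_YT le_sup_right)
    (fun k h10 _ => by rw [tg_cut, if_neg (by omega)]) h0
  exact r.kid_ok H hi hC hP (hU ▸ h1) h4 h10 h11

theorem lf_ok {d : Nd} (H : Hy y E) (hP : E P) (h1 : Ech y P T) (h2 : Low y (fr P) Q)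
    (h0 : lfCk SV T Q d = 0) : Cc y SV P := by
  unfold lfCk at h0
  rw [iz_eq] at h0
  split_ifs at h0
  · have h3 : d.c + 1 - SV.length = 0 := Nat.eq_zero_of_add_eq_zero_right h0
    exact ⟨1, one_mem _, _, nth_mem_of_lt 0 SV (i := d.c) (by omega), by
      rw [cj_one]; exact r.ech_same h1 (Nat.eq_zero_of_add_eq_zero_left h0)⟩
  · obtain ⟨L, h3, h4⟩ := r.ops_ok h1 d.op [T] (fun i => by
      cases i
      exacts [⟨P, ⟨le_rfl, le_rfl⟩, h1⟩, ⟨⊥, ⟨bot_le, le_nz_bot _⟩, ech_bot⟩]) h0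
    obtain ⟨W, h5, h6⟩ := h3 d.c
    rw [frc_eq] at h4
    exact (r.ch_ok H hP h1 h2 h5 h6 h4).elim

theorem nd_ok {d : Nd} (H : Hy y E)
    (hC : ∀ m < N, tg (nd m) 11 < tg (nd n) 11 → Cl y E SV (nd m))
    (h0 : ndCk nd N SV n d = 0) : Cl y E SV (nd n) := by
  have : Fact (Nat.Prime 3) := ⟨by decide⟩
  unfold ndCk at h0
  rw [frc_eq, frc_eq, frc_eq, frc_eq, frc_eq, frc_eq] at h0
  intro P hP h1 h2
  generalize nd n = R at *
  obtain ⟨l, hl⟩ : ∃ l, tg R 11 = l := ⟨_, rfl⟩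
  rw [show tg R (nat_lit 11) = l from hl] at h0
  rw [hl] at h1 h2 hC
  obtain ⟨U, hU⟩ : ∃ U, P ⊔ gen y l = U := ⟨_, rfl⟩
  have a1 := Nat.eq_zero_of_add_eq_zero_right h0
  have a2 := Nat.eq_zero_of_add_eq_zero_left h0
  have a3 := Nat.eq_zero_of_add_eq_zero_right a1
  have a4 := Nat.eq_zero_of_add_eq_zero_left a1
  have a5 := Nat.eq_zero_of_add_eq_zero_right a2
  have a6 : l - 10 = 0 := Nat.eq_zero_of_add_eq_zero_right a3
  have a7 : cut R l = 0 := Nat.eq_zero_of_add_eq_zero_left a3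
  have h3 : Low y U (Nat.lor R (cut YT l)) := fun k hk => by
    rw [tg_lor]
    by_cases h : k < l
    · have := tg_cut R l k
      rw [a7, tg_zero, if_pos h] at this
      rw [← this, Nat.zero_or]
      exact low_YT (hU ▸ le_sup_right) k hk
    · rw [tg_cut, if_neg h, Nat.or_zero]; exact hU ▸ h1 k hk
  have hS : U ≤ gen y 10 := hU ▸ sup_le (H.le P hP) (gen_mono y (by omega))
  have hp := r.pg.to_le hS
  generalize Nat.lor R (cut YT l) = A at *
  have h4 : Low y (fr U) (foL (stp A) d.st (nat_lit 0)) := foL_ind (I := Low y (fr U)) (fun c _ Q hQ => by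
    have h4 : ∀ k < 10, In y U (tq A Q k) := fun k hk => by
      unfold tq
      rw [frc_eq, iz_eq]
      split_ifs
      exacts [(hQ k hk).mono (fr_le U), h3 k hk]
    unfold stp
    rw [frc_eq, frc_eq, frc_eq, frc_eq, iz_eq]
    have h5 := h4 _ (Nat.mod_lt (Nat.div c (nat_lit 10)) (by decide : 10 > 0))
    have h6 := h4 _ (Nat.mod_lt c (by decide : 10 > 0))
    refine r.low_add hQ ?_
    split_ifs
    · exact ⟨r.cu_lt h5.1, (r.ev_cu h5.1).symm ▸ pow_mem_fr hp h5.2⟩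
    · refine ⟨r.cm_lt h5.1 h6.1, (r.ev_cm h5.1 h6.1).symm ▸ commutator_le_fr hp ?_⟩
      simpa [commutatorElement_def, mul_assoc] using commutator_mem_commutator
        (inv_mem h5.2) (inv_mem h6.2)) _ low_zero
  generalize foL (stp A) d.st (nat_lit 0) = Q at *
  have h5 : Ech y U (mrg A Q) := ech_of (Nat.eq_zero_of_add_eq_zero_right a4) hS
    (h3.mrg (h4.mono (fr_le U))) fun k hk _ h => hU ▸ h2 k hk h
  generalize mrg A Q = T at *
  have h6 : Low y (fr U ⊔ gen y 10 ⊓ cz U) (foL (fun z B => add B z) d.zs Q) :=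
    foL_ind (I := Low y (fr U ⊔ gen y 10 ⊓ cz U)) (fun z hz B hB => by
      obtain ⟨h6, h7⟩ := r.ce_ok h5 (sumL_zero (Nat.eq_zero_of_add_eq_zero_right a5) z hz)
      exact r.low_add hB ⟨h6, mem_sup_right ⟨ev_mem h6, h7⟩⟩) _ (h4.mono le_sup_left)
  generalize foL (fun z B => add B z) d.zs Q = Q' at *
  have h7 : ∀ j ≤ l, Cc y SV P ∨ P ⊔ gen y (l - j) = U := by
    intro j hj
    induction j with
    | zero => exact Or.inr hU
    | succ j ih =>
      refine (ih (by omega)).elim Or.inl fun h7 => ?_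
      obtain ⟨c, hc⟩ := lvs_zero l (Nat.eq_zero_of_add_eq_zero_left a5) (l - (j + 1)) (by omega)
      exact r.lv_ok H (by omega) (fun m hm h => hC m hm (by omega)) hP
        (by rwa [show l - (j + 1) + 1 = l - j by omega]) h5 h6 (Nat.eq_zero_of_add_eq_zero_left a4) hc
  refine (h7 l le_rfl).elim id fun h8 => ?_
  rw [Nat.sub_self, gen_zero, sup_bot_eq] at h8
  subst h8
  exact r.lf_ok H hP h5 h4 (Nat.eq_zero_of_add_eq_zero_left a2)

theorem all_ok (H : Hy y E) (h : ∀ n < N, ∃ d, ndCk nd N SV n d = 0) (h0 : 0 < N)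
    (h1 : ∀ k < 10, tg (nd 0) k = 0) (h2 : ∀ k < 10, bt (tg (nd 0) 10) k ≠ 0)
    (hP : E P) : Cc y SV P := by
  have h4 : ∀ l, ∀ n < N, tg (nd n) 11 = l → Cl y E SV (nd n) := by
    intro l
    induction l using Nat.strong_induction_on with
    | _ l ih =>
      intro n hn hl
      obtain ⟨d, hd⟩ := h n hn
      exact r.nd_ok H (fun m hm h => ih _ (hl ▸ h) m hm rfl) hd
  exact h4 _ 0 h0 rfl P hP (fun k hk => (h1 k hk).symm ▸ in_zero) fun k hk h => absurd h (h2 k hk)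

end Md

end H16.F3
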