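import Cfsg.Agent.H16.F3h

/-! The Sylow 3-subgroup of the Thompson group satisfies the presentation. -/

set_option autoImplicit false

namespace H16.F3
open Subgroup Cfsg

variable {Γ Δ : Type*} [Group Γ] [Group Δ] {y : ℕ → Γ} {x : ℕ → Δ}

theorem map_evk (f : Δ →* Γ) {k : ℕ} (h : ∀ j < k, f (x j) = y j) : ∀ e, f (evk x k e) = evk y k e := by
  induction k with
  | zero => intro e; exact map_one f
  | succ k ih =>
    intro e
    rw [evk, evk, map_mul, map_pow, h k k.lt_succ_self, ih fun j hj => h j (by omega)]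

theorem Md.comap (r : Md y) (f : Δ →* Γ) (hf : Function.Injective f) (h : ∀ j < 10, f (x j) = y j) :
    Md x where
  cj k hk j hj := hf (by
    rw [map_mul, map_mul, ev, map_evk f h, h k hk, h j (by omega)]; exact r.cj k hk j hj)
  pw k hk := hf (by rw [map_pow, ev, map_evk f h, h k hk]; exact r.pw k hk)
  ne e := r.ne (by rw [← h 0 (by decide), e, map_one])

theorem Md.map (r : Md x) (f : Δ →* Γ) (hf : Function.Injective f) : Md fun k => f (x k) where
  cj k hk j hj := by rw [ev, ← map_evk f fun _ _ => rfl, ← map_mul, ← map_mul]; exact congrArg f (r.cj k hk j hj)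
  pw k hk := by rw [ev, ← map_evk f fun _ _ => rfl, ← map_pow]; exact congrArg f (r.pw k hk)
  ne e := r.ne (hf (e.trans (map_one f).symm))

theorem Md.lift (r : Md y) {H : Subgroup Γ} (h : gen y 10 ≤ H) : ∃ x : ℕ → H, Md x :=
  ⟨fun k => if hk : k < 10 then ⟨y k, h (mem_gen y hk)⟩ else 1,
    r.comap H.subtype H.subtype_injective fun j hj => by simp [hj]⟩

theorem exists_md [Fact (Nat.Prime 3)] (T : Sylow 3 Spor.Th) :
    ∃ y : ℕ → T, Md y ∧ gen y 10 = ⊤ := by
  have : Finite Spor.Th := Nat.finite_of_card_ne_zero (by rw [DTH.card_eq]; decide)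
  obtain ⟨x, hx⟩ := F3T.md.lift F3T.le11
  have h1 := hx.map DTH.equiv.symm.toMonoidHom DTH.equiv.symm.injective
  obtain ⟨Q, hQ⟩ := h1.pg.exists_le_sylow
  obtain ⟨z, hz⟩ := h1.lift hQ
  have h2 := hz.map (Sylow.equiv Q T).toMonoidHom (Sylow.equiv Q T).injective
  refine ⟨_, h2, eq_top_of_card_eq _ ((h2.card_gen le_rfl).trans (Eq.trans ?_ T.card_eq_multiplicity.symm))⟩
  rw [ DTH.card_eq,
    show 90745943887872000 = 3 ^ 10 * 1536790528000 by norm_num,
    Nat.factorization_mul (by norm_num) (by norm_num), Nat.Prime.factorization_pow (by norm_num),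
    Finsupp.add_apply, Nat.factorization_eq_zero_of_not_dvd (by norm_num)]
  simp

end H16.F3
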