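import Cfsg.Agent.H16.F3n

/-! Generated: certificates for the centric subgroups. -/

set_option autoImplicit false
set_option maxRecDepth 100000
set_option maxHeartbeats 0
set_option Elab.async false

namespace H16.F3
open H26 (jn frc frc_eq)
noncomputable def cl6 : List Nd := [
  ⟨[nat_lit 87, nat_lit 84, nat_lit 83], [], [nat_lit 0, nat_lit 0x21d222c021d1116021d3342021d088b021d4458021d19a1021d3bcd021d2ab7021d0000, nat_lit 0x2223342021f088b0224111602213342021f44580224088b02203342021f19a102240000022219a1021f222c02231116022119a1021f11160223088b022019a1021f33420223000002220000021f3bcd021e111602210000021f2ab7021e088b02200000021f0000021e0000, nat_lit 0, nat_lit 0], nat_lit 486, nat_lit 0, [(nat_lit 100, []), (nat_lit 2, [nat_lit 0x51001b000900030001])]⟩,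
  ⟨[nat_lit 87, nat_lit 84, nat_lit 83], [], [nat_lit 0, nat_lit 0x225088b02252ab70225334202253bcd02251116022519a10225222c0225445802250000, nat_lit 0x2282ab7022a19a1022c088b0228088b022919a1022c111602283342022719a1022c000002281116022a088b022b088b02283bcd0229088b022b1116022819a10227088b022b000002284458022a00000226088b0228222c0229000002261116022800000227000002260000, nat_lit 0, nat_lit 0], nat_lit 486, nat_lit 0, [(nat_lit 100, []), (nat_lit 2, [nat_lit 0x51001b000900030001])]⟩,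
  ⟨[nat_lit 87, nat_lit 85, nat_lit 77, nat_lit 75], [], [nat_lit 0, nat_lit 0], nat_lit 9, nat_lit 1, []⟩,
  ⟨[nat_lit 87, nat_lit 85, nat_lit 77, nat_lit 55], [], [nat_lit 0, nat_lit 0], nat_lit 9, nat_lit 1, []⟩,
  ⟨[nat_lit 87, nat_lit 85, nat_lit 77, nat_lit 75], [], [nat_lit 0, nat_lit 0], nat_lit 9, nat_lit 1, []⟩,
  ⟨[nat_lit 87, nat_lit 85, nat_lit 77, nat_lit 75], [], [nat_lit 0, nat_lit 0], nat_lit 9, nat_lit 1, []⟩,
  ⟨[nat_lit 87, nat_lit 85, nat_lit 77, nat_lit 55], [], [nat_lit 0, nat_lit 0], nat_lit 9, nat_lit 1, []⟩,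
  ⟨[nat_lit 87, nat_lit 85, nat_lit 77, nat_lit 75], [], [nat_lit 0, nat_lit 0], nat_lit 9, nat_lit 1, []⟩,
  ⟨[nat_lit 87, nat_lit 85, nat_lit 77, nat_lit 75], [], [nat_lit 0, nat_lit 0], nat_lit 9, nat_lit 1, []⟩,
  ⟨[nat_lit 87, nat_lit 85, nat_lit 77, nat_lit 55], [], [nat_lit 0, nat_lit 0], nat_lit 9, nat_lit 1, []⟩,
  ⟨[nat_lit 87, nat_lit 85, nat_lit 77, nat_lit 75], [], [nat_lit 0, nat_lit 0], nat_lit 9, nat_lit 1, []⟩,
  ⟨[nat_lit 87, nat_lit 86, nat_lit 84, nat_lit 77], [], [nat_lit 0, nat_lit 0], nat_lit 9, nat_lit 1, []⟩,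
  ⟨[nat_lit 87, nat_lit 86, nat_lit 84, nat_lit 77], [], [nat_lit 0, nat_lit 0], nat_lit 9, nat_lit 1, []⟩,
  ⟨[nat_lit 87, nat_lit 86, nat_lit 84, nat_lit 77], [], [nat_lit 0, nat_lit 0], nat_lit 9, nat_lit 1, []⟩,
  ⟨[nat_lit 87, nat_lit 86, nat_lit 84, nat_lit 77], [], [nat_lit 0, nat_lit 0], nat_lit 9, nat_lit 1, []⟩,
  ⟨[nat_lit 87, nat_lit 86, nat_lit 84, nat_lit 77], [], [nat_lit 0, nat_lit 0], nat_lit 9, nat_lit 1, []⟩,
  ⟨[nat_lit 87, nat_lit 86, nat_lit 84, nat_lit 77], [], [nat_lit 0, nat_lit 0], nat_lit 9, nat_lit 1, []⟩,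
  ⟨[nat_lit 87, nat_lit 86, nat_lit 84, nat_lit 77], [], [nat_lit 0, nat_lit 0], nat_lit 9, nat_lit 1, []⟩,
  ⟨[nat_lit 87, nat_lit 86, nat_lit 84, nat_lit 77], [], [nat_lit 0, nat_lit 0], nat_lit 9, nat_lit 1, []⟩,
  ⟨[nat_lit 87, nat_lit 86, nat_lit 84, nat_lit 77], [], [nat_lit 0, nat_lit 0], nat_lit 9, nat_lit 1, []⟩,
  ⟨[nat_lit 87, nat_lit 86, nat_lit 84, nat_lit 77], [], [nat_lit 0, nat_lit 0], nat_lit 9, nat_lit 1, []⟩,
  ⟨[nat_lit 87, nat_lit 86, nat_lit 84, nat_lit 77], [], [nat_lit 0, nat_lit 0], nat_lit 9, nat_lit 1, []⟩,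
  ⟨[nat_lit 87, nat_lit 86, nat_lit 84, nat_lit 77], [], [nat_lit 0, nat_lit 0], nat_lit 9, nat_lit 1, []⟩,
  ⟨[nat_lit 87, nat_lit 86, nat_lit 84, nat_lit 77], [], [nat_lit 0, nat_lit 0], nat_lit 9, nat_lit 1, []⟩,
  ⟨[nat_lit 87, nat_lit 86, nat_lit 84, nat_lit 77], [], [nat_lit 0, nat_lit 0], nat_lit 9, nat_lit 1, []⟩,
  ⟨[nat_lit 87, nat_lit 86, nat_lit 84, nat_lit 77], [], [nat_lit 0, nat_lit 0], nat_lit 9, nat_lit 1, []⟩,
  ⟨[nat_lit 87, nat_lit 86, nat_lit 84, nat_lit 77], [], [nat_lit 0, nat_lit 0], nat_lit 9, nat_lit 1, []⟩,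
  ⟨[nat_lit 87, nat_lit 86, nat_lit 84, nat_lit 77], [], [nat_lit 0, nat_lit 0], nat_lit 9, nat_lit 1, []⟩,
  ⟨[nat_lit 87, nat_lit 86, nat_lit 84, nat_lit 77], [], [nat_lit 0, nat_lit 0], nat_lit 9, nat_lit 1, []⟩,
  ⟨[nat_lit 88, nat_lit 87, nat_lit 86, nat_lit 83], [], [nat_lit 0, nat_lit 0], nat_lit 9, nat_lit 1, []⟩,
  ⟨[nat_lit 88, nat_lit 87, nat_lit 86, nat_lit 83], [], [nat_lit 0, nat_lit 0], nat_lit 9, nat_lit 1, []⟩,
  ⟨[nat_lit 88, nat_lit 87, nat_lit 86, nat_lit 83], [], [nat_lit 0, nat_lit 0], nat_lit 9, nat_lit 1, []⟩,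
  ⟨[nat_lit 88, nat_lit 87, nat_lit 86, nat_lit 83], [], [nat_lit 0, nat_lit 0], nat_lit 9, nat_lit 1, []⟩,
  ⟨[nat_lit 88, nat_lit 87, nat_lit 86, nat_lit 83], [], [nat_lit 0, nat_lit 0], nat_lit 9, nat_lit 1, []⟩,
  ⟨[nat_lit 88, nat_lit 87, nat_lit 86, nat_lit 83], [], [nat_lit 0, nat_lit 0], nat_lit 9, nat_lit 1, []⟩,
  ⟨[nat_lit 88, nat_lit 87, nat_lit 86, nat_lit 83], [], [nat_lit 0, nat_lit 0], nat_lit 9, nat_lit 1, []⟩,
  ⟨[nat_lit 88, nat_lit 87, nat_lit 86, nat_lit 83], [], [nat_lit 0, nat_lit 0], nat_lit 9, nat_lit 1, []⟩,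
  ⟨[nat_lit 88, nat_lit 87, nat_lit 86, nat_lit 83], [], [nat_lit 0, nat_lit 0], nat_lit 9, nat_lit 1, []⟩,
  ⟨[nat_lit 95, nat_lit 94, nat_lit 93, nat_lit 91], [], [nat_lit 0x22d5511022d5141022d0000, nat_lit 0x2305511022f51410232000002305141022f55110231000002300000022f0000022e0000, nat_lit 0, nat_lit 0, nat_lit 0, nat_lit 0], nat_lit 4374, nat_lit 1, []⟩,
  ⟨[nat_lit 96, nat_lit 95, nat_lit 93, nat_lit 91], [], [nat_lit 0x2331177023308ea02335141023311cd023309430233a15d023311160233088b02330000, nat_lit 0, nat_lit 0, nat_lit 0], nat_lit 4374, nat_lit 0, [(nat_lit 1, [nat_lit 1]), (nat_lit 10, [nat_lit 0x900030001]), (nat_lit 20, [nat_lit 0xf30000001b000900030001])]⟩,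
  ⟨[nat_lit 96, nat_lit 95, nat_lit 93, nat_lit 91], [], [nat_lit 0x2341177023408ea02349f6f023411cd0234094302345511023411160234088b02340000, nat_lit 0, nat_lit 0, nat_lit 0], nat_lit 4374, nat_lit 0, [(nat_lit 1, [nat_lit 1]), (nat_lit 10, [nat_lit 0x900030001]), (nat_lit 20, [nat_lit 0xf30000001b000900030001])]⟩,
  ⟨[nat_lit 99, nat_lit 96, nat_lit 95, nat_lit 91], [], [nat_lit 0x235aadc0235a251023599c602355df90235556e02354ce3023511160235088b02350000, nat_lit 0, nat_lit 0, nat_lit 0], nat_lit 81, nat_lit 0, [(nat_lit 1, [nat_lit 1]), (nat_lit 10, [nat_lit 0x900030001]), (nat_lit 20, [nat_lit 0xf30000001b000900030001])]⟩,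
  ⟨[nat_lit 95, nat_lit 94, nat_lit 93, nat_lit 91], [], [nat_lit 0x23655110236514102360000, nat_lit 0x239551102385141023b00000239514102385511023a0000023900000238000002370000, nat_lit 0, nat_lit 0, nat_lit 0, nat_lit 0], nat_lit 4374, nat_lit 1, []⟩,
  ⟨[nat_lit 96, nat_lit 95, nat_lit 93, nat_lit 91], [], [nat_lit 0x23c5141023c08ea023c55cd023c11cd023c0943023c5626023c4ce3023c088b023c0000, nat_lit 0, nat_lit 0, nat_lit 0], nat_lit 2187, nat_lit 0, [(nat_lit 1, [nat_lit 1]), (nat_lit 10, [nat_lit 0x900030001]), (nat_lit 20, [nat_lit 0xf30000001b000900030001])]⟩,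
  ⟨[nat_lit 96, nat_lit 95, nat_lit 93, nat_lit 91], [], [nat_lit 0x23d1177023d08ea023d55cd023d5511023d0943023d5626023d4ce3023d088b023d0000, nat_lit 0, nat_lit 0, nat_lit 0], nat_lit 4374, nat_lit 0, [(nat_lit 1, [nat_lit 1]), (nat_lit 10, [nat_lit 0x900030001]), (nat_lit 20, [nat_lit 0xf30000001b000900030001])]⟩,
  ⟨[nat_lit 99, nat_lit 96, nat_lit 95, nat_lit 91], [], [nat_lit 0x23ea251023e99c6023eaadc023e4ce3023e5df9023e556e023e1116023e088b023e0000, nat_lit 0, nat_lit 0, nat_lit 0], nat_lit 4374, nat_lit 0, [(nat_lit 1, [nat_lit 1]), (nat_lit 10, [nat_lit 0x900030001]), (nat_lit 20, [nat_lit 0xf30000001b000900030001])]⟩,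
  ⟨[nat_lit 95, nat_lit 94, nat_lit 93, nat_lit 91], [], [nat_lit 0x23f5511023f5141023f0000, nat_lit 0x24255110241514102440000024251410241551102430000024200000241000002400000, nat_lit 0, nat_lit 0, nat_lit 0, nat_lit 0], nat_lit 4374, nat_lit 1, []⟩,
  ⟨[nat_lit 96, nat_lit 95, nat_lit 93, nat_lit 91], [], [nat_lit 0x2459e24024551410245045e02455626024509430245a309024599c602454ce302450000, nat_lit 0, nat_lit 0, nat_lit 0], nat_lit 4374, nat_lit 0, [(nat_lit 1, [nat_lit 1]), (nat_lit 10, [nat_lit 0x900030001]), (nat_lit 20, [nat_lit 0xf30000001b000900030001])]⟩]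
theorem cc6 : (Nat.beq (lst ndF cl6 129) 0 && Nat.beq (129 + cl6.length) 177) = true := by
  decide +kernel
noncomputable def cl7 : List Nd := [
  ⟨[nat_lit 96, nat_lit 95, nat_lit 93, nat_lit 91], [], [nat_lit 0x24655cd024608ea0246a2b002469e24024651410246045e024699c602464ce302460000, nat_lit 0, nat_lit 0, nat_lit 0], nat_lit 4374, nat_lit 0, [(nat_lit 1, [nat_lit 1]), (nat_lit 10, [nat_lit 0x900030001]), (nat_lit 20, [nat_lit 0xf30000001b000900030001])]⟩,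
  ⟨[nat_lit 99, nat_lit 96, nat_lit 95, nat_lit 91], [], [nat_lit 0x24799c60247aadc0247a2510247556e02474ce302475df9024711160247088b02470000, nat_lit 0, nat_lit 0, nat_lit 0], nat_lit 4374, nat_lit 0, [(nat_lit 1, [nat_lit 1]), (nat_lit 10, [nat_lit 0x900030001]), (nat_lit 20, [nat_lit 0xf30000001b000900030001])]⟩,
  ⟨[nat_lit 94, nat_lit 93, nat_lit 91], [], [nat_lit 0x24f0000024e0000024d0000024c0000024b0000024a0000024900000248000000060000, nat_lit 0, nat_lit 0, nat_lit 0x2569c9802589c9802579c9802539c9802559c9802549c9802509c9802529c9802519c9802579ba302569ba302589ba302549ba302539ba302559ba302519ba302509ba302529ba3025800000257000002560000025500000254000002530000025200000251000002500000, nat_lit 0], nat_lit 486, nat_lit 0, [(nat_lit 1, [nat_lit 0x900000001]), (nat_lit 10, [nat_lit 0x88b000000000000001b000900030001])]⟩,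
  ⟨[nat_lit 97, nat_lit 94, nat_lit 93, nat_lit 91], [], [nat_lit 0x261000002600000025f0000025e0000025d0000025c0000025b0000025a000002590000, nat_lit 0, nat_lit 0, nat_lit 0, nat_lit 0], nat_lit 486, nat_lit 1, []⟩,
  ⟨[nat_lit 97, nat_lit 94, nat_lit 93, nat_lit 91], [], [nat_lit 0x26a00000269000002680000026700000266000002650000026400000263000002620000, nat_lit 0, nat_lit 0, nat_lit 0, nat_lit 0], nat_lit 486, nat_lit 1, []⟩,
  ⟨[nat_lit 95, nat_lit 93, nat_lit 91], [], [nat_lit 0x26d59dc026c5945026b5141026d5d39026ca15d026b5511026d08ea026c08ea026b08ea026d5945026c5141026b59dc026d5511026c5d39026ba15d026d0943026c0943026b0943026d5141026c59dc026b5945026da15d026c5511026b5d39026d0000026c0000026b0000, nat_lit 0, nat_lit 0, nat_lit 0], nat_lit 81, nat_lit 0, [(nat_lit 100, []), (nat_lit 2, [nat_lit 0x88b000000f30000001b000900030001])]⟩,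
  ⟨[nat_lit 95, nat_lit 93, nat_lit 91], [], [nat_lit 0, nat_lit 0, nat_lit 0x27408ea027608ea027508ea027108ea027308ea027208ea026e08ea027008ea026f08ea027509430274094302760943027209430271094302730943026f0943026e09430270094302760000027500000274000002730000027200000271000002700000026f0000026e0000, nat_lit 0], nat_lit 81, nat_lit 0, [(nat_lit 100, []), (nat_lit 2, [nat_lit 0x88b000000000000001b000900030001])]⟩,
  ⟨[nat_lit 95, nat_lit 93, nat_lit 91], [], [nat_lit 0, nat_lit 0, nat_lit 0x27e0943027d0943027f0943027b0943027a0943027c0943027809430277094302790943027d08ea027f08ea027e08ea027a08ea027c08ea027b08ea027708ea027908ea027808ea027f0000027e0000027d0000027c0000027b0000027a0000027900000278000002770000, nat_lit 0], nat_lit 81, nat_lit 0, [(nat_lit 100, []), (nat_lit 2, [nat_lit 0x88b000000000000001b000900030001])]⟩,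
  ⟨[nat_lit 97, nat_lit 95, nat_lit 93, nat_lit 91], [], [nat_lit 0, nat_lit 0, nat_lit 0, nat_lit 0], nat_lit 81, nat_lit 1, []⟩,
  ⟨[nat_lit 97, nat_lit 95, nat_lit 93, nat_lit 91], [], [nat_lit 0, nat_lit 0, nat_lit 0, nat_lit 0], nat_lit 81, nat_lit 1, []⟩,
  ⟨[nat_lit 97, nat_lit 95, nat_lit 93, nat_lit 91], [], [nat_lit 0, nat_lit 0, nat_lit 0, nat_lit 0], nat_lit 81, nat_lit 1, []⟩,
  ⟨[nat_lit 97, nat_lit 95, nat_lit 93, nat_lit 91], [], [nat_lit 0, nat_lit 0, nat_lit 0, nat_lit 0], nat_lit 81, nat_lit 1, []⟩,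
  ⟨[nat_lit 97, nat_lit 95, nat_lit 93, nat_lit 91], [], [nat_lit 0, nat_lit 0, nat_lit 0, nat_lit 0], nat_lit 81, nat_lit 1, []⟩,
  ⟨[nat_lit 97, nat_lit 95, nat_lit 93, nat_lit 91], [], [nat_lit 0, nat_lit 0, nat_lit 0, nat_lit 0], nat_lit 81, nat_lit 1, []⟩,
  ⟨[nat_lit 99, nat_lit 97, nat_lit 95], [], [nat_lit 0x2829e2402815141028059dc028255110281a1f402805dad028299c6028199c6028099c602825141028159dc02809e2402825dad028155110280a1f402824ce302814ce302804ce3028259dc02819e24028051410282a1f402815dad02805511028200000281000002800000, nat_lit 0, nat_lit 0, nat_lit 0], nat_lit 81, nat_lit 0, [(nat_lit 100, []), (nat_lit 2, [nat_lit 0x88b000000f30000001b000900030001])]⟩,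
  ⟨[nat_lit 99, nat_lit 97, nat_lit 95, nat_lit 91], [], [nat_lit 0, nat_lit 0, nat_lit 0, nat_lit 0], nat_lit 81, nat_lit 1, []⟩,
  ⟨[nat_lit 99, nat_lit 97, nat_lit 95, nat_lit 91], [], [nat_lit 0, nat_lit 0, nat_lit 0, nat_lit 0], nat_lit 81, nat_lit 1, []⟩,
  ⟨[nat_lit 99, nat_lit 97], [], [nat_lit 0x285514102849e24028359450285a1f4028455110283a15d02854ce302844ce302834ce302859e2402845945028351410285a15d0284a1f402835511028599c6028499c6028399c6028559450284514102839e24028555110284a15d0283a1f4028500000284000002830000, nat_lit 0, nat_lit 0x28e4ce3028ea15d028b594502865511028d99c6028b5141028d9e2402869e24028b9e24028b4ce3028ba15d02885945028c5945028a99c602885141028a9e24028c99c602889e2402884ce30288a15d028e594502895945028799c6028e514102879e24028999c6028e9e24028d5945028d4ce3028aa15d028e99c602865141028a55110286a1f4028ea1f4028aa1f4028a5945028a4ce30287a15d028b99c6028c4ce302875511028c5141028ba1f40287a1f40287594502874ce3028da15d028899c602894ce3028d5511028951410288a1f4028da1f40286a15d02865945028ca1f4028d5141028e5511028ca15d028e0000028d0000028c5511028c9e24028c00000289a1f4028a5141028b55110289a15d028b0000028a00000289551102899e240289000002864ce30287514102885511028699c6028800000287000002860000,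 nat_lit 0], nat_lit 81, nat_lit 0, [(nat_lit 200, [nat_lit 1, nat_lit 3, nat_lit 9, nat_lit 27, nat_lit 2187])]⟩,
  ⟨[nat_lit 99, nat_lit 97, nat_lit 95, nat_lit 75], [], [nat_lit 0, nat_lit 0, nat_lit 0, nat_lit 0], nat_lit 81, nat_lit 1, []⟩]
theorem cc7 : (Nat.beq (lst ndF cl7 177) 0 && Nat.beq (177 + cl7.length) 196) = true := by
  decide +kernel
noncomputable def cl8 : List Nd := [
  ⟨[nat_lit 99, nat_lit 97, nat_lit 95, nat_lit 75], [], [nat_lit 0, nat_lit 0, nat_lit 0, nat_lit 0], nat_lit 81, nat_lit 1, []⟩,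
  ⟨[nat_lit 97, nat_lit 95, nat_lit 93, nat_lit 91], [], [nat_lit 0x28f5141028f5511028f59a4028f9f6f028f0943028f9c98028f1116028f088b028f0000, nat_lit 0, nat_lit 0, nat_lit 0], nat_lit 81, nat_lit 0, [(nat_lit 1, [nat_lit 1]), (nat_lit 10, [nat_lit 0x900030001]), (nat_lit 20, [nat_lit 0xf30000001b000900030001])]⟩,
  ⟨[nat_lit 97, nat_lit 95, nat_lit 93, nat_lit 91], [], [nat_lit 0x2909f6f029008ea029059dc02905d770290551102909c98029011160290088b02900000, nat_lit 0, nat_lit 0, nat_lit 0], nat_lit 81, nat_lit 0, [(nat_lit 1, [nat_lit 1]), (nat_lit 10, [nat_lit 0x900030001]), (nat_lit 20, [nat_lit 0xf30000001b000900030001])]⟩,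
  ⟨[nat_lit 97, nat_lit 95, nat_lit 93, nat_lit 91], [], [nat_lit 0x2911177029108ea02915945029151410291094302919c98029111160291088b02910000, nat_lit 0, nat_lit 0, nat_lit 0], nat_lit 81, nat_lit 0, [(nat_lit 1, [nat_lit 1]), (nat_lit 10, [nat_lit 0x900030001]), (nat_lit 20, [nat_lit 0xf30000001b000900030001])]⟩,
  ⟨[nat_lit 99, nat_lit 97, nat_lit 95, nat_lit 91], [], [nat_lit 0x292aadc0292a251029299c602925df90292556e02924ce3029211160292088b02920000, nat_lit 0, nat_lit 0, nat_lit 0], nat_lit 81, nat_lit 0, [(nat_lit 1, [nat_lit 1]), (nat_lit 10, [nat_lit 0x900030001]), (nat_lit 20, [nat_lit 0xf30000001b000900030001])]⟩,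
  ⟨[nat_lit 99, nat_lit 97, nat_lit 95, nat_lit 91], [], [nat_lit 0x293aadc0293a251029399c602935df90293556e02934ce3029311160293088b02930000, nat_lit 0, nat_lit 0, nat_lit 0], nat_lit 81, nat_lit 0, [(nat_lit 1, [nat_lit 1]), (nat_lit 10, [nat_lit 0x900030001]), (nat_lit 20, [nat_lit 0xf30000001b000900030001])]⟩,
  ⟨[nat_lit 99, nat_lit 97, nat_lit 95, nat_lit 91], [], [nat_lit 0x294aadc0294a251029499c602945df90294556e02944ce3029411160294088b02940000, nat_lit 0, nat_lit 0, nat_lit 0], nat_lit 81, nat_lit 0, [(nat_lit 1, [nat_lit 1]), (nat_lit 10, [nat_lit 0x900030001]), (nat_lit 20, [nat_lit 0xf30000001b000900030001])]⟩,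
  ⟨[nat_lit 99, nat_lit 97, nat_lit 91, nat_lit 73], [], [nat_lit 0x2955df90295556e02954ce30295aadc0295a251029599c6029511160295088b02950000, nat_lit 0, nat_lit 0, nat_lit 0], nat_lit 81, nat_lit 0, [(nat_lit 1, [nat_lit 1]), (nat_lit 10, [nat_lit 0x900030001]), (nat_lit 20, [nat_lit 0xf30000001b000900030001])]⟩,
  ⟨[nat_lit 99, nat_lit 97, nat_lit 95, nat_lit 75], [], [nat_lit 0x2965df90296556e02964ce30296aadc0296a251029699c6029611160296088b02960000, nat_lit 0, nat_lit 0, nat_lit 0], nat_lit 81, nat_lit 0, [(nat_lit 1, [nat_lit 1]), (nat_lit 10, [nat_lit 0x900030001]), (nat_lit 20, [nat_lit 0xf30000001b000900030001])]⟩,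
  ⟨[nat_lit 99, nat_lit 97, nat_lit 95, nat_lit 75], [], [nat_lit 0x2975df90297556e02974ce30297aadc0297a251029799c6029711160297088b02970000, nat_lit 0, nat_lit 0, nat_lit 0], nat_lit 81, nat_lit 0, [(nat_lit 1, [nat_lit 1]), (nat_lit 10, [nat_lit 0x900030001]), (nat_lit 20, [nat_lit 0xf30000001b000900030001])]⟩,
  ⟨[nat_lit 97, nat_lit 95, nat_lit 93, nat_lit 91], [], [nat_lit 0x29851410298551102985d77029809430298a15d02989c980298088b0298111602980000, nat_lit 0, nat_lit 0, nat_lit 0], nat_lit 81, nat_lit 0, [(nat_lit 1, [nat_lit 1]), (nat_lit 10, [nat_lit 0x900030001]), (nat_lit 20, [nat_lit 0xf30000001b000900030001])]⟩]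
theorem cc8 : (Nat.beq (lst ndF cl8 196) 0 && Nat.beq (196 + cl8.length) 207) = true := by
  decide +kernel
noncomputable def cl9 : List Nd := [
  ⟨[nat_lit 97, nat_lit 95, nat_lit 93, nat_lit 91], [], [nat_lit 0x29908ea0299a15d02995dad02995141029959a402999c980299088b0299111602990000, nat_lit 0, nat_lit 0, nat_lit 0], nat_lit 81, nat_lit 0, [(nat_lit 1, [nat_lit 1]), (nat_lit 10, [nat_lit 0x900030001]), (nat_lit 20, [nat_lit 0xf30000001b000900030001])]⟩,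
  ⟨[nat_lit 97, nat_lit 95, nat_lit 93, nat_lit 91], [], [nat_lit 0x29a08ea029a59dc029a5d39029a0943029a5511029a9c98029a088b029a1116029a0000, nat_lit 0, nat_lit 0, nat_lit 0], nat_lit 81, nat_lit 0, [(nat_lit 1, [nat_lit 1]), (nat_lit 10, [nat_lit 0x900030001]), (nat_lit 20, [nat_lit 0xf30000001b000900030001])]⟩,
  ⟨[nat_lit 99, nat_lit 97, nat_lit 95, nat_lit 91], [], [nat_lit 0x29ba251029baadc029b99c6029b556e029b5df9029b4ce3029b088b029b1116029b0000, nat_lit 0, nat_lit 0, nat_lit 0], nat_lit 81, nat_lit 0, [(nat_lit 1, [nat_lit 1]), (nat_lit 10, [nat_lit 0x900030001]), (nat_lit 20, [nat_lit 0xf30000001b000900030001])]⟩,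
  ⟨[nat_lit 99, nat_lit 97, nat_lit 95, nat_lit 91], [], [nat_lit 0x29ca251029caadc029c99c6029c556e029c5df9029c4ce3029c088b029c1116029c0000, nat_lit 0, nat_lit 0, nat_lit 0], nat_lit 81, nat_lit 0, [(nat_lit 1, [nat_lit 1]), (nat_lit 10, [nat_lit 0x900030001]), (nat_lit 20, [nat_lit 0xf30000001b000900030001])]⟩,
  ⟨[nat_lit 99, nat_lit 97, nat_lit 95, nat_lit 91], [], [nat_lit 0x29da251029daadc029d99c6029d556e029d5df9029d4ce3029d088b029d1116029d0000, nat_lit 0, nat_lit 0, nat_lit 0], nat_lit 81, nat_lit 0, [(nat_lit 1, [nat_lit 1]), (nat_lit 10, [nat_lit 0x900030001]), (nat_lit 20, [nat_lit 0xf30000001b000900030001])]⟩,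
  ⟨[nat_lit 99, nat_lit 97, nat_lit 91, nat_lit 77], [], [nat_lit 0x29e556e029e5df9029e4ce3029ea251029eaadc029e99c6029e088b029e1116029e0000, nat_lit 0, nat_lit 0, nat_lit 0], nat_lit 81, nat_lit 0, [(nat_lit 200, [nat_lit 1, nat_lit 3, nat_lit 9, nat_lit 27])]⟩,
  ⟨[nat_lit 99, nat_lit 97, nat_lit 95, nat_lit 77], [], [nat_lit 0x29f556e029f5df9029f4ce3029fa251029faadc029f99c6029f088b029f1116029f0000, nat_lit 0, nat_lit 0, nat_lit 0], nat_lit 81, nat_lit 0, [(nat_lit 1, [nat_lit 1]), (nat_lit 10, [nat_lit 0x900030001]), (nat_lit 20, [nat_lit 0xf30000001b000900030001])]⟩,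
  ⟨[nat_lit 99, nat_lit 97, nat_lit 95, nat_lit 77], [], [nat_lit 0x2a0556e02a05df902a04ce302a0a25102a0aadc02a099c602a0088b02a0111602a00000, nat_lit 0, nat_lit 0, nat_lit 0], nat_lit 81, nat_lit 0, [(nat_lit 1, [nat_lit 1]), (nat_lit 10, [nat_lit 0x900030001]), (nat_lit 20, [nat_lit 0xf30000001b000900030001])]⟩]
theorem cc9 : (Nat.beq (lst ndF cl9 207) 0 && Nat.beq (207 + cl9.length) 215) = true := by
  decide +kernel
noncomputable def cl10 : List Nd := [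
  ⟨[nat_lit 87], [nat_lit 90, nat_lit 3], [nat_lit 0, nat_lit 0], nat_lit 36, nat_lit 0, [(nat_lit 1, [nat_lit 0x5a0000000000030001])]⟩,
  ⟨[nat_lit 87], [nat_lit 90, nat_lit 3], [nat_lit 0, nat_lit 0], nat_lit 9, nat_lit 0, [(nat_lit 1, [nat_lit 0x5a0000000000030001])]⟩,
  ⟨[nat_lit 87], [nat_lit 90, nat_lit 3], [nat_lit 0, nat_lit 0], nat_lit 9, nat_lit 0, [(nat_lit 1, [nat_lit 0x5a0000000000030001])]⟩,
  ⟨[nat_lit 87], [nat_lit 90, nat_lit 3], [nat_lit 0, nat_lit 0], nat_lit 9, nat_lit 0, [(nat_lit 1, [nat_lit 0x5a0000000000030001])]⟩,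
  ⟨[nat_lit 87], [nat_lit 90, nat_lit 3], [nat_lit 0, nat_lit 0], nat_lit 9, nat_lit 0, [(nat_lit 1, [nat_lit 0x5a0000000000030001])]⟩,
  ⟨[nat_lit 87], [nat_lit 90, nat_lit 3], [nat_lit 0, nat_lit 0], nat_lit 36, nat_lit 0, [(nat_lit 1, [nat_lit 0x5a0000000000030001])]⟩,
  ⟨[nat_lit 87], [nat_lit 90, nat_lit 1], [nat_lit 0, nat_lit 0], nat_lit 9, nat_lit 0, [(nat_lit 1, [nat_lit 0x5a0000000000030001])]⟩,
  ⟨[nat_lit 87], [nat_lit 90, nat_lit 1], [nat_lit 0, nat_lit 0], nat_lit 9, nat_lit 0, [(nat_lit 1, [nat_lit 0x5a0000000000030001])]⟩,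
  ⟨[nat_lit 99, nat_lit 95, nat_lit 94, nat_lit 93, nat_lit 92], [], [nat_lit 0, nat_lit 0x2a1111602a1088b02a10000, nat_lit 0, nat_lit 0, nat_lit 0, nat_lit 0], nat_lit 3645, nat_lit 1, []⟩,
  ⟨[nat_lit 99, nat_lit 95, nat_lit 94, nat_lit 93, nat_lit 91], [], [nat_lit 0, nat_lit 0x2a2668402a2088b02a20000, nat_lit 0, nat_lit 0, nat_lit 0, nat_lit 0], nat_lit 5103, nat_lit 1, []⟩,
  ⟨[nat_lit 99, nat_lit 95, nat_lit 94, nat_lit 93, nat_lit 92], [], [nat_lit 0, nat_lit 0x2a36b0d02a3088b02a30000, nat_lit 0, nat_lit 0, nat_lit 0, nat_lit 0], nat_lit 3645, nat_lit 1, []⟩,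
  ⟨[nat_lit 99, nat_lit 97, nat_lit 93, nat_lit 92, nat_lit 91], [], [nat_lit 0, nat_lit 0, nat_lit 0, nat_lit 0], nat_lit 81, nat_lit 1, []⟩,
  ⟨[nat_lit 99, nat_lit 97, nat_lit 93, nat_lit 92, nat_lit 91], [], [nat_lit 0, nat_lit 0, nat_lit 0, nat_lit 0], nat_lit 81, nat_lit 1, []⟩,
  ⟨[nat_lit 99, nat_lit 97, nat_lit 92, nat_lit 91], [], [nat_lit 0x2a67b8a02a57b8a02a47b8a02a67bf402a57bf402a47bf402a6000002a5000002a40000, nat_lit 0, nat_lit 0, nat_lit 0], nat_lit 81, nat_lit 0, [(nat_lit 100, []), (nat_lit 12, [nat_lit 1]), (nat_lit 10, [nat_lit 0xedf000001440000001b000900030001])]⟩,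
  ⟨[nat_lit 99, nat_lit 95, nat_lit 94, nat_lit 93, nat_lit 91], [], [nat_lit 0, nat_lit 0x2a7088b02a7111602a70000, nat_lit 0, nat_lit 0, nat_lit 0, nat_lit 0], nat_lit 5103, nat_lit 1, []⟩,
  ⟨[nat_lit 99, nat_lit 95, nat_lit 94, nat_lit 93, nat_lit 92], [], [nat_lit 0, nat_lit 0x2a8088b02a8111602a80000, nat_lit 0, nat_lit 0, nat_lit 0, nat_lit 0], nat_lit 5103, nat_lit 1, []⟩,
  ⟨[nat_lit 99, nat_lit 95, nat_lit 94, nat_lit 93, nat_lit 92], [], [nat_lit 0, nat_lit 0x2a9088b02a9111602a90000, nat_lit 0, nat_lit 0, nat_lit 0, nat_lit 0], nat_lit 3645, nat_lit 1, []⟩,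
  ⟨[nat_lit 99, nat_lit 97, nat_lit 93, nat_lit 92, nat_lit 91], [], [nat_lit 0, nat_lit 0, nat_lit 0, nat_lit 0], nat_lit 81, nat_lit 1, []⟩,
  ⟨[nat_lit 99, nat_lit 97, nat_lit 93, nat_lit 92], [], [nat_lit 0x2ac907402ab907402aa907402acc03e02abc03e02aac03e02ac000002ab000002aa0000, nat_lit 0, nat_lit 0, nat_lit 0], nat_lit 81, nat_lit 0, [(nat_lit 100, []), (nat_lit 12, [nat_lit 1]), (nat_lit 10, [nat_lit 0xe8e000001950000001b000900030001])]⟩,
  ⟨[nat_lit 99, nat_lit 97, nat_lit 93, nat_lit 92, nat_lit 91], [], [nat_lit 0, nat_lit 0, nat_lit 0, nat_lit 0], nat_lit 81, nat_lit 1, []⟩,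
  ⟨[nat_lit 55, nat_lit 54], [nat_lit 9], [nat_lit 0x70000, nat_lit 0x2af000002ae000002ad0000, nat_lit 0x2b0b36702b0668402b019a102b0cd0802b0802502b0334202b099c602b04ce302b00000, nat_lit 0, nat_lit 0, nat_lit 0], nat_lit 3645, nat_lit 1, []⟩,
  ⟨[nat_lit 66, nat_lit 64], [nat_lit 99], [nat_lit 0, nat_lit 0x2b1111602b1088b02b10000, nat_lit 0x2b4111602b3088b02b21e2a02b4088b02b3111602b23b9f02b4000002b3000002b20000, nat_lit 0, nat_lit 0], nat_lit 13122, nat_lit 0, [(nat_lit 1, [nat_lit 0x630000000000030001])]⟩,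
  ⟨[nat_lit 66, nat_lit 65, nat_lit 62], [], [nat_lit 0x2b74ce302b699c602b5111602b7088b02b64ce302b5088b02b7000002b6000002b50000, nat_lit 0, nat_lit 0, nat_lit 0], nat_lit 81, nat_lit 1, []⟩,
  ⟨[nat_lit 66, nat_lit 65, nat_lit 62], [], [nat_lit 0x2b888b002b8bbf202b8111602b8802502b8b36702b8088b02b8913b02b8c47d02b80000, nat_lit 0, nat_lit 0, nat_lit 0], nat_lit 81, nat_lit 1, []⟩,
  ⟨[nat_lit 66, nat_lit 65, nat_lit 62], [], [nat_lit 0x2b9cd0802b9668402b9111602b9de1e02b9779a02b9088b02b9d59302b96f0f02b90000, nat_lit 0, nat_lit 0, nat_lit 0], nat_lit 81, nat_lit 1, []⟩,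
  ⟨[nat_lit 66, nat_lit 65, nat_lit 64], [], [nat_lit 0, nat_lit 0, nat_lit 0], nat_lit 27, nat_lit 1, []⟩,
  ⟨[nat_lit 74], [nat_lit 27, nat_lit 9, nat_lit 3], [nat_lit 0x819a10008334200080000, nat_lit 0, nat_lit 0, nat_lit 0, nat_lit 0], nat_lit 486, nat_lit 0, [(nat_lit 1, [nat_lit 0x1b000900030001])]⟩,
  ⟨[nat_lit 77, nat_lit 74], [nat_lit 9], [nat_lit 0x2ba19a102ba334202ba0000, nat_lit 0x2bbba7e02bb6b0d02bb19a102bbb36702bb888202bb334202bb99c602bb4ce302bb0000, nat_lit 0, nat_lit 0, nat_lit 0], nat_lit 243, nat_lit 0, [(nat_lit 1, [nat_lit 0x900030001])]⟩,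
  ⟨[nat_lit 77, nat_lit 74], [nat_lit 9], [nat_lit 0x2bc19a102bc334202bc0000, nat_lit 0x2bdb7f002bd668402bd334202bdba7e02bd6b0d02bd19a102bd99c602bd4ce302bd0000, nat_lit 0, nat_lit 0, nat_lit 0], nat_lit 486, nat_lit 0, [(nat_lit 1, [nat_lit 0x900030001])]⟩,
  ⟨[nat_lit 75, nat_lit 55], [nat_lit 3], [nat_lit 0x2c0514102bf514102be514102c0551102bf551102be551102c0000002bf000002be0000, nat_lit 0, nat_lit 0, nat_lit 0], nat_lit 39447, nat_lit 1, []⟩,
  ⟨[nat_lit 75, nat_lit 55], [nat_lit 3], [nat_lit 0x2c19e2402c1514102c1045e02c1a1f402c1551102c1082e02c199c602c14ce302c10000, nat_lit 0, nat_lit 0, nat_lit 0], nat_lit 81, nat_lit 0, [(nat_lit 1, [nat_lit 0x900030001])]⟩,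
  ⟨[nat_lit 75, nat_lit 55], [nat_lit 3], [nat_lit 0x2c2514102c29e2402c2045e02c2551102c2a1f402c2082e02c24ce302c299c602c20000, nat_lit 0, nat_lit 0, nat_lit 0], nat_lit 81, nat_lit 0, [(nat_lit 1, [nat_lit 0x900030001])]⟩,
  ⟨[nat_lit 75, nat_lit 74, nat_lit 54], [], [nat_lit 0, nat_lit 0, nat_lit 0], nat_lit 27, nat_lit 1, []⟩,
  ⟨[nat_lit 74, nat_lit 73], [nat_lit 90], [nat_lit 0, nat_lit 0x2c3111602c3088b02c30000, nat_lit 0x2c6334202c5088b02c4334202c619a102c519a102c419a102c6000002c5000002c40000, nat_lit 0, nat_lit 0], nat_lit 7047, nat_lit 1, []⟩,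
  ⟨[nat_lit 75, nat_lit 73, nat_lit 72], [], [nat_lit 0x2c76b0d02c7840a02c7111602c7222c02c7888202c7088b02c719a102c7334202c70000, nat_lit 0, nat_lit 0, nat_lit 0], nat_lit 81, nat_lit 1, []⟩,
  ⟨[nat_lit 75, nat_lit 73, nat_lit 72], [], [nat_lit 0x2c82ab702c8445802c8111602c8222c02c83bcd02c8088b02c819a102c8334202c80000, nat_lit 0, nat_lit 0, nat_lit 0], nat_lit 81, nat_lit 1, []⟩,
  ⟨[nat_lit 75, nat_lit 73, nat_lit 72], [], [nat_lit 0x2c92ab702c9445802c9111602c9222c02c93bcd02c9088b02c919a102c9334202c90000, nat_lit 0, nat_lit 0, nat_lit 0], nat_lit 81, nat_lit 1, []⟩,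
  ⟨[nat_lit 75, nat_lit 73, nat_lit 72], [], [nat_lit 0x2cab36702ca888202ca99c602ca668402ca802502ca4ce302ca19a102ca334202ca0000, nat_lit 0, nat_lit 0, nat_lit 0], nat_lit 81, nat_lit 1, []⟩,
  ⟨[nat_lit 75, nat_lit 73, nat_lit 72], [], [nat_lit 0x2cb668402cb802502cb4ce302cb6b0d02cb840a02cb088b02cb19a102cb334202cb0000, nat_lit 0, nat_lit 0, nat_lit 0], nat_lit 81, nat_lit 1, []⟩,
  ⟨[nat_lit 75, nat_lit 74, nat_lit 54], [], [nat_lit 0, nat_lit 0, nat_lit 0], nat_lit 27, nat_lit 1, []⟩,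
  ⟨[nat_lit 77, nat_lit 72], [nat_lit 81], [nat_lit 0, nat_lit 0x2cc088b02cc111602cc0000, nat_lit 0x2cf088b02ce111602d1000002cf111602ce088b02d0000002cf000002ce000002cd0000, nat_lit 0, nat_lit 0], nat_lit 486, nat_lit 1, []⟩,
  ⟨[nat_lit 77, nat_lit 75], [], [nat_lit 0x2d4088b02d34ce302d2088b02d44ce302d399c602d2111602d4000002d3000002d20000, nat_lit 0x2d55df902d6111602d7aadc02d7088b02d7556e02d7a25102d699c602d599c602d799c602d7111602d5aadc02d65df902d6a25102d6088b02d6556e02d54ce302d74ce302d64ce302d6aadc02d75df902d5111602d5556e02d5a25102d5088b02d7000002d6000002d50000, nat_lit 0, nat_lit 0], nat_lit 81, nat_lit 1, []⟩,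
  ⟨[nat_lit 77, nat_lit 75], [], [nat_lit 0x2da088b02d9088b02d8088b02da111602d9668402d86b0d02da000002d9000002d80000, nat_lit 0x2dd088b02dbd0ed02dc668402db668402dd73c202dc73c202dcd0ed02dc111602dc6b0d02db6b0d02dc088b02ddcd0802dcd56502dbcd0802ddd56502dd111602dd6b0d02ddd0ed02dccd0802dd668402db111602dd000002dc000002db088b02db73c202dbd56502db0000, nat_lit 0, nat_lit 0], nat_lit 81, nat_lit 1, []⟩,
  ⟨[nat_lit 77, nat_lit 75], [], [nat_lit 0x2e0088b02df088b02de088b02e0111602df111602de111602e0000002df000002de0000, nat_lit 0x2e2b36702e2111602e2802502e3088b02e1ba7e02e2888202e1840a02e3840a02e2840a02e3111602e3802502e3b36702e1888202e2088b02e3ba7e02e2b7f002e1b7f002e3b7f002e1802502e1b36702e1111602e2ba7e02e3888202e1088b02e3000002e2000002e10000, nat_lit 0, nat_lit 0], nat_lit 81, nat_lit 1, []⟩,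
  ⟨[nat_lit 77, nat_lit 75], [], [nat_lit 0x2fe000002fd000002fc000002fb000002fa000002f9000002f8000002f7000002f6000002f5000002f4000002f3000002f2000002f1000002f0000002ef000002ee000002ed000002ec000002eb000002ea000002e9000002e8000002e7000002e6000002e5000002e40000, nat_lit 0, nat_lit 0], nat_lit 27, nat_lit 1, []⟩,
  ⟨[nat_lit 77, nat_lit 75], [], [nat_lit 0, nat_lit 0], nat_lit 18, nat_lit 1, []⟩,
  ⟨[nat_lit 77, nat_lit 75], [], [nat_lit 0, nat_lit 0], nat_lit 18, nat_lit 1, []⟩,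
  ⟨[nat_lit 77, nat_lit 75], [], [nat_lit 0, nat_lit 0], nat_lit 18, nat_lit 1, []⟩,
  ⟨[nat_lit 77, nat_lit 75], [], [nat_lit 0, nat_lit 0], nat_lit 18, nat_lit 1, []⟩,
  ⟨[nat_lit 77, nat_lit 75], [], [nat_lit 0, nat_lit 0], nat_lit 18, nat_lit 1, []⟩,
  ⟨[nat_lit 76, nat_lit 66, nat_lit 62], [], [nat_lit 0, nat_lit 0x2ff045e0301045e0300045e0300082e02ff082e0301082e030100000300000002ff0000, nat_lit 0, nat_lit 0], nat_lit 81, nat_lit 1, []⟩,
  ⟨[nat_lit 76, nat_lit 66, nat_lit 62], [], [nat_lit 0, nat_lit 0x302045e0304045e0303045e0303082e0302082e0304082e030400000303000003020000, nat_lit 0, nat_lit 0], nat_lit 81, nat_lit 1, []⟩,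
  ⟨[nat_lit 76, nat_lit 66, nat_lit 62], [], [nat_lit 0, nat_lit 0x305045e0307045e0306045e0306082e0305082e0307082e030700000306000003050000, nat_lit 0, nat_lit 0], nat_lit 81, nat_lit 1, []⟩,
  ⟨[nat_lit 76, nat_lit 74, nat_lit 66], [], [nat_lit 0, nat_lit 0], nat_lit 9, nat_lit 1, []⟩,
  ⟨[nat_lit 76, nat_lit 74, nat_lit 66], [], [nat_lit 0, nat_lit 0], nat_lit 9, nat_lit 1, []⟩,
  ⟨[nat_lit 76, nat_lit 74, nat_lit 66], [], [nat_lit 0, nat_lit 0], nat_lit 9, nat_lit 1, []⟩,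
  ⟨[nat_lit 76, nat_lit 74, nat_lit 66], [], [nat_lit 0, nat_lit 0], nat_lit 9, nat_lit 1, []⟩,
  ⟨[nat_lit 76, nat_lit 74, nat_lit 66], [], [nat_lit 0, nat_lit 0], nat_lit 9, nat_lit 1, []⟩,
  ⟨[nat_lit 77, nat_lit 76, nat_lit 66], [], [nat_lit 0, nat_lit 0x3081116030a1116030911160309088b0308088b030a088b030a00000309000003080000, nat_lit 0, nat_lit 0], nat_lit 81, nat_lit 1, []⟩,
  ⟨[nat_lit 77, nat_lit 76, nat_lit 66], [], [nat_lit 0, nat_lit 0x30b1116030d1116030c1116030c088b030b088b030d088b030d0000030c0000030b0000, nat_lit 0, nat_lit 0], nat_lit 81, nat_lit 1, []⟩,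
  ⟨[nat_lit 77, nat_lit 76, nat_lit 66], [], [nat_lit 0, nat_lit 0x30e111603101116030f1116030f088b030e088b0310088b03100000030f0000030e0000, nat_lit 0, nat_lit 0], nat_lit 81, nat_lit 1, []⟩,
  ⟨[nat_lit 77, nat_lit 76, nat_lit 74], [], [nat_lit 0, nat_lit 0], nat_lit 9, nat_lit 1, []⟩,
  ⟨[nat_lit 77, nat_lit 76, nat_lit 74], [], [nat_lit 0, nat_lit 0], nat_lit 9, nat_lit 1, []⟩,
  ⟨[nat_lit 77, nat_lit 76, nat_lit 74], [], [nat_lit 0, nat_lit 0], nat_lit 9, nat_lit 1, []⟩,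
  ⟨[nat_lit 77, nat_lit 76, nat_lit 74], [], [nat_lit 0, nat_lit 0], nat_lit 9, nat_lit 1, []⟩,
  ⟨[nat_lit 77, nat_lit 76, nat_lit 74], [], [nat_lit 0, nat_lit 0], nat_lit 9, nat_lit 1, []⟩,
  ⟨[nat_lit 77, nat_lit 76, nat_lit 66], [], [nat_lit 0, nat_lit 0x311088b0313088b0312088b031211160311111603131116031300000312000003110000, nat_lit 0, nat_lit 0], nat_lit 81, nat_lit 1, []⟩,
  ⟨[nat_lit 77, nat_lit 76, nat_lit 66], [], [nat_lit 0, nat_lit 0x314088b0316088b0315088b031511160314111603161116031600000315000003140000, nat_lit 0, nat_lit 0], nat_lit 81, nat_lit 1, []⟩,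
  ⟨[nat_lit 77, nat_lit 76, nat_lit 66], [], [nat_lit 0, nat_lit 0x317088b0319088b0318088b031811160317111603191116031900000318000003170000, nat_lit 0, nat_lit 0], nat_lit 81, nat_lit 1, []⟩,
  ⟨[nat_lit 77, nat_lit 76, nat_lit 74], [], [nat_lit 0, nat_lit 0], nat_lit 9, nat_lit 1, []⟩,
  ⟨[nat_lit 77, nat_lit 76, nat_lit 74], [], [nat_lit 0, nat_lit 0], nat_lit 9, nat_lit 1, []⟩,
  ⟨[nat_lit 77, nat_lit 76, nat_lit 74], [], [nat_lit 0, nat_lit 0], nat_lit 9, nat_lit 1, []⟩,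
  ⟨[nat_lit 77, nat_lit 76, nat_lit 74], [], [nat_lit 0, nat_lit 0], nat_lit 9, nat_lit 1, []⟩,
  ⟨[nat_lit 77, nat_lit 76, nat_lit 74], [], [nat_lit 0, nat_lit 0], nat_lit 9, nat_lit 1, []⟩,
  ⟨[nat_lit 82], [nat_lit 81, nat_lit 27, nat_lit 1], [nat_lit 0, nat_lit 0, nat_lit 0x911160009088b00090000, nat_lit 0, nat_lit 0], nat_lit 3645, nat_lit 0, [(nat_lit 1, [nat_lit 0x51001b000000030001])]⟩,
  ⟨[nat_lit 88, nat_lit 84], [nat_lit 99], [nat_lit 0, nat_lit 0x31a19a1031a3342031a0000, nat_lit 0x31d19a1031c3342031b20b8031d3342031c19a1031b1e2a031d0000031c0000031b0000, nat_lit 0, nat_lit 0], nat_lit 4374, nat_lit 0, [(nat_lit 1, [nat_lit 0x630000000000030001])]⟩,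
  ⟨[nat_lit 84, nat_lit 83], [nat_lit 90], [nat_lit 0, nat_lit 0x31e3342031e19a1031e0000, nat_lit 0x321088b032019a1031f088b032119a103203342031f11160321000003200000031f0000, nat_lit 0, nat_lit 0], nat_lit 5832, nat_lit 1, []⟩,
  ⟨[nat_lit 85, nat_lit 82, nat_lit 55], [], [nat_lit 0, nat_lit 0x32226df032426df032326df032331f5032231f5032431f5032400000323000003220000, nat_lit 0, nat_lit 0], nat_lit 81, nat_lit 1, []⟩,
  ⟨[nat_lit 85, nat_lit 82, nat_lit 55], [], [nat_lit 0, nat_lit 0x32526df032726df032626df032631f5032531f5032731f5032700000326000003250000, nat_lit 0, nat_lit 0], nat_lit 81, nat_lit 1, []⟩,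
  ⟨[nat_lit 85, nat_lit 82, nat_lit 55], [], [nat_lit 0, nat_lit 0x32826df032a26df032926df032931f5032831f5032a31f5032a00000329000003280000, nat_lit 0, nat_lit 0], nat_lit 81, nat_lit 1, []⟩,
  ⟨[nat_lit 85, nat_lit 55, nat_lit 54], [], [nat_lit 0, nat_lit 0], nat_lit 9, nat_lit 1, []⟩,
  ⟨[nat_lit 85, nat_lit 84, nat_lit 55], [], [nat_lit 0, nat_lit 0], nat_lit 9, nat_lit 1, []⟩,
  ⟨[nat_lit 85, nat_lit 84, nat_lit 55], [], [nat_lit 0, nat_lit 0], nat_lit 9, nat_lit 1, []⟩,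
  ⟨[nat_lit 85, nat_lit 55, nat_lit 54], [], [nat_lit 0, nat_lit 0], nat_lit 9, nat_lit 1, []⟩,
  ⟨[nat_lit 85, nat_lit 55, nat_lit 54], [], [nat_lit 0, nat_lit 0], nat_lit 9, nat_lit 1, []⟩,
  ⟨[nat_lit 86, nat_lit 84, nat_lit 62], [], [nat_lit 0x3330000033200000331000003300000032f0000032e0000032d0000032c0000032b0000, nat_lit 0, nat_lit 0], nat_lit 27, nat_lit 1, []⟩,
  ⟨[nat_lit 86, nat_lit 84], [nat_lit 1], [nat_lit 0, nat_lit 0], nat_lit 9, nat_lit 0, [(nat_lit 1, [nat_lit 0x30001])]⟩,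
  ⟨[nat_lit 86, nat_lit 84, nat_lit 63], [], [nat_lit 0, nat_lit 0], nat_lit 9, nat_lit 1, []⟩,
  ⟨[nat_lit 86, nat_lit 84, nat_lit 63], [], [nat_lit 0, nat_lit 0], nat_lit 9, nat_lit 1, []⟩,
  ⟨[nat_lit 86, nat_lit 84, nat_lit 63], [], [nat_lit 0, nat_lit 0], nat_lit 9, nat_lit 1, []⟩,
  ⟨[nat_lit 86, nat_lit 84, nat_lit 63], [], [nat_lit 0, nat_lit 0], nat_lit 9, nat_lit 1, []⟩,
  ⟨[nat_lit 86, nat_lit 84, nat_lit 63], [], [nat_lit 0, nat_lit 0], nat_lit 9, nat_lit 1, []⟩,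
  ⟨[nat_lit 86, nat_lit 84, nat_lit 63], [], [nat_lit 0, nat_lit 0], nat_lit 9, nat_lit 1, []⟩,
  ⟨[nat_lit 86, nat_lit 84, nat_lit 66], [nat_lit 135], [nat_lit 0, nat_lit 0, nat_lit 0], nat_lit 27, nat_lit 1, []⟩,
  ⟨[nat_lit 88, nat_lit 86, nat_lit 84], [], [nat_lit 0x33c0000033b0000033a0000033900000338000003370000033600000335000003340000, nat_lit 0, nat_lit 0], nat_lit 27, nat_lit 1, []⟩,
  ⟨[nat_lit 88, nat_lit 86, nat_lit 84], [], [nat_lit 0, nat_lit 0], nat_lit 9, nat_lit 1, []⟩,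
  ⟨[nat_lit 88, nat_lit 86, nat_lit 84], [], [nat_lit 0, nat_lit 0], nat_lit 9, nat_lit 1, []⟩,
  ⟨[nat_lit 88, nat_lit 86, nat_lit 84], [], [nat_lit 0, nat_lit 0], nat_lit 9, nat_lit 1, []⟩,
  ⟨[nat_lit 88, nat_lit 86, nat_lit 84], [], [nat_lit 0, nat_lit 0], nat_lit 9, nat_lit 1, []⟩,
  ⟨[nat_lit 88, nat_lit 86, nat_lit 84], [], [nat_lit 0, nat_lit 0], nat_lit 9, nat_lit 1, []⟩,
  ⟨[nat_lit 88, nat_lit 84], [nat_lit 27], [nat_lit 0x33d19a1033d088b033d0000, nat_lit 0, nat_lit 0x340088b033f3b9f033e19a1034019a1033f1e2a033e088b03400000033f0000033e0000, nat_lit 0, nat_lit 0], nat_lit 6075, nat_lit 0, [(nat_lit 1, [nat_lit 0x1b000000030001])]⟩,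
  ⟨[nat_lit 84, nat_lit 83], [nat_lit 153], [nat_lit 0, nat_lit 0x3413342034119a103410000, nat_lit 0x34419a10343088b034233420344088b03431116034219a1034400000343000003420000, nat_lit 0, nat_lit 0], nat_lit 6318, nat_lit 1, []⟩,
  ⟨[nat_lit 88, nat_lit 84], [nat_lit 117], [nat_lit 0, nat_lit 0x34519a10345334203450000, nat_lit 0x34819a1034733420346088b0348088b034719a103461116034800000347000003460000, nat_lit 0, nat_lit 0], nat_lit 5589, nat_lit 0, [(nat_lit 1, [nat_lit 0x750000000000030001])]⟩,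
  ⟨[nat_lit 88, nat_lit 85, nat_lit 82], [], [nat_lit 0, nat_lit 0x34a20b8034920b8034b20b803493727034b3727034a3727034b0000034a000003490000, nat_lit 0, nat_lit 0], nat_lit 81, nat_lit 1, []⟩,
  ⟨[nat_lit 88, nat_lit 85, nat_lit 82], [], [nat_lit 0, nat_lit 0x34d20b8034c20b8034e20b8034c3727034e3727034d3727034e0000034d0000034c0000, nat_lit 0, nat_lit 0], nat_lit 81, nat_lit 1, []⟩,
  ⟨[nat_lit 88, nat_lit 85, nat_lit 82], [], [nat_lit 0, nat_lit 0x35020b8034f20b8035120b8034f372703513727035037270351000003500000034f0000, nat_lit 0, nat_lit 0], nat_lit 81, nat_lit 1, []⟩]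
theorem cc10 : (Nat.beq (lst ndF cl10 215) 0 && Nat.beq (215 + cl10.length) 321) = true := by
  decide +kernel
end H16.F3
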