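import Cfsg.Agent.H16.F3n

/-! Generated: certificates for the centric subgroups. -/

set_option autoImplicit false
set_option maxRecDepth 100000
set_option maxHeartbeats 0
set_option Elab.async false

namespace H16.F3
open H26 (jn frc frc_eq)
noncomputable def cl11 : List Nd := [
  ⟨[nat_lit 88, nat_lit 85, nat_lit 84], [], [nat_lit 0, nat_lit 0], nat_lit 9, nat_lit 1, []⟩,
  ⟨[nat_lit 88, nat_lit 85, nat_lit 84], [], [nat_lit 0, nat_lit 0], nat_lit 9, nat_lit 1, []⟩,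
  ⟨[nat_lit 88, nat_lit 85, nat_lit 83], [], [nat_lit 0, nat_lit 0], nat_lit 9, nat_lit 1, []⟩,
  ⟨[nat_lit 88, nat_lit 85, nat_lit 83], [], [nat_lit 0, nat_lit 0], nat_lit 9, nat_lit 1, []⟩,
  ⟨[nat_lit 88, nat_lit 85, nat_lit 83], [], [nat_lit 0, nat_lit 0], nat_lit 9, nat_lit 1, []⟩,
  ⟨[nat_lit 88, nat_lit 86, nat_lit 82], [], [nat_lit 0x35a00000359000003580000035700000356000003550000035400000353000003520000, nat_lit 0, nat_lit 0], nat_lit 27, nat_lit 1, []⟩,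
  ⟨[nat_lit 88, nat_lit 86, nat_lit 66], [], [nat_lit 0, nat_lit 0], nat_lit 9, nat_lit 1, []⟩,
  ⟨[nat_lit 88, nat_lit 86, nat_lit 83], [], [nat_lit 0, nat_lit 0], nat_lit 9, nat_lit 1, []⟩,
  ⟨[nat_lit 88, nat_lit 86, nat_lit 83], [], [nat_lit 0, nat_lit 0], nat_lit 9, nat_lit 1, []⟩,
  ⟨[nat_lit 88, nat_lit 86, nat_lit 84], [], [nat_lit 0x3630000036200000361000003600000035f0000035e0000035d0000035c0000035b0000, nat_lit 0, nat_lit 0], nat_lit 27, nat_lit 1, []⟩,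
  ⟨[nat_lit 88, nat_lit 86, nat_lit 84], [], [nat_lit 0, nat_lit 0], nat_lit 9, nat_lit 1, []⟩,
  ⟨[nat_lit 88, nat_lit 86, nat_lit 84], [], [nat_lit 0, nat_lit 0], nat_lit 9, nat_lit 1, []⟩,
  ⟨[nat_lit 88, nat_lit 86, nat_lit 84], [], [nat_lit 0, nat_lit 0], nat_lit 9, nat_lit 1, []⟩,
  ⟨[nat_lit 88, nat_lit 86, nat_lit 84], [], [nat_lit 0, nat_lit 0], nat_lit 9, nat_lit 1, []⟩,
  ⟨[nat_lit 88, nat_lit 86, nat_lit 84], [], [nat_lit 0, nat_lit 0], nat_lit 9, nat_lit 1, []⟩,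
  ⟨[nat_lit 86, nat_lit 84, nat_lit 82], [], [nat_lit 0x36c0000036b0000036a0000036900000368000003670000036600000365000003640000, nat_lit 0, nat_lit 0], nat_lit 27, nat_lit 1, []⟩,
  ⟨[nat_lit 86, nat_lit 84, nat_lit 66], [], [nat_lit 0, nat_lit 0], nat_lit 9, nat_lit 1, []⟩,
  ⟨[nat_lit 86, nat_lit 84, nat_lit 83], [], [nat_lit 0, nat_lit 0], nat_lit 9, nat_lit 1, []⟩,
  ⟨[nat_lit 86, nat_lit 84, nat_lit 83], [], [nat_lit 0, nat_lit 0], nat_lit 9, nat_lit 1, []⟩,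
  ⟨[nat_lit 86, nat_lit 84, nat_lit 83], [], [nat_lit 0, nat_lit 0], nat_lit 9, nat_lit 1, []⟩,
  ⟨[nat_lit 86, nat_lit 84, nat_lit 83], [], [nat_lit 0, nat_lit 0], nat_lit 9, nat_lit 1, []⟩,
  ⟨[nat_lit 86, nat_lit 84, nat_lit 83], [], [nat_lit 0, nat_lit 0], nat_lit 9, nat_lit 1, []⟩,
  ⟨[nat_lit 86, nat_lit 84, nat_lit 83], [], [nat_lit 0, nat_lit 0], nat_lit 9, nat_lit 1, []⟩,
  ⟨[nat_lit 88, nat_lit 84], [nat_lit 27], [nat_lit 0x36d3342036d19a1036d0000, nat_lit 0, nat_lit 0x37019a1036f20b8036e334203703342036f386f036e19a103700000036f0000036e0000, nat_lit 0, nat_lit 0], nat_lit 6318, nat_lit 0, [(nat_lit 1, [nat_lit 0x1b000000030001])]⟩,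
  ⟨[nat_lit 84, nat_lit 83], [nat_lit 126], [nat_lit 0, nat_lit 0x371088b037119a103710000, nat_lit 0x374088b03733342037219a103741116037319a103723342037400000373000003720000, nat_lit 0, nat_lit 0], nat_lit 6075, nat_lit 1, []⟩,
  ⟨[nat_lit 88, nat_lit 84], [nat_lit 144], [nat_lit 0, nat_lit 0x37519a10375088b03750000, nat_lit 0x37819a1037733420376088b03783342037719a103761116037800000377000003760000, nat_lit 0, nat_lit 0], nat_lit 4131, nat_lit 0, [(nat_lit 1, [nat_lit 0x900000000000030001])]⟩,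
  ⟨[nat_lit 88, nat_lit 85, nat_lit 82], [], [nat_lit 0, nat_lit 0x37a3b9f03793b9f037b3b9f03791e2a037b1e2a037a1e2a037b0000037a000003790000, nat_lit 0, nat_lit 0], nat_lit 162, nat_lit 1, []⟩,
  ⟨[nat_lit 88, nat_lit 85, nat_lit 82], [], [nat_lit 0, nat_lit 0x37d3b9f037c3b9f037e3b9f037c1e2a037e1e2a037d1e2a037e0000037d0000037c0000, nat_lit 0, nat_lit 0], nat_lit 162, nat_lit 1, []⟩,
  ⟨[nat_lit 88, nat_lit 85, nat_lit 82], [], [nat_lit 0, nat_lit 0x3803b9f037f3b9f03813b9f037f1e2a03811e2a03801e2a0381000003800000037f0000, nat_lit 0, nat_lit 0], nat_lit 162, nat_lit 1, []⟩,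
  ⟨[nat_lit 88, nat_lit 85, nat_lit 84], [], [nat_lit 0, nat_lit 0], nat_lit 9, nat_lit 1, []⟩,
  ⟨[nat_lit 88, nat_lit 85, nat_lit 84], [], [nat_lit 0, nat_lit 0], nat_lit 9, nat_lit 1, []⟩,
  ⟨[nat_lit 88, nat_lit 85, nat_lit 83], [], [nat_lit 0, nat_lit 0], nat_lit 9, nat_lit 1, []⟩,
  ⟨[nat_lit 88, nat_lit 85, nat_lit 83], [], [nat_lit 0, nat_lit 0], nat_lit 9, nat_lit 1, []⟩,
  ⟨[nat_lit 88, nat_lit 85, nat_lit 83], [], [nat_lit 0, nat_lit 0], nat_lit 9, nat_lit 1, []⟩,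
  ⟨[nat_lit 88, nat_lit 86, nat_lit 82], [], [nat_lit 0x38a00000389000003880000038700000386000003850000038400000383000003820000, nat_lit 0, nat_lit 0], nat_lit 27, nat_lit 1, []⟩,
  ⟨[nat_lit 88, nat_lit 86, nat_lit 66], [], [nat_lit 0, nat_lit 0], nat_lit 9, nat_lit 1, []⟩,
  ⟨[nat_lit 88, nat_lit 86, nat_lit 83], [], [nat_lit 0, nat_lit 0], nat_lit 9, nat_lit 1, []⟩,
  ⟨[nat_lit 88, nat_lit 86, nat_lit 83], [], [nat_lit 0, nat_lit 0], nat_lit 9, nat_lit 1, []⟩,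
  ⟨[nat_lit 88, nat_lit 86, nat_lit 84], [], [nat_lit 0x3930000039200000391000003900000038f0000038e0000038d0000038c0000038b0000, nat_lit 0, nat_lit 0], nat_lit 27, nat_lit 1, []⟩,
  ⟨[nat_lit 88, nat_lit 86, nat_lit 84], [], [nat_lit 0, nat_lit 0], nat_lit 9, nat_lit 1, []⟩,
  ⟨[nat_lit 88, nat_lit 86, nat_lit 84], [], [nat_lit 0, nat_lit 0], nat_lit 9, nat_lit 1, []⟩,
  ⟨[nat_lit 88, nat_lit 86, nat_lit 84], [], [nat_lit 0, nat_lit 0], nat_lit 9, nat_lit 1, []⟩,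
  ⟨[nat_lit 88, nat_lit 86, nat_lit 84], [], [nat_lit 0, nat_lit 0], nat_lit 9, nat_lit 1, []⟩,
  ⟨[nat_lit 88, nat_lit 86, nat_lit 84], [], [nat_lit 0, nat_lit 0], nat_lit 9, nat_lit 1, []⟩,
  ⟨[nat_lit 86, nat_lit 84, nat_lit 66], [], [nat_lit 0x39c0000039b0000039a0000039900000398000003970000039600000395000003940000, nat_lit 0, nat_lit 0], nat_lit 27, nat_lit 1, []⟩,
  ⟨[nat_lit 86, nat_lit 84, nat_lit 83], [], [nat_lit 0, nat_lit 0], nat_lit 9, nat_lit 1, []⟩,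
  ⟨[nat_lit 86, nat_lit 84, nat_lit 83], [], [nat_lit 0, nat_lit 0], nat_lit 9, nat_lit 1, []⟩,
  ⟨[nat_lit 86, nat_lit 84, nat_lit 83], [], [nat_lit 0, nat_lit 0], nat_lit 9, nat_lit 1, []⟩,
  ⟨[nat_lit 86, nat_lit 84, nat_lit 83], [], [nat_lit 0, nat_lit 0], nat_lit 9, nat_lit 1, []⟩,
  ⟨[nat_lit 86, nat_lit 84, nat_lit 83], [], [nat_lit 0, nat_lit 0], nat_lit 9, nat_lit 1, []⟩,
  ⟨[nat_lit 86, nat_lit 84, nat_lit 83], [], [nat_lit 0, nat_lit 0], nat_lit 9, nat_lit 1, []⟩,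
  ⟨[nat_lit 86, nat_lit 84, nat_lit 83], [], [nat_lit 0, nat_lit 0], nat_lit 9, nat_lit 1, []⟩,
  ⟨[nat_lit 87, nat_lit 84, nat_lit 74], [nat_lit 27], [nat_lit 0, nat_lit 0], nat_lit 9, nat_lit 1, []⟩,
  ⟨[nat_lit 87, nat_lit 84, nat_lit 77], [], [nat_lit 0x3a5000003a4000003a3000003a2000003a1000003a00000039f0000039e0000039d0000, nat_lit 0, nat_lit 0], nat_lit 27, nat_lit 1, []⟩,
  ⟨[nat_lit 87, nat_lit 84, nat_lit 77], [], [nat_lit 0, nat_lit 0], nat_lit 9, nat_lit 1, []⟩,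
  ⟨[nat_lit 87, nat_lit 84, nat_lit 77], [], [nat_lit 0, nat_lit 0], nat_lit 9, nat_lit 1, []⟩,
  ⟨[nat_lit 87, nat_lit 84, nat_lit 77], [], [nat_lit 0, nat_lit 0], nat_lit 9, nat_lit 1, []⟩,
  ⟨[nat_lit 87, nat_lit 84, nat_lit 77], [], [nat_lit 0, nat_lit 0], nat_lit 9, nat_lit 1, []⟩,
  ⟨[nat_lit 87, nat_lit 84, nat_lit 77], [], [nat_lit 0, nat_lit 0], nat_lit 9, nat_lit 1, []⟩,
  ⟨[nat_lit 87, nat_lit 84, nat_lit 77], [], [nat_lit 0x3ae000003ad000003ac000003ab000003aa000003a9000003a8000003a7000003a60000, nat_lit 0, nat_lit 0], nat_lit 54, nat_lit 1, []⟩,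
  ⟨[nat_lit 87, nat_lit 84, nat_lit 77], [], [nat_lit 0, nat_lit 0], nat_lit 9, nat_lit 1, []⟩,
  ⟨[nat_lit 87, nat_lit 84, nat_lit 77], [], [nat_lit 0, nat_lit 0], nat_lit 9, nat_lit 1, []⟩,
  ⟨[nat_lit 87, nat_lit 84, nat_lit 77], [], [nat_lit 0, nat_lit 0], nat_lit 9, nat_lit 1, []⟩,
  ⟨[nat_lit 87, nat_lit 84, nat_lit 77], [], [nat_lit 0, nat_lit 0], nat_lit 9, nat_lit 1, []⟩,
  ⟨[nat_lit 87, nat_lit 84, nat_lit 77], [], [nat_lit 0, nat_lit 0], nat_lit 9, nat_lit 1, []⟩,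
  ⟨[nat_lit 88, nat_lit 87, nat_lit 82], [], [nat_lit 0x3b7000003b6000003b5000003b4000003b3000003b2000003b1000003b0000003af0000, nat_lit 0, nat_lit 0], nat_lit 27, nat_lit 1, []⟩,
  ⟨[nat_lit 88, nat_lit 87], [nat_lit 3], [nat_lit 0, nat_lit 0], nat_lit 9, nat_lit 0, [(nat_lit 1, [nat_lit 0x30001])]⟩,
  ⟨[nat_lit 88, nat_lit 87, nat_lit 83], [], [nat_lit 0, nat_lit 0], nat_lit 9, nat_lit 1, []⟩,
  ⟨[nat_lit 88, nat_lit 87, nat_lit 83], [], [nat_lit 0, nat_lit 0], nat_lit 9, nat_lit 1, []⟩,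
  ⟨[nat_lit 88, nat_lit 87, nat_lit 83], [], [nat_lit 0, nat_lit 0], nat_lit 9, nat_lit 1, []⟩,
  ⟨[nat_lit 88, nat_lit 87, nat_lit 83], [], [nat_lit 0, nat_lit 0], nat_lit 9, nat_lit 1, []⟩,
  ⟨[nat_lit 88, nat_lit 87, nat_lit 83], [], [nat_lit 0, nat_lit 0], nat_lit 9, nat_lit 1, []⟩,
  ⟨[nat_lit 88, nat_lit 87, nat_lit 83], [], [nat_lit 0, nat_lit 0], nat_lit 9, nat_lit 1, []⟩,
  ⟨[nat_lit 88, nat_lit 87, nat_lit 82], [], [nat_lit 0x3c0000003bf000003be000003bd000003bc000003bb000003ba000003b9000003b80000, nat_lit 0, nat_lit 0], nat_lit 27, nat_lit 1, []⟩,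
  ⟨[nat_lit 88, nat_lit 87, nat_lit 74], [], [nat_lit 0, nat_lit 0], nat_lit 9, nat_lit 1, []⟩,
  ⟨[nat_lit 88, nat_lit 87, nat_lit 83], [], [nat_lit 0, nat_lit 0], nat_lit 9, nat_lit 1, []⟩,
  ⟨[nat_lit 88, nat_lit 87, nat_lit 83], [], [nat_lit 0, nat_lit 0], nat_lit 9, nat_lit 1, []⟩,
  ⟨[nat_lit 88, nat_lit 87, nat_lit 82], [], [nat_lit 0x3c9000003c8000003c7000003c6000003c5000003c4000003c3000003c2000003c10000, nat_lit 0, nat_lit 0], nat_lit 27, nat_lit 1, []⟩,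
  ⟨[nat_lit 88, nat_lit 87, nat_lit 74], [], [nat_lit 0, nat_lit 0], nat_lit 9, nat_lit 1, []⟩,
  ⟨[nat_lit 88, nat_lit 87, nat_lit 83], [], [nat_lit 0, nat_lit 0], nat_lit 9, nat_lit 1, []⟩,
  ⟨[nat_lit 88, nat_lit 87, nat_lit 83], [], [nat_lit 0, nat_lit 0], nat_lit 9, nat_lit 1, []⟩,
  ⟨[nat_lit 87, nat_lit 84, nat_lit 74], [], [nat_lit 0x3d2000003d1000003d0000003cf000003ce000003cd000003cc000003cb000003ca0000, nat_lit 0, nat_lit 0], nat_lit 54, nat_lit 1, []⟩,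
  ⟨[nat_lit 87, nat_lit 84, nat_lit 83], [], [nat_lit 0, nat_lit 0], nat_lit 9, nat_lit 1, []⟩,
  ⟨[nat_lit 87, nat_lit 84, nat_lit 83], [], [nat_lit 0, nat_lit 0], nat_lit 9, nat_lit 1, []⟩,
  ⟨[nat_lit 87, nat_lit 84, nat_lit 83], [], [nat_lit 0, nat_lit 0], nat_lit 9, nat_lit 1, []⟩,
  ⟨[nat_lit 87, nat_lit 84, nat_lit 83], [], [nat_lit 0, nat_lit 0], nat_lit 9, nat_lit 1, []⟩,
  ⟨[nat_lit 87, nat_lit 84, nat_lit 83], [], [nat_lit 0, nat_lit 0], nat_lit 9, nat_lit 1, []⟩,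
  ⟨[nat_lit 87, nat_lit 84, nat_lit 82], [], [nat_lit 0x3db000003da000003d9000003d8000003d7000003d6000003d5000003d4000003d30000, nat_lit 0, nat_lit 0], nat_lit 27, nat_lit 1, []⟩,
  ⟨[nat_lit 87, nat_lit 84, nat_lit 83], [], [nat_lit 0, nat_lit 0], nat_lit 9, nat_lit 1, []⟩,
  ⟨[nat_lit 87, nat_lit 84, nat_lit 83], [], [nat_lit 0, nat_lit 0], nat_lit 9, nat_lit 1, []⟩,
  ⟨[nat_lit 87, nat_lit 84, nat_lit 77], [], [nat_lit 0, nat_lit 0], nat_lit 9, nat_lit 1, []⟩,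
  ⟨[nat_lit 87, nat_lit 84, nat_lit 83], [], [nat_lit 0, nat_lit 0], nat_lit 9, nat_lit 1, []⟩,
  ⟨[nat_lit 87, nat_lit 84, nat_lit 83], [], [nat_lit 0, nat_lit 0], nat_lit 9, nat_lit 1, []⟩,
  ⟨[nat_lit 87, nat_lit 84, nat_lit 83], [], [nat_lit 0, nat_lit 0], nat_lit 9, nat_lit 1, []⟩,
  ⟨[nat_lit 87, nat_lit 84, nat_lit 83], [], [nat_lit 0, nat_lit 0], nat_lit 9, nat_lit 1, []⟩,
  ⟨[nat_lit 87, nat_lit 84, nat_lit 82], [], [nat_lit 0x3e4000003e3000003e2000003e1000003e0000003df000003de000003dd000003dc0000, nat_lit 0, nat_lit 0], nat_lit 54, nat_lit 1, []⟩,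
  ⟨[nat_lit 87, nat_lit 84, nat_lit 83], [], [nat_lit 0, nat_lit 0], nat_lit 9, nat_lit 1, []⟩,
  ⟨[nat_lit 87, nat_lit 84, nat_lit 77], [], [nat_lit 0, nat_lit 0], nat_lit 9, nat_lit 1, []⟩,
  ⟨[nat_lit 87, nat_lit 84, nat_lit 83], [], [nat_lit 0, nat_lit 0], nat_lit 9, nat_lit 1, []⟩,
  ⟨[nat_lit 87, nat_lit 84, nat_lit 83], [], [nat_lit 0, nat_lit 0], nat_lit 9, nat_lit 1, []⟩,
  ⟨[nat_lit 87, nat_lit 84, nat_lit 83], [], [nat_lit 0, nat_lit 0], nat_lit 9, nat_lit 1, []⟩,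
  ⟨[nat_lit 87, nat_lit 84, nat_lit 83], [], [nat_lit 0, nat_lit 0], nat_lit 9, nat_lit 1, []⟩,
  ⟨[nat_lit 87, nat_lit 84, nat_lit 83], [], [nat_lit 0, nat_lit 0], nat_lit 9, nat_lit 1, []⟩,
  ⟨[nat_lit 87, nat_lit 82, nat_lit 72], [], [nat_lit 0x3e735fb03e635fb03e535fb03e726df03e626df03e526df03e7000003e6000003e50000, nat_lit 0, nat_lit 0, nat_lit 0], nat_lit 162, nat_lit 1, []⟩,
  ⟨[nat_lit 87, nat_lit 82, nat_lit 72], [], [nat_lit 0x3ea35fb03e935fb03e835fb03ea26df03e926df03e826df03ea000003e9000003e80000, nat_lit 0, nat_lit 0, nat_lit 0], nat_lit 162, nat_lit 1, []⟩,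
  ⟨[nat_lit 87, nat_lit 82, nat_lit 72], [], [nat_lit 0x3ed35fb03ec35fb03eb35fb03ed26df03ec26df03eb26df03ed000003ec000003eb0000, nat_lit 0, nat_lit 0, nat_lit 0], nat_lit 162, nat_lit 1, []⟩,
  ⟨[nat_lit 87, nat_lit 82, nat_lit 74], [], [nat_lit 0, nat_lit 0, nat_lit 0], nat_lit 27, nat_lit 1, []⟩,
  ⟨[nat_lit 87, nat_lit 82, nat_lit 74], [], [nat_lit 0, nat_lit 0, nat_lit 0], nat_lit 27, nat_lit 1, []⟩,
  ⟨[nat_lit 87, nat_lit 82, nat_lit 74], [], [nat_lit 0, nat_lit 0, nat_lit 0], nat_lit 27, nat_lit 1, []⟩,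
  ⟨[nat_lit 87, nat_lit 82, nat_lit 73], [], [nat_lit 0, nat_lit 0x3ee35fb03f035fb03ef35fb03ef412d03ee412d03f0412d03f0000003ef000003ee0000, nat_lit 0, nat_lit 0], nat_lit 81, nat_lit 1, []⟩,
  ⟨[nat_lit 87, nat_lit 82, nat_lit 73], [], [nat_lit 0, nat_lit 0x3f135fb03f335fb03f235fb03f2412d03f1412d03f3412d03f3000003f2000003f10000, nat_lit 0, nat_lit 0], nat_lit 81, nat_lit 1, []⟩,
  ⟨[nat_lit 87, nat_lit 82, nat_lit 73], [], [nat_lit 0, nat_lit 0x3f435fb03f635fb03f535fb03f5412d03f4412d03f6412d03f6000003f5000003f40000, nat_lit 0, nat_lit 0], nat_lit 81, nat_lit 1, []⟩,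
  ⟨[nat_lit 87, nat_lit 83, nat_lit 74], [], [nat_lit 0, nat_lit 0], nat_lit 9, nat_lit 1, []⟩,
  ⟨[nat_lit 87, nat_lit 84], [nat_lit 1], [nat_lit 0, nat_lit 0], nat_lit 9, nat_lit 0, [(nat_lit 1, [nat_lit 0x30001])]⟩,
  ⟨[nat_lit 87, nat_lit 84, nat_lit 74], [], [nat_lit 0, nat_lit 0], nat_lit 9, nat_lit 1, []⟩,
  ⟨[nat_lit 87, nat_lit 84, nat_lit 74], [], [nat_lit 0, nat_lit 0], nat_lit 9, nat_lit 1, []⟩,
  ⟨[nat_lit 87, nat_lit 84, nat_lit 74], [], [nat_lit 0, nat_lit 0], nat_lit 9, nat_lit 1, []⟩,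
  ⟨[nat_lit 87, nat_lit 82, nat_lit 73], [], [nat_lit 0, nat_lit 0x3f84cd303f74cd303f94cd303f726df03f926df03f826df03f9000003f8000003f70000, nat_lit 0, nat_lit 0], nat_lit 162, nat_lit 1, []⟩,
  ⟨[nat_lit 87, nat_lit 82, nat_lit 73], [], [nat_lit 0, nat_lit 0x3fb4cd303fa4cd303fc4cd303fa26df03fc26df03fb26df03fc000003fb000003fa0000, nat_lit 0, nat_lit 0], nat_lit 162, nat_lit 1, []⟩,
  ⟨[nat_lit 87, nat_lit 82, nat_lit 73], [], [nat_lit 0, nat_lit 0x3fe4cd303fd4cd303ff4cd303fd26df03ff26df03fe26df03ff000003fe000003fd0000, nat_lit 0, nat_lit 0], nat_lit 162, nat_lit 1, []⟩]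
theorem cc11 : (Nat.beq (lst ndF cl11 321) 0 && Nat.beq (321 + cl11.length) 441) = true := by
  decide +kernel
noncomputable def cl12 : List Nd := [
  ⟨[nat_lit 87, nat_lit 83, nat_lit 74], [], [nat_lit 0, nat_lit 0], nat_lit 9, nat_lit 1, []⟩,
  ⟨[nat_lit 87, nat_lit 84], [nat_lit 1], [nat_lit 0, nat_lit 0], nat_lit 9, nat_lit 0, [(nat_lit 1, [nat_lit 0x30001])]⟩,
  ⟨[nat_lit 87, nat_lit 84, nat_lit 74], [], [nat_lit 0, nat_lit 0], nat_lit 9, nat_lit 1, []⟩,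
  ⟨[nat_lit 87, nat_lit 84, nat_lit 74], [], [nat_lit 0, nat_lit 0], nat_lit 9, nat_lit 1, []⟩,
  ⟨[nat_lit 87, nat_lit 84, nat_lit 74], [], [nat_lit 0, nat_lit 0], nat_lit 9, nat_lit 1, []⟩,
  ⟨[nat_lit 88, nat_lit 87, nat_lit 82], [], [nat_lit 0x40219a1040119a1040019a1040233420401334204003342040200000401000004000000, nat_lit 0, nat_lit 0, nat_lit 0], nat_lit 81, nat_lit 1, []⟩,
  ⟨[nat_lit 88, nat_lit 87, nat_lit 82], [], [nat_lit 0x40519a1040419a1040319a1040533420404334204033342040500000404000004030000, nat_lit 0, nat_lit 0, nat_lit 0], nat_lit 81, nat_lit 1, []⟩,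
  ⟨[nat_lit 88, nat_lit 87, nat_lit 82], [], [nat_lit 0x40819a1040719a1040619a1040833420407334204063342040800000407000004060000, nat_lit 0, nat_lit 0, nat_lit 0], nat_lit 81, nat_lit 1, []⟩,
  ⟨[nat_lit 88, nat_lit 87, nat_lit 84], [], [nat_lit 0, nat_lit 0, nat_lit 0], nat_lit 27, nat_lit 1, []⟩,
  ⟨[nat_lit 88, nat_lit 87, nat_lit 84], [], [nat_lit 0, nat_lit 0, nat_lit 0], nat_lit 27, nat_lit 1, []⟩,
  ⟨[nat_lit 88, nat_lit 87, nat_lit 84], [], [nat_lit 0, nat_lit 0, nat_lit 0], nat_lit 27, nat_lit 1, []⟩,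
  ⟨[nat_lit 88, nat_lit 87, nat_lit 82], [], [nat_lit 0, nat_lit 0x40a334204093342040b3342040919a1040b19a1040a19a1040b0000040a000004090000, nat_lit 0, nat_lit 0], nat_lit 81, nat_lit 1, []⟩,
  ⟨[nat_lit 88, nat_lit 87, nat_lit 82], [], [nat_lit 0, nat_lit 0x40d3342040c3342040e3342040c19a1040e19a1040d19a1040e0000040d0000040c0000, nat_lit 0, nat_lit 0], nat_lit 81, nat_lit 1, []⟩,
  ⟨[nat_lit 88, nat_lit 87, nat_lit 82], [], [nat_lit 0, nat_lit 0x4103342040f334204113342040f19a1041119a1041019a10411000004100000040f0000, nat_lit 0, nat_lit 0], nat_lit 81, nat_lit 1, []⟩,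
  ⟨[nat_lit 88, nat_lit 87, nat_lit 84], [], [nat_lit 0, nat_lit 0], nat_lit 9, nat_lit 1, []⟩,
  ⟨[nat_lit 88, nat_lit 87, nat_lit 84], [], [nat_lit 0, nat_lit 0], nat_lit 9, nat_lit 1, []⟩,
  ⟨[nat_lit 88, nat_lit 87, nat_lit 83], [], [nat_lit 0, nat_lit 0], nat_lit 9, nat_lit 1, []⟩,
  ⟨[nat_lit 88, nat_lit 87, nat_lit 83], [], [nat_lit 0, nat_lit 0], nat_lit 9, nat_lit 1, []⟩,
  ⟨[nat_lit 88, nat_lit 87, nat_lit 83], [], [nat_lit 0, nat_lit 0], nat_lit 9, nat_lit 1, []⟩,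
  ⟨[nat_lit 88, nat_lit 87, nat_lit 82], [], [nat_lit 0, nat_lit 0x41219a1041419a1041319a1041333420412334204143342041400000413000004120000, nat_lit 0, nat_lit 0], nat_lit 162, nat_lit 1, []⟩,
  ⟨[nat_lit 88, nat_lit 87, nat_lit 82], [], [nat_lit 0, nat_lit 0x41519a1041719a1041619a1041633420415334204173342041700000416000004150000, nat_lit 0, nat_lit 0], nat_lit 162, nat_lit 1, []⟩,
  ⟨[nat_lit 88, nat_lit 87, nat_lit 82], [], [nat_lit 0, nat_lit 0x41819a1041a19a1041919a10419334204183342041a3342041a00000419000004180000, nat_lit 0, nat_lit 0], nat_lit 162, nat_lit 1, []⟩,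
  ⟨[nat_lit 88, nat_lit 87, nat_lit 84], [], [nat_lit 0, nat_lit 0], nat_lit 9, nat_lit 1, []⟩,
  ⟨[nat_lit 88, nat_lit 87, nat_lit 84], [], [nat_lit 0, nat_lit 0], nat_lit 9, nat_lit 1, []⟩,
  ⟨[nat_lit 88, nat_lit 87, nat_lit 83], [], [nat_lit 0, nat_lit 0], nat_lit 9, nat_lit 1, []⟩,
  ⟨[nat_lit 88, nat_lit 87, nat_lit 83], [], [nat_lit 0, nat_lit 0], nat_lit 9, nat_lit 1, []⟩,
  ⟨[nat_lit 88, nat_lit 87, nat_lit 83], [], [nat_lit 0, nat_lit 0], nat_lit 9, nat_lit 1, []⟩,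
  ⟨[nat_lit 87, nat_lit 83, nat_lit 82], [], [nat_lit 0, nat_lit 0x41d3342041d19a1041d0000041c3342041c19a1041c0000041b3342041b19a1041b0000, nat_lit 0, nat_lit 0], nat_lit 162, nat_lit 1, []⟩,
  ⟨[nat_lit 87, nat_lit 83, nat_lit 82], [], [nat_lit 0, nat_lit 0x4203342042019a104200000041f3342041f19a1041f0000041e3342041e19a1041e0000, nat_lit 0, nat_lit 0], nat_lit 162, nat_lit 1, []⟩,
  ⟨[nat_lit 87, nat_lit 83, nat_lit 82], [], [nat_lit 0, nat_lit 0x4233342042319a10423000004223342042219a10422000004213342042119a104210000, nat_lit 0, nat_lit 0], nat_lit 162, nat_lit 1, []⟩,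
  ⟨[nat_lit 87, nat_lit 84, nat_lit 83], [], [nat_lit 0, nat_lit 0], nat_lit 9, nat_lit 1, []⟩,
  ⟨[nat_lit 87, nat_lit 83, nat_lit 74], [], [nat_lit 0, nat_lit 0], nat_lit 9, nat_lit 1, []⟩,
  ⟨[nat_lit 87, nat_lit 84, nat_lit 83], [], [nat_lit 0, nat_lit 0], nat_lit 9, nat_lit 1, []⟩,
  ⟨[nat_lit 87, nat_lit 84, nat_lit 83], [], [nat_lit 0, nat_lit 0], nat_lit 9, nat_lit 1, []⟩,
  ⟨[nat_lit 87, nat_lit 84, nat_lit 83], [], [nat_lit 0, nat_lit 0], nat_lit 9, nat_lit 1, []⟩,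
  ⟨[nat_lit 87, nat_lit 83, nat_lit 82], [], [nat_lit 0, nat_lit 0x4263342042619a10426000004253342042519a10425000004243342042419a104240000, nat_lit 0, nat_lit 0], nat_lit 162, nat_lit 1, []⟩,
  ⟨[nat_lit 87, nat_lit 83, nat_lit 82], [], [nat_lit 0, nat_lit 0x4293342042919a10429000004283342042819a10428000004273342042719a104270000, nat_lit 0, nat_lit 0], nat_lit 162, nat_lit 1, []⟩,
  ⟨[nat_lit 87, nat_lit 83, nat_lit 82], [], [nat_lit 0, nat_lit 0x42c3342042c19a1042c0000042b3342042b19a1042b0000042a3342042a19a1042a0000, nat_lit 0, nat_lit 0], nat_lit 162, nat_lit 1, []⟩,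
  ⟨[nat_lit 87, nat_lit 84, nat_lit 83], [], [nat_lit 0, nat_lit 0], nat_lit 9, nat_lit 1, []⟩,
  ⟨[nat_lit 87, nat_lit 83, nat_lit 74], [], [nat_lit 0, nat_lit 0], nat_lit 9, nat_lit 1, []⟩,
  ⟨[nat_lit 87, nat_lit 84, nat_lit 83], [], [nat_lit 0, nat_lit 0], nat_lit 9, nat_lit 1, []⟩,
  ⟨[nat_lit 87, nat_lit 84, nat_lit 83], [], [nat_lit 0, nat_lit 0], nat_lit 9, nat_lit 1, []⟩,
  ⟨[nat_lit 87, nat_lit 84, nat_lit 83], [], [nat_lit 0, nat_lit 0], nat_lit 9, nat_lit 1, []⟩,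
  ⟨[nat_lit 87, nat_lit 82, nat_lit 72], [], [nat_lit 0x43500000434000004330000043200000431000004300000042f0000042e0000042d0000, nat_lit 0, nat_lit 0], nat_lit 54, nat_lit 1, []⟩,
  ⟨[nat_lit 87, nat_lit 77], [nat_lit 1], [nat_lit 0, nat_lit 0], nat_lit 9, nat_lit 0, [(nat_lit 1, [nat_lit 0x510000000000030001])]⟩,
  ⟨[nat_lit 87, nat_lit 83, nat_lit 73], [], [nat_lit 0, nat_lit 0], nat_lit 9, nat_lit 1, []⟩,
  ⟨[nat_lit 87, nat_lit 83, nat_lit 73], [], [nat_lit 0, nat_lit 0], nat_lit 9, nat_lit 1, []⟩,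
  ⟨[nat_lit 87, nat_lit 77], [nat_lit 1], [nat_lit 0, nat_lit 0], nat_lit 9, nat_lit 0, [(nat_lit 1, [nat_lit 0x510000000000030001])]⟩,
  ⟨[nat_lit 87, nat_lit 77], [nat_lit 1], [nat_lit 0, nat_lit 0], nat_lit 9, nat_lit 0, [(nat_lit 1, [nat_lit 0x510000000000030001])]⟩,
  ⟨[nat_lit 87, nat_lit 82, nat_lit 77], [], [nat_lit 0x43e0000043d0000043c0000043b0000043a000004390000043800000437000004360000, nat_lit 0, nat_lit 0], nat_lit 27, nat_lit 1, []⟩,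
  ⟨[nat_lit 87, nat_lit 77, nat_lit 73], [], [nat_lit 0, nat_lit 0], nat_lit 18, nat_lit 1, []⟩,
  ⟨[nat_lit 87, nat_lit 83, nat_lit 77], [], [nat_lit 0, nat_lit 0], nat_lit 9, nat_lit 1, []⟩,
  ⟨[nat_lit 87, nat_lit 83, nat_lit 77], [], [nat_lit 0, nat_lit 0], nat_lit 9, nat_lit 1, []⟩,
  ⟨[nat_lit 87, nat_lit 77, nat_lit 73], [], [nat_lit 0, nat_lit 0], nat_lit 18, nat_lit 1, []⟩,
  ⟨[nat_lit 87, nat_lit 83, nat_lit 77], [], [nat_lit 0, nat_lit 0], nat_lit 9, nat_lit 1, []⟩,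
  ⟨[nat_lit 87, nat_lit 77, nat_lit 73], [], [nat_lit 0, nat_lit 0], nat_lit 18, nat_lit 1, []⟩,
  ⟨[nat_lit 87, nat_lit 83, nat_lit 77], [], [nat_lit 0, nat_lit 0], nat_lit 9, nat_lit 1, []⟩,
  ⟨[nat_lit 87, nat_lit 82, nat_lit 77], [], [nat_lit 0x447000004460000044500000444000004430000044200000441000004400000043f0000, nat_lit 0, nat_lit 0], nat_lit 54, nat_lit 1, []⟩,
  ⟨[nat_lit 87, nat_lit 77, nat_lit 73], [], [nat_lit 0, nat_lit 0], nat_lit 9, nat_lit 1, []⟩,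
  ⟨[nat_lit 87, nat_lit 83, nat_lit 77], [], [nat_lit 0, nat_lit 0], nat_lit 9, nat_lit 1, []⟩,
  ⟨[nat_lit 87, nat_lit 83, nat_lit 77], [], [nat_lit 0, nat_lit 0], nat_lit 9, nat_lit 1, []⟩,
  ⟨[nat_lit 87, nat_lit 77, nat_lit 73], [], [nat_lit 0, nat_lit 0], nat_lit 9, nat_lit 1, []⟩,
  ⟨[nat_lit 87, nat_lit 83, nat_lit 77], [], [nat_lit 0, nat_lit 0], nat_lit 9, nat_lit 1, []⟩,
  ⟨[nat_lit 87, nat_lit 77, nat_lit 73], [], [nat_lit 0, nat_lit 0], nat_lit 9, nat_lit 1, []⟩,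
  ⟨[nat_lit 87, nat_lit 83, nat_lit 77], [], [nat_lit 0, nat_lit 0], nat_lit 9, nat_lit 1, []⟩,
  ⟨[nat_lit 88, nat_lit 87, nat_lit 84], [], [nat_lit 0x4500000044f0000044e0000044d0000044c0000044b0000044a00000449000004480000, nat_lit 0, nat_lit 0], nat_lit 27, nat_lit 1, []⟩,
  ⟨[nat_lit 88, nat_lit 87, nat_lit 84], [], [nat_lit 0, nat_lit 0], nat_lit 9, nat_lit 1, []⟩,
  ⟨[nat_lit 88, nat_lit 87, nat_lit 84], [], [nat_lit 0, nat_lit 0], nat_lit 9, nat_lit 1, []⟩,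
  ⟨[nat_lit 88, nat_lit 87, nat_lit 84], [], [nat_lit 0, nat_lit 0], nat_lit 9, nat_lit 1, []⟩,
  ⟨[nat_lit 88, nat_lit 87, nat_lit 84], [], [nat_lit 0, nat_lit 0], nat_lit 9, nat_lit 1, []⟩,
  ⟨[nat_lit 88, nat_lit 87, nat_lit 84], [], [nat_lit 0, nat_lit 0], nat_lit 9, nat_lit 1, []⟩,
  ⟨[nat_lit 88, nat_lit 87, nat_lit 84], [], [nat_lit 0x45900000458000004570000045600000455000004540000045300000452000004510000, nat_lit 0, nat_lit 0], nat_lit 27, nat_lit 1, []⟩,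
  ⟨[nat_lit 88, nat_lit 87, nat_lit 84], [], [nat_lit 0, nat_lit 0], nat_lit 9, nat_lit 1, []⟩,
  ⟨[nat_lit 88, nat_lit 87, nat_lit 84], [], [nat_lit 0, nat_lit 0], nat_lit 9, nat_lit 1, []⟩,
  ⟨[nat_lit 88, nat_lit 87, nat_lit 84], [], [nat_lit 0, nat_lit 0], nat_lit 9, nat_lit 1, []⟩,
  ⟨[nat_lit 88, nat_lit 87, nat_lit 84], [], [nat_lit 0, nat_lit 0], nat_lit 9, nat_lit 1, []⟩,
  ⟨[nat_lit 88, nat_lit 87, nat_lit 84], [], [nat_lit 0, nat_lit 0], nat_lit 9, nat_lit 1, []⟩,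
  ⟨[nat_lit 88, nat_lit 87, nat_lit 84], [], [nat_lit 0, nat_lit 0], nat_lit 9, nat_lit 1, []⟩,
  ⟨[nat_lit 88, nat_lit 87, nat_lit 84], [], [nat_lit 0, nat_lit 0], nat_lit 9, nat_lit 1, []⟩,
  ⟨[nat_lit 88, nat_lit 87, nat_lit 84], [], [nat_lit 0x46200000461000004600000045f0000045e0000045d0000045c0000045b0000045a0000, nat_lit 0, nat_lit 0], nat_lit 27, nat_lit 1, []⟩,
  ⟨[nat_lit 88, nat_lit 87, nat_lit 84], [], [nat_lit 0, nat_lit 0], nat_lit 18, nat_lit 1, []⟩,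
  ⟨[nat_lit 88, nat_lit 87, nat_lit 84], [], [nat_lit 0, nat_lit 0], nat_lit 18, nat_lit 1, []⟩,
  ⟨[nat_lit 88, nat_lit 87, nat_lit 84], [], [nat_lit 0, nat_lit 0], nat_lit 18, nat_lit 1, []⟩,
  ⟨[nat_lit 88, nat_lit 87, nat_lit 84], [], [nat_lit 0, nat_lit 0], nat_lit 18, nat_lit 1, []⟩,
  ⟨[nat_lit 88, nat_lit 87, nat_lit 84], [], [nat_lit 0, nat_lit 0], nat_lit 18, nat_lit 1, []⟩,
  ⟨[nat_lit 88, nat_lit 87, nat_lit 84], [], [nat_lit 0, nat_lit 0], nat_lit 18, nat_lit 1, []⟩,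
  ⟨[nat_lit 88, nat_lit 87, nat_lit 84], [], [nat_lit 0, nat_lit 0], nat_lit 18, nat_lit 1, []⟩,
  ⟨[nat_lit 87, nat_lit 84, nat_lit 72], [], [nat_lit 0x46b0000046a000004690000046800000467000004660000046500000464000004630000, nat_lit 0, nat_lit 0], nat_lit 54, nat_lit 1, []⟩,
  ⟨[nat_lit 87, nat_lit 84, nat_lit 83], [], [nat_lit 0, nat_lit 0], nat_lit 9, nat_lit 1, []⟩,
  ⟨[nat_lit 87, nat_lit 84, nat_lit 83], [], [nat_lit 0, nat_lit 0], nat_lit 9, nat_lit 1, []⟩,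
  ⟨[nat_lit 87, nat_lit 84, nat_lit 83], [], [nat_lit 0, nat_lit 0], nat_lit 9, nat_lit 1, []⟩,
  ⟨[nat_lit 87, nat_lit 84, nat_lit 83], [], [nat_lit 0, nat_lit 0], nat_lit 9, nat_lit 1, []⟩,
  ⟨[nat_lit 87, nat_lit 84, nat_lit 83], [], [nat_lit 0, nat_lit 0], nat_lit 9, nat_lit 1, []⟩,
  ⟨[nat_lit 87, nat_lit 84, nat_lit 83], [], [nat_lit 0, nat_lit 0], nat_lit 9, nat_lit 1, []⟩,
  ⟨[nat_lit 87, nat_lit 84, nat_lit 83], [], [nat_lit 0, nat_lit 0], nat_lit 9, nat_lit 1, []⟩,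
  ⟨[nat_lit 87, nat_lit 84, nat_lit 83], [], [nat_lit 0, nat_lit 0], nat_lit 9, nat_lit 1, []⟩,
  ⟨[nat_lit 87, nat_lit 84, nat_lit 83], [], [nat_lit 0, nat_lit 0], nat_lit 9, nat_lit 1, []⟩,
  ⟨[nat_lit 87, nat_lit 84, nat_lit 83], [], [nat_lit 0, nat_lit 0], nat_lit 9, nat_lit 1, []⟩,
  ⟨[nat_lit 87, nat_lit 84, nat_lit 83], [], [nat_lit 0, nat_lit 0], nat_lit 9, nat_lit 1, []⟩,
  ⟨[nat_lit 87, nat_lit 84, nat_lit 82], [], [nat_lit 0x474000004730000047200000471000004700000046f0000046e0000046d0000046c0000, nat_lit 0, nat_lit 0], nat_lit 54, nat_lit 1, []⟩,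
  ⟨[nat_lit 87, nat_lit 84, nat_lit 83], [], [nat_lit 0, nat_lit 0], nat_lit 9, nat_lit 1, []⟩,
  ⟨[nat_lit 87, nat_lit 84, nat_lit 77], [], [nat_lit 0, nat_lit 0], nat_lit 9, nat_lit 1, []⟩,
  ⟨[nat_lit 87, nat_lit 84, nat_lit 83], [], [nat_lit 0, nat_lit 0], nat_lit 9, nat_lit 1, []⟩,
  ⟨[nat_lit 87, nat_lit 84, nat_lit 83], [], [nat_lit 0, nat_lit 0], nat_lit 9, nat_lit 1, []⟩,
  ⟨[nat_lit 87, nat_lit 84, nat_lit 83], [], [nat_lit 0, nat_lit 0], nat_lit 9, nat_lit 1, []⟩,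
  ⟨[nat_lit 87, nat_lit 84, nat_lit 83], [], [nat_lit 0, nat_lit 0], nat_lit 9, nat_lit 1, []⟩,
  ⟨[nat_lit 87, nat_lit 84, nat_lit 83], [], [nat_lit 0, nat_lit 0], nat_lit 9, nat_lit 1, []⟩,
  ⟨[nat_lit 87, nat_lit 84, nat_lit 82], [], [nat_lit 0x47d0000047c0000047b0000047a00000479000004780000047700000476000004750000, nat_lit 0, nat_lit 0], nat_lit 54, nat_lit 1, []⟩,
  ⟨[nat_lit 87, nat_lit 84, nat_lit 83], [], [nat_lit 0, nat_lit 0], nat_lit 18, nat_lit 1, []⟩,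
  ⟨[nat_lit 87, nat_lit 84, nat_lit 83], [], [nat_lit 0, nat_lit 0], nat_lit 18, nat_lit 1, []⟩,
  ⟨[nat_lit 87, nat_lit 84, nat_lit 77], [], [nat_lit 0, nat_lit 0], nat_lit 18, nat_lit 1, []⟩,
  ⟨[nat_lit 87, nat_lit 84, nat_lit 83], [], [nat_lit 0, nat_lit 0], nat_lit 18, nat_lit 1, []⟩,
  ⟨[nat_lit 87, nat_lit 84, nat_lit 83], [], [nat_lit 0, nat_lit 0], nat_lit 18, nat_lit 1, []⟩,
  ⟨[nat_lit 87, nat_lit 84, nat_lit 83], [], [nat_lit 0, nat_lit 0], nat_lit 18, nat_lit 1, []⟩,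
  ⟨[nat_lit 87, nat_lit 84, nat_lit 83], [], [nat_lit 0, nat_lit 0], nat_lit 18, nat_lit 1, []⟩,
  ⟨[nat_lit 94, nat_lit 93, nat_lit 91], [], [nat_lit 0x8910000088e0000088b, nat_lit 0, nat_lit 0, nat_lit 0x47e9c9804809c98047f9c98047f9ba3047e9ba304809ba304800000047f0000047e0000, nat_lit 0], nat_lit 4374, nat_lit 1, []⟩,
  ⟨[nat_lit 95, nat_lit 93, nat_lit 91], [], [nat_lit 0x48308ea048208ea04815141048355110482514104810943048300000482000004810000, nat_lit 0, nat_lit 0, nat_lit 0], nat_lit 4374, nat_lit 1, []⟩,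
  ⟨[nat_lit 95, nat_lit 93, nat_lit 91], [], [nat_lit 0, nat_lit 0, nat_lit 0x48408ea048608ea048508ea048509430484094304860943048600000485000004840000, nat_lit 0], nat_lit 4374, nat_lit 1, []⟩,
  ⟨[nat_lit 95, nat_lit 93, nat_lit 91], [], [nat_lit 0, nat_lit 0, nat_lit 0x48809430487094304890943048708ea048908ea048808ea048900000488000004870000, nat_lit 0], nat_lit 2187, nat_lit 1, []⟩,
  ⟨[nat_lit 99, nat_lit 95, nat_lit 91], [], [nat_lit 0x48c99c6048b99c6048a99c6048c4ce3048b4ce3048a4ce3048c0000048b0000048a0000, nat_lit 0, nat_lit 0, nat_lit 0], nat_lit 4374, nat_lit 1, []⟩]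
theorem cc12 : (Nat.beq (lst ndF cl12 441) 0 && Nat.beq (441 + cl12.length) 561) = true := by
  decide +kernel
noncomputable def cl13 : List Nd := [
  ⟨[nat_lit 99, nat_lit 95], [], [nat_lit 0x48f4ce3048e4ce3048d4ce3048f99c6048e99c6048d99c6048f0000048e0000048d0000, nat_lit 0, nat_lit 0x4924ce30492a15d0492594504905511049199c60492514104919e2404909e2404929e240491594504914ce30491a15d049299c604905141049155110490a1f40492a1f40491a1f40490a15d0490594504904ce30491514104925511049099c6049200000491000004900000, nat_lit 0], nat_lit 2187, nat_lit 1, []⟩,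
  ⟨[nat_lit 96, nat_lit 95, nat_lit 91, nat_lit 65], [], [nat_lit 0, nat_lit 0, nat_lit 0], nat_lit 27, nat_lit 1, []⟩,
  ⟨[nat_lit 96, nat_lit 95, nat_lit 91, nat_lit 66], [], [nat_lit 0, nat_lit 0, nat_lit 0], nat_lit 27, nat_lit 1, []⟩,
  ⟨[nat_lit 99, nat_lit 96, nat_lit 95, nat_lit 91], [], [nat_lit 0, nat_lit 0, nat_lit 0], nat_lit 27, nat_lit 1, []⟩,
  ⟨[nat_lit 94, nat_lit 93, nat_lit 91], [], [nat_lit 0x8910000088e0000088b, nat_lit 0, nat_lit 0, nat_lit 0x4939c9804959c9804949c9804949ba304939ba304959ba3049500000494000004930000, nat_lit 0], nat_lit 4374, nat_lit 1, []⟩,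
  ⟨[nat_lit 95, nat_lit 93, nat_lit 91], [], [nat_lit 0x4985141049708ea049608ea049809430497551104965141049800000497000004960000, nat_lit 0, nat_lit 0, nat_lit 0], nat_lit 4374, nat_lit 1, []⟩,
  ⟨[nat_lit 95, nat_lit 93, nat_lit 91], [], [nat_lit 0, nat_lit 0, nat_lit 0x49908ea049b08ea049a08ea049a094304990943049b0943049b0000049a000004990000, nat_lit 0], nat_lit 4374, nat_lit 1, []⟩,
  ⟨[nat_lit 95, nat_lit 93, nat_lit 91], [], [nat_lit 0, nat_lit 0, nat_lit 0x49d0943049c0943049e0943049c08ea049e08ea049d08ea049e0000049d0000049c0000, nat_lit 0], nat_lit 2187, nat_lit 1, []⟩,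
  ⟨[nat_lit 99, nat_lit 95, nat_lit 91], [], [nat_lit 0x4a199c604a099c6049f99c604a14ce304a04ce3049f4ce304a1000004a00000049f0000, nat_lit 0, nat_lit 0, nat_lit 0], nat_lit 4374, nat_lit 1, []⟩,
  ⟨[nat_lit 99, nat_lit 95], [], [nat_lit 0x4a44ce304a34ce304a24ce304a499c604a399c604a299c604a4000004a3000004a20000, nat_lit 0, nat_lit 0x4a5a15d04a5594504a6a15d04a7594504a699c604a6551104a69e2404a799c604a6a1f404a6594504a64ce304a7a1f404a5551104a74ce304a7a15d04a7514104a59e2404a7551104a79e2404a7000004a54ce304a6514104a5514104a599c604a5a1f404a6000004a50000, nat_lit 0], nat_lit 2187, nat_lit 1, []⟩,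
  ⟨[nat_lit 96, nat_lit 95, nat_lit 91, nat_lit 66], [], [nat_lit 0, nat_lit 0, nat_lit 0], nat_lit 27, nat_lit 1, []⟩,
  ⟨[nat_lit 96, nat_lit 95, nat_lit 91, nat_lit 65], [], [nat_lit 0, nat_lit 0, nat_lit 0], nat_lit 27, nat_lit 1, []⟩,
  ⟨[nat_lit 99, nat_lit 96, nat_lit 95, nat_lit 91], [], [nat_lit 0, nat_lit 0, nat_lit 0], nat_lit 27, nat_lit 1, []⟩,
  ⟨[nat_lit 94, nat_lit 93, nat_lit 91], [], [nat_lit 0x8910000088e0000088b, nat_lit 0, nat_lit 0, nat_lit 0x4a89c9804aa9c9804a99c9804a99ba304a89ba304aa9ba304aa000004a9000004a80000, nat_lit 0], nat_lit 4374, nat_lit 1, []⟩,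
  ⟨[nat_lit 95, nat_lit 93, nat_lit 91], [], [nat_lit 0x4ad08ea04ac514104ab08ea04ad514104ac094304ab551104ad000004ac000004ab0000, nat_lit 0, nat_lit 0, nat_lit 0], nat_lit 2187, nat_lit 1, []⟩,
  ⟨[nat_lit 95, nat_lit 93, nat_lit 91], [], [nat_lit 0, nat_lit 0, nat_lit 0x4ae08ea04b008ea04af08ea04af094304ae094304b0094304b0000004af000004ae0000, nat_lit 0], nat_lit 4374, nat_lit 1, []⟩,
  ⟨[nat_lit 95, nat_lit 93, nat_lit 91], [], [nat_lit 0, nat_lit 0, nat_lit 0x4b2094304b1094304b3094304b108ea04b308ea04b208ea04b3000004b2000004b10000, nat_lit 0], nat_lit 2187, nat_lit 1, []⟩,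
  ⟨[nat_lit 99, nat_lit 95, nat_lit 91], [], [nat_lit 0x4b699c604b599c604b499c604b64ce304b54ce304b44ce304b6000004b5000004b40000, nat_lit 0, nat_lit 0, nat_lit 0], nat_lit 4374, nat_lit 1, []⟩,
  ⟨[nat_lit 99, nat_lit 95], [], [nat_lit 0x4b94ce304b84ce304b74ce304b999c604b899c604b799c604b9000004b8000004b70000, nat_lit 0, nat_lit 0x4bb4ce304bba15d04bca1f404bc594504ba514104bca15d04baa1f404bc99c604bc551104baa15d04ba594504bb594504bb99c604bc4ce304bb514104bc514104bba1f404bb9e2404bc9e2404bc000004ba4ce304ba551104bb551104ba99c604bb000004ba9e2404ba0000, nat_lit 0], nat_lit 2187, nat_lit 1, []⟩,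
  ⟨[nat_lit 96, nat_lit 95, nat_lit 91, nat_lit 66], [], [nat_lit 0, nat_lit 0, nat_lit 0], nat_lit 27, nat_lit 1, []⟩,
  ⟨[nat_lit 96, nat_lit 95, nat_lit 91, nat_lit 65], [], [nat_lit 0, nat_lit 0, nat_lit 0], nat_lit 27, nat_lit 1, []⟩,
  ⟨[nat_lit 99, nat_lit 96, nat_lit 95, nat_lit 91], [], [nat_lit 0, nat_lit 0, nat_lit 0], nat_lit 27, nat_lit 1, []⟩,
  ⟨[nat_lit 97, nat_lit 93, nat_lit 91], [], [nat_lit 0, nat_lit 0, nat_lit 0x4bd9c9804bf9c9804be9c9804be9ba304bd9ba304bf9ba304bf000004be000004bd0000, nat_lit 0], nat_lit 81, nat_lit 1, []⟩,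
  ⟨[nat_lit 97, nat_lit 93, nat_lit 91], [], [nat_lit 0, nat_lit 0, nat_lit 0x4c19c9804c09c9804c29c9804c09ba304c29ba304c19ba304c2000004c1000004c00000, nat_lit 0], nat_lit 81, nat_lit 1, []⟩,
  ⟨[nat_lit 99, nat_lit 97], [nat_lit 2190], [nat_lit 0x4c399c604c34ce304c30000, nat_lit 0, nat_lit 0x4c699c604c54ce304c49ba304c64ce304c599c604c49c9804c6000004c5000004c40000, nat_lit 0], nat_lit 81, nat_lit 0, [(nat_lit 200, [nat_lit 1, nat_lit 3, nat_lit 9, nat_lit 27, nat_lit 2187])]⟩,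
  ⟨[nat_lit 99, nat_lit 97, nat_lit 91], [], [nat_lit 0, nat_lit 0, nat_lit 0x4c89ba304c79ba304c99ba304c79c9804c99c9804c89c9804c9000004c8000004c70000, nat_lit 0], nat_lit 81, nat_lit 1, []⟩,
  ⟨[nat_lit 99, nat_lit 97, nat_lit 91], [], [nat_lit 0, nat_lit 0, nat_lit 0x4ca9ba304cc9ba304cb9ba304cb9c9804ca9c9804cc9c9804cc000004cb000004ca0000, nat_lit 0], nat_lit 81, nat_lit 1, []⟩,
  ⟨[nat_lit 99, nat_lit 97], [nat_lit 2193], [nat_lit 0x4cd4ce304cd99c604cd0000, nat_lit 0, nat_lit 0x4d04ce304cf99c604d2000004d099c604cf4ce304d1000004d0000004cf000004ce0000, nat_lit 0], nat_lit 243, nat_lit 1, []⟩,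
  ⟨[nat_lit 99, nat_lit 97, nat_lit 91], [], [nat_lit 0, nat_lit 0, nat_lit 0x4d59c9804d59ba304d5000004d49c9804d49ba304d4000004d39c9804d39ba304d30000, nat_lit 0], nat_lit 81, nat_lit 1, []⟩,
  ⟨[nat_lit 99, nat_lit 97, nat_lit 91], [], [nat_lit 0, nat_lit 0, nat_lit 0x4d89ba304d89c9804d8000004d79ba304d79c9804d7000004d69ba304d69c9804d60000, nat_lit 0], nat_lit 81, nat_lit 1, []⟩,
  ⟨[nat_lit 94, nat_lit 93, nat_lit 74], [], [nat_lit 0], nat_lit 3, nat_lit 1, []⟩,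
  ⟨[nat_lit 94, nat_lit 93, nat_lit 74], [], [nat_lit 0], nat_lit 3, nat_lit 1, []⟩,
  ⟨[nat_lit 94, nat_lit 93, nat_lit 74], [], [nat_lit 0], nat_lit 3, nat_lit 1, []⟩,
  ⟨[nat_lit 97, nat_lit 94, nat_lit 93], [], [nat_lit 0], nat_lit 3, nat_lit 1, []⟩,
  ⟨[nat_lit 97, nat_lit 94, nat_lit 93], [], [nat_lit 0], nat_lit 3, nat_lit 1, []⟩,
  ⟨[nat_lit 97, nat_lit 94, nat_lit 93], [], [nat_lit 0], nat_lit 3, nat_lit 1, []⟩,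
  ⟨[nat_lit 97, nat_lit 94, nat_lit 93], [], [nat_lit 0], nat_lit 3, nat_lit 1, []⟩,
  ⟨[nat_lit 97, nat_lit 94, nat_lit 93], [], [nat_lit 0], nat_lit 3, nat_lit 1, []⟩,
  ⟨[nat_lit 97, nat_lit 94, nat_lit 93], [], [nat_lit 0], nat_lit 3, nat_lit 1, []⟩,
  ⟨[nat_lit 97, nat_lit 93, nat_lit 91], [], [nat_lit 0x4db08ea04da08ea04d908ea04db094304da094304d9094304db000004da000004d90000, nat_lit 0, nat_lit 0, nat_lit 0], nat_lit 486, nat_lit 1, []⟩,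
  ⟨[nat_lit 97, nat_lit 93, nat_lit 91], [], [nat_lit 0, nat_lit 0, nat_lit 0x4dc08ea04de08ea04dd08ea04dd094304dc094304de094304de000004dd000004dc0000, nat_lit 0], nat_lit 324, nat_lit 1, []⟩,
  ⟨[nat_lit 97, nat_lit 93, nat_lit 91], [], [nat_lit 0, nat_lit 0, nat_lit 0x4e0094304df094304e1094304df08ea04e108ea04e008ea04e1000004e0000004df0000, nat_lit 0], nat_lit 567, nat_lit 1, []⟩,
  ⟨[nat_lit 99, nat_lit 97, nat_lit 91], [], [nat_lit 0x4e499c604e399c604e299c604e44ce304e34ce304e24ce304e4000004e3000004e20000, nat_lit 0, nat_lit 0, nat_lit 0], nat_lit 243, nat_lit 1, []⟩,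
  ⟨[nat_lit 99, nat_lit 97, nat_lit 91], [], [nat_lit 0, nat_lit 0, nat_lit 0x4e64ce304e54ce304e74ce304e599c604e799c604e699c604e7000004e6000004e50000, nat_lit 0], nat_lit 324, nat_lit 1, []⟩,
  ⟨[nat_lit 99, nat_lit 97, nat_lit 91], [], [nat_lit 0, nat_lit 0, nat_lit 0x4e899c604ea99c604e999c604e94ce304e84ce304ea4ce304ea000004e9000004e80000, nat_lit 0], nat_lit 567, nat_lit 1, []⟩,
  ⟨[nat_lit 99, nat_lit 97], [], [nat_lit 0x4ed4ce304ec4ce304eb4ce304ed99c604ec99c604eb99c604ed000004ec000004eb0000, nat_lit 0, nat_lit 0x4f04ce304f199c604f64ce304f44ce304ef99c604f699c604f24ce304f399c604f6000004f299c604ef4ce304f54ce304f099c604f34ce304f599c604f499c604f14ce304f5000004f4000004f3000004ee4ce304f2000004f1000004ee99c604f0000004ef000004ee0000, nat_lit 0], nat_lit 243, nat_lit 1, []⟩,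
  ⟨[nat_lit 99, nat_lit 97, nat_lit 91], [], [nat_lit 0, nat_lit 0, nat_lit 0x4f94ce304f999c604f9000004f84ce304f899c604f8000004f74ce304f799c604f70000, nat_lit 0], nat_lit 324, nat_lit 1, []⟩,
  ⟨[nat_lit 99, nat_lit 97, nat_lit 91], [], [nat_lit 0, nat_lit 0, nat_lit 0x4fc4ce304fc99c604fc000004fb4ce304fb99c604fb000004fa4ce304fa99c604fa0000, nat_lit 0], nat_lit 567, nat_lit 1, []⟩,
  ⟨[nat_lit 97, nat_lit 93, nat_lit 91], [], [nat_lit 0x4ff08ea04fe08ea04fd08ea04ff094304fe094304fd094304ff000004fe000004fd0000, nat_lit 0, nat_lit 0, nat_lit 0], nat_lit 486, nat_lit 1, []⟩,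
  ⟨[nat_lit 97, nat_lit 93, nat_lit 91], [], [nat_lit 0, nat_lit 0, nat_lit 0x50009430502094305010943050108ea050008ea050208ea050200000501000005000000, nat_lit 0], nat_lit 567, nat_lit 1, []⟩,
  ⟨[nat_lit 97, nat_lit 93, nat_lit 91], [], [nat_lit 0, nat_lit 0, nat_lit 0x50408ea050308ea050508ea050309430505094305040943050500000504000005030000, nat_lit 0], nat_lit 324, nat_lit 1, []⟩,
  ⟨[nat_lit 99, nat_lit 97, nat_lit 91], [], [nat_lit 0x50899c6050799c6050699c605084ce305074ce305064ce3050800000507000005060000, nat_lit 0, nat_lit 0, nat_lit 0], nat_lit 243, nat_lit 1, []⟩,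
  ⟨[nat_lit 99, nat_lit 97, nat_lit 91], [], [nat_lit 0, nat_lit 0, nat_lit 0x50a99c6050999c6050b99c605094ce3050b4ce3050a4ce3050b0000050a000005090000, nat_lit 0], nat_lit 567, nat_lit 1, []⟩,
  ⟨[nat_lit 99, nat_lit 97, nat_lit 91], [], [nat_lit 0, nat_lit 0, nat_lit 0x50c4ce3050e4ce3050d4ce3050d99c6050c99c6050e99c6050e0000050d0000050c0000, nat_lit 0], nat_lit 324, nat_lit 1, []⟩,
  ⟨[nat_lit 99, nat_lit 91], [], [nat_lit 0x5114ce305104ce3050f4ce3051199c6051099c6050f99c60511000005100000050f0000, nat_lit 0, nat_lit 0x5164ce3051399c6051a99c605144ce3051799c6051a4ce305184ce3051599c6051a0000051499c605154ce3051999c6051899c605134ce305194ce3051699c605174ce3051900000518000005170000051299c6051600000515000005124ce3051400000513000005120000, nat_lit 0], nat_lit 243, nat_lit 1, []⟩,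
  ⟨[nat_lit 99, nat_lit 97, nat_lit 91], [], [nat_lit 0, nat_lit 0, nat_lit 0x51d99c6051d4ce3051d0000051c99c6051c4ce3051c0000051b99c6051b4ce3051b0000, nat_lit 0], nat_lit 567, nat_lit 1, []⟩,
  ⟨[nat_lit 99, nat_lit 97, nat_lit 91], [], [nat_lit 0, nat_lit 0, nat_lit 0x52099c605204ce305200000051f99c6051f4ce3051f0000051e99c6051e4ce3051e0000, nat_lit 0], nat_lit 324, nat_lit 1, []⟩,
  ⟨[nat_lit 95, nat_lit 91, nat_lit 75], [], [nat_lit 0, nat_lit 0, nat_lit 0], nat_lit 27, nat_lit 1, []⟩,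
  ⟨[nat_lit 95, nat_lit 91, nat_lit 75], [], [nat_lit 0, nat_lit 0, nat_lit 0], nat_lit 27, nat_lit 1, []⟩,
  ⟨[nat_lit 95, nat_lit 91, nat_lit 75], [], [nat_lit 0, nat_lit 0, nat_lit 0], nat_lit 54, nat_lit 1, []⟩,
  ⟨[nat_lit 95, nat_lit 93, nat_lit 55], [], [nat_lit 0], nat_lit 3, nat_lit 1, []⟩,
  ⟨[nat_lit 95, nat_lit 93, nat_lit 55], [], [nat_lit 0], nat_lit 3, nat_lit 1, []⟩,
  ⟨[nat_lit 95, nat_lit 93, nat_lit 55], [], [nat_lit 0], nat_lit 3, nat_lit 1, []⟩,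
  ⟨[nat_lit 97, nat_lit 95, nat_lit 93], [], [nat_lit 0], nat_lit 3, nat_lit 1, []⟩,
  ⟨[nat_lit 97, nat_lit 95, nat_lit 93], [], [nat_lit 0], nat_lit 3, nat_lit 1, []⟩,
  ⟨[nat_lit 97, nat_lit 95, nat_lit 93], [], [nat_lit 0], nat_lit 3, nat_lit 1, []⟩,
  ⟨[nat_lit 97, nat_lit 95, nat_lit 93], [], [nat_lit 0], nat_lit 3, nat_lit 1, []⟩,
  ⟨[nat_lit 97, nat_lit 95, nat_lit 93], [], [nat_lit 0], nat_lit 3, nat_lit 1, []⟩,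
  ⟨[nat_lit 97, nat_lit 95, nat_lit 93], [], [nat_lit 0], nat_lit 3, nat_lit 1, []⟩,
  ⟨[nat_lit 95, nat_lit 93, nat_lit 55], [], [nat_lit 0], nat_lit 3, nat_lit 1, []⟩,
  ⟨[nat_lit 95, nat_lit 93, nat_lit 55], [], [nat_lit 0], nat_lit 3, nat_lit 1, []⟩,
  ⟨[nat_lit 95, nat_lit 93, nat_lit 55], [], [nat_lit 0], nat_lit 3, nat_lit 1, []⟩,
  ⟨[nat_lit 97, nat_lit 95, nat_lit 93], [], [nat_lit 0], nat_lit 3, nat_lit 1, []⟩,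
  ⟨[nat_lit 97, nat_lit 95, nat_lit 93], [], [nat_lit 0], nat_lit 3, nat_lit 1, []⟩,
  ⟨[nat_lit 97, nat_lit 95, nat_lit 93], [], [nat_lit 0], nat_lit 3, nat_lit 1, []⟩,
  ⟨[nat_lit 97, nat_lit 95, nat_lit 93], [], [nat_lit 0], nat_lit 3, nat_lit 1, []⟩,
  ⟨[nat_lit 97, nat_lit 95, nat_lit 93], [], [nat_lit 0], nat_lit 3, nat_lit 1, []⟩,
  ⟨[nat_lit 97, nat_lit 95, nat_lit 93], [], [nat_lit 0], nat_lit 3, nat_lit 1, []⟩,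
  ⟨[nat_lit 99, nat_lit 97, nat_lit 95], [], [nat_lit 0, nat_lit 0, nat_lit 0], nat_lit 27, nat_lit 1, []⟩,
  ⟨[nat_lit 99, nat_lit 97, nat_lit 95], [], [nat_lit 0, nat_lit 0, nat_lit 0], nat_lit 27, nat_lit 1, []⟩,
  ⟨[nat_lit 99, nat_lit 97, nat_lit 95], [], [nat_lit 0, nat_lit 0, nat_lit 0], nat_lit 27, nat_lit 1, []⟩,
  ⟨[nat_lit 99, nat_lit 97], [], [nat_lit 0, nat_lit 0x53b0000053a000005390000053800000537000005360000053500000534000005330000053200000531000005300000052f0000052e0000052d0000052c0000052b0000052a0000052900000528000005270000052600000525000005240000052300000522000005210000, nat_lit 0], nat_lit 27, nat_lit 1, []⟩,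
  ⟨[nat_lit 99, nat_lit 97], [], [nat_lit 0, nat_lit 0x5560000055500000554000005530000055200000551000005500000054f0000054e0000054d0000054c0000054b0000054a000005490000054800000547000005460000054500000544000005430000054200000541000005400000053f0000053e0000053d0000053c0000, nat_lit 0], nat_lit 27, nat_lit 1, []⟩,
  ⟨[nat_lit 99, nat_lit 97], [], [nat_lit 0, nat_lit 0x571000005700000056f0000056e0000056d0000056c0000056b0000056a000005690000056800000567000005660000056500000564000005630000056200000561000005600000055f0000055e0000055d0000055c0000055b0000055a0000055900000558000005570000, nat_lit 0], nat_lit 27, nat_lit 1, []⟩,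
  ⟨[nat_lit 99, nat_lit 97], [], [nat_lit 0], nat_lit 3, nat_lit 1, []⟩,
  ⟨[nat_lit 99, nat_lit 97], [], [nat_lit 0], nat_lit 3, nat_lit 1, []⟩,
  ⟨[nat_lit 99, nat_lit 97], [], [nat_lit 0], nat_lit 3, nat_lit 1, []⟩,
  ⟨[nat_lit 99, nat_lit 97], [], [nat_lit 0], nat_lit 3, nat_lit 1, []⟩,
  ⟨[nat_lit 99, nat_lit 97], [], [nat_lit 0], nat_lit 3, nat_lit 1, []⟩,
  ⟨[nat_lit 99, nat_lit 97], [], [nat_lit 0], nat_lit 3, nat_lit 1, []⟩,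
  ⟨[nat_lit 99, nat_lit 97], [], [nat_lit 0], nat_lit 3, nat_lit 1, []⟩,
  ⟨[nat_lit 99, nat_lit 95], [], [nat_lit 0], nat_lit 3, nat_lit 1, []⟩,
  ⟨[nat_lit 99, nat_lit 95], [], [nat_lit 0], nat_lit 3, nat_lit 1, []⟩,
  ⟨[nat_lit 97, nat_lit 95, nat_lit 91, nat_lit 75], [], [nat_lit 0, nat_lit 0, nat_lit 0], nat_lit 27, nat_lit 1, []⟩,
  ⟨[nat_lit 97, nat_lit 95, nat_lit 91], [], [nat_lit 0, nat_lit 0x573a7630572a7630574a763057259a4057459a4057359a4057400000573000005720000, nat_lit 0], nat_lit 27, nat_lit 0, [(nat_lit 100, []), (nat_lit 2, [nat_lit 0x5898000000000000012900000000000900030001])]⟩,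
  ⟨[nat_lit 97, nat_lit 95, nat_lit 91], [], [nat_lit 0, nat_lit 0x575a7c20577a7c20576a7c2057659dc057559dc057759dc057700000576000005750000, nat_lit 0], nat_lit 27, nat_lit 0, [(nat_lit 100, []), (nat_lit 2, [nat_lit 0x6417000000000000010e00000000000900030001])]⟩,
  ⟨[nat_lit 99, nat_lit 97, nat_lit 95, nat_lit 91], [], [nat_lit 0, nat_lit 0, nat_lit 0], nat_lit 27, nat_lit 1, []⟩,
  ⟨[nat_lit 99, nat_lit 97, nat_lit 95, nat_lit 91], [], [nat_lit 0, nat_lit 0, nat_lit 0], nat_lit 27, nat_lit 1, []⟩,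
  ⟨[nat_lit 99, nat_lit 97, nat_lit 95, nat_lit 91], [], [nat_lit 0, nat_lit 0, nat_lit 0], nat_lit 27, nat_lit 1, []⟩,
  ⟨[nat_lit 99, nat_lit 97, nat_lit 91], [], [nat_lit 0, nat_lit 0x57aa687057aa5a1057a00000579a6870579a5a1057900000578a6870578a5a105780000, nat_lit 0], nat_lit 27, nat_lit 0, [(nat_lit 100, []), (nat_lit 2, [nat_lit 0x4d8500000000000000f300000000000900030001])]⟩,
  ⟨[nat_lit 99, nat_lit 97, nat_lit 95, nat_lit 75], [], [nat_lit 0, nat_lit 0, nat_lit 0], nat_lit 27, nat_lit 1, []⟩,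
  ⟨[nat_lit 99, nat_lit 97, nat_lit 95, nat_lit 75], [], [nat_lit 0, nat_lit 0, nat_lit 0], nat_lit 27, nat_lit 1, []⟩,
  ⟨[nat_lit 97, nat_lit 95, nat_lit 91], [], [nat_lit 0x57d61f8057c61f8057b61f8057d5d39057c5d39057b5d39057d0000057c0000057b0000, nat_lit 0, nat_lit 0], nat_lit 27, nat_lit 0, [(nat_lit 100, []), (nat_lit 2, [nat_lit 0xe3d000000f300000000000900030001])]⟩,
  ⟨[nat_lit 97, nat_lit 95, nat_lit 91, nat_lit 77], [], [nat_lit 0, nat_lit 0, nat_lit 0], nat_lit 54, nat_lit 1, []⟩,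
  ⟨[nat_lit 97, nat_lit 95, nat_lit 91, nat_lit 77], [], [nat_lit 0, nat_lit 0, nat_lit 0], nat_lit 54, nat_lit 1, []⟩,
  ⟨[nat_lit 99, nat_lit 97, nat_lit 95, nat_lit 91], [], [nat_lit 0, nat_lit 0, nat_lit 0], nat_lit 27, nat_lit 1, []⟩,
  ⟨[nat_lit 99, nat_lit 97, nat_lit 95, nat_lit 91], [], [nat_lit 0, nat_lit 0, nat_lit 0], nat_lit 54, nat_lit 1, []⟩,
  ⟨[nat_lit 99, nat_lit 97, nat_lit 95, nat_lit 91], [], [nat_lit 0, nat_lit 0, nat_lit 0], nat_lit 54, nat_lit 1, []⟩,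
  ⟨[nat_lit 99, nat_lit 97, nat_lit 91, nat_lit 77], [], [nat_lit 0, nat_lit 0, nat_lit 0], nat_lit 54, nat_lit 1, []⟩,
  ⟨[nat_lit 99, nat_lit 97, nat_lit 95, nat_lit 77], [], [nat_lit 0, nat_lit 0, nat_lit 0], nat_lit 54, nat_lit 1, []⟩,
  ⟨[nat_lit 99, nat_lit 97, nat_lit 95, nat_lit 77], [], [nat_lit 0, nat_lit 0, nat_lit 0], nat_lit 54, nat_lit 1, []⟩,
  ⟨[nat_lit 99, nat_lit 93, nat_lit 92, nat_lit 91], [], [nat_lit 0x57e7b8a057e7bf4057e0000, nat_lit 0, nat_lit 0, nat_lit 0], nat_lit 3807, nat_lit 1, []⟩,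
  ⟨[nat_lit 99, nat_lit 93, nat_lit 92, nat_lit 91], [], [nat_lit 0x57fcd08057f6b0d057f0000, nat_lit 0, nat_lit 0, nat_lit 0], nat_lit 5265, nat_lit 1, []⟩,
  ⟨[nat_lit 99, nat_lit 93, nat_lit 92, nat_lit 91], [], [nat_lit 0x58073c20580785105800000, nat_lit 0, nat_lit 0, nat_lit 0], nat_lit 3645, nat_lit 1, []⟩,
  ⟨[nat_lit 99, nat_lit 97, nat_lit 92, nat_lit 91], [], [nat_lit 0, nat_lit 0, nat_lit 0], nat_lit 54, nat_lit 1, []⟩,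
  ⟨[nat_lit 99, nat_lit 97, nat_lit 92, nat_lit 91], [], [nat_lit 0, nat_lit 0, nat_lit 0], nat_lit 54, nat_lit 1, []⟩,
  ⟨[nat_lit 99, nat_lit 97, nat_lit 92], [], [nat_lit 0x5837c1d05827c1d05817c1d0583d5f20582d5f20581d5f2058300000582000005810000, nat_lit 0, nat_lit 0], nat_lit 54, nat_lit 0, [(nat_lit 100, []), (nat_lit 2, [nat_lit 0x15f00000000000900030001])]⟩]
theorem cc13 : (Nat.beq (lst ndF cl13 561) 0 && Nat.beq (561 + cl13.length) 678) = true := by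
  decide +kernel
noncomputable def cl14 : List Nd := [
  ⟨[nat_lit 99, nat_lit 93, nat_lit 92, nat_lit 91], [], [nat_lit 0x58490740584c03e05840000, nat_lit 0, nat_lit 0, nat_lit 0], nat_lit 3726, nat_lit 1, []⟩,
  ⟨[nat_lit 99, nat_lit 93, nat_lit 92, nat_lit 91], [], [nat_lit 0x585840a0585bcaa05850000, nat_lit 0, nat_lit 0, nat_lit 0], nat_lit 5103, nat_lit 1, []⟩,
  ⟨[nat_lit 99, nat_lit 93, nat_lit 92, nat_lit 91], [], [nat_lit 0x586b3670586888205860000, nat_lit 0, nat_lit 0, nat_lit 0], nat_lit 3807, nat_lit 1, []⟩,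
  ⟨[nat_lit 99, nat_lit 97, nat_lit 92], [], [nat_lit 0x589c0a50588c0a50587c0a50589c4de0588c4de0587c4de058900000588000005870000, nat_lit 0, nat_lit 0], nat_lit 27, nat_lit 0, [(nat_lit 100, []), (nat_lit 2, [nat_lit 0x1cb00000000000900030001])]⟩,
  ⟨[nat_lit 99, nat_lit 97, nat_lit 92, nat_lit 91], [], [nat_lit 0, nat_lit 0, nat_lit 0], nat_lit 54, nat_lit 1, []⟩,
  ⟨[nat_lit 99, nat_lit 97, nat_lit 92, nat_lit 91], [], [nat_lit 0, nat_lit 0, nat_lit 0], nat_lit 54, nat_lit 1, []⟩,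
  ⟨[nat_lit 55], [nat_lit 9, nat_lit 3], [nat_lit 0x58a19a1058a3342058a0000, nat_lit 0, nat_lit 0, nat_lit 0], nat_lit 81, nat_lit 0, [(nat_lit 1, [nat_lit 0x900030001])]⟩,
  ⟨[nat_lit 55], [nat_lit 9, nat_lit 3], [nat_lit 0x58b19a1058b4ce3058b0000, nat_lit 0, nat_lit 0, nat_lit 0], nat_lit 81, nat_lit 0, [(nat_lit 1, [nat_lit 0x900030001])]⟩,
  ⟨[nat_lit 55], [nat_lit 9, nat_lit 3], [nat_lit 0x58c4ce3058c99c6058c0000, nat_lit 0, nat_lit 0, nat_lit 0], nat_lit 81, nat_lit 0, [(nat_lit 1, [nat_lit 0x900030001])]⟩,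
  ⟨[nat_lit 55, nat_lit 54], [nat_lit 9], [nat_lit 0, nat_lit 0, nat_lit 0], nat_lit 27, nat_lit 1, []⟩,
  ⟨[nat_lit 66, nat_lit 64], [nat_lit 99], [nat_lit 0x58d1e2a058d3b9f058d0000, nat_lit 0, nat_lit 0], nat_lit 27, nat_lit 1, []⟩,
  ⟨[nat_lit 66], [nat_lit 99, nat_lit 1], [nat_lit 0, nat_lit 0], nat_lit 9, nat_lit 0, [(nat_lit 1, [nat_lit 0x630000000000030001])]⟩,
  ⟨[nat_lit 66, nat_lit 63], [nat_lit 99], [nat_lit 0, nat_lit 0], nat_lit 9, nat_lit 1, []⟩,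
  ⟨[nat_lit 66, nat_lit 63], [nat_lit 99], [nat_lit 0, nat_lit 0], nat_lit 9, nat_lit 1, []⟩,
  ⟨[nat_lit 66, nat_lit 65, nat_lit 62], [], [nat_lit 0, nat_lit 0, nat_lit 0], nat_lit 27, nat_lit 1, []⟩,
  ⟨[nat_lit 66, nat_lit 65, nat_lit 62], [], [nat_lit 0, nat_lit 0, nat_lit 0], nat_lit 27, nat_lit 1, []⟩,
  ⟨[nat_lit 66, nat_lit 65, nat_lit 62], [], [nat_lit 0, nat_lit 0, nat_lit 0], nat_lit 27, nat_lit 1, []⟩,
  ⟨[nat_lit 66, nat_lit 65, nat_lit 62], [], [nat_lit 0, nat_lit 0, nat_lit 0], nat_lit 27, nat_lit 1, []⟩,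
  ⟨[nat_lit 66, nat_lit 65, nat_lit 62], [], [nat_lit 0, nat_lit 0, nat_lit 0], nat_lit 27, nat_lit 1, []⟩,
  ⟨[nat_lit 77], [nat_lit 9, nat_lit 3], [nat_lit 0x58e5141058e5511058e0000, nat_lit 0, nat_lit 0, nat_lit 0], nat_lit 81, nat_lit 0, [(nat_lit 1, [nat_lit 0x900030001])]⟩,
  ⟨[nat_lit 77, nat_lit 74], [nat_lit 9], [nat_lit 0, nat_lit 0, nat_lit 0], nat_lit 27, nat_lit 1, []⟩,
  ⟨[nat_lit 77], [nat_lit 9, nat_lit 3], [nat_lit 0x58f5141058f5511058f0000, nat_lit 0, nat_lit 0, nat_lit 0], nat_lit 81, nat_lit 0, [(nat_lit 1, [nat_lit 0x900030001])]⟩,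
  ⟨[nat_lit 77, nat_lit 74], [nat_lit 9], [nat_lit 0, nat_lit 0, nat_lit 0], nat_lit 54, nat_lit 1, []⟩,
  ⟨[nat_lit 75, nat_lit 55], [nat_lit 3], [nat_lit 0, nat_lit 0, nat_lit 0], nat_lit 27, nat_lit 1, []⟩,
  ⟨[nat_lit 75, nat_lit 55], [nat_lit 3], [nat_lit 0, nat_lit 0, nat_lit 0], nat_lit 27, nat_lit 1, []⟩,
  ⟨[nat_lit 75, nat_lit 55], [nat_lit 3], [nat_lit 0, nat_lit 0, nat_lit 0], nat_lit 27, nat_lit 1, []⟩,
  ⟨[nat_lit 75, nat_lit 55], [nat_lit 3], [nat_lit 0, nat_lit 0, nat_lit 0], nat_lit 27, nat_lit 1, []⟩,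
  ⟨[nat_lit 75, nat_lit 55], [nat_lit 3], [nat_lit 0, nat_lit 0, nat_lit 0], nat_lit 27, nat_lit 1, []⟩,
  ⟨[nat_lit 74], [nat_lit 90, nat_lit 3], [nat_lit 0x1bb400001b9900001bcf, nat_lit 0, nat_lit 0], nat_lit 27, nat_lit 0, [(nat_lit 1, [nat_lit 0x5a0000000000030001])]⟩,
  ⟨[nat_lit 73], [nat_lit 90, nat_lit 1], [nat_lit 0, nat_lit 0], nat_lit 9, nat_lit 0, [(nat_lit 1, [nat_lit 0x5a0000000000030001])]⟩,
  ⟨[nat_lit 73], [nat_lit 90, nat_lit 3], [nat_lit 0, nat_lit 0], nat_lit 9, nat_lit 0, [(nat_lit 1, [nat_lit 0x5a0000000000030001])]⟩,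
  ⟨[nat_lit 73], [nat_lit 90, nat_lit 3], [nat_lit 0, nat_lit 0], nat_lit 9, nat_lit 0, [(nat_lit 1, [nat_lit 0x5a0000000000030001])]⟩,
  ⟨[nat_lit 75, nat_lit 72], [nat_lit 3], [nat_lit 0, nat_lit 0, nat_lit 0], nat_lit 27, nat_lit 0, [(nat_lit 1, [nat_lit 0x30001])]⟩,
  ⟨[nat_lit 75, nat_lit 72], [nat_lit 3], [nat_lit 0, nat_lit 0, nat_lit 0], nat_lit 27, nat_lit 0, [(nat_lit 1, [nat_lit 0x30001])]⟩,
  ⟨[nat_lit 75, nat_lit 72], [nat_lit 3], [nat_lit 0, nat_lit 0, nat_lit 0], nat_lit 27, nat_lit 0, [(nat_lit 1, [nat_lit 0x30001])]⟩,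
  ⟨[nat_lit 75, nat_lit 72], [nat_lit 3], [nat_lit 0, nat_lit 0, nat_lit 0], nat_lit 27, nat_lit 0, [(nat_lit 1, [nat_lit 0x30001])]⟩,
  ⟨[nat_lit 75, nat_lit 72], [nat_lit 3], [nat_lit 0, nat_lit 0, nat_lit 0], nat_lit 27, nat_lit 0, [(nat_lit 1, [nat_lit 0x30001])]⟩,
  ⟨[nat_lit 77, nat_lit 72], [nat_lit 81], [nat_lit 0x59200000591000005900000, nat_lit 0, nat_lit 0], nat_lit 54, nat_lit 1, []⟩,
  ⟨[nat_lit 77], [nat_lit 81, nat_lit 1], [nat_lit 0, nat_lit 0], nat_lit 18, nat_lit 0, [(nat_lit 1, [nat_lit 0x510000000000030001])]⟩,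
  ⟨[nat_lit 77, nat_lit 73], [nat_lit 81], [nat_lit 0, nat_lit 0], nat_lit 18, nat_lit 1, []⟩,
  ⟨[nat_lit 77, nat_lit 73], [nat_lit 81], [nat_lit 0, nat_lit 0], nat_lit 18, nat_lit 1, []⟩,
  ⟨[nat_lit 77], [nat_lit 81, nat_lit 1], [nat_lit 0, nat_lit 0], nat_lit 18, nat_lit 0, [(nat_lit 1, [nat_lit 0x510000000000030001])]⟩,
  ⟨[nat_lit 77], [nat_lit 81, nat_lit 1], [nat_lit 0, nat_lit 0], nat_lit 18, nat_lit 0, [(nat_lit 1, [nat_lit 0x510000000000030001])]⟩,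
  ⟨[nat_lit 77, nat_lit 75], [nat_lit 252], [nat_lit 0x59500000594000005930000, nat_lit 0, nat_lit 0], nat_lit 81, nat_lit 1, []⟩,
  ⟨[nat_lit 77, nat_lit 75], [], [nat_lit 0xfd200000ef1000010ce00000fe400000ee8000010c500000fdb00000edf000010d7, nat_lit 0, nat_lit 0], nat_lit 81, nat_lit 1, []⟩,
  ⟨[nat_lit 77, nat_lit 75], [], [nat_lit 0x107d00000ea000000f810000107400000e9700000f930000108600000e8e00000f8a, nat_lit 0, nat_lit 0], nat_lit 81, nat_lit 1, []⟩,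
  ⟨[nat_lit 77, nat_lit 75], [], [nat_lit 0, nat_lit 0], nat_lit 18, nat_lit 1, []⟩,
  ⟨[nat_lit 77, nat_lit 75], [], [nat_lit 0, nat_lit 0], nat_lit 18, nat_lit 1, []⟩,
  ⟨[nat_lit 77, nat_lit 75], [], [nat_lit 0, nat_lit 0], nat_lit 18, nat_lit 1, []⟩,
  ⟨[nat_lit 77, nat_lit 75], [nat_lit 333], [nat_lit 0x59673c20596d56505960000, nat_lit 0, nat_lit 0], nat_lit 81, nat_lit 1, []⟩,
  ⟨[nat_lit 77, nat_lit 75], [], [nat_lit 0xf3000000ef10000107d00000f4200000ee80000107400000f3900000edf00001086, nat_lit 0, nat_lit 0], nat_lit 81, nat_lit 1, []⟩,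
  ⟨[nat_lit 77, nat_lit 75], [], [nat_lit 0x102c00000ea000000fd20000102300000e9700000fe40000103500000e8e00000fdb, nat_lit 0, nat_lit 0], nat_lit 81, nat_lit 1, []⟩,
  ⟨[nat_lit 77, nat_lit 75], [], [nat_lit 0, nat_lit 0], nat_lit 18, nat_lit 1, []⟩,
  ⟨[nat_lit 77, nat_lit 73], [], [nat_lit 0, nat_lit 0], nat_lit 18, nat_lit 1, []⟩,
  ⟨[nat_lit 77, nat_lit 73], [], [nat_lit 0, nat_lit 0], nat_lit 18, nat_lit 1, []⟩,
  ⟨[nat_lit 77, nat_lit 75], [nat_lit 414], [nat_lit 0x597b7f00597840a05970000, nat_lit 0, nat_lit 0], nat_lit 81, nat_lit 1, []⟩,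
  ⟨[nat_lit 77, nat_lit 75], [], [nat_lit 0xf8100000ef10000102c00000f9300000ee80000102300000f8a00000edf00001035, nat_lit 0, nat_lit 0], nat_lit 81, nat_lit 1, []⟩,
  ⟨[nat_lit 77, nat_lit 75], [], [nat_lit 0x10ce00000ea000000f30000010c500000e9700000f42000010d700000e8e00000f39, nat_lit 0, nat_lit 0], nat_lit 81, nat_lit 1, []⟩,
  ⟨[nat_lit 77, nat_lit 75], [], [nat_lit 0, nat_lit 0], nat_lit 18, nat_lit 1, []⟩,
  ⟨[nat_lit 77, nat_lit 75], [], [nat_lit 0, nat_lit 0], nat_lit 18, nat_lit 1, []⟩,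
  ⟨[nat_lit 77, nat_lit 75], [], [nat_lit 0, nat_lit 0], nat_lit 18, nat_lit 1, []⟩,
  ⟨[nat_lit 77, nat_lit 75], [], [nat_lit 0, nat_lit 0], nat_lit 18, nat_lit 1, []⟩,
  ⟨[nat_lit 77, nat_lit 75], [], [nat_lit 0, nat_lit 0], nat_lit 18, nat_lit 1, []⟩,
  ⟨[nat_lit 77, nat_lit 75], [], [nat_lit 0, nat_lit 0], nat_lit 18, nat_lit 1, []⟩,
  ⟨[nat_lit 77, nat_lit 55], [nat_lit 3645], [nat_lit 0, nat_lit 0], nat_lit 18, nat_lit 1, []⟩,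
  ⟨[nat_lit 77, nat_lit 74], [], [nat_lit 0, nat_lit 0], nat_lit 18, nat_lit 1, []⟩,
  ⟨[nat_lit 77, nat_lit 74], [], [nat_lit 0, nat_lit 0], nat_lit 18, nat_lit 1, []⟩,
  ⟨[nat_lit 77, nat_lit 75], [], [nat_lit 0, nat_lit 0], nat_lit 18, nat_lit 1, []⟩,
  ⟨[nat_lit 77, nat_lit 75], [], [nat_lit 0, nat_lit 0], nat_lit 18, nat_lit 1, []⟩,
  ⟨[nat_lit 77, nat_lit 75], [], [nat_lit 0, nat_lit 0], nat_lit 18, nat_lit 1, []⟩,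
  ⟨[nat_lit 77, nat_lit 75], [], [nat_lit 0, nat_lit 0], nat_lit 18, nat_lit 1, []⟩,
  ⟨[nat_lit 77, nat_lit 75], [], [nat_lit 0, nat_lit 0], nat_lit 18, nat_lit 1, []⟩,
  ⟨[nat_lit 77, nat_lit 75], [], [nat_lit 0, nat_lit 0], nat_lit 18, nat_lit 1, []⟩,
  ⟨[nat_lit 77, nat_lit 55], [nat_lit 3654], [nat_lit 0, nat_lit 0], nat_lit 18, nat_lit 1, []⟩,
  ⟨[nat_lit 77, nat_lit 74], [], [nat_lit 0, nat_lit 0], nat_lit 18, nat_lit 1, []⟩,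
  ⟨[nat_lit 77, nat_lit 74], [], [nat_lit 0, nat_lit 0], nat_lit 18, nat_lit 1, []⟩,
  ⟨[nat_lit 77, nat_lit 75], [], [nat_lit 0, nat_lit 0], nat_lit 18, nat_lit 1, []⟩,
  ⟨[nat_lit 77, nat_lit 75], [], [nat_lit 0, nat_lit 0], nat_lit 18, nat_lit 1, []⟩,
  ⟨[nat_lit 77, nat_lit 75], [], [nat_lit 0, nat_lit 0], nat_lit 18, nat_lit 1, []⟩,
  ⟨[nat_lit 77, nat_lit 75], [], [nat_lit 0, nat_lit 0], nat_lit 18, nat_lit 1, []⟩,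
  ⟨[nat_lit 77, nat_lit 75], [], [nat_lit 0, nat_lit 0], nat_lit 18, nat_lit 1, []⟩,
  ⟨[nat_lit 77, nat_lit 75], [], [nat_lit 0, nat_lit 0], nat_lit 18, nat_lit 1, []⟩,
  ⟨[nat_lit 77, nat_lit 55], [nat_lit 3663], [nat_lit 0, nat_lit 0], nat_lit 18, nat_lit 1, []⟩,
  ⟨[nat_lit 77, nat_lit 74], [], [nat_lit 0, nat_lit 0], nat_lit 18, nat_lit 1, []⟩,
  ⟨[nat_lit 77, nat_lit 74], [], [nat_lit 0, nat_lit 0], nat_lit 18, nat_lit 1, []⟩,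
  ⟨[nat_lit 77, nat_lit 75], [], [nat_lit 0, nat_lit 0], nat_lit 18, nat_lit 1, []⟩,
  ⟨[nat_lit 77, nat_lit 75], [], [nat_lit 0, nat_lit 0], nat_lit 18, nat_lit 1, []⟩,
  ⟨[nat_lit 77, nat_lit 75], [], [nat_lit 0, nat_lit 0], nat_lit 18, nat_lit 1, []⟩,
  ⟨[nat_lit 76, nat_lit 66], [nat_lit 1], [nat_lit 0, nat_lit 0], nat_lit 9, nat_lit 0, [(nat_lit 1, [nat_lit 0x30001])]⟩,
  ⟨[nat_lit 76, nat_lit 66], [nat_lit 1], [nat_lit 0, nat_lit 0], nat_lit 9, nat_lit 0, [(nat_lit 1, [nat_lit 0x30001])]⟩,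
  ⟨[nat_lit 76, nat_lit 66], [nat_lit 1], [nat_lit 0, nat_lit 0], nat_lit 9, nat_lit 0, [(nat_lit 1, [nat_lit 0x30001])]⟩,
  ⟨[nat_lit 76, nat_lit 66], [nat_lit 1], [nat_lit 0, nat_lit 0], nat_lit 9, nat_lit 0, [(nat_lit 1, [nat_lit 0x30001])]⟩,
  ⟨[nat_lit 76, nat_lit 66], [nat_lit 1], [nat_lit 0, nat_lit 0], nat_lit 9, nat_lit 0, [(nat_lit 1, [nat_lit 0x30001])]⟩,
  ⟨[nat_lit 76, nat_lit 66], [nat_lit 1], [nat_lit 0, nat_lit 0], nat_lit 9, nat_lit 0, [(nat_lit 1, [nat_lit 0x30001])]⟩,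
  ⟨[nat_lit 76, nat_lit 66], [nat_lit 1], [nat_lit 0, nat_lit 0], nat_lit 9, nat_lit 0, [(nat_lit 1, [nat_lit 0x30001])]⟩,
  ⟨[nat_lit 76, nat_lit 66], [nat_lit 1], [nat_lit 0, nat_lit 0], nat_lit 9, nat_lit 0, [(nat_lit 1, [nat_lit 0x30001])]⟩,
  ⟨[nat_lit 76, nat_lit 66], [nat_lit 1], [nat_lit 0, nat_lit 0], nat_lit 9, nat_lit 0, [(nat_lit 1, [nat_lit 0x30001])]⟩,
  ⟨[nat_lit 77, nat_lit 76, nat_lit 66], [], [nat_lit 0, nat_lit 0], nat_lit 9, nat_lit 1, []⟩,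
  ⟨[nat_lit 77, nat_lit 76, nat_lit 66], [], [nat_lit 0, nat_lit 0], nat_lit 9, nat_lit 1, []⟩,
  ⟨[nat_lit 77, nat_lit 76, nat_lit 66], [], [nat_lit 0, nat_lit 0], nat_lit 9, nat_lit 1, []⟩,
  ⟨[nat_lit 77, nat_lit 76, nat_lit 66], [], [nat_lit 0, nat_lit 0], nat_lit 9, nat_lit 1, []⟩,
  ⟨[nat_lit 77, nat_lit 76, nat_lit 66], [], [nat_lit 0, nat_lit 0], nat_lit 9, nat_lit 1, []⟩,
  ⟨[nat_lit 77, nat_lit 76, nat_lit 66], [], [nat_lit 0, nat_lit 0], nat_lit 9, nat_lit 1, []⟩,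
  ⟨[nat_lit 77, nat_lit 76, nat_lit 66], [], [nat_lit 0, nat_lit 0], nat_lit 9, nat_lit 1, []⟩,
  ⟨[nat_lit 77, nat_lit 76, nat_lit 66], [], [nat_lit 0, nat_lit 0], nat_lit 9, nat_lit 1, []⟩,
  ⟨[nat_lit 77, nat_lit 76, nat_lit 66], [], [nat_lit 0, nat_lit 0], nat_lit 9, nat_lit 1, []⟩,
  ⟨[nat_lit 77, nat_lit 76, nat_lit 66], [], [nat_lit 0, nat_lit 0], nat_lit 9, nat_lit 1, []⟩,
  ⟨[nat_lit 77, nat_lit 76, nat_lit 66], [], [nat_lit 0, nat_lit 0], nat_lit 9, nat_lit 1, []⟩,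
  ⟨[nat_lit 77, nat_lit 76, nat_lit 66], [], [nat_lit 0, nat_lit 0], nat_lit 9, nat_lit 1, []⟩,
  ⟨[nat_lit 77, nat_lit 76, nat_lit 66], [], [nat_lit 0, nat_lit 0], nat_lit 9, nat_lit 1, []⟩,
  ⟨[nat_lit 77, nat_lit 76, nat_lit 66], [], [nat_lit 0, nat_lit 0], nat_lit 9, nat_lit 1, []⟩,
  ⟨[nat_lit 77, nat_lit 76, nat_lit 66], [], [nat_lit 0, nat_lit 0], nat_lit 9, nat_lit 1, []⟩,
  ⟨[nat_lit 77, nat_lit 76, nat_lit 66], [], [nat_lit 0, nat_lit 0], nat_lit 9, nat_lit 1, []⟩,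
  ⟨[nat_lit 77, nat_lit 76, nat_lit 66], [], [nat_lit 0, nat_lit 0], nat_lit 9, nat_lit 1, []⟩,
  ⟨[nat_lit 77, nat_lit 76, nat_lit 66], [], [nat_lit 0, nat_lit 0], nat_lit 9, nat_lit 1, []⟩,
  ⟨[nat_lit 88, nat_lit 84], [nat_lit 99], [nat_lit 0x59820b805981e2a05980000, nat_lit 0, nat_lit 0], nat_lit 27, nat_lit 1, []⟩,
  ⟨[nat_lit 88], [nat_lit 99, nat_lit 3], [nat_lit 0, nat_lit 0], nat_lit 9, nat_lit 0, [(nat_lit 1, [nat_lit 0x630000000000030001])]⟩,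
  ⟨[nat_lit 88, nat_lit 83], [nat_lit 99], [nat_lit 0, nat_lit 0], nat_lit 9, nat_lit 1, []⟩,
  ⟨[nat_lit 88, nat_lit 83], [nat_lit 99], [nat_lit 0, nat_lit 0], nat_lit 9, nat_lit 1, []⟩,
  ⟨[nat_lit 84], [nat_lit 90, nat_lit 1], [nat_lit 0xb6d00000b8800000ba3, nat_lit 0, nat_lit 0], nat_lit 54, nat_lit 0, [(nat_lit 1, [nat_lit 0x5a0000000000030001])]⟩]
theorem cc14 : (Nat.beq (lst ndF cl14 678) 0 && Nat.beq (678 + cl14.length) 798) = true := by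
  decide +kernel
noncomputable def cl15 : List Nd := [
  ⟨[nat_lit 83], [nat_lit 90, nat_lit 3], [nat_lit 0, nat_lit 0], nat_lit 9, nat_lit 0, [(nat_lit 1, [nat_lit 0x5a0000000000030001])]⟩,
  ⟨[nat_lit 83], [nat_lit 90, nat_lit 3], [nat_lit 0, nat_lit 0], nat_lit 9, nat_lit 0, [(nat_lit 1, [nat_lit 0x5a0000000000030001])]⟩,
  ⟨[nat_lit 83], [nat_lit 90, nat_lit 3], [nat_lit 0, nat_lit 0], nat_lit 9, nat_lit 0, [(nat_lit 1, [nat_lit 0x5a0000000000030001])]⟩,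
  ⟨[nat_lit 85, nat_lit 55], [nat_lit 3], [nat_lit 0, nat_lit 0], nat_lit 9, nat_lit 0, [(nat_lit 1, [nat_lit 0x30001])]⟩,
  ⟨[nat_lit 85, nat_lit 55], [nat_lit 3], [nat_lit 0, nat_lit 0], nat_lit 9, nat_lit 0, [(nat_lit 1, [nat_lit 0x30001])]⟩,
  ⟨[nat_lit 85, nat_lit 55], [nat_lit 3], [nat_lit 0, nat_lit 0], nat_lit 9, nat_lit 0, [(nat_lit 1, [nat_lit 0x30001])]⟩,
  ⟨[nat_lit 85, nat_lit 55], [nat_lit 3], [nat_lit 0, nat_lit 0], nat_lit 9, nat_lit 0, [(nat_lit 1, [nat_lit 0x30001])]⟩,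
  ⟨[nat_lit 85, nat_lit 55], [nat_lit 3], [nat_lit 0, nat_lit 0], nat_lit 9, nat_lit 0, [(nat_lit 1, [nat_lit 0x30001])]⟩,
  ⟨[nat_lit 85, nat_lit 55], [nat_lit 3], [nat_lit 0, nat_lit 0], nat_lit 9, nat_lit 0, [(nat_lit 1, [nat_lit 0x30001])]⟩,
  ⟨[nat_lit 85, nat_lit 55], [nat_lit 3], [nat_lit 0, nat_lit 0], nat_lit 9, nat_lit 0, [(nat_lit 1, [nat_lit 0x30001])]⟩,
  ⟨[nat_lit 85, nat_lit 55], [nat_lit 3], [nat_lit 0, nat_lit 0], nat_lit 9, nat_lit 0, [(nat_lit 1, [nat_lit 0x30001])]⟩,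
  ⟨[nat_lit 85, nat_lit 55], [nat_lit 3], [nat_lit 0, nat_lit 0], nat_lit 9, nat_lit 0, [(nat_lit 1, [nat_lit 0x30001])]⟩,
  ⟨[nat_lit 86, nat_lit 84], [nat_lit 1], [nat_lit 0, nat_lit 0], nat_lit 27, nat_lit 1, []⟩,
  ⟨[nat_lit 86, nat_lit 84], [nat_lit 1], [nat_lit 0, nat_lit 0], nat_lit 27, nat_lit 1, []⟩,
  ⟨[nat_lit 86, nat_lit 84], [nat_lit 1], [nat_lit 0, nat_lit 0], nat_lit 27, nat_lit 1, []⟩,
  ⟨[nat_lit 86, nat_lit 84], [nat_lit 1], [nat_lit 0, nat_lit 0], nat_lit 27, nat_lit 1, []⟩,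
  ⟨[nat_lit 86, nat_lit 84], [nat_lit 1], [nat_lit 0, nat_lit 0], nat_lit 27, nat_lit 1, []⟩,
  ⟨[nat_lit 86, nat_lit 84], [nat_lit 1], [nat_lit 0, nat_lit 0], nat_lit 27, nat_lit 1, []⟩,
  ⟨[nat_lit 86, nat_lit 84], [nat_lit 1], [nat_lit 0, nat_lit 0], nat_lit 27, nat_lit 1, []⟩,
  ⟨[nat_lit 86, nat_lit 84], [nat_lit 1], [nat_lit 0, nat_lit 0], nat_lit 27, nat_lit 1, []⟩,
  ⟨[nat_lit 86, nat_lit 84], [nat_lit 1], [nat_lit 0, nat_lit 0], nat_lit 27, nat_lit 1, []⟩,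
  ⟨[nat_lit 88, nat_lit 86, nat_lit 84], [], [nat_lit 0, nat_lit 0], nat_lit 27, nat_lit 1, []⟩,
  ⟨[nat_lit 88, nat_lit 86, nat_lit 84], [], [nat_lit 0, nat_lit 0], nat_lit 27, nat_lit 1, []⟩,
  ⟨[nat_lit 88, nat_lit 86, nat_lit 84], [], [nat_lit 0, nat_lit 0], nat_lit 27, nat_lit 1, []⟩,
  ⟨[nat_lit 88, nat_lit 86, nat_lit 84], [], [nat_lit 0, nat_lit 0], nat_lit 27, nat_lit 1, []⟩,
  ⟨[nat_lit 88, nat_lit 86, nat_lit 84], [], [nat_lit 0, nat_lit 0], nat_lit 27, nat_lit 1, []⟩,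
  ⟨[nat_lit 88, nat_lit 86, nat_lit 84], [], [nat_lit 0, nat_lit 0], nat_lit 27, nat_lit 1, []⟩,
  ⟨[nat_lit 88, nat_lit 86, nat_lit 84], [], [nat_lit 0, nat_lit 0], nat_lit 27, nat_lit 1, []⟩,
  ⟨[nat_lit 88, nat_lit 86, nat_lit 84], [], [nat_lit 0, nat_lit 0], nat_lit 27, nat_lit 1, []⟩,
  ⟨[nat_lit 88, nat_lit 86, nat_lit 84], [], [nat_lit 0, nat_lit 0], nat_lit 27, nat_lit 1, []⟩,
  ⟨[nat_lit 88, nat_lit 82], [nat_lit 27], [nat_lit 0, nat_lit 0x599441e0599372705990000, nat_lit 0, nat_lit 0], nat_lit 81, nat_lit 1, []⟩,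
  ⟨[nat_lit 88, nat_lit 84], [nat_lit 27], [nat_lit 0, nat_lit 0], nat_lit 9, nat_lit 1, []⟩,
  ⟨[nat_lit 88, nat_lit 84], [nat_lit 27], [nat_lit 0, nat_lit 0], nat_lit 9, nat_lit 1, []⟩,
  ⟨[nat_lit 88], [nat_lit 27, nat_lit 3], [nat_lit 0, nat_lit 0], nat_lit 9, nat_lit 0, [(nat_lit 1, [nat_lit 0x1b000000030001])]⟩,
  ⟨[nat_lit 84], [nat_lit 153, nat_lit 1], [nat_lit 0xc8400000c6900000c9f, nat_lit 0, nat_lit 0], nat_lit 27, nat_lit 0, [(nat_lit 1, [nat_lit 0x990000000000030001])]⟩,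
  ⟨[nat_lit 84], [nat_lit 153, nat_lit 3], [nat_lit 0, nat_lit 0], nat_lit 9, nat_lit 0, [(nat_lit 1, [nat_lit 0x990000000000030001])]⟩,
  ⟨[nat_lit 84], [nat_lit 153, nat_lit 3], [nat_lit 0, nat_lit 0], nat_lit 9, nat_lit 0, [(nat_lit 1, [nat_lit 0x990000000000030001])]⟩,
  ⟨[nat_lit 84], [nat_lit 153, nat_lit 3], [nat_lit 0, nat_lit 0], nat_lit 9, nat_lit 0, [(nat_lit 1, [nat_lit 0x990000000000030001])]⟩,
  ⟨[nat_lit 88, nat_lit 84], [nat_lit 117], [nat_lit 0x59a3bcd059a2ab7059a0000, nat_lit 0, nat_lit 0], nat_lit 54, nat_lit 1, []⟩,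
  ⟨[nat_lit 88, nat_lit 84], [nat_lit 117], [nat_lit 0, nat_lit 0], nat_lit 9, nat_lit 1, []⟩,
  ⟨[nat_lit 88, nat_lit 84], [nat_lit 117], [nat_lit 0, nat_lit 0], nat_lit 9, nat_lit 1, []⟩,
  ⟨[nat_lit 88], [nat_lit 117, nat_lit 3], [nat_lit 0, nat_lit 0], nat_lit 9, nat_lit 0, [(nat_lit 1, [nat_lit 0x750000000000030001])]⟩,
  ⟨[nat_lit 88, nat_lit 85, nat_lit 83], [], [nat_lit 0, nat_lit 0], nat_lit 9, nat_lit 1, []⟩,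
  ⟨[nat_lit 88, nat_lit 85, nat_lit 83], [], [nat_lit 0, nat_lit 0], nat_lit 9, nat_lit 1, []⟩,
  ⟨[nat_lit 88, nat_lit 85, nat_lit 83], [], [nat_lit 0, nat_lit 0], nat_lit 9, nat_lit 1, []⟩,
  ⟨[nat_lit 88, nat_lit 85, nat_lit 83], [], [nat_lit 0, nat_lit 0], nat_lit 9, nat_lit 1, []⟩,
  ⟨[nat_lit 88, nat_lit 85, nat_lit 83], [], [nat_lit 0, nat_lit 0], nat_lit 9, nat_lit 1, []⟩,
  ⟨[nat_lit 88, nat_lit 85, nat_lit 83], [], [nat_lit 0, nat_lit 0], nat_lit 9, nat_lit 1, []⟩,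
  ⟨[nat_lit 88, nat_lit 85, nat_lit 83], [], [nat_lit 0, nat_lit 0], nat_lit 9, nat_lit 1, []⟩,
  ⟨[nat_lit 88, nat_lit 85, nat_lit 83], [], [nat_lit 0, nat_lit 0], nat_lit 9, nat_lit 1, []⟩,
  ⟨[nat_lit 88, nat_lit 85, nat_lit 83], [], [nat_lit 0, nat_lit 0], nat_lit 9, nat_lit 1, []⟩,
  ⟨[nat_lit 88, nat_lit 86, nat_lit 66], [], [nat_lit 0, nat_lit 0], nat_lit 27, nat_lit 1, []⟩,
  ⟨[nat_lit 88, nat_lit 86, nat_lit 66], [], [nat_lit 0, nat_lit 0], nat_lit 27, nat_lit 1, []⟩,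
  ⟨[nat_lit 88, nat_lit 86, nat_lit 66], [], [nat_lit 0, nat_lit 0], nat_lit 27, nat_lit 1, []⟩,
  ⟨[nat_lit 88, nat_lit 86, nat_lit 66], [], [nat_lit 0, nat_lit 0], nat_lit 27, nat_lit 1, []⟩,
  ⟨[nat_lit 88, nat_lit 86, nat_lit 66], [], [nat_lit 0, nat_lit 0], nat_lit 27, nat_lit 1, []⟩,
  ⟨[nat_lit 88, nat_lit 86, nat_lit 66], [], [nat_lit 0, nat_lit 0], nat_lit 27, nat_lit 1, []⟩,
  ⟨[nat_lit 88, nat_lit 86, nat_lit 66], [], [nat_lit 0, nat_lit 0], nat_lit 27, nat_lit 1, []⟩,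
  ⟨[nat_lit 88, nat_lit 86, nat_lit 66], [], [nat_lit 0, nat_lit 0], nat_lit 27, nat_lit 1, []⟩,
  ⟨[nat_lit 88, nat_lit 86, nat_lit 66], [], [nat_lit 0, nat_lit 0], nat_lit 27, nat_lit 1, []⟩,
  ⟨[nat_lit 88, nat_lit 86, nat_lit 84], [], [nat_lit 0, nat_lit 0], nat_lit 27, nat_lit 1, []⟩,
  ⟨[nat_lit 88, nat_lit 86, nat_lit 84], [], [nat_lit 0, nat_lit 0], nat_lit 27, nat_lit 1, []⟩,
  ⟨[nat_lit 88, nat_lit 86, nat_lit 84], [], [nat_lit 0, nat_lit 0], nat_lit 27, nat_lit 1, []⟩,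
  ⟨[nat_lit 88, nat_lit 86, nat_lit 84], [], [nat_lit 0, nat_lit 0], nat_lit 27, nat_lit 1, []⟩,
  ⟨[nat_lit 88, nat_lit 86, nat_lit 84], [], [nat_lit 0, nat_lit 0], nat_lit 27, nat_lit 1, []⟩,
  ⟨[nat_lit 88, nat_lit 86, nat_lit 84], [], [nat_lit 0, nat_lit 0], nat_lit 27, nat_lit 1, []⟩,
  ⟨[nat_lit 88, nat_lit 86, nat_lit 84], [], [nat_lit 0, nat_lit 0], nat_lit 27, nat_lit 1, []⟩,
  ⟨[nat_lit 88, nat_lit 86, nat_lit 84], [], [nat_lit 0, nat_lit 0], nat_lit 27, nat_lit 1, []⟩,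
  ⟨[nat_lit 88, nat_lit 86, nat_lit 84], [], [nat_lit 0, nat_lit 0], nat_lit 27, nat_lit 1, []⟩,
  ⟨[nat_lit 86, nat_lit 84, nat_lit 66], [], [nat_lit 0, nat_lit 0], nat_lit 9, nat_lit 1, []⟩,
  ⟨[nat_lit 86, nat_lit 84, nat_lit 66], [], [nat_lit 0, nat_lit 0], nat_lit 9, nat_lit 1, []⟩,
  ⟨[nat_lit 86, nat_lit 84, nat_lit 66], [], [nat_lit 0, nat_lit 0], nat_lit 9, nat_lit 1, []⟩,
  ⟨[nat_lit 86, nat_lit 84, nat_lit 66], [], [nat_lit 0, nat_lit 0], nat_lit 9, nat_lit 1, []⟩,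
  ⟨[nat_lit 86, nat_lit 84, nat_lit 66], [], [nat_lit 0, nat_lit 0], nat_lit 9, nat_lit 1, []⟩,
  ⟨[nat_lit 86, nat_lit 84, nat_lit 66], [], [nat_lit 0, nat_lit 0], nat_lit 9, nat_lit 1, []⟩,
  ⟨[nat_lit 86, nat_lit 84, nat_lit 66], [], [nat_lit 0, nat_lit 0], nat_lit 9, nat_lit 1, []⟩,
  ⟨[nat_lit 86, nat_lit 84, nat_lit 66], [], [nat_lit 0, nat_lit 0], nat_lit 9, nat_lit 1, []⟩,
  ⟨[nat_lit 86, nat_lit 84, nat_lit 66], [], [nat_lit 0, nat_lit 0], nat_lit 9, nat_lit 1, []⟩,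
  ⟨[nat_lit 88, nat_lit 82], [nat_lit 27], [nat_lit 0, nat_lit 0x59b39f1059b1e70059b0000, nat_lit 0, nat_lit 0], nat_lit 162, nat_lit 1, []⟩,
  ⟨[nat_lit 88, nat_lit 84], [nat_lit 27], [nat_lit 0, nat_lit 0], nat_lit 9, nat_lit 1, []⟩,
  ⟨[nat_lit 88, nat_lit 84], [nat_lit 27], [nat_lit 0, nat_lit 0], nat_lit 9, nat_lit 1, []⟩,
  ⟨[nat_lit 88], [nat_lit 27, nat_lit 3], [nat_lit 0, nat_lit 0], nat_lit 9, nat_lit 0, [(nat_lit 1, [nat_lit 0x1b000000030001])]⟩,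
  ⟨[nat_lit 84], [nat_lit 126, nat_lit 1], [nat_lit 0xd6500000d4a00000d80, nat_lit 0, nat_lit 0], nat_lit 27, nat_lit 0, [(nat_lit 1, [nat_lit 0x7e0000000000030001])]⟩,
  ⟨[nat_lit 84], [nat_lit 126, nat_lit 3], [nat_lit 0, nat_lit 0], nat_lit 9, nat_lit 0, [(nat_lit 1, [nat_lit 0x7e0000000000030001])]⟩,
  ⟨[nat_lit 84], [nat_lit 126, nat_lit 3], [nat_lit 0, nat_lit 0], nat_lit 9, nat_lit 0, [(nat_lit 1, [nat_lit 0x7e0000000000030001])]⟩,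
  ⟨[nat_lit 84], [nat_lit 126, nat_lit 3], [nat_lit 0, nat_lit 0], nat_lit 9, nat_lit 0, [(nat_lit 1, [nat_lit 0x7e0000000000030001])]⟩,
  ⟨[nat_lit 88, nat_lit 84], [nat_lit 144], [nat_lit 0x59c222c059c4458059c0000, nat_lit 0, nat_lit 0], nat_lit 54, nat_lit 1, []⟩,
  ⟨[nat_lit 88, nat_lit 84], [nat_lit 144], [nat_lit 0, nat_lit 0], nat_lit 9, nat_lit 1, []⟩,
  ⟨[nat_lit 88], [nat_lit 144, nat_lit 3], [nat_lit 0, nat_lit 0], nat_lit 9, nat_lit 0, [(nat_lit 1, [nat_lit 0x900000000000030001])]⟩,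
  ⟨[nat_lit 88, nat_lit 84], [nat_lit 144], [nat_lit 0, nat_lit 0], nat_lit 9, nat_lit 1, []⟩,
  ⟨[nat_lit 88, nat_lit 85, nat_lit 83], [], [nat_lit 0, nat_lit 0], nat_lit 9, nat_lit 1, []⟩,
  ⟨[nat_lit 88, nat_lit 85, nat_lit 83], [], [nat_lit 0, nat_lit 0], nat_lit 9, nat_lit 1, []⟩,
  ⟨[nat_lit 88, nat_lit 85, nat_lit 83], [], [nat_lit 0, nat_lit 0], nat_lit 9, nat_lit 1, []⟩,
  ⟨[nat_lit 88, nat_lit 85, nat_lit 83], [], [nat_lit 0, nat_lit 0], nat_lit 9, nat_lit 1, []⟩,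
  ⟨[nat_lit 88, nat_lit 85, nat_lit 83], [], [nat_lit 0, nat_lit 0], nat_lit 9, nat_lit 1, []⟩,
  ⟨[nat_lit 88, nat_lit 85, nat_lit 83], [], [nat_lit 0, nat_lit 0], nat_lit 9, nat_lit 1, []⟩,
  ⟨[nat_lit 88, nat_lit 85, nat_lit 83], [], [nat_lit 0, nat_lit 0], nat_lit 9, nat_lit 1, []⟩,
  ⟨[nat_lit 88, nat_lit 85, nat_lit 83], [], [nat_lit 0, nat_lit 0], nat_lit 9, nat_lit 1, []⟩,
  ⟨[nat_lit 88, nat_lit 85, nat_lit 83], [], [nat_lit 0, nat_lit 0], nat_lit 9, nat_lit 1, []⟩,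
  ⟨[nat_lit 88, nat_lit 86, nat_lit 66], [], [nat_lit 0, nat_lit 0], nat_lit 27, nat_lit 1, []⟩,
  ⟨[nat_lit 88, nat_lit 86, nat_lit 66], [], [nat_lit 0, nat_lit 0], nat_lit 27, nat_lit 1, []⟩,
  ⟨[nat_lit 88, nat_lit 86, nat_lit 66], [], [nat_lit 0, nat_lit 0], nat_lit 27, nat_lit 1, []⟩,
  ⟨[nat_lit 88, nat_lit 86, nat_lit 66], [], [nat_lit 0, nat_lit 0], nat_lit 27, nat_lit 1, []⟩,
  ⟨[nat_lit 88, nat_lit 86, nat_lit 66], [], [nat_lit 0, nat_lit 0], nat_lit 27, nat_lit 1, []⟩,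
  ⟨[nat_lit 88, nat_lit 86, nat_lit 66], [], [nat_lit 0, nat_lit 0], nat_lit 27, nat_lit 1, []⟩,
  ⟨[nat_lit 88, nat_lit 86, nat_lit 66], [], [nat_lit 0, nat_lit 0], nat_lit 27, nat_lit 1, []⟩,
  ⟨[nat_lit 88, nat_lit 86, nat_lit 66], [], [nat_lit 0, nat_lit 0], nat_lit 27, nat_lit 1, []⟩,
  ⟨[nat_lit 88, nat_lit 86, nat_lit 66], [], [nat_lit 0, nat_lit 0], nat_lit 27, nat_lit 1, []⟩,
  ⟨[nat_lit 88, nat_lit 86, nat_lit 84], [], [nat_lit 0, nat_lit 0], nat_lit 27, nat_lit 1, []⟩,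
  ⟨[nat_lit 88, nat_lit 86, nat_lit 84], [], [nat_lit 0, nat_lit 0], nat_lit 27, nat_lit 1, []⟩,
  ⟨[nat_lit 88, nat_lit 86, nat_lit 84], [], [nat_lit 0, nat_lit 0], nat_lit 27, nat_lit 1, []⟩,
  ⟨[nat_lit 88, nat_lit 86, nat_lit 84], [], [nat_lit 0, nat_lit 0], nat_lit 27, nat_lit 1, []⟩,
  ⟨[nat_lit 88, nat_lit 86, nat_lit 84], [], [nat_lit 0, nat_lit 0], nat_lit 27, nat_lit 1, []⟩,
  ⟨[nat_lit 88, nat_lit 86, nat_lit 84], [], [nat_lit 0, nat_lit 0], nat_lit 27, nat_lit 1, []⟩,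
  ⟨[nat_lit 88, nat_lit 86, nat_lit 84], [], [nat_lit 0, nat_lit 0], nat_lit 27, nat_lit 1, []⟩,
  ⟨[nat_lit 88, nat_lit 86, nat_lit 84], [], [nat_lit 0, nat_lit 0], nat_lit 27, nat_lit 1, []⟩,
  ⟨[nat_lit 88, nat_lit 86, nat_lit 84], [], [nat_lit 0, nat_lit 0], nat_lit 27, nat_lit 1, []⟩,
  ⟨[nat_lit 86, nat_lit 84, nat_lit 66], [], [nat_lit 0, nat_lit 0], nat_lit 9, nat_lit 1, []⟩,
  ⟨[nat_lit 86, nat_lit 84, nat_lit 66], [], [nat_lit 0, nat_lit 0], nat_lit 9, nat_lit 1, []⟩,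
  ⟨[nat_lit 86, nat_lit 84, nat_lit 66], [], [nat_lit 0, nat_lit 0], nat_lit 9, nat_lit 1, []⟩]
theorem cc15 : (Nat.beq (lst ndF cl15 798) 0 && Nat.beq (798 + cl15.length) 918) = true := by
  decide +kernel
noncomputable def cl16 : List Nd := [
  ⟨[nat_lit 86, nat_lit 84, nat_lit 66], [], [nat_lit 0, nat_lit 0], nat_lit 9, nat_lit 1, []⟩,
  ⟨[nat_lit 86, nat_lit 84, nat_lit 66], [], [nat_lit 0, nat_lit 0], nat_lit 9, nat_lit 1, []⟩,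
  ⟨[nat_lit 86, nat_lit 84, nat_lit 66], [], [nat_lit 0, nat_lit 0], nat_lit 9, nat_lit 1, []⟩,
  ⟨[nat_lit 86, nat_lit 84, nat_lit 66], [], [nat_lit 0, nat_lit 0], nat_lit 9, nat_lit 1, []⟩,
  ⟨[nat_lit 86, nat_lit 84, nat_lit 66], [], [nat_lit 0, nat_lit 0], nat_lit 9, nat_lit 1, []⟩,
  ⟨[nat_lit 86, nat_lit 84, nat_lit 66], [], [nat_lit 0, nat_lit 0], nat_lit 9, nat_lit 1, []⟩,
  ⟨[nat_lit 87, nat_lit 84, nat_lit 77], [], [nat_lit 0, nat_lit 0], nat_lit 9, nat_lit 1, []⟩,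
  ⟨[nat_lit 87, nat_lit 84, nat_lit 77], [], [nat_lit 0, nat_lit 0], nat_lit 9, nat_lit 1, []⟩,
  ⟨[nat_lit 87, nat_lit 84, nat_lit 77], [], [nat_lit 0, nat_lit 0], nat_lit 9, nat_lit 1, []⟩,
  ⟨[nat_lit 87, nat_lit 84, nat_lit 77], [], [nat_lit 0, nat_lit 0], nat_lit 9, nat_lit 1, []⟩,
  ⟨[nat_lit 87, nat_lit 84, nat_lit 77], [], [nat_lit 0, nat_lit 0], nat_lit 9, nat_lit 1, []⟩,
  ⟨[nat_lit 87, nat_lit 84, nat_lit 77], [], [nat_lit 0, nat_lit 0], nat_lit 9, nat_lit 1, []⟩,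
  ⟨[nat_lit 87, nat_lit 84, nat_lit 77], [], [nat_lit 0, nat_lit 0], nat_lit 9, nat_lit 1, []⟩,
  ⟨[nat_lit 87, nat_lit 84, nat_lit 77], [], [nat_lit 0, nat_lit 0], nat_lit 9, nat_lit 1, []⟩,
  ⟨[nat_lit 87, nat_lit 84, nat_lit 77], [], [nat_lit 0, nat_lit 0], nat_lit 9, nat_lit 1, []⟩,
  ⟨[nat_lit 87, nat_lit 84, nat_lit 77], [], [nat_lit 0, nat_lit 0], nat_lit 9, nat_lit 1, []⟩,
  ⟨[nat_lit 87, nat_lit 84, nat_lit 77], [], [nat_lit 0, nat_lit 0], nat_lit 9, nat_lit 1, []⟩,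
  ⟨[nat_lit 87, nat_lit 84, nat_lit 77], [], [nat_lit 0, nat_lit 0], nat_lit 9, nat_lit 1, []⟩,
  ⟨[nat_lit 87, nat_lit 84, nat_lit 77], [], [nat_lit 0, nat_lit 0], nat_lit 9, nat_lit 1, []⟩,
  ⟨[nat_lit 87, nat_lit 84, nat_lit 77], [], [nat_lit 0, nat_lit 0], nat_lit 9, nat_lit 1, []⟩,
  ⟨[nat_lit 87, nat_lit 84, nat_lit 77], [], [nat_lit 0, nat_lit 0], nat_lit 9, nat_lit 1, []⟩,
  ⟨[nat_lit 87, nat_lit 84, nat_lit 77], [], [nat_lit 0, nat_lit 0], nat_lit 9, nat_lit 1, []⟩,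
  ⟨[nat_lit 87, nat_lit 84, nat_lit 77], [], [nat_lit 0, nat_lit 0], nat_lit 9, nat_lit 1, []⟩,
  ⟨[nat_lit 87, nat_lit 84, nat_lit 77], [], [nat_lit 0, nat_lit 0], nat_lit 9, nat_lit 1, []⟩,
  ⟨[nat_lit 88, nat_lit 87], [nat_lit 3], [nat_lit 0, nat_lit 0], nat_lit 27, nat_lit 1, []⟩,
  ⟨[nat_lit 88, nat_lit 87], [nat_lit 3], [nat_lit 0, nat_lit 0], nat_lit 27, nat_lit 1, []⟩,
  ⟨[nat_lit 88, nat_lit 87], [nat_lit 3], [nat_lit 0, nat_lit 0], nat_lit 27, nat_lit 1, []⟩,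
  ⟨[nat_lit 88, nat_lit 87], [nat_lit 3], [nat_lit 0, nat_lit 0], nat_lit 27, nat_lit 1, []⟩,
  ⟨[nat_lit 88, nat_lit 87], [nat_lit 3], [nat_lit 0, nat_lit 0], nat_lit 27, nat_lit 1, []⟩,
  ⟨[nat_lit 88, nat_lit 87], [nat_lit 3], [nat_lit 0, nat_lit 0], nat_lit 27, nat_lit 1, []⟩,
  ⟨[nat_lit 88, nat_lit 87], [nat_lit 3], [nat_lit 0, nat_lit 0], nat_lit 27, nat_lit 1, []⟩,
  ⟨[nat_lit 88, nat_lit 87], [nat_lit 3], [nat_lit 0, nat_lit 0], nat_lit 27, nat_lit 1, []⟩,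
  ⟨[nat_lit 88, nat_lit 87], [nat_lit 3], [nat_lit 0, nat_lit 0], nat_lit 27, nat_lit 1, []⟩,
  ⟨[nat_lit 88, nat_lit 87, nat_lit 74], [], [nat_lit 0, nat_lit 0], nat_lit 9, nat_lit 1, []⟩,
  ⟨[nat_lit 88, nat_lit 87, nat_lit 74], [], [nat_lit 0, nat_lit 0], nat_lit 9, nat_lit 1, []⟩,
  ⟨[nat_lit 88, nat_lit 87, nat_lit 74], [], [nat_lit 0, nat_lit 0], nat_lit 9, nat_lit 1, []⟩,
  ⟨[nat_lit 88, nat_lit 87, nat_lit 74], [], [nat_lit 0, nat_lit 0], nat_lit 9, nat_lit 1, []⟩,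
  ⟨[nat_lit 88, nat_lit 87, nat_lit 74], [], [nat_lit 0, nat_lit 0], nat_lit 9, nat_lit 1, []⟩,
  ⟨[nat_lit 88, nat_lit 87, nat_lit 74], [], [nat_lit 0, nat_lit 0], nat_lit 9, nat_lit 1, []⟩,
  ⟨[nat_lit 88, nat_lit 87, nat_lit 74], [], [nat_lit 0, nat_lit 0], nat_lit 9, nat_lit 1, []⟩,
  ⟨[nat_lit 88, nat_lit 87, nat_lit 74], [], [nat_lit 0, nat_lit 0], nat_lit 9, nat_lit 1, []⟩,
  ⟨[nat_lit 88, nat_lit 87, nat_lit 74], [], [nat_lit 0, nat_lit 0], nat_lit 9, nat_lit 1, []⟩,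
  ⟨[nat_lit 88, nat_lit 87, nat_lit 74], [], [nat_lit 0, nat_lit 0], nat_lit 9, nat_lit 1, []⟩,
  ⟨[nat_lit 88, nat_lit 87, nat_lit 74], [], [nat_lit 0, nat_lit 0], nat_lit 9, nat_lit 1, []⟩,
  ⟨[nat_lit 88, nat_lit 87, nat_lit 74], [], [nat_lit 0, nat_lit 0], nat_lit 9, nat_lit 1, []⟩,
  ⟨[nat_lit 88, nat_lit 87, nat_lit 74], [], [nat_lit 0, nat_lit 0], nat_lit 9, nat_lit 1, []⟩,
  ⟨[nat_lit 88, nat_lit 87, nat_lit 74], [], [nat_lit 0, nat_lit 0], nat_lit 9, nat_lit 1, []⟩,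
  ⟨[nat_lit 88, nat_lit 87, nat_lit 74], [], [nat_lit 0, nat_lit 0], nat_lit 9, nat_lit 1, []⟩,
  ⟨[nat_lit 88, nat_lit 87, nat_lit 74], [], [nat_lit 0, nat_lit 0], nat_lit 9, nat_lit 1, []⟩,
  ⟨[nat_lit 88, nat_lit 87, nat_lit 74], [], [nat_lit 0, nat_lit 0], nat_lit 9, nat_lit 1, []⟩,
  ⟨[nat_lit 88, nat_lit 87, nat_lit 74], [], [nat_lit 0, nat_lit 0], nat_lit 9, nat_lit 1, []⟩,
  ⟨[nat_lit 87, nat_lit 84, nat_lit 74], [], [nat_lit 0, nat_lit 0], nat_lit 9, nat_lit 1, []⟩,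
  ⟨[nat_lit 87, nat_lit 84, nat_lit 74], [], [nat_lit 0, nat_lit 0], nat_lit 9, nat_lit 1, []⟩,
  ⟨[nat_lit 87, nat_lit 84, nat_lit 74], [], [nat_lit 0, nat_lit 0], nat_lit 9, nat_lit 1, []⟩,
  ⟨[nat_lit 87, nat_lit 84, nat_lit 74], [], [nat_lit 0, nat_lit 0], nat_lit 9, nat_lit 1, []⟩,
  ⟨[nat_lit 87, nat_lit 84, nat_lit 74], [], [nat_lit 0, nat_lit 0], nat_lit 9, nat_lit 1, []⟩,
  ⟨[nat_lit 87, nat_lit 84, nat_lit 74], [], [nat_lit 0, nat_lit 0], nat_lit 9, nat_lit 1, []⟩,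
  ⟨[nat_lit 87, nat_lit 84, nat_lit 74], [], [nat_lit 0, nat_lit 0], nat_lit 9, nat_lit 1, []⟩,
  ⟨[nat_lit 87, nat_lit 84, nat_lit 74], [], [nat_lit 0, nat_lit 0], nat_lit 9, nat_lit 1, []⟩,
  ⟨[nat_lit 87, nat_lit 84, nat_lit 74], [], [nat_lit 0, nat_lit 0], nat_lit 9, nat_lit 1, []⟩,
  ⟨[nat_lit 87, nat_lit 84, nat_lit 77], [], [nat_lit 0, nat_lit 0], nat_lit 9, nat_lit 1, []⟩,
  ⟨[nat_lit 87, nat_lit 84, nat_lit 77], [], [nat_lit 0, nat_lit 0], nat_lit 9, nat_lit 1, []⟩,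
  ⟨[nat_lit 87, nat_lit 84, nat_lit 77], [], [nat_lit 0, nat_lit 0], nat_lit 9, nat_lit 1, []⟩,
  ⟨[nat_lit 87, nat_lit 84, nat_lit 77], [], [nat_lit 0, nat_lit 0], nat_lit 9, nat_lit 1, []⟩,
  ⟨[nat_lit 87, nat_lit 84, nat_lit 77], [], [nat_lit 0, nat_lit 0], nat_lit 9, nat_lit 1, []⟩,
  ⟨[nat_lit 87, nat_lit 84, nat_lit 77], [], [nat_lit 0, nat_lit 0], nat_lit 9, nat_lit 1, []⟩,
  ⟨[nat_lit 87, nat_lit 84, nat_lit 77], [], [nat_lit 0, nat_lit 0], nat_lit 9, nat_lit 1, []⟩,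
  ⟨[nat_lit 87, nat_lit 84, nat_lit 77], [], [nat_lit 0, nat_lit 0], nat_lit 9, nat_lit 1, []⟩,
  ⟨[nat_lit 87, nat_lit 84, nat_lit 77], [], [nat_lit 0, nat_lit 0], nat_lit 9, nat_lit 1, []⟩,
  ⟨[nat_lit 87, nat_lit 84, nat_lit 77], [], [nat_lit 0, nat_lit 0], nat_lit 9, nat_lit 1, []⟩,
  ⟨[nat_lit 87, nat_lit 84, nat_lit 77], [], [nat_lit 0, nat_lit 0], nat_lit 9, nat_lit 1, []⟩,
  ⟨[nat_lit 87, nat_lit 84, nat_lit 77], [], [nat_lit 0, nat_lit 0], nat_lit 9, nat_lit 1, []⟩,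
  ⟨[nat_lit 87, nat_lit 84, nat_lit 77], [], [nat_lit 0, nat_lit 0], nat_lit 9, nat_lit 1, []⟩,
  ⟨[nat_lit 87, nat_lit 84, nat_lit 77], [], [nat_lit 0, nat_lit 0], nat_lit 9, nat_lit 1, []⟩,
  ⟨[nat_lit 87, nat_lit 84, nat_lit 77], [], [nat_lit 0, nat_lit 0], nat_lit 9, nat_lit 1, []⟩,
  ⟨[nat_lit 87, nat_lit 84, nat_lit 77], [], [nat_lit 0, nat_lit 0], nat_lit 9, nat_lit 1, []⟩,
  ⟨[nat_lit 87, nat_lit 84, nat_lit 77], [], [nat_lit 0, nat_lit 0], nat_lit 9, nat_lit 1, []⟩,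
  ⟨[nat_lit 87, nat_lit 84, nat_lit 77], [], [nat_lit 0, nat_lit 0], nat_lit 9, nat_lit 1, []⟩,
  ⟨[nat_lit 87, nat_lit 82, nat_lit 72], [], [nat_lit 0, nat_lit 0, nat_lit 0], nat_lit 27, nat_lit 1, []⟩,
  ⟨[nat_lit 87, nat_lit 82, nat_lit 72], [], [nat_lit 0, nat_lit 0, nat_lit 0], nat_lit 27, nat_lit 1, []⟩,
  ⟨[nat_lit 87, nat_lit 82, nat_lit 72], [], [nat_lit 0, nat_lit 0, nat_lit 0], nat_lit 27, nat_lit 1, []⟩,
  ⟨[nat_lit 87, nat_lit 82, nat_lit 72], [], [nat_lit 0, nat_lit 0, nat_lit 0], nat_lit 27, nat_lit 1, []⟩,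
  ⟨[nat_lit 87, nat_lit 82, nat_lit 72], [], [nat_lit 0, nat_lit 0, nat_lit 0], nat_lit 27, nat_lit 1, []⟩,
  ⟨[nat_lit 87, nat_lit 82, nat_lit 72], [], [nat_lit 0, nat_lit 0, nat_lit 0], nat_lit 27, nat_lit 1, []⟩,
  ⟨[nat_lit 87, nat_lit 82, nat_lit 72], [], [nat_lit 0, nat_lit 0, nat_lit 0], nat_lit 27, nat_lit 1, []⟩,
  ⟨[nat_lit 87, nat_lit 82, nat_lit 72], [], [nat_lit 0, nat_lit 0, nat_lit 0], nat_lit 27, nat_lit 1, []⟩,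
  ⟨[nat_lit 87, nat_lit 82, nat_lit 72], [], [nat_lit 0, nat_lit 0, nat_lit 0], nat_lit 27, nat_lit 1, []⟩,
  ⟨[nat_lit 87, nat_lit 83], [nat_lit 1], [nat_lit 0, nat_lit 0], nat_lit 90, nat_lit 1, []⟩,
  ⟨[nat_lit 87, nat_lit 83], [nat_lit 1], [nat_lit 0, nat_lit 0], nat_lit 90, nat_lit 1, []⟩,
  ⟨[nat_lit 87, nat_lit 83], [nat_lit 1], [nat_lit 0, nat_lit 0], nat_lit 90, nat_lit 1, []⟩,
  ⟨[nat_lit 87, nat_lit 83], [nat_lit 1], [nat_lit 0, nat_lit 0], nat_lit 90, nat_lit 1, []⟩,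
  ⟨[nat_lit 87, nat_lit 83], [nat_lit 1], [nat_lit 0, nat_lit 0], nat_lit 90, nat_lit 1, []⟩,
  ⟨[nat_lit 87, nat_lit 83], [nat_lit 1], [nat_lit 0, nat_lit 0], nat_lit 90, nat_lit 1, []⟩,
  ⟨[nat_lit 87, nat_lit 83], [nat_lit 1], [nat_lit 0, nat_lit 0], nat_lit 90, nat_lit 1, []⟩,
  ⟨[nat_lit 87, nat_lit 83], [nat_lit 1], [nat_lit 0, nat_lit 0], nat_lit 90, nat_lit 1, []⟩,
  ⟨[nat_lit 87, nat_lit 83], [nat_lit 1], [nat_lit 0, nat_lit 0], nat_lit 90, nat_lit 1, []⟩,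
  ⟨[nat_lit 87, nat_lit 83], [nat_lit 1], [nat_lit 0, nat_lit 0], nat_lit 90, nat_lit 1, []⟩,
  ⟨[nat_lit 87, nat_lit 83], [nat_lit 1], [nat_lit 0, nat_lit 0], nat_lit 90, nat_lit 1, []⟩,
  ⟨[nat_lit 87, nat_lit 83], [nat_lit 1], [nat_lit 0, nat_lit 0], nat_lit 90, nat_lit 1, []⟩,
  ⟨[nat_lit 87, nat_lit 83], [nat_lit 1], [nat_lit 0, nat_lit 0], nat_lit 90, nat_lit 1, []⟩,
  ⟨[nat_lit 87, nat_lit 83], [nat_lit 1], [nat_lit 0, nat_lit 0], nat_lit 90, nat_lit 1, []⟩,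
  ⟨[nat_lit 87, nat_lit 83], [nat_lit 1], [nat_lit 0, nat_lit 0], nat_lit 90, nat_lit 1, []⟩,
  ⟨[nat_lit 87, nat_lit 83], [nat_lit 1], [nat_lit 0, nat_lit 0], nat_lit 90, nat_lit 1, []⟩,
  ⟨[nat_lit 87, nat_lit 83], [nat_lit 1], [nat_lit 0, nat_lit 0], nat_lit 90, nat_lit 1, []⟩,
  ⟨[nat_lit 87, nat_lit 83], [nat_lit 1], [nat_lit 0, nat_lit 0], nat_lit 90, nat_lit 1, []⟩,
  ⟨[nat_lit 88, nat_lit 87, nat_lit 82], [], [nat_lit 0, nat_lit 0, nat_lit 0], nat_lit 27, nat_lit 1, []⟩,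
  ⟨[nat_lit 88, nat_lit 87, nat_lit 82], [], [nat_lit 0, nat_lit 0, nat_lit 0], nat_lit 27, nat_lit 1, []⟩,
  ⟨[nat_lit 88, nat_lit 87, nat_lit 82], [], [nat_lit 0, nat_lit 0, nat_lit 0], nat_lit 27, nat_lit 1, []⟩,
  ⟨[nat_lit 88, nat_lit 87, nat_lit 82], [], [nat_lit 0, nat_lit 0, nat_lit 0], nat_lit 27, nat_lit 1, []⟩,
  ⟨[nat_lit 88, nat_lit 87, nat_lit 82], [], [nat_lit 0, nat_lit 0, nat_lit 0], nat_lit 27, nat_lit 1, []⟩,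
  ⟨[nat_lit 88, nat_lit 87, nat_lit 82], [], [nat_lit 0, nat_lit 0, nat_lit 0], nat_lit 27, nat_lit 1, []⟩,
  ⟨[nat_lit 88, nat_lit 87, nat_lit 82], [], [nat_lit 0, nat_lit 0, nat_lit 0], nat_lit 27, nat_lit 1, []⟩,
  ⟨[nat_lit 88, nat_lit 87, nat_lit 82], [], [nat_lit 0, nat_lit 0, nat_lit 0], nat_lit 27, nat_lit 1, []⟩,
  ⟨[nat_lit 88, nat_lit 87, nat_lit 82], [], [nat_lit 0, nat_lit 0, nat_lit 0], nat_lit 27, nat_lit 1, []⟩,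
  ⟨[nat_lit 88, nat_lit 87, nat_lit 83], [], [nat_lit 0, nat_lit 0], nat_lit 99, nat_lit 1, []⟩,
  ⟨[nat_lit 88, nat_lit 87, nat_lit 83], [], [nat_lit 0, nat_lit 0], nat_lit 99, nat_lit 1, []⟩,
  ⟨[nat_lit 88, nat_lit 87, nat_lit 83], [], [nat_lit 0, nat_lit 0], nat_lit 99, nat_lit 1, []⟩,
  ⟨[nat_lit 88, nat_lit 87, nat_lit 83], [], [nat_lit 0, nat_lit 0], nat_lit 99, nat_lit 1, []⟩,
  ⟨[nat_lit 88, nat_lit 87, nat_lit 83], [], [nat_lit 0, nat_lit 0], nat_lit 99, nat_lit 1, []⟩,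
  ⟨[nat_lit 88, nat_lit 87, nat_lit 83], [], [nat_lit 0, nat_lit 0], nat_lit 99, nat_lit 1, []⟩]
theorem cc16 : (Nat.beq (lst ndF cl16 918) 0 && Nat.beq (918 + cl16.length) 1038) = true := by
  decide +kernel
noncomputable def cl17 : List Nd := [
  ⟨[nat_lit 88, nat_lit 87, nat_lit 83], [], [nat_lit 0, nat_lit 0], nat_lit 99, nat_lit 1, []⟩,
  ⟨[nat_lit 88, nat_lit 87, nat_lit 83], [], [nat_lit 0, nat_lit 0], nat_lit 99, nat_lit 1, []⟩,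
  ⟨[nat_lit 88, nat_lit 87, nat_lit 83], [], [nat_lit 0, nat_lit 0], nat_lit 99, nat_lit 1, []⟩,
  ⟨[nat_lit 88, nat_lit 87, nat_lit 83], [], [nat_lit 0, nat_lit 0], nat_lit 171, nat_lit 1, []⟩,
  ⟨[nat_lit 88, nat_lit 87, nat_lit 83], [], [nat_lit 0, nat_lit 0], nat_lit 171, nat_lit 1, []⟩,
  ⟨[nat_lit 88, nat_lit 87, nat_lit 83], [], [nat_lit 0, nat_lit 0], nat_lit 171, nat_lit 1, []⟩,
  ⟨[nat_lit 88, nat_lit 87, nat_lit 83], [], [nat_lit 0, nat_lit 0], nat_lit 171, nat_lit 1, []⟩,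
  ⟨[nat_lit 88, nat_lit 87, nat_lit 83], [], [nat_lit 0, nat_lit 0], nat_lit 171, nat_lit 1, []⟩,
  ⟨[nat_lit 88, nat_lit 87, nat_lit 83], [], [nat_lit 0, nat_lit 0], nat_lit 171, nat_lit 1, []⟩,
  ⟨[nat_lit 88, nat_lit 87, nat_lit 83], [], [nat_lit 0, nat_lit 0], nat_lit 171, nat_lit 1, []⟩,
  ⟨[nat_lit 88, nat_lit 87, nat_lit 83], [], [nat_lit 0, nat_lit 0], nat_lit 171, nat_lit 1, []⟩,
  ⟨[nat_lit 88, nat_lit 87, nat_lit 83], [], [nat_lit 0, nat_lit 0], nat_lit 171, nat_lit 1, []⟩,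
  ⟨[nat_lit 87, nat_lit 83, nat_lit 73], [], [nat_lit 0, nat_lit 0], nat_lit 90, nat_lit 1, []⟩,
  ⟨[nat_lit 87, nat_lit 83, nat_lit 73], [], [nat_lit 0, nat_lit 0], nat_lit 90, nat_lit 1, []⟩,
  ⟨[nat_lit 87, nat_lit 83, nat_lit 73], [], [nat_lit 0, nat_lit 0], nat_lit 90, nat_lit 1, []⟩,
  ⟨[nat_lit 87, nat_lit 83, nat_lit 73], [], [nat_lit 0, nat_lit 0], nat_lit 90, nat_lit 1, []⟩,
  ⟨[nat_lit 87, nat_lit 83, nat_lit 73], [], [nat_lit 0, nat_lit 0], nat_lit 90, nat_lit 1, []⟩,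
  ⟨[nat_lit 87, nat_lit 83, nat_lit 73], [], [nat_lit 0, nat_lit 0], nat_lit 90, nat_lit 1, []⟩,
  ⟨[nat_lit 87, nat_lit 83, nat_lit 73], [], [nat_lit 0, nat_lit 0], nat_lit 90, nat_lit 1, []⟩,
  ⟨[nat_lit 87, nat_lit 83, nat_lit 73], [], [nat_lit 0, nat_lit 0], nat_lit 90, nat_lit 1, []⟩,
  ⟨[nat_lit 87, nat_lit 83, nat_lit 73], [], [nat_lit 0, nat_lit 0], nat_lit 90, nat_lit 1, []⟩,
  ⟨[nat_lit 87, nat_lit 83, nat_lit 73], [], [nat_lit 0, nat_lit 0], nat_lit 180, nat_lit 1, []⟩,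
  ⟨[nat_lit 87, nat_lit 83, nat_lit 73], [], [nat_lit 0, nat_lit 0], nat_lit 180, nat_lit 1, []⟩,
  ⟨[nat_lit 87, nat_lit 83, nat_lit 73], [], [nat_lit 0, nat_lit 0], nat_lit 180, nat_lit 1, []⟩,
  ⟨[nat_lit 87, nat_lit 83, nat_lit 73], [], [nat_lit 0, nat_lit 0], nat_lit 180, nat_lit 1, []⟩,
  ⟨[nat_lit 87, nat_lit 83, nat_lit 73], [], [nat_lit 0, nat_lit 0], nat_lit 180, nat_lit 1, []⟩,
  ⟨[nat_lit 87, nat_lit 83, nat_lit 73], [], [nat_lit 0, nat_lit 0], nat_lit 180, nat_lit 1, []⟩,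
  ⟨[nat_lit 87, nat_lit 83, nat_lit 73], [], [nat_lit 0, nat_lit 0], nat_lit 180, nat_lit 1, []⟩,
  ⟨[nat_lit 87, nat_lit 83, nat_lit 73], [], [nat_lit 0, nat_lit 0], nat_lit 180, nat_lit 1, []⟩,
  ⟨[nat_lit 87, nat_lit 83, nat_lit 73], [], [nat_lit 0, nat_lit 0], nat_lit 180, nat_lit 1, []⟩,
  ⟨[nat_lit 87, nat_lit 77], [nat_lit 1], [nat_lit 0, nat_lit 0], nat_lit 54, nat_lit 1, []⟩,
  ⟨[nat_lit 87, nat_lit 77], [nat_lit 1], [nat_lit 0, nat_lit 0], nat_lit 54, nat_lit 1, []⟩,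
  ⟨[nat_lit 87, nat_lit 77], [nat_lit 1], [nat_lit 0, nat_lit 0], nat_lit 54, nat_lit 1, []⟩,
  ⟨[nat_lit 87, nat_lit 77], [nat_lit 81], [nat_lit 0, nat_lit 0], nat_lit 54, nat_lit 1, []⟩,
  ⟨[nat_lit 87, nat_lit 77], [nat_lit 81], [nat_lit 0, nat_lit 0], nat_lit 54, nat_lit 1, []⟩,
  ⟨[nat_lit 87, nat_lit 77], [nat_lit 81], [nat_lit 0, nat_lit 0], nat_lit 54, nat_lit 1, []⟩,
  ⟨[nat_lit 87, nat_lit 77], [nat_lit 81], [nat_lit 0, nat_lit 0], nat_lit 54, nat_lit 1, []⟩,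
  ⟨[nat_lit 87, nat_lit 77], [nat_lit 81], [nat_lit 0, nat_lit 0], nat_lit 54, nat_lit 1, []⟩,
  ⟨[nat_lit 87, nat_lit 77], [nat_lit 81], [nat_lit 0, nat_lit 0], nat_lit 54, nat_lit 1, []⟩,
  ⟨[nat_lit 87, nat_lit 77], [nat_lit 3], [nat_lit 0, nat_lit 0], nat_lit 54, nat_lit 0, [(nat_lit 1, [nat_lit 0x30001])]⟩,
  ⟨[nat_lit 87, nat_lit 77], [nat_lit 3], [nat_lit 0, nat_lit 0], nat_lit 54, nat_lit 0, [(nat_lit 1, [nat_lit 0x30001])]⟩,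
  ⟨[nat_lit 87, nat_lit 77], [nat_lit 3], [nat_lit 0, nat_lit 0], nat_lit 54, nat_lit 0, [(nat_lit 1, [nat_lit 0x30001])]⟩,
  ⟨[nat_lit 87, nat_lit 77], [nat_lit 3], [nat_lit 0, nat_lit 0], nat_lit 54, nat_lit 0, [(nat_lit 1, [nat_lit 0x30001])]⟩,
  ⟨[nat_lit 87, nat_lit 77], [nat_lit 3], [nat_lit 0, nat_lit 0], nat_lit 54, nat_lit 0, [(nat_lit 1, [nat_lit 0x30001])]⟩,
  ⟨[nat_lit 87, nat_lit 77], [nat_lit 3], [nat_lit 0, nat_lit 0], nat_lit 54, nat_lit 0, [(nat_lit 1, [nat_lit 0x30001])]⟩,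
  ⟨[nat_lit 87, nat_lit 77], [nat_lit 3], [nat_lit 0, nat_lit 0], nat_lit 54, nat_lit 0, [(nat_lit 1, [nat_lit 0x30001])]⟩,
  ⟨[nat_lit 87, nat_lit 77], [nat_lit 3], [nat_lit 0, nat_lit 0], nat_lit 54, nat_lit 0, [(nat_lit 1, [nat_lit 0x30001])]⟩,
  ⟨[nat_lit 87, nat_lit 77], [nat_lit 3], [nat_lit 0, nat_lit 0], nat_lit 54, nat_lit 0, [(nat_lit 1, [nat_lit 0x30001])]⟩,
  ⟨[nat_lit 87, nat_lit 77], [nat_lit 3], [nat_lit 0, nat_lit 0], nat_lit 27, nat_lit 0, [(nat_lit 1, [nat_lit 0x30001])]⟩,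
  ⟨[nat_lit 87, nat_lit 77], [nat_lit 3], [nat_lit 0, nat_lit 0], nat_lit 27, nat_lit 0, [(nat_lit 1, [nat_lit 0x30001])]⟩,
  ⟨[nat_lit 87, nat_lit 77], [nat_lit 3], [nat_lit 0, nat_lit 0], nat_lit 27, nat_lit 0, [(nat_lit 1, [nat_lit 0x30001])]⟩,
  ⟨[nat_lit 87, nat_lit 77], [nat_lit 3], [nat_lit 0, nat_lit 0], nat_lit 27, nat_lit 0, [(nat_lit 1, [nat_lit 0x30001])]⟩,
  ⟨[nat_lit 87, nat_lit 77], [nat_lit 3], [nat_lit 0, nat_lit 0], nat_lit 27, nat_lit 0, [(nat_lit 1, [nat_lit 0x30001])]⟩,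
  ⟨[nat_lit 87, nat_lit 77], [nat_lit 3], [nat_lit 0, nat_lit 0], nat_lit 27, nat_lit 0, [(nat_lit 1, [nat_lit 0x30001])]⟩,
  ⟨[nat_lit 87, nat_lit 77], [nat_lit 3], [nat_lit 0, nat_lit 0], nat_lit 27, nat_lit 0, [(nat_lit 1, [nat_lit 0x30001])]⟩,
  ⟨[nat_lit 87, nat_lit 77], [nat_lit 3], [nat_lit 0, nat_lit 0], nat_lit 27, nat_lit 0, [(nat_lit 1, [nat_lit 0x30001])]⟩,
  ⟨[nat_lit 87, nat_lit 77], [nat_lit 3], [nat_lit 0, nat_lit 0], nat_lit 27, nat_lit 0, [(nat_lit 1, [nat_lit 0x30001])]⟩,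
  ⟨[nat_lit 88, nat_lit 87, nat_lit 84], [], [nat_lit 0, nat_lit 0], nat_lit 9, nat_lit 1, []⟩,
  ⟨[nat_lit 88, nat_lit 87, nat_lit 84], [], [nat_lit 0, nat_lit 0], nat_lit 9, nat_lit 1, []⟩,
  ⟨[nat_lit 88, nat_lit 87, nat_lit 84], [], [nat_lit 0, nat_lit 0], nat_lit 9, nat_lit 1, []⟩,
  ⟨[nat_lit 88, nat_lit 87, nat_lit 84], [], [nat_lit 0, nat_lit 0], nat_lit 9, nat_lit 1, []⟩,
  ⟨[nat_lit 88, nat_lit 87, nat_lit 84], [], [nat_lit 0, nat_lit 0], nat_lit 9, nat_lit 1, []⟩,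
  ⟨[nat_lit 88, nat_lit 87, nat_lit 84], [], [nat_lit 0, nat_lit 0], nat_lit 9, nat_lit 1, []⟩,
  ⟨[nat_lit 88, nat_lit 87, nat_lit 84], [], [nat_lit 0, nat_lit 0], nat_lit 9, nat_lit 1, []⟩,
  ⟨[nat_lit 88, nat_lit 87, nat_lit 84], [], [nat_lit 0, nat_lit 0], nat_lit 9, nat_lit 1, []⟩,
  ⟨[nat_lit 88, nat_lit 87, nat_lit 84], [], [nat_lit 0, nat_lit 0], nat_lit 9, nat_lit 1, []⟩,
  ⟨[nat_lit 88, nat_lit 87, nat_lit 84], [], [nat_lit 0, nat_lit 0], nat_lit 27, nat_lit 1, []⟩,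
  ⟨[nat_lit 88, nat_lit 87, nat_lit 84], [], [nat_lit 0, nat_lit 0], nat_lit 27, nat_lit 1, []⟩,
  ⟨[nat_lit 88, nat_lit 87, nat_lit 84], [], [nat_lit 0, nat_lit 0], nat_lit 27, nat_lit 1, []⟩,
  ⟨[nat_lit 88, nat_lit 87, nat_lit 84], [], [nat_lit 0, nat_lit 0], nat_lit 27, nat_lit 1, []⟩,
  ⟨[nat_lit 88, nat_lit 87, nat_lit 84], [], [nat_lit 0, nat_lit 0], nat_lit 27, nat_lit 1, []⟩,
  ⟨[nat_lit 88, nat_lit 87, nat_lit 84], [], [nat_lit 0, nat_lit 0], nat_lit 27, nat_lit 1, []⟩,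
  ⟨[nat_lit 88, nat_lit 87, nat_lit 84], [], [nat_lit 0, nat_lit 0], nat_lit 27, nat_lit 1, []⟩,
  ⟨[nat_lit 88, nat_lit 87, nat_lit 84], [], [nat_lit 0, nat_lit 0], nat_lit 27, nat_lit 1, []⟩,
  ⟨[nat_lit 88, nat_lit 87, nat_lit 84], [], [nat_lit 0, nat_lit 0], nat_lit 27, nat_lit 1, []⟩,
  ⟨[nat_lit 88, nat_lit 87, nat_lit 84], [], [nat_lit 0, nat_lit 0], nat_lit 27, nat_lit 1, []⟩,
  ⟨[nat_lit 88, nat_lit 87, nat_lit 84], [], [nat_lit 0, nat_lit 0], nat_lit 27, nat_lit 1, []⟩,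
  ⟨[nat_lit 88, nat_lit 87, nat_lit 84], [], [nat_lit 0, nat_lit 0], nat_lit 27, nat_lit 1, []⟩,
  ⟨[nat_lit 88, nat_lit 87, nat_lit 84], [], [nat_lit 0, nat_lit 0], nat_lit 27, nat_lit 1, []⟩,
  ⟨[nat_lit 88, nat_lit 87, nat_lit 84], [], [nat_lit 0, nat_lit 0], nat_lit 27, nat_lit 1, []⟩,
  ⟨[nat_lit 88, nat_lit 87, nat_lit 84], [], [nat_lit 0, nat_lit 0], nat_lit 27, nat_lit 1, []⟩,
  ⟨[nat_lit 88, nat_lit 87, nat_lit 84], [], [nat_lit 0, nat_lit 0], nat_lit 27, nat_lit 1, []⟩,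
  ⟨[nat_lit 88, nat_lit 87, nat_lit 84], [], [nat_lit 0, nat_lit 0], nat_lit 27, nat_lit 1, []⟩,
  ⟨[nat_lit 88, nat_lit 87, nat_lit 84], [], [nat_lit 0, nat_lit 0], nat_lit 27, nat_lit 1, []⟩,
  ⟨[nat_lit 87, nat_lit 84], [nat_lit 1], [nat_lit 0, nat_lit 0], nat_lit 54, nat_lit 0, [(nat_lit 1, [nat_lit 0x30001])]⟩,
  ⟨[nat_lit 87, nat_lit 84], [nat_lit 1], [nat_lit 0, nat_lit 0], nat_lit 54, nat_lit 0, [(nat_lit 1, [nat_lit 0x30001])]⟩,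
  ⟨[nat_lit 87, nat_lit 84], [nat_lit 1], [nat_lit 0, nat_lit 0], nat_lit 54, nat_lit 0, [(nat_lit 1, [nat_lit 0x30001])]⟩,
  ⟨[nat_lit 87, nat_lit 84], [nat_lit 1], [nat_lit 0, nat_lit 0], nat_lit 54, nat_lit 0, [(nat_lit 1, [nat_lit 0x30001])]⟩,
  ⟨[nat_lit 87, nat_lit 84], [nat_lit 1], [nat_lit 0, nat_lit 0], nat_lit 54, nat_lit 0, [(nat_lit 1, [nat_lit 0x30001])]⟩,
  ⟨[nat_lit 87, nat_lit 84], [nat_lit 1], [nat_lit 0, nat_lit 0], nat_lit 54, nat_lit 0, [(nat_lit 1, [nat_lit 0x30001])]⟩,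
  ⟨[nat_lit 87, nat_lit 84], [nat_lit 1], [nat_lit 0, nat_lit 0], nat_lit 54, nat_lit 0, [(nat_lit 1, [nat_lit 0x30001])]⟩,
  ⟨[nat_lit 87, nat_lit 84], [nat_lit 1], [nat_lit 0, nat_lit 0], nat_lit 54, nat_lit 0, [(nat_lit 1, [nat_lit 0x30001])]⟩,
  ⟨[nat_lit 87, nat_lit 84], [nat_lit 1], [nat_lit 0, nat_lit 0], nat_lit 54, nat_lit 0, [(nat_lit 1, [nat_lit 0x30001])]⟩,
  ⟨[nat_lit 87, nat_lit 84, nat_lit 77], [], [nat_lit 0, nat_lit 0], nat_lit 54, nat_lit 1, []⟩,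
  ⟨[nat_lit 87, nat_lit 84, nat_lit 77], [], [nat_lit 0, nat_lit 0], nat_lit 54, nat_lit 1, []⟩,
  ⟨[nat_lit 87, nat_lit 84, nat_lit 77], [], [nat_lit 0, nat_lit 0], nat_lit 54, nat_lit 1, []⟩,
  ⟨[nat_lit 87, nat_lit 84, nat_lit 77], [], [nat_lit 0, nat_lit 0], nat_lit 54, nat_lit 1, []⟩,
  ⟨[nat_lit 87, nat_lit 84, nat_lit 77], [], [nat_lit 0, nat_lit 0], nat_lit 54, nat_lit 1, []⟩,
  ⟨[nat_lit 87, nat_lit 84, nat_lit 77], [], [nat_lit 0, nat_lit 0], nat_lit 54, nat_lit 1, []⟩,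
  ⟨[nat_lit 87, nat_lit 84, nat_lit 77], [], [nat_lit 0, nat_lit 0], nat_lit 54, nat_lit 1, []⟩,
  ⟨[nat_lit 87, nat_lit 84, nat_lit 77], [], [nat_lit 0, nat_lit 0], nat_lit 54, nat_lit 1, []⟩,
  ⟨[nat_lit 87, nat_lit 84, nat_lit 77], [], [nat_lit 0, nat_lit 0], nat_lit 54, nat_lit 1, []⟩,
  ⟨[nat_lit 87, nat_lit 84, nat_lit 77], [], [nat_lit 0, nat_lit 0], nat_lit 54, nat_lit 1, []⟩,
  ⟨[nat_lit 87, nat_lit 84, nat_lit 77], [], [nat_lit 0, nat_lit 0], nat_lit 54, nat_lit 1, []⟩,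
  ⟨[nat_lit 87, nat_lit 84, nat_lit 77], [], [nat_lit 0, nat_lit 0], nat_lit 54, nat_lit 1, []⟩,
  ⟨[nat_lit 87, nat_lit 84, nat_lit 77], [], [nat_lit 0, nat_lit 0], nat_lit 54, nat_lit 1, []⟩,
  ⟨[nat_lit 87, nat_lit 84, nat_lit 77], [], [nat_lit 0, nat_lit 0], nat_lit 54, nat_lit 1, []⟩,
  ⟨[nat_lit 87, nat_lit 84, nat_lit 77], [], [nat_lit 0, nat_lit 0], nat_lit 54, nat_lit 1, []⟩,
  ⟨[nat_lit 87, nat_lit 84, nat_lit 77], [], [nat_lit 0, nat_lit 0], nat_lit 54, nat_lit 1, []⟩,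
  ⟨[nat_lit 87, nat_lit 84, nat_lit 77], [], [nat_lit 0, nat_lit 0], nat_lit 54, nat_lit 1, []⟩,
  ⟨[nat_lit 87, nat_lit 84, nat_lit 77], [], [nat_lit 0, nat_lit 0], nat_lit 54, nat_lit 1, []⟩,
  ⟨[nat_lit 94, nat_lit 93], [nat_lit 1], [nat_lit 0], nat_lit 3, nat_lit 0, [(nat_lit 1, [nat_lit 0x900000001])]⟩,
  ⟨[nat_lit 94, nat_lit 93], [nat_lit 1], [nat_lit 0], nat_lit 3, nat_lit 0, [(nat_lit 1, [nat_lit 0x900000001])]⟩,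
  ⟨[nat_lit 94, nat_lit 93], [nat_lit 1], [nat_lit 0], nat_lit 3, nat_lit 0, [(nat_lit 1, [nat_lit 0x900000001])]⟩,
  ⟨[nat_lit 95, nat_lit 91], [nat_lit 9], [nat_lit 0, nat_lit 0, nat_lit 0], nat_lit 4374, nat_lit 0, [(nat_lit 1, [nat_lit 0x900000001])]⟩,
  ⟨[nat_lit 95, nat_lit 91], [nat_lit 9], [nat_lit 0, nat_lit 0, nat_lit 0], nat_lit 2187, nat_lit 0, [(nat_lit 1, [nat_lit 0x900000001])]⟩,
  ⟨[nat_lit 95, nat_lit 91], [nat_lit 9], [nat_lit 0, nat_lit 0, nat_lit 0], nat_lit 4374, nat_lit 0, [(nat_lit 1, [nat_lit 0x900000001])]⟩,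
  ⟨[nat_lit 95, nat_lit 93, nat_lit 55], [], [nat_lit 0], nat_lit 3, nat_lit 1, []⟩,
  ⟨[nat_lit 95, nat_lit 93, nat_lit 55], [], [nat_lit 0], nat_lit 3, nat_lit 1, []⟩,
  ⟨[nat_lit 95, nat_lit 93, nat_lit 55], [], [nat_lit 0], nat_lit 3, nat_lit 1, []⟩]
theorem cc17 : (Nat.beq (lst ndF cl17 1038) 0 && Nat.beq (1038 + cl17.length) 1158) = true := by
  decide +kernel
noncomputable def cl18 : List Nd := [
  ⟨[nat_lit 95, nat_lit 93, nat_lit 55], [], [nat_lit 0], nat_lit 3, nat_lit 1, []⟩,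
  ⟨[nat_lit 95, nat_lit 93, nat_lit 55], [], [nat_lit 0], nat_lit 3, nat_lit 1, []⟩,
  ⟨[nat_lit 95, nat_lit 93, nat_lit 55], [], [nat_lit 0], nat_lit 3, nat_lit 1, []⟩,
  ⟨[nat_lit 99, nat_lit 95, nat_lit 91], [], [nat_lit 0, nat_lit 0, nat_lit 0], nat_lit 4374, nat_lit 1, []⟩,
  ⟨[nat_lit 99, nat_lit 95, nat_lit 91], [], [nat_lit 0, nat_lit 0, nat_lit 0], nat_lit 4374, nat_lit 1, []⟩,
  ⟨[nat_lit 99, nat_lit 95, nat_lit 91], [], [nat_lit 0, nat_lit 0, nat_lit 0], nat_lit 4374, nat_lit 1, []⟩,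
  ⟨[nat_lit 99, nat_lit 95], [nat_lit 249], [nat_lit 0, nat_lit 0x59f0000059e0000059d0000, nat_lit 0], nat_lit 27, nat_lit 1, []⟩,
  ⟨[nat_lit 99, nat_lit 95], [], [nat_lit 0, nat_lit 0x561300005709000057f60000561000005706000057fc0000561600005703000057f9, nat_lit 0], nat_lit 27, nat_lit 1, []⟩,
  ⟨[nat_lit 99, nat_lit 95], [], [nat_lit 0, nat_lit 0x5e9b0000608700005f9100005ea10000608400005f8e00005e9e0000608100005f94, nat_lit 0], nat_lit 27, nat_lit 1, []⟩,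
  ⟨[nat_lit 99, nat_lit 95], [], [nat_lit 0], nat_lit 3, nat_lit 1, []⟩,
  ⟨[nat_lit 99, nat_lit 95], [], [nat_lit 0], nat_lit 3, nat_lit 1, []⟩,
  ⟨[nat_lit 99, nat_lit 95], [], [nat_lit 0], nat_lit 3, nat_lit 1, []⟩,
  ⟨[nat_lit 94, nat_lit 93], [nat_lit 1], [nat_lit 0], nat_lit 3, nat_lit 0, [(nat_lit 1, [nat_lit 0x900000001])]⟩,
  ⟨[nat_lit 94, nat_lit 93], [nat_lit 1], [nat_lit 0], nat_lit 3, nat_lit 0, [(nat_lit 1, [nat_lit 0x900000001])]⟩,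
  ⟨[nat_lit 94, nat_lit 93], [nat_lit 1], [nat_lit 0], nat_lit 3, nat_lit 0, [(nat_lit 1, [nat_lit 0x900000001])]⟩,
  ⟨[nat_lit 95, nat_lit 91], [nat_lit 9], [nat_lit 0, nat_lit 0, nat_lit 0], nat_lit 4374, nat_lit 0, [(nat_lit 1, [nat_lit 0x900000001])]⟩,
  ⟨[nat_lit 95, nat_lit 91], [nat_lit 9], [nat_lit 0, nat_lit 0, nat_lit 0], nat_lit 4374, nat_lit 0, [(nat_lit 1, [nat_lit 0x900000001])]⟩,
  ⟨[nat_lit 95, nat_lit 91], [nat_lit 9], [nat_lit 0, nat_lit 0, nat_lit 0], nat_lit 2187, nat_lit 0, [(nat_lit 1, [nat_lit 0x900000001])]⟩,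
  ⟨[nat_lit 95, nat_lit 93, nat_lit 55], [], [nat_lit 0], nat_lit 3, nat_lit 1, []⟩,
  ⟨[nat_lit 95, nat_lit 93, nat_lit 55], [], [nat_lit 0], nat_lit 3, nat_lit 1, []⟩,
  ⟨[nat_lit 95, nat_lit 93, nat_lit 55], [], [nat_lit 0], nat_lit 3, nat_lit 1, []⟩,
  ⟨[nat_lit 95, nat_lit 93, nat_lit 55], [], [nat_lit 0], nat_lit 3, nat_lit 1, []⟩,
  ⟨[nat_lit 95, nat_lit 93, nat_lit 55], [], [nat_lit 0], nat_lit 3, nat_lit 1, []⟩,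
  ⟨[nat_lit 95, nat_lit 93, nat_lit 55], [], [nat_lit 0], nat_lit 3, nat_lit 1, []⟩,
  ⟨[nat_lit 99, nat_lit 95, nat_lit 91], [], [nat_lit 0, nat_lit 0, nat_lit 0], nat_lit 4374, nat_lit 1, []⟩,
  ⟨[nat_lit 99, nat_lit 95, nat_lit 91], [], [nat_lit 0, nat_lit 0, nat_lit 0], nat_lit 4374, nat_lit 1, []⟩,
  ⟨[nat_lit 99, nat_lit 95, nat_lit 91], [], [nat_lit 0, nat_lit 0, nat_lit 0], nat_lit 4374, nat_lit 1, []⟩,
  ⟨[nat_lit 99, nat_lit 95], [], [nat_lit 0, nat_lit 0x4d8500004fa700004e9600004d8b00004fa400004e9300004d8800004fa100004e99, nat_lit 0], nat_lit 27, nat_lit 1, []⟩,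
  ⟨[nat_lit 99, nat_lit 95], [nat_lit 276], [nat_lit 0, nat_lit 0x5a2000005a1000005a00000, nat_lit 0], nat_lit 27, nat_lit 1, []⟩,
  ⟨[nat_lit 99, nat_lit 95], [], [nat_lit 0, nat_lit 0x5e9e00005faf000060b700005e9b00005fac000060bd00005ea100005fa9000060ba, nat_lit 0], nat_lit 27, nat_lit 1, []⟩,
  ⟨[nat_lit 99, nat_lit 95], [], [nat_lit 0], nat_lit 3, nat_lit 1, []⟩,
  ⟨[nat_lit 99, nat_lit 95], [], [nat_lit 0], nat_lit 3, nat_lit 1, []⟩,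
  ⟨[nat_lit 99, nat_lit 93], [], [nat_lit 0], nat_lit 3, nat_lit 1, []⟩,
  ⟨[nat_lit 94, nat_lit 93], [nat_lit 1], [nat_lit 0], nat_lit 3, nat_lit 0, [(nat_lit 1, [nat_lit 0x900000001])]⟩,
  ⟨[nat_lit 94, nat_lit 93], [nat_lit 1], [nat_lit 0], nat_lit 3, nat_lit 0, [(nat_lit 1, [nat_lit 0x900000001])]⟩,
  ⟨[nat_lit 94, nat_lit 93], [nat_lit 1], [nat_lit 0], nat_lit 3, nat_lit 0, [(nat_lit 1, [nat_lit 0x900000001])]⟩,
  ⟨[nat_lit 95, nat_lit 91], [nat_lit 9], [nat_lit 0, nat_lit 0, nat_lit 0], nat_lit 2187, nat_lit 0, [(nat_lit 1, [nat_lit 0x900000001])]⟩,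
  ⟨[nat_lit 95, nat_lit 91], [nat_lit 9], [nat_lit 0, nat_lit 0, nat_lit 0], nat_lit 4374, nat_lit 0, [(nat_lit 1, [nat_lit 0x900000001])]⟩,
  ⟨[nat_lit 95, nat_lit 91], [nat_lit 9], [nat_lit 0, nat_lit 0, nat_lit 0], nat_lit 4374, nat_lit 0, [(nat_lit 1, [nat_lit 0x900000001])]⟩,
  ⟨[nat_lit 95, nat_lit 93, nat_lit 55], [], [nat_lit 0], nat_lit 3, nat_lit 1, []⟩,
  ⟨[nat_lit 95, nat_lit 93, nat_lit 55], [], [nat_lit 0], nat_lit 3, nat_lit 1, []⟩,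
  ⟨[nat_lit 95, nat_lit 93, nat_lit 55], [], [nat_lit 0], nat_lit 3, nat_lit 1, []⟩,
  ⟨[nat_lit 95, nat_lit 93, nat_lit 55], [], [nat_lit 0], nat_lit 3, nat_lit 1, []⟩,
  ⟨[nat_lit 95, nat_lit 93, nat_lit 55], [], [nat_lit 0], nat_lit 3, nat_lit 1, []⟩,
  ⟨[nat_lit 95, nat_lit 93, nat_lit 55], [], [nat_lit 0], nat_lit 3, nat_lit 1, []⟩,
  ⟨[nat_lit 99, nat_lit 95, nat_lit 91], [], [nat_lit 0, nat_lit 0, nat_lit 0], nat_lit 4374, nat_lit 1, []⟩,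
  ⟨[nat_lit 99, nat_lit 95, nat_lit 91], [], [nat_lit 0, nat_lit 0, nat_lit 0], nat_lit 4374, nat_lit 1, []⟩,
  ⟨[nat_lit 99, nat_lit 95, nat_lit 91], [], [nat_lit 0, nat_lit 0, nat_lit 0], nat_lit 4374, nat_lit 1, []⟩,
  ⟨[nat_lit 99, nat_lit 95], [], [nat_lit 0, nat_lit 0x4d8800004eb400004f8600004d8500004eb100004f8c00004d8b00004eae00004f89, nat_lit 0], nat_lit 27, nat_lit 1, []⟩,
  ⟨[nat_lit 99, nat_lit 95], [], [nat_lit 0, nat_lit 0x5610000058170000573c00005616000058140000573900005613000058110000573f, nat_lit 0], nat_lit 27, nat_lit 1, []⟩,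
  ⟨[nat_lit 99, nat_lit 95], [nat_lit 303], [nat_lit 0, nat_lit 0x5a5000005a4000005a30000, nat_lit 0], nat_lit 27, nat_lit 1, []⟩,
  ⟨[nat_lit 99, nat_lit 95], [], [nat_lit 0], nat_lit 3, nat_lit 1, []⟩,
  ⟨[nat_lit 99, nat_lit 95], [], [nat_lit 0], nat_lit 3, nat_lit 1, []⟩,
  ⟨[nat_lit 99, nat_lit 93], [], [nat_lit 0], nat_lit 3, nat_lit 1, []⟩,
  ⟨[nat_lit 97, nat_lit 93], [nat_lit 1], [nat_lit 0], nat_lit 3, nat_lit 0, [(nat_lit 1, [nat_lit 0x900000001])]⟩,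
  ⟨[nat_lit 97, nat_lit 93], [nat_lit 1], [nat_lit 0], nat_lit 3, nat_lit 0, [(nat_lit 1, [nat_lit 0x900000001])]⟩,
  ⟨[nat_lit 97, nat_lit 93], [nat_lit 1], [nat_lit 0], nat_lit 3, nat_lit 0, [(nat_lit 1, [nat_lit 0x900000001])]⟩,
  ⟨[nat_lit 97, nat_lit 93], [nat_lit 1], [nat_lit 0], nat_lit 3, nat_lit 0, [(nat_lit 1, [nat_lit 0x900000001])]⟩,
  ⟨[nat_lit 97, nat_lit 93], [nat_lit 1], [nat_lit 0], nat_lit 3, nat_lit 0, [(nat_lit 1, [nat_lit 0x900000001])]⟩,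
  ⟨[nat_lit 97, nat_lit 93], [nat_lit 1], [nat_lit 0], nat_lit 3, nat_lit 0, [(nat_lit 1, [nat_lit 0x900000001])]⟩,
  ⟨[nat_lit 99, nat_lit 97], [nat_lit 2190], [nat_lit 0, nat_lit 0x5a69ba305a69c9805a60000, nat_lit 0], nat_lit 54, nat_lit 1, []⟩,
  ⟨[nat_lit 99], [nat_lit 2190, nat_lit 1], [nat_lit 0], nat_lit 3, nat_lit 0, [(nat_lit 1, [nat_lit 0x88e0000000000000000000900000001])]⟩,
  ⟨[nat_lit 99, nat_lit 93], [nat_lit 2190], [nat_lit 0], nat_lit 3, nat_lit 1, []⟩,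
  ⟨[nat_lit 99, nat_lit 93], [nat_lit 2190], [nat_lit 0], nat_lit 3, nat_lit 1, []⟩,
  ⟨[nat_lit 99, nat_lit 97], [nat_lit 1], [nat_lit 0], nat_lit 3, nat_lit 0, [(nat_lit 1, [nat_lit 0x900000001])]⟩,
  ⟨[nat_lit 99, nat_lit 97], [nat_lit 1], [nat_lit 0], nat_lit 3, nat_lit 0, [(nat_lit 1, [nat_lit 0x900000001])]⟩,
  ⟨[nat_lit 99, nat_lit 97], [nat_lit 1], [nat_lit 0], nat_lit 3, nat_lit 0, [(nat_lit 1, [nat_lit 0x900000001])]⟩,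
  ⟨[nat_lit 99, nat_lit 97], [nat_lit 1], [nat_lit 0], nat_lit 3, nat_lit 0, [(nat_lit 1, [nat_lit 0x900000001])]⟩,
  ⟨[nat_lit 99, nat_lit 97], [nat_lit 1], [nat_lit 0], nat_lit 3, nat_lit 0, [(nat_lit 1, [nat_lit 0x900000001])]⟩,
  ⟨[nat_lit 99, nat_lit 97], [nat_lit 1], [nat_lit 0], nat_lit 3, nat_lit 0, [(nat_lit 1, [nat_lit 0x900000001])]⟩,
  ⟨[nat_lit 99, nat_lit 97], [nat_lit 2193], [nat_lit 0, nat_lit 0x5a9000005a8000005a70000, nat_lit 0], nat_lit 54, nat_lit 1, []⟩,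
  ⟨[nat_lit 99], [nat_lit 2193, nat_lit 1], [nat_lit 0], nat_lit 3, nat_lit 0, [(nat_lit 1, [nat_lit 0x8910000000000000000000900000001])]⟩,
  ⟨[nat_lit 99, nat_lit 93], [nat_lit 2193], [nat_lit 0], nat_lit 3, nat_lit 1, []⟩,
  ⟨[nat_lit 99, nat_lit 93], [nat_lit 2193], [nat_lit 0], nat_lit 3, nat_lit 1, []⟩,
  ⟨[nat_lit 99], [nat_lit 2193, nat_lit 1], [nat_lit 0], nat_lit 3, nat_lit 0, [(nat_lit 1, [nat_lit 0x8910000000000000000000900000001])]⟩,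
  ⟨[nat_lit 99], [nat_lit 2193, nat_lit 1], [nat_lit 0], nat_lit 3, nat_lit 0, [(nat_lit 1, [nat_lit 0x8910000000000000000000900000001])]⟩,
  ⟨[nat_lit 99, nat_lit 97], [nat_lit 1], [nat_lit 0], nat_lit 3, nat_lit 0, [(nat_lit 1, [nat_lit 0x900000001])]⟩,
  ⟨[nat_lit 99, nat_lit 97], [nat_lit 1], [nat_lit 0], nat_lit 3, nat_lit 0, [(nat_lit 1, [nat_lit 0x900000001])]⟩,
  ⟨[nat_lit 99, nat_lit 97], [nat_lit 1], [nat_lit 0], nat_lit 3, nat_lit 0, [(nat_lit 1, [nat_lit 0x900000001])]⟩,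
  ⟨[nat_lit 99, nat_lit 97], [nat_lit 1], [nat_lit 0], nat_lit 3, nat_lit 0, [(nat_lit 1, [nat_lit 0x900000001])]⟩,
  ⟨[nat_lit 99, nat_lit 97], [nat_lit 1], [nat_lit 0], nat_lit 3, nat_lit 0, [(nat_lit 1, [nat_lit 0x900000001])]⟩,
  ⟨[nat_lit 99, nat_lit 97], [nat_lit 1], [nat_lit 0], nat_lit 3, nat_lit 0, [(nat_lit 1, [nat_lit 0x900000001])]⟩,
  ⟨[nat_lit 97, nat_lit 91], [nat_lit 9], [nat_lit 0, nat_lit 0, nat_lit 0], nat_lit 27, nat_lit 0, [(nat_lit 1, [nat_lit 0x900000001])]⟩,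
  ⟨[nat_lit 97, nat_lit 91], [nat_lit 9], [nat_lit 0, nat_lit 0, nat_lit 0], nat_lit 27, nat_lit 0, [(nat_lit 1, [nat_lit 0x900000001])]⟩,
  ⟨[nat_lit 97, nat_lit 91], [nat_lit 9], [nat_lit 0, nat_lit 0, nat_lit 0], nat_lit 297, nat_lit 0, [(nat_lit 1, [nat_lit 0x900000001])]⟩,
  ⟨[nat_lit 97, nat_lit 93, nat_lit 77], [], [nat_lit 0], nat_lit 3, nat_lit 1, []⟩,
  ⟨[nat_lit 97, nat_lit 93, nat_lit 77], [], [nat_lit 0], nat_lit 3, nat_lit 1, []⟩,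
  ⟨[nat_lit 97, nat_lit 93, nat_lit 77], [], [nat_lit 0], nat_lit 3, nat_lit 1, []⟩,
  ⟨[nat_lit 97, nat_lit 93, nat_lit 77], [], [nat_lit 0], nat_lit 3, nat_lit 1, []⟩,
  ⟨[nat_lit 97, nat_lit 93, nat_lit 77], [], [nat_lit 0], nat_lit 3, nat_lit 1, []⟩,
  ⟨[nat_lit 97, nat_lit 93, nat_lit 77], [], [nat_lit 0], nat_lit 3, nat_lit 1, []⟩,
  ⟨[nat_lit 99, nat_lit 97, nat_lit 91], [], [nat_lit 0, nat_lit 0, nat_lit 0], nat_lit 27, nat_lit 1, []⟩,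
  ⟨[nat_lit 99, nat_lit 97, nat_lit 91], [], [nat_lit 0, nat_lit 0, nat_lit 0], nat_lit 27, nat_lit 1, []⟩,
  ⟨[nat_lit 99, nat_lit 97, nat_lit 91], [], [nat_lit 0, nat_lit 0, nat_lit 0], nat_lit 27, nat_lit 1, []⟩,
  ⟨[nat_lit 99, nat_lit 97, nat_lit 93], [], [nat_lit 0], nat_lit 3, nat_lit 1, []⟩,
  ⟨[nat_lit 99, nat_lit 97, nat_lit 93], [], [nat_lit 0], nat_lit 3, nat_lit 1, []⟩,
  ⟨[nat_lit 99, nat_lit 97, nat_lit 93], [], [nat_lit 0], nat_lit 3, nat_lit 1, []⟩,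
  ⟨[nat_lit 99, nat_lit 97, nat_lit 93], [], [nat_lit 0], nat_lit 3, nat_lit 1, []⟩,
  ⟨[nat_lit 99, nat_lit 97, nat_lit 93], [], [nat_lit 0], nat_lit 3, nat_lit 1, []⟩,
  ⟨[nat_lit 99, nat_lit 97, nat_lit 93], [], [nat_lit 0], nat_lit 3, nat_lit 1, []⟩,
  ⟨[nat_lit 99, nat_lit 97], [nat_lit 2433], [nat_lit 0, nat_lit 0x5ac000005ab000005aa0000, nat_lit 0], nat_lit 243, nat_lit 1, []⟩,
  ⟨[nat_lit 99, nat_lit 97], [], [nat_lit 0, nat_lit 0x4f6e0000561300005f9100004f6b0000561000005f8e00004f710000561600005f94, nat_lit 0], nat_lit 27, nat_lit 1, []⟩,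
  ⟨[nat_lit 99, nat_lit 97], [], [nat_lit 0, nat_lit 0x4e7800005e9b000057f600004e7e00005ea1000057fc00004e7b00005e9e000057f9, nat_lit 0], nat_lit 27, nat_lit 1, []⟩,
  ⟨[nat_lit 99, nat_lit 97], [], [nat_lit 0], nat_lit 3, nat_lit 1, []⟩,
  ⟨[nat_lit 99, nat_lit 97], [], [nat_lit 0], nat_lit 3, nat_lit 1, []⟩,
  ⟨[nat_lit 99, nat_lit 97], [], [nat_lit 0], nat_lit 3, nat_lit 1, []⟩,
  ⟨[nat_lit 99, nat_lit 93], [], [nat_lit 0], nat_lit 3, nat_lit 1, []⟩,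
  ⟨[nat_lit 99, nat_lit 93], [], [nat_lit 0], nat_lit 3, nat_lit 1, []⟩,
  ⟨[nat_lit 99, nat_lit 97], [], [nat_lit 0], nat_lit 3, nat_lit 1, []⟩,
  ⟨[nat_lit 99, nat_lit 97], [], [nat_lit 0], nat_lit 3, nat_lit 1, []⟩,
  ⟨[nat_lit 99, nat_lit 97], [], [nat_lit 0], nat_lit 3, nat_lit 1, []⟩,
  ⟨[nat_lit 99, nat_lit 97], [], [nat_lit 0], nat_lit 3, nat_lit 1, []⟩,
  ⟨[nat_lit 99, nat_lit 97, nat_lit 77], [], [nat_lit 0], nat_lit 3, nat_lit 1, []⟩,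
  ⟨[nat_lit 99, nat_lit 97, nat_lit 77], [], [nat_lit 0], nat_lit 3, nat_lit 1, []⟩,
  ⟨[nat_lit 99, nat_lit 97, nat_lit 77], [], [nat_lit 0], nat_lit 3, nat_lit 1, []⟩,
  ⟨[nat_lit 99, nat_lit 97, nat_lit 77], [], [nat_lit 0], nat_lit 3, nat_lit 1, []⟩,
  ⟨[nat_lit 99, nat_lit 97, nat_lit 77], [], [nat_lit 0], nat_lit 3, nat_lit 1, []⟩,
  ⟨[nat_lit 99, nat_lit 97, nat_lit 77], [], [nat_lit 0], nat_lit 3, nat_lit 1, []⟩,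
  ⟨[nat_lit 97, nat_lit 91], [nat_lit 9], [nat_lit 0, nat_lit 0, nat_lit 0], nat_lit 54, nat_lit 0, [(nat_lit 1, [nat_lit 0x900000001])]⟩,
  ⟨[nat_lit 97, nat_lit 91], [nat_lit 9], [nat_lit 0, nat_lit 0, nat_lit 0], nat_lit 54, nat_lit 0, [(nat_lit 1, [nat_lit 0x900000001])]⟩]
theorem cc18 : (Nat.beq (lst ndF cl18 1158) 0 && Nat.beq (1158 + cl18.length) 1278) = true := by
  decide +kernel
noncomputable def cl19 : List Nd := [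
  ⟨[nat_lit 97, nat_lit 91], [nat_lit 9], [nat_lit 0, nat_lit 0, nat_lit 0], nat_lit 54, nat_lit 0, [(nat_lit 1, [nat_lit 0x900000001])]⟩,
  ⟨[nat_lit 97, nat_lit 93, nat_lit 77], [], [nat_lit 0], nat_lit 3, nat_lit 1, []⟩,
  ⟨[nat_lit 97, nat_lit 93, nat_lit 77], [], [nat_lit 0], nat_lit 3, nat_lit 1, []⟩,
  ⟨[nat_lit 97, nat_lit 93, nat_lit 77], [], [nat_lit 0], nat_lit 3, nat_lit 1, []⟩,
  ⟨[nat_lit 97, nat_lit 93, nat_lit 77], [], [nat_lit 0], nat_lit 3, nat_lit 1, []⟩,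
  ⟨[nat_lit 97, nat_lit 93, nat_lit 77], [], [nat_lit 0], nat_lit 3, nat_lit 1, []⟩,
  ⟨[nat_lit 97, nat_lit 93, nat_lit 77], [], [nat_lit 0], nat_lit 3, nat_lit 1, []⟩,
  ⟨[nat_lit 99, nat_lit 97, nat_lit 91], [], [nat_lit 0, nat_lit 0, nat_lit 0], nat_lit 54, nat_lit 1, []⟩,
  ⟨[nat_lit 99, nat_lit 97, nat_lit 91], [], [nat_lit 0, nat_lit 0, nat_lit 0], nat_lit 54, nat_lit 1, []⟩,
  ⟨[nat_lit 99, nat_lit 97, nat_lit 91], [], [nat_lit 0, nat_lit 0, nat_lit 0], nat_lit 54, nat_lit 1, []⟩,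
  ⟨[nat_lit 99, nat_lit 97, nat_lit 93], [], [nat_lit 0], nat_lit 3, nat_lit 1, []⟩,
  ⟨[nat_lit 99, nat_lit 97, nat_lit 93], [], [nat_lit 0], nat_lit 3, nat_lit 1, []⟩,
  ⟨[nat_lit 99, nat_lit 97, nat_lit 93], [], [nat_lit 0], nat_lit 3, nat_lit 1, []⟩,
  ⟨[nat_lit 99, nat_lit 97, nat_lit 93], [], [nat_lit 0], nat_lit 3, nat_lit 1, []⟩,
  ⟨[nat_lit 99, nat_lit 97, nat_lit 93], [], [nat_lit 0], nat_lit 3, nat_lit 1, []⟩,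
  ⟨[nat_lit 99, nat_lit 97, nat_lit 93], [], [nat_lit 0], nat_lit 3, nat_lit 1, []⟩,
  ⟨[nat_lit 99, nat_lit 91], [nat_lit 2673], [nat_lit 0, nat_lit 0x5af000005ae000005ad0000, nat_lit 0], nat_lit 54, nat_lit 1, []⟩,
  ⟨[nat_lit 99, nat_lit 91], [], [nat_lit 0, nat_lit 0x570900004f6e00005e9b0000570600004f6b00005ea10000570300004f7100005e9e, nat_lit 0], nat_lit 54, nat_lit 1, []⟩,
  ⟨[nat_lit 99, nat_lit 91], [], [nat_lit 0, nat_lit 0x608700004e78000056130000608400004e7e000056100000608100004e7b00005616, nat_lit 0], nat_lit 54, nat_lit 1, []⟩,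
  ⟨[nat_lit 99, nat_lit 77], [], [nat_lit 0], nat_lit 3, nat_lit 1, []⟩,
  ⟨[nat_lit 99, nat_lit 93], [], [nat_lit 0], nat_lit 3, nat_lit 1, []⟩,
  ⟨[nat_lit 99, nat_lit 93], [], [nat_lit 0], nat_lit 3, nat_lit 1, []⟩,
  ⟨[nat_lit 99, nat_lit 97], [], [nat_lit 0], nat_lit 3, nat_lit 1, []⟩,
  ⟨[nat_lit 99, nat_lit 97], [], [nat_lit 0], nat_lit 3, nat_lit 1, []⟩,
  ⟨[nat_lit 99, nat_lit 97], [], [nat_lit 0], nat_lit 3, nat_lit 1, []⟩,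
  ⟨[nat_lit 99, nat_lit 97], [], [nat_lit 0], nat_lit 3, nat_lit 1, []⟩,
  ⟨[nat_lit 99, nat_lit 77], [], [nat_lit 0], nat_lit 3, nat_lit 1, []⟩,
  ⟨[nat_lit 99, nat_lit 77], [], [nat_lit 0], nat_lit 3, nat_lit 1, []⟩,
  ⟨[nat_lit 99, nat_lit 97, nat_lit 77], [], [nat_lit 0], nat_lit 3, nat_lit 1, []⟩,
  ⟨[nat_lit 99, nat_lit 97, nat_lit 77], [], [nat_lit 0], nat_lit 3, nat_lit 1, []⟩,
  ⟨[nat_lit 99, nat_lit 97, nat_lit 77], [], [nat_lit 0], nat_lit 3, nat_lit 1, []⟩,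
  ⟨[nat_lit 99, nat_lit 97, nat_lit 77], [], [nat_lit 0], nat_lit 3, nat_lit 1, []⟩,
  ⟨[nat_lit 99, nat_lit 97, nat_lit 77], [], [nat_lit 0], nat_lit 3, nat_lit 1, []⟩,
  ⟨[nat_lit 99, nat_lit 97, nat_lit 77], [], [nat_lit 0], nat_lit 3, nat_lit 1, []⟩,
  ⟨[nat_lit 99, nat_lit 97], [], [nat_lit 0], nat_lit 3, nat_lit 1, []⟩,
  ⟨[nat_lit 99, nat_lit 97], [], [nat_lit 0], nat_lit 3, nat_lit 1, []⟩,
  ⟨[nat_lit 99, nat_lit 97], [], [nat_lit 0], nat_lit 3, nat_lit 1, []⟩,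
  ⟨[nat_lit 99, nat_lit 97], [], [nat_lit 0], nat_lit 3, nat_lit 1, []⟩,
  ⟨[nat_lit 99, nat_lit 97], [], [nat_lit 0], nat_lit 3, nat_lit 1, []⟩,
  ⟨[nat_lit 99, nat_lit 97], [], [nat_lit 0], nat_lit 3, nat_lit 1, []⟩,
  ⟨[nat_lit 99, nat_lit 95], [], [nat_lit 0], nat_lit 3, nat_lit 1, []⟩,
  ⟨[nat_lit 99, nat_lit 95], [], [nat_lit 0], nat_lit 3, nat_lit 1, []⟩,
  ⟨[nat_lit 99, nat_lit 55], [nat_lit 19845], [nat_lit 0], nat_lit 3, nat_lit 1, []⟩,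
  ⟨[nat_lit 99, nat_lit 97], [], [nat_lit 0], nat_lit 3, nat_lit 1, []⟩,
  ⟨[nat_lit 99, nat_lit 97], [], [nat_lit 0], nat_lit 3, nat_lit 1, []⟩,
  ⟨[nat_lit 99, nat_lit 97], [], [nat_lit 0], nat_lit 3, nat_lit 1, []⟩,
  ⟨[nat_lit 99, nat_lit 97], [], [nat_lit 0], nat_lit 3, nat_lit 1, []⟩,
  ⟨[nat_lit 99, nat_lit 97], [], [nat_lit 0], nat_lit 3, nat_lit 1, []⟩,
  ⟨[nat_lit 99, nat_lit 97], [], [nat_lit 0], nat_lit 3, nat_lit 1, []⟩,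
  ⟨[nat_lit 99, nat_lit 95], [], [nat_lit 0], nat_lit 3, nat_lit 1, []⟩,
  ⟨[nat_lit 99, nat_lit 95], [], [nat_lit 0], nat_lit 3, nat_lit 1, []⟩,
  ⟨[nat_lit 99, nat_lit 55], [nat_lit 19848], [nat_lit 0], nat_lit 3, nat_lit 1, []⟩,
  ⟨[nat_lit 99, nat_lit 97], [], [nat_lit 0], nat_lit 3, nat_lit 1, []⟩,
  ⟨[nat_lit 99, nat_lit 97], [], [nat_lit 0], nat_lit 3, nat_lit 1, []⟩,
  ⟨[nat_lit 99, nat_lit 97], [], [nat_lit 0], nat_lit 3, nat_lit 1, []⟩,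
  ⟨[nat_lit 99, nat_lit 97], [], [nat_lit 0], nat_lit 3, nat_lit 1, []⟩,
  ⟨[nat_lit 99, nat_lit 97], [], [nat_lit 0], nat_lit 3, nat_lit 1, []⟩,
  ⟨[nat_lit 99, nat_lit 97], [], [nat_lit 0], nat_lit 3, nat_lit 1, []⟩,
  ⟨[nat_lit 99, nat_lit 95], [], [nat_lit 0], nat_lit 3, nat_lit 1, []⟩,
  ⟨[nat_lit 99, nat_lit 95], [], [nat_lit 0], nat_lit 3, nat_lit 1, []⟩,
  ⟨[nat_lit 99, nat_lit 55], [nat_lit 19851], [nat_lit 0], nat_lit 3, nat_lit 1, []⟩,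
  ⟨[nat_lit 99, nat_lit 97], [], [nat_lit 0], nat_lit 3, nat_lit 1, []⟩,
  ⟨[nat_lit 99, nat_lit 97], [], [nat_lit 0], nat_lit 3, nat_lit 1, []⟩,
  ⟨[nat_lit 99, nat_lit 97], [], [nat_lit 0], nat_lit 3, nat_lit 1, []⟩,
  ⟨[nat_lit 99, nat_lit 97], [], [nat_lit 0], nat_lit 3, nat_lit 1, []⟩,
  ⟨[nat_lit 99, nat_lit 97], [], [nat_lit 0], nat_lit 3, nat_lit 1, []⟩,
  ⟨[nat_lit 99, nat_lit 97], [], [nat_lit 0], nat_lit 3, nat_lit 1, []⟩,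
  ⟨[nat_lit 99, nat_lit 95], [], [nat_lit 0], nat_lit 3, nat_lit 1, []⟩,
  ⟨[nat_lit 99, nat_lit 95], [], [nat_lit 0], nat_lit 3, nat_lit 1, []⟩,
  ⟨[nat_lit 99, nat_lit 55], [nat_lit 22038], [nat_lit 0], nat_lit 3, nat_lit 1, []⟩,
  ⟨[nat_lit 99, nat_lit 97], [], [nat_lit 0], nat_lit 3, nat_lit 1, []⟩,
  ⟨[nat_lit 99, nat_lit 97], [], [nat_lit 0], nat_lit 3, nat_lit 1, []⟩,
  ⟨[nat_lit 99, nat_lit 97], [], [nat_lit 0], nat_lit 3, nat_lit 1, []⟩,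
  ⟨[nat_lit 99, nat_lit 97], [], [nat_lit 0], nat_lit 3, nat_lit 1, []⟩,
  ⟨[nat_lit 99, nat_lit 97], [], [nat_lit 0], nat_lit 3, nat_lit 1, []⟩,
  ⟨[nat_lit 99, nat_lit 97], [], [nat_lit 0], nat_lit 3, nat_lit 1, []⟩,
  ⟨[nat_lit 99, nat_lit 95], [], [nat_lit 0], nat_lit 3, nat_lit 1, []⟩,
  ⟨[nat_lit 99, nat_lit 95], [], [nat_lit 0], nat_lit 3, nat_lit 1, []⟩,
  ⟨[nat_lit 99, nat_lit 55], [nat_lit 22032], [nat_lit 0], nat_lit 3, nat_lit 1, []⟩,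
  ⟨[nat_lit 99, nat_lit 97], [], [nat_lit 0], nat_lit 3, nat_lit 1, []⟩,
  ⟨[nat_lit 99, nat_lit 97], [], [nat_lit 0], nat_lit 3, nat_lit 1, []⟩,
  ⟨[nat_lit 99, nat_lit 97], [], [nat_lit 0], nat_lit 3, nat_lit 1, []⟩,
  ⟨[nat_lit 99, nat_lit 97], [], [nat_lit 0], nat_lit 3, nat_lit 1, []⟩,
  ⟨[nat_lit 99, nat_lit 97], [], [nat_lit 0], nat_lit 3, nat_lit 1, []⟩,
  ⟨[nat_lit 99, nat_lit 97], [], [nat_lit 0], nat_lit 3, nat_lit 1, []⟩,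
  ⟨[nat_lit 99, nat_lit 95], [], [nat_lit 0], nat_lit 3, nat_lit 1, []⟩,
  ⟨[nat_lit 99, nat_lit 95], [], [nat_lit 0], nat_lit 3, nat_lit 1, []⟩,
  ⟨[nat_lit 99, nat_lit 55], [nat_lit 22035], [nat_lit 0], nat_lit 3, nat_lit 1, []⟩,
  ⟨[nat_lit 99, nat_lit 97], [], [nat_lit 0], nat_lit 3, nat_lit 1, []⟩,
  ⟨[nat_lit 99, nat_lit 97], [], [nat_lit 0], nat_lit 3, nat_lit 1, []⟩,
  ⟨[nat_lit 99, nat_lit 97], [], [nat_lit 0], nat_lit 3, nat_lit 1, []⟩,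
  ⟨[nat_lit 99, nat_lit 97], [], [nat_lit 0], nat_lit 3, nat_lit 1, []⟩,
  ⟨[nat_lit 99, nat_lit 97], [], [nat_lit 0], nat_lit 3, nat_lit 1, []⟩,
  ⟨[nat_lit 99, nat_lit 97], [], [nat_lit 0], nat_lit 3, nat_lit 1, []⟩,
  ⟨[nat_lit 99, nat_lit 95], [], [nat_lit 0], nat_lit 3, nat_lit 1, []⟩,
  ⟨[nat_lit 99, nat_lit 95], [], [nat_lit 0], nat_lit 3, nat_lit 1, []⟩,
  ⟨[nat_lit 99, nat_lit 55], [nat_lit 24222], [nat_lit 0], nat_lit 3, nat_lit 1, []⟩,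
  ⟨[nat_lit 99, nat_lit 97], [], [nat_lit 0], nat_lit 3, nat_lit 1, []⟩,
  ⟨[nat_lit 99, nat_lit 97], [], [nat_lit 0], nat_lit 3, nat_lit 1, []⟩,
  ⟨[nat_lit 99, nat_lit 97], [], [nat_lit 0], nat_lit 3, nat_lit 1, []⟩,
  ⟨[nat_lit 99, nat_lit 97], [], [nat_lit 0], nat_lit 3, nat_lit 1, []⟩,
  ⟨[nat_lit 99, nat_lit 97], [], [nat_lit 0], nat_lit 3, nat_lit 1, []⟩,
  ⟨[nat_lit 99, nat_lit 97], [], [nat_lit 0], nat_lit 3, nat_lit 1, []⟩,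
  ⟨[nat_lit 99, nat_lit 95], [], [nat_lit 0], nat_lit 3, nat_lit 1, []⟩,
  ⟨[nat_lit 99, nat_lit 95], [], [nat_lit 0], nat_lit 3, nat_lit 1, []⟩,
  ⟨[nat_lit 99, nat_lit 55], [nat_lit 24225], [nat_lit 0], nat_lit 3, nat_lit 1, []⟩,
  ⟨[nat_lit 99, nat_lit 97], [], [nat_lit 0], nat_lit 3, nat_lit 1, []⟩,
  ⟨[nat_lit 99, nat_lit 97], [], [nat_lit 0], nat_lit 3, nat_lit 1, []⟩,
  ⟨[nat_lit 99, nat_lit 97], [], [nat_lit 0], nat_lit 3, nat_lit 1, []⟩,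
  ⟨[nat_lit 99, nat_lit 97], [], [nat_lit 0], nat_lit 3, nat_lit 1, []⟩,
  ⟨[nat_lit 99, nat_lit 97], [], [nat_lit 0], nat_lit 3, nat_lit 1, []⟩,
  ⟨[nat_lit 99, nat_lit 97], [], [nat_lit 0], nat_lit 3, nat_lit 1, []⟩,
  ⟨[nat_lit 99, nat_lit 95], [], [nat_lit 0], nat_lit 3, nat_lit 1, []⟩,
  ⟨[nat_lit 99, nat_lit 95], [], [nat_lit 0], nat_lit 3, nat_lit 1, []⟩,
  ⟨[nat_lit 99, nat_lit 55], [nat_lit 24219], [nat_lit 0], nat_lit 3, nat_lit 1, []⟩,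
  ⟨[nat_lit 97, nat_lit 95, nat_lit 92], [], [nat_lit 0], nat_lit 3, nat_lit 1, []⟩,
  ⟨[nat_lit 97, nat_lit 95, nat_lit 92], [], [nat_lit 0], nat_lit 3, nat_lit 1, []⟩,
  ⟨[nat_lit 97, nat_lit 95, nat_lit 92], [], [nat_lit 0], nat_lit 3, nat_lit 1, []⟩,
  ⟨[nat_lit 97, nat_lit 95, nat_lit 92], [], [nat_lit 0], nat_lit 3, nat_lit 1, []⟩,
  ⟨[nat_lit 97, nat_lit 95, nat_lit 92], [], [nat_lit 0], nat_lit 3, nat_lit 1, []⟩]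
theorem cc19 : (Nat.beq (lst ndF cl19 1278) 0 && Nat.beq (1278 + cl19.length) 1398) = true := by
  decide +kernel
noncomputable def cl20 : List Nd := [
  ⟨[nat_lit 97, nat_lit 95, nat_lit 92], [], [nat_lit 0], nat_lit 3, nat_lit 1, []⟩,
  ⟨[nat_lit 99, nat_lit 97, nat_lit 75], [], [nat_lit 0], nat_lit 3, nat_lit 1, []⟩,
  ⟨[nat_lit 99, nat_lit 97, nat_lit 75], [], [nat_lit 0], nat_lit 3, nat_lit 1, []⟩,
  ⟨[nat_lit 99, nat_lit 97, nat_lit 75], [], [nat_lit 0], nat_lit 3, nat_lit 1, []⟩,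
  ⟨[nat_lit 97, nat_lit 95, nat_lit 91], [], [nat_lit 0, nat_lit 0], nat_lit 18, nat_lit 1, []⟩,
  ⟨[nat_lit 97, nat_lit 95, nat_lit 91], [], [nat_lit 0, nat_lit 0], nat_lit 18, nat_lit 1, []⟩,
  ⟨[nat_lit 97, nat_lit 95, nat_lit 91], [], [nat_lit 0, nat_lit 0], nat_lit 18, nat_lit 1, []⟩,
  ⟨[nat_lit 99, nat_lit 92, nat_lit 91], [], [nat_lit 0x5b07c1d05b0d5f205b00000, nat_lit 0, nat_lit 0], nat_lit 3861, nat_lit 1, []⟩,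
  ⟨[nat_lit 99, nat_lit 92, nat_lit 91], [], [nat_lit 0x5b1dde405b1dca205b10000, nat_lit 0, nat_lit 0], nat_lit 3753, nat_lit 1, []⟩,
  ⟨[nat_lit 99, nat_lit 92, nat_lit 91], [], [nat_lit 0x5b2735b05b26d9b05b20000, nat_lit 0, nat_lit 0], nat_lit 5157, nat_lit 1, []⟩,
  ⟨[nat_lit 99, nat_lit 97, nat_lit 77], [], [nat_lit 0, nat_lit 0], nat_lit 9, nat_lit 1, []⟩,
  ⟨[nat_lit 99, nat_lit 97, nat_lit 91], [], [nat_lit 0, nat_lit 0], nat_lit 18, nat_lit 1, []⟩,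
  ⟨[nat_lit 99, nat_lit 97, nat_lit 91], [], [nat_lit 0, nat_lit 0], nat_lit 9, nat_lit 1, []⟩,
  ⟨[nat_lit 99, nat_lit 92, nat_lit 91], [], [nat_lit 0x5b3c0a505b3c4de05b30000, nat_lit 0, nat_lit 0], nat_lit 5319, nat_lit 1, []⟩,
  ⟨[nat_lit 99, nat_lit 92, nat_lit 91], [], [nat_lit 0x5b4b7f005b4bbf205b40000, nat_lit 0, nat_lit 0], nat_lit 5103, nat_lit 1, []⟩,
  ⟨[nat_lit 99, nat_lit 92, nat_lit 91], [], [nat_lit 0x5b58c9c05b5b42005b50000, nat_lit 0, nat_lit 0], nat_lit 3834, nat_lit 1, []⟩,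
  ⟨[nat_lit 99, nat_lit 97, nat_lit 77], [], [nat_lit 0, nat_lit 0], nat_lit 18, nat_lit 1, []⟩,
  ⟨[nat_lit 99, nat_lit 97, nat_lit 91], [], [nat_lit 0, nat_lit 0], nat_lit 18, nat_lit 1, []⟩,
  ⟨[nat_lit 99, nat_lit 97, nat_lit 91], [], [nat_lit 0, nat_lit 0], nat_lit 18, nat_lit 1, []⟩,
  ⟨[nat_lit 55], [nat_lit 243, nat_lit 9, nat_lit 3], [nat_lit 0, nat_lit 0, nat_lit 0], nat_lit 27, nat_lit 1, []⟩,
  ⟨[nat_lit 55], [nat_lit 324, nat_lit 9, nat_lit 3], [nat_lit 0, nat_lit 0, nat_lit 0], nat_lit 27, nat_lit 1, []⟩,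
  ⟨[nat_lit 55], [nat_lit 405, nat_lit 9, nat_lit 3], [nat_lit 0, nat_lit 0, nat_lit 0], nat_lit 27, nat_lit 1, []⟩,
  ⟨[nat_lit 66], [nat_lit 729, nat_lit 99, nat_lit 1], [nat_lit 0, nat_lit 0], nat_lit 27, nat_lit 1, []⟩,
  ⟨[nat_lit 77], [nat_lit 2430, nat_lit 9, nat_lit 3], [nat_lit 0, nat_lit 0, nat_lit 0], nat_lit 27, nat_lit 1, []⟩,
  ⟨[nat_lit 77], [nat_lit 2673, nat_lit 9, nat_lit 3], [nat_lit 0, nat_lit 0, nat_lit 0], nat_lit 54, nat_lit 1, []⟩,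
  ⟨[nat_lit 77], [nat_lit 3645, nat_lit 81, nat_lit 1], [nat_lit 0, nat_lit 0], nat_lit 54, nat_lit 1, []⟩,
  ⟨[nat_lit 77], [nat_lit 3654, nat_lit 81, nat_lit 1], [nat_lit 0, nat_lit 0], nat_lit 54, nat_lit 1, []⟩,
  ⟨[nat_lit 77], [nat_lit 3663, nat_lit 81, nat_lit 1], [nat_lit 0, nat_lit 0], nat_lit 54, nat_lit 1, []⟩,
  ⟨[nat_lit 77, nat_lit 55], [nat_lit 3645, nat_lit 252], [nat_lit 0, nat_lit 0], nat_lit 18, nat_lit 1, []⟩,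
  ⟨[nat_lit 77, nat_lit 55], [nat_lit 3654, nat_lit 252], [nat_lit 0, nat_lit 0], nat_lit 18, nat_lit 1, []⟩,
  ⟨[nat_lit 77, nat_lit 55], [nat_lit 3663, nat_lit 252], [nat_lit 0, nat_lit 0], nat_lit 18, nat_lit 1, []⟩,
  ⟨[nat_lit 77, nat_lit 55], [nat_lit 3645, nat_lit 333], [nat_lit 0, nat_lit 0], nat_lit 18, nat_lit 1, []⟩,
  ⟨[nat_lit 77, nat_lit 55], [nat_lit 3645, nat_lit 414], [nat_lit 0, nat_lit 0], nat_lit 18, nat_lit 1, []⟩,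
  ⟨[nat_lit 88], [nat_lit 6804, nat_lit 99, nat_lit 3], [nat_lit 0, nat_lit 0], nat_lit 27, nat_lit 1, []⟩,
  ⟨[nat_lit 88], [nat_lit 8748, nat_lit 27, nat_lit 3], [nat_lit 0, nat_lit 0], nat_lit 171, nat_lit 1, []⟩,
  ⟨[nat_lit 88], [nat_lit 9234, nat_lit 117, nat_lit 3], [nat_lit 0, nat_lit 0], nat_lit 63, nat_lit 1, []⟩,
  ⟨[nat_lit 88], [nat_lit 10935, nat_lit 27, nat_lit 3], [nat_lit 0, nat_lit 0], nat_lit 171, nat_lit 1, []⟩,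
  ⟨[nat_lit 88], [nat_lit 11421, nat_lit 144, nat_lit 3], [nat_lit 0, nat_lit 0], nat_lit 36, nat_lit 1, []⟩,
  ⟨[nat_lit 99, nat_lit 55], [nat_lit 19845, nat_lit 249], [nat_lit 0], nat_lit 3, nat_lit 1, []⟩,
  ⟨[nat_lit 99, nat_lit 55], [nat_lit 19848, nat_lit 249], [nat_lit 0], nat_lit 3, nat_lit 1, []⟩,
  ⟨[nat_lit 99, nat_lit 55], [nat_lit 19851, nat_lit 249], [nat_lit 0], nat_lit 3, nat_lit 1, []⟩,
  ⟨[nat_lit 99, nat_lit 55], [nat_lit 22032, nat_lit 276], [nat_lit 0], nat_lit 3, nat_lit 1, []⟩,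
  ⟨[nat_lit 99, nat_lit 55], [nat_lit 22035, nat_lit 276], [nat_lit 0], nat_lit 3, nat_lit 1, []⟩,
  ⟨[nat_lit 99, nat_lit 55], [nat_lit 22038, nat_lit 276], [nat_lit 0], nat_lit 3, nat_lit 1, []⟩,
  ⟨[nat_lit 99, nat_lit 55], [nat_lit 24219, nat_lit 303], [nat_lit 0], nat_lit 3, nat_lit 1, []⟩,
  ⟨[nat_lit 99, nat_lit 55], [nat_lit 24222, nat_lit 303], [nat_lit 0], nat_lit 3, nat_lit 1, []⟩,
  ⟨[nat_lit 99, nat_lit 55], [nat_lit 24225, nat_lit 303], [nat_lit 0], nat_lit 3, nat_lit 1, []⟩,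
  ⟨[nat_lit 99], [nat_lit 19764, nat_lit 2190, nat_lit 1], [nat_lit 0], nat_lit 54, nat_lit 1, []⟩,
  ⟨[nat_lit 99], [nat_lit 19845, nat_lit 2193, nat_lit 1], [nat_lit 0], nat_lit 54, nat_lit 1, []⟩,
  ⟨[nat_lit 99], [nat_lit 19848, nat_lit 2193, nat_lit 1], [nat_lit 0], nat_lit 54, nat_lit 1, []⟩,
  ⟨[nat_lit 99], [nat_lit 19851, nat_lit 2193, nat_lit 1], [nat_lit 0], nat_lit 54, nat_lit 1, []⟩,
  ⟨[nat_lit 99, nat_lit 77], [nat_lit 19845, nat_lit 2433], [nat_lit 0], nat_lit 3, nat_lit 1, []⟩,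
  ⟨[nat_lit 99, nat_lit 77], [nat_lit 19848, nat_lit 2433], [nat_lit 0], nat_lit 3, nat_lit 1, []⟩,
  ⟨[nat_lit 99, nat_lit 77], [nat_lit 19851, nat_lit 2433], [nat_lit 0], nat_lit 3, nat_lit 1, []⟩,
  ⟨[nat_lit 99, nat_lit 77], [nat_lit 19845, nat_lit 2673], [nat_lit 0], nat_lit 3, nat_lit 1, []⟩,
  ⟨[nat_lit 99, nat_lit 77], [nat_lit 19848, nat_lit 2673], [nat_lit 0], nat_lit 3, nat_lit 1, []⟩,
  ⟨[nat_lit 99, nat_lit 77], [nat_lit 19851, nat_lit 2673], [nat_lit 0], nat_lit 3, nat_lit 1, []⟩,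
  ⟨[nat_lit 99, nat_lit 91], [], [nat_lit 0x5b6e54e05b6d7ae05b60000, nat_lit 0], nat_lit 3861, nat_lit 1, []⟩,
  ⟨[nat_lit 99, nat_lit 91], [], [nat_lit 0x5b702b905b7cf4605b70000, nat_lit 0], nat_lit 3771, nat_lit 1, []⟩,
  ⟨[nat_lit 99, nat_lit 91], [], [nat_lit 0x5b8736305b810ca05b80000, nat_lit 0], nat_lit 5175, nat_lit 1, []⟩,
  ⟨[nat_lit 99, nat_lit 91], [], [nat_lit 0x5b9957d05b90e9c05b90000, nat_lit 0], nat_lit 5319, nat_lit 1, []⟩,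
  ⟨[nat_lit 99, nat_lit 91], [], [nat_lit 0x5ba8b0105ba10b105ba0000, nat_lit 0], nat_lit 5112, nat_lit 1, []⟩,
  ⟨[nat_lit 99, nat_lit 91], [], [nat_lit 0x5bb146605bb8cc105bb0000, nat_lit 0], nat_lit 3843, nat_lit 1, []⟩,
  ⟨[nat_lit 99, nat_lit 55], [nat_lit 26244], [nat_lit 0], nat_lit 3, nat_lit 1, []⟩,
  ⟨[nat_lit 99, nat_lit 55], [nat_lit 28431], [nat_lit 0], nat_lit 3, nat_lit 1, []⟩,
  ⟨[nat_lit 99, nat_lit 55], [nat_lit 30618], [nat_lit 0], nat_lit 3, nat_lit 1, []⟩,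
  ⟨[nat_lit 99, nat_lit 55], [nat_lit 32805], [nat_lit 0], nat_lit 3, nat_lit 1, []⟩,
  ⟨[nat_lit 99, nat_lit 55], [nat_lit 34992], [nat_lit 0], nat_lit 3, nat_lit 1, []⟩,
  ⟨[nat_lit 99, nat_lit 55], [nat_lit 37179], [nat_lit 0], nat_lit 3, nat_lit 1, []⟩]
theorem cc20 : (Nat.beq (lst ndF cl20 1398) 0 && Nat.beq (1398 + cl20.length) 1467) = true := by
  decide +kernel
end H16.F3
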