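import Cfsg.Agent.H16.F3o0
import Cfsg.Agent.H16.F3o1
import Cfsg.Agent.H16.F3o2

/-! The centric radical subgroups. -/

set_option autoImplicit false
set_option maxRecDepth 100000
set_option maxHeartbeats 0
set_option Elab.async false

namespace H16.F3
open H26 (jn frc frc_eq)
theorem ca0 : ∀ m < 0, ∃ d, ndF m d = 0 := fun _ h => absurd h (Nat.not_lt_zero _)
theorem ca1 : ∀ m < 35, ∃ d, ndF m d = 0 := lst_step ca0 cc0
theorem ca2 : ∀ m < 72, ∃ d, ndF m d = 0 := lst_step ca1 cc1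
theorem ca3 : ∀ m < 76, ∃ d, ndF m d = 0 := lst_step ca2 cc2
theorem ca4 : ∀ m < 96, ∃ d, ndF m d = 0 := lst_step ca3 cc3
theorem ca5 : ∀ m < 111, ∃ d, ndF m d = 0 := lst_step ca4 cc4
theorem ca6 : ∀ m < 129, ∃ d, ndF m d = 0 := lst_step ca5 cc5
theorem ca7 : ∀ m < 177, ∃ d, ndF m d = 0 := lst_step ca6 cc6
theorem ca8 : ∀ m < 196, ∃ d, ndF m d = 0 := lst_step ca7 cc7
theorem ca9 : ∀ m < 207, ∃ d, ndF m d = 0 := lst_step ca8 cc8
theorem ca10 : ∀ m < 215, ∃ d, ndF m d = 0 := lst_step ca9 cc9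
theorem ca11 : ∀ m < 321, ∃ d, ndF m d = 0 := lst_step ca10 cc10
theorem ca12 : ∀ m < 441, ∃ d, ndF m d = 0 := lst_step ca11 cc11
theorem ca13 : ∀ m < 561, ∃ d, ndF m d = 0 := lst_step ca12 cc12
theorem ca14 : ∀ m < 678, ∃ d, ndF m d = 0 := lst_step ca13 cc13
theorem ca15 : ∀ m < 798, ∃ d, ndF m d = 0 := lst_step ca14 cc14
theorem ca16 : ∀ m < 918, ∃ d, ndF m d = 0 := lst_step ca15 cc15
theorem ca17 : ∀ m < 1038, ∃ d, ndF m d = 0 := lst_step ca16 cc16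
theorem ca18 : ∀ m < 1158, ∃ d, ndF m d = 0 := lst_step ca17 cc17
theorem ca19 : ∀ m < 1278, ∃ d, ndF m d = 0 := lst_step ca18 cc18
theorem ca20 : ∀ m < 1398, ∃ d, ndF m d = 0 := lst_step ca19 cc19
theorem ca21 : ∀ m < 1467, ∃ d, ndF m d = 0 := lst_step ca20 cc20

theorem call : ∀ m < nat_lit 1467, ∃ d, ndCk nd (nat_lit 1467) SV m d = 0 := by
  have := ca21
  unfold ndF at this
  exact this

theorem croot : (∀ k < 10, tg (nd 0) k = 0) ∧ ∀ k < 10, bt (tg (nd 0) 10) k ≠ 0 := by decide +kernel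

theorem Md.cls {Γ : Type*} [Group Γ] [Finite Γ] {y : ℕ → Γ} (r : Md y) {E : Subgroup Γ → Prop}
    (H : Hy y E) {P : Subgroup Γ} (hP : E P) : Cc y SV P :=
  r.all_ok H call (by decide) croot.1 croot.2 hP

end H16.F3
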