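import Cfsg.Agent.H16.F3s

/-! Exclusion of the small candidates for essential subgroups. -/

set_option autoImplicit false
set_option linter.unusedSectionVars false
set_option maxRecDepth 100000
set_option Elab.async false

namespace H16.F3
open H26 (frc frc_eq)
open Subgroup H25 H25.FS H4.G3 H4

variable {Γ : Type*} [Group Γ] [Finite Γ] {y : ℕ → Γ} {F : FS Γ} {E P U V W X Y : Subgroup Γ}
  {c e k t u z T A C D : ℕ} {g : Γ}

theorem ess_cj (hF : F.Sat 3) (hE : F.Ess E) (H : F.T (F.N E) g) : F.Ess (cj g E) := by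
  have HE := H.mono (le_N hE.le)
  refine (hF.ess_iff (hE.fn.cj H) fun e => (H25.card_lt_of_lt hE.lt).ne (by rw [← e, card_cj])).2
    fun e => hE.not_le ?_
  rw [← cj_le_cj (g := g), HE.cj_A, ← e]
  refine (closure_le _).2 ?_
  rintro a ⟨ha, R, h, hR, H', ag⟩
  obtain ⟨x, hx, x1, x2⟩ := exists_mem_nz_of_lt (hF.pg' H'.le) hR
  have hx' : x ∈ cj g (F.N E) := hE.fn.cj_eq H ▸ ⟨H'.le hx, x1⟩
  have hh := ag.symm.mem_nz ha
  have h0 : h * x * h⁻¹ ∈ nz (cj g E) := mul_mem (mul_mem hh x1) (inv_mem hh)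
  have h1 : h * x * h⁻¹ ∈ cj g (F.N E) := hE.fn.cj_eq H ▸ ⟨H'.conj_mem hx, h0⟩
  have h2 : a * x * a⁻¹ ∈ cj g (ai F.S E) := by
    rw [← ai_inf_nz, cj_ai]
    exact (agree_conj ag hh x1).mem_ai (mem_ai_of_mem h1 h0)
  refine mem_cj.2 ((hF.rec_fn hE.fn).mem_Hx (mem_cj.1 (HE.cj_A ▸ ((H'.mono hR.le).congr ag).mem_A ha))
    (mem_cj.1 hx') (fun h => x2 (mem_cj.2 h)) ?_)
  simpa [mul_assoc] using mem_cj.1 h2

theorem hy_ess (hF : F.Sat 3) (hS : F.S = gen y 10) : Hy y F.Ess where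
  le _ h := hS ▸ h.le
  cen _ h := hS ▸ h.centric.C_le
  cj _ h _ hs := ess_cj hF h (F.of_mem inf_le_left (hS ▸ hs))
  rad P h _ h1 h2 _ hx hx' hD := (lc_of_ess hF h).mem_of ((F.A_le_nz P).trans h1)
    (fun k hk => h2 k (F.A_le_nz P hk)) ⟨hS ▸ hx, hx'⟩ hD

/-- `⟨c, u, z⟩` -/
def tZ6 : ℕ := nat_lit 0x88b0000000000000000000900000001
/-- `⟨f, t, v, z⟩` -/
def tX3 : ℕ := nat_lit 0x51001b000000030001
/-- `⟨t, u, v, z⟩` -/
def tX4 : ℕ := nat_lit 0x1b000900030001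
/-- `⟨c, f, t, u, v, z⟩` -/
def tW1 : ℕ := nat_lit 0x88b000000000051001b000900030001
/-- `⟨b, f, t, u, v, z⟩` -/
def tW3 : ℕ := nat_lit 0x19a10000000000000051001b000900030001
/-- `⟨a, c, u, v, z⟩` -/
def tW4 : ℕ := nat_lit 0x4ce30000088b0000000000000000000900030001

/-- `A` is a table of a subgroup of the group with table `T` -/
abbrev Sb (A T : ℕ) : Prop := clCk A = 0 ∧ ent A (sift T) = 0

/-- a transvection, and a second element acting trivially modulo the axis -/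
abbrev TvCk (T A C z t u : ℕ) : Prop := abCk T 0 = 0 ∧ Sb A T ∧ cnt T 10 ≤ cnt A 10 + 1 ∧
  (z < 59049 ∧ t < 59049 ∧ u < 59049) ∧ (sift A z = 0 ∧ sift C t = 0 ∧ sift T t ≠ 0 ∧ sift C u ≠ 0) ∧
  (stCk T (add 0 z) t = 0 ∧ stCk A 0 t = 0 ∧ stCk T A u = 0) ∧ clCk C = 0 ∧ ent T (sift C) = 0

theorem tv1 : TvCk tA1 tX4 tW1 1 2187 19683 := by decide +kernel
theorem tv2 : TvCk tA2 tX4 tW1 1 81 243 := by decide +kernel
theorem tv3 : TvCk tA3 tX3 tW3 3 9 243 := by decide +kernel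
theorem tv4 : TvCk tA4 tZ6 tW4 1 3 27 := by decide +kernel

theorem p6c : Sb tA2 tP6 ∧ abCk tA2 0 = 0 ∧ cmCk tP6 tP6 0 tZ6 = 0 ∧ cnt tP6 10 = 6 ∧ cnt tA2 10 = 5 ∧
    cnt tZ6 10 = 3 ∧ chCk tP6 (foL (stp tP6) [93, 91] 0) 81 tA2 = 0 := by decide +kernel

/-- `⟨fu, v, z⟩` -/
def tC : ℕ := nat_lit 0x5a0000000000030001

theorem p7c : cmCk tP7 tP7 0 tC = 0 ∧ clCk tC = 0 ∧ cmCk (cut YT 10) tP7 tP7 (cut YT 9) = 0 ∧
    cmCk (cut YT 10) tC 0 tP7 = 0 ∧ abCk (cut YT 9) tP7 = 0 ∧ cnt tP7 10 = 7 ∧ cnt tC 10 = 3 ∧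
    ent (cut YT 2) (sift tC) = 0 ∧ ∀ c < 9, c ≠ 0 → ∃ x ∈ [729, 243, 1215, 972], x < 19683 ∧
      sift tP7 x ≠ 0 ∧ stCk tC (add 0 c) x = 0 ∧ mul x c = mul c x := by decide +kernel

namespace Md
variable (r : Md y)
include r

theorem low_stp (h : Ech y U A) (L : List ℕ) : Low y (fr U) (foL (stp A) L 0) := by
  have hp := r.pg.to_le h.le
  refine foL_ind (I := Low y (fr U)) (fun c _ Q hQ => ?_) _ low_zero
  have h4 : ∀ k < 10, In y U (tq A Q k) := fun k hk => by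
    unfold tq
    rw [frc_eq, iz_eq]
    split_ifs
    exacts [(hQ k hk).mono (fr_le U), h.low k hk]
  unfold stp
  rw [frc_eq, frc_eq, frc_eq, frc_eq, iz_eq]
  have h5 := h4 _ (Nat.mod_lt (Nat.div c (nat_lit 10)) (by decide : 10 > 0))
  have h6 := h4 _ (Nat.mod_lt c (by decide : 10 > 0))
  refine r.low_add hQ ?_
  split_ifs
  · exact ⟨r.cu_lt h5.1, (r.ev_cu h5.1).symm ▸ pow_mem_fr hp h5.2⟩
  · refine ⟨r.cm_lt h5.1 h6.1, (r.ev_cm h5.1 h6.1).symm ▸ commutator_le_fr hp ?_⟩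
    simpa [commutatorElement_def, mul_assoc] using commutator_mem_commutator
      (inv_mem h5.2) (inv_mem h6.2)

theorem sb (h : Ech y P T) (h0 : Sb A T) : Ech y (sp y A) A ∧ sp y A ≤ P :=
  ⟨r.ech_sp h0.1, r.le_of_sift (r.ech_sp h0.1) h.low h0.2⟩

theorem el (h : Ech y P T) (h0 : abCk T 0 = 0) : Cm P ∧ ∀ x ∈ P, x ^ 3 = 1 := by
  obtain ⟨-, h1, h2⟩ := r.ab_ok h ech_bot h0
  rw [stab_bot] at h1
  exact ⟨fun a ha b hb => mem_cz'.1 (h1 hb) a ha, h2⟩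

theorem low_one (he : e < 59049) : Low y (zpowers (ev y e)) (add 0 e) :=
  r.low_add low_zero ⟨he, mem_zpowers _⟩

theorem tv_ok (hF : F.Sat 3) (hS : F.S = gen y 10) (hP : F.Ess P) (h : Ech y P T)
    (h0 : TvCk T A C z t u) : False := by
  obtain ⟨a1, a2, a3, ⟨hz, ht, hu⟩, ⟨b1, b2, b3, b4⟩, ⟨c1, c2, c3⟩, d1, d2⟩ := h0
  obtain ⟨hX, hXP⟩ := r.sb h a2
  obtain ⟨cm, pw⟩ := r.el h a1
  have hW := r.ech_sp d1
  have h1 := r.mem_of_sift hX.low hz b1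
  have h2 : ∀ Y ≤ P, P ≤ nz Y := fun Y hY x hx => cz_le_nz _ (mem_cz'.2 fun w hw => cm w (hY hw) x hx)
  have h3 := r.nz_of h ((r.low_one hz).mono (zpowers_le.2 (hXP h1))) ht c1
  have h4 := r.nz_of h (hX.low.mono hXP) hu c3
  have q : TV 3 P (F.N P) (F.A P) (F.Hx P) (sp y A) (ev y z) (ev y t) :=
    ⟨lc_of_ess hF hP, cm, pw, hXP, by
      rw [r.card_ech h, r.card_ech hX, ← pow_succ]; exact Nat.pow_le_pow_right (by decide) a3,
      ⟨hS ▸ ev_mem ht, h3⟩, r.nmem_of h ht b3, r.cz_of hX ht c2, h1,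
      (mem_stab'.1 (r.stab_of h (r.low_one hz) (h2 _ (zpowers_le.2 (hXP h1))) ht h3 c1)).2⟩
  exact r.nmem_of hW hu b4 (sup_le (r.le_of_sift h hW.low d2) (zpowers_le.2 (r.mem_of_sift hW.low ht b2))
    (q.mem_of_stab ⟨hS ▸ ev_mem hu, h4⟩ (r.stab_of h hX.low (h2 _ hXP) hu h4 c3)))

theorem p6_ok (hF : F.Sat 3) (hS : F.S = gen y 10) (hP : F.Ess P) (h : Ech y P tP6) : False := by
  obtain ⟨a1, a2, a3, a4, a5, a6, a7⟩ := p6c
  obtain ⟨hX, hXP⟩ := r.sb h a1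
  have cm := (r.el hX a2).1
  have c1 := r.card_ech h
  have c2 := r.card_ech hX
  have c3 := r.card_ech (r.ech_cz h h a3)
  rw [a4] at c1; rw [a5] at c2; rw [a6] at c3
  refine r.ch_ok (hy_ess hF hS) hP h (r.low_stp h _) ⟨hXP, fun g hg => mem_nz_of_le ?_⟩ hX a7
  generalize sp y tA2 = X at *
  by_contra h1
  obtain ⟨x, hx, hx'⟩ := SetLike.not_le_iff_exists.1 h1
  have h2 : cj g X ≤ P := (cj_mono g hXP).trans (mem_nz.1 hg).le
  have h3 := P5.card_le_inf (p := 3) h2 hXP (by rw [c1, c2]; decide)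
  have h4 : cj g X ⊓ X ≤ P ⊓ cz P := le_inf (inf_le_left.trans h2) (by
    rw [le_cz_comm, ← eq_sup_of_card (r.pg.to_le h.le) hXP (by rw [c1, c2]; decide) (h2 hx) hx']
    refine sup_le (fun a ha => mem_cz'.2 fun b hb => cm b hb.2 a ha)
      (zpowers_le.2 (mem_cz'.2 fun b hb => ?_))
    have := cm _ (mem_cj.1 hb.1) _ (mem_cj.1 hx)
    calc _ = g * (g⁻¹ * b * g * (g⁻¹ * x * g)) * g⁻¹ := by group
      _ = _ := by rw [this]; group)
  have h5 := card_le_of_le h4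
  rw [card_cj] at h3
  omega

theorem p7_ok (hF : F.Sat 3) (hS : F.S = gen y 10) (hP : F.Ess P) (h : Ech y P tP7) : False := by
  obtain ⟨a1, a2, a3, a4, a5, a6, a7, a8, a9⟩ := p7c
  have hW := r.ech_cz h h a1
  have hN : F.N P = gen y 9 := by
    rw [FS.N, hS]; exact r.ech_eq (r.ech_nz r.echS h a3) (r.echL (by decide))
  have hC : gen y 10 ⊓ cz (P ⊓ cz P) = P := r.ech_eq (r.ech_cz r.echS hW a4) h
  obtain ⟨b1, b2, b3⟩ := r.ab_ok (r.echL (k := 9) (by decide)) h a5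
  have c1 := r.card_ech h
  have c2 := r.card_ech hW
  have c3 := r.card_gen (k := 9) (by decide)
  have c4 := r.card_gen (k := 2) (by decide)
  rw [a6] at c1; rw [a7] at c2
  have hZ := r.le_of_sift (r.echL (k := 2) (by decide)) hW.low a8
  have q := lc_of_ess hF hP
  rw [hN] at q
  have h1 : F.A P ≤ nz (P ⊓ cz P) := fun a ha => mem_nz_inf (q.An ha) (q.nzc ha)
  have h0 : P ≤ cz (P ⊓ cz P) := le_cz_comm.1 inf_le_right
  have hW' : P ⊓ cz P ≤ P := inf_le_left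
  have h6 : cz P ≤ cz (P ⊓ cz P) := cz_anti hW'
  generalize P ⊓ cz P = W at *
  have h2 : F.A P ≤ nz (F.A P ⊓ cz W) := fun a ha => mem_nz_inf (le_nz_self _ ha) (mem_nz_cz (h1 ha))
  have h3 := gen_le_B q (ai_le (inf_le_left.trans (le_inf (q.lt.le.trans q.NA) h0)) (le_inf q.cA h6))
    inf_le_left h2 (fun x hx => hC.le ⟨gen_mono y (by decide) hx.1, hx.2.2⟩) b2 fun x hx h3 => by
      have := (card_le_of_le h3).trans (card_sup_cyc_le (b1 hx) (b3 x hx))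
      omega
  obtain ⟨b, hb, hb'⟩ := SetLike.not_le_iff_exists.1 q.nB
  have h4 := P5.card_le_inf (p := 3) ((cj_mono b hZ).trans (mem_nz.1 (h1 hb)).le) hZ (by omega)
  obtain ⟨w, hw, hw'⟩ := (Subgroup.bot_or_exists_ne_one (cj b (gen y 2) ⊓ gen y 2)).resolve_left
    fun h5 => by rw [h5, card_bot, card_cj] at h4; omega
  have h5 : ∀ w ∈ gen y 2, w ≠ 1 → ∃ x ∈ gen y 9, x ∉ P ∧ x ∈ stab W (zpowers w) ⊓ cz (zpowers w) := by
    intro w hw hw'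
    obtain ⟨c, hc, rfl⟩ := (r.mem_gen_iff (by decide)).1 hw
    obtain ⟨x, -, d1, d2, d3, d4⟩ := a9 c hc fun e => hw' (by rw [e, ev_zero])
    have d5 := ev_mem_gen (y := y) (k := 9) (by decide) x d1
    replace d1 : x < 59049 := by omega
    replace hc : c < 59049 := by omega
    refine ⟨_, d5, r.nmem_of h d1 d2, r.stab_of hW (r.low_one hc) (fun u hu => cz_le_nz _ (cz_anti
      (zpowers_le.2 (hZ hw)) (h0 (hW' hu)))) d1 (h1 (q.NA d5)) d3, mem_cz_zpowers.2 ?_⟩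
    rw [← r.ev_mul d1 hc, d4, r.ev_mul hc d1, mul_inv_cancel_right]
  obtain ⟨x, hx, hx', h7⟩ := h5 w hw.2 hw'
  obtain ⟨v, hv, hv', h8⟩ := h5 _ (mem_cj.1 hw.1) fun e => hw' (by simpa [mul_eq_one_iff_eq_inv] using e)
  refine hb' (pairK q h3 inf_le_left h2 q.ai_le (D := F.A P ⊓ (stab W (zpowers w) ⊓ cz (zpowers w)))
    inf_le_left (fun k hk => ?_) hb hx hx' hv hv' ⟨q.NA hx, h7⟩
    (mem_inf.2 ⟨mul_mem (mul_mem hb (q.NA hv)) (inv_mem hb), ?_⟩))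
  · obtain ⟨n, hn⟩ := pel_of_stab_cz (q.pE.to_le ((zpowers_le.2 (hZ hw.2)).trans hW')) hk.2.1 hk.2.2
    exact ⟨n, pow_mem hk.1 _, hn⟩
  · have := conj_mem_cj b h8
    rw [cj_inf, cj_stab, cj_cz, cj_zpowers, mem_nz.1 (h1 hb)] at this
    simpa [mul_assoc] using this

end Md

end H16.F3
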