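import Cfsg.Agent.H16.F3q
import Cfsg.Agent.H2.CoprimeAbelian
import Cfsg.Agent.H4.G3b

/-! Local lemmas on essential subgroups for the prime three. -/

set_option autoImplicit false
set_option linter.unusedSectionVars false

namespace H16.F3
open Subgroup H25 H25.FS H4.G3 H4

variable {Γ : Type*} [Group Γ] [Finite Γ] {A B C D E K N V X Y Z : Subgroup Γ} {a b g h n w x y z : Γ}

instance fact3 : Fact (Nat.Prime 3) := ⟨by decide⟩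

theorem pairK (r : Lc 3 E N A B) (h1 : K ≤ B) (h2 : K ≤ A) (h3 : A ≤ nz K) (hB : ai N E ≤ B)
    (hD : D ≤ A) (hD' : ∀ k ∈ D, PEl 3 K k) (ha : a ∈ A) (hx : x ∈ N) (hx' : x ∉ E) (hy : y ∈ N)
    (hy' : y ∉ E) (h4 : x ∈ D) (h5 : a * y * a⁻¹ ∈ D) : a ∈ B := by
  obtain ⟨h, hh, h6⟩ := (r.syl.mono_left le_sup_left (sup_le r.syl.le h2)).exists_cj_le_of_pel
    le_sup_right h3 hD' hD
  replace h6 := h6.trans (sup_le hB h1)
  have h7 := r.conj hh hx hx' (h6 (conj_mem_cj h h4))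
  have h8 := r.conj (mul_mem hh ha) hy hy' (by simpa [mul_assoc] using h6 (conj_mem_cj h h5))
  exact (mul_mem_cancel_left h7).1 h8

theorem gen_le_B (r : Lc 3 E N A B) (h1 : ai E E ≤ K) (h2 : K ≤ A) (h3 : A ≤ nz K) (h4 : N ⊓ K ≤ E)
    (h5 : N ≤ stab N E) (h6 : ∀ x ∈ N, ¬ N ≤ E ⊔ zpowers x) : K ≤ B := by
  have hA : A ≤ nz (ai E E) := r.An.trans (nz_le_nz_ai_self E)
  have hN := r.NA.trans hA
  have hK := h2.trans hA
  have hY : ai E E ≤ B := (ai_mono r.lt.le E).trans r.ai_le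
  have e1 : ∀ x ∈ N, ∀ y ∈ N, ex (qt (ai E E)) x * ex (qt (ai E E)) y =
      ex (qt (ai E E)) y * ex (qt (ai E E)) x := fun x hx y hy => by
    rw [← ex_mul _ (hN hx) (hN hy), ← ex_mul _ (hN hy) (hN hx), ex_eq (hN (mul_mem hx hy))
      (hN (mul_mem hy hx)), pre_qt]
    exact le_ai_self E (by simpa [mul_assoc] using (h5 hy).2 _ (inv_mem hx))
  have : IsMulCommutative (im (qt (ai E E)) N) := ⟨⟨fun a b => by
    obtain ⟨x, hx, e⟩ := (mem_im' hN).1 a.2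
    obtain ⟨y, hy, e'⟩ := (mem_im' hN).1 b.2
    exact Subtype.ext (by rw [coe_mul, coe_mul, ← e, ← e', e1 x hx y hy])⟩⟩
  have e2 : ai N E ⊓ K ≤ ai E E := fun k hk => by
    obtain ⟨n, hn, e⟩ := mem_ai'.1 hk.1
    exact e.mem_ai (le_ai_self E (h4 ⟨hn.1, e.symm.mem_of_cz_le ((cz_le_ai E E).trans h1) hk.2⟩))
  have e3 : ¬ 3 ∣ Nat.card (im (qt (ai E E)) K) := by
    have := (r.syl.inf_normal h3).2
    rw [le_antisymm e2 (le_inf (ai_mono r.lt.le E) h1), inf_eq_right.2 h2] at this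
    rwa [← relIndex_bot_left, ← relIndex_pre_left _ hK, pre_qt]
  have e4 : im (qt (ai E E)) K ≤ im (qt (ai E E)) (B ⊓ K) := by
    refine H2.le_of_centralizer_le (A := im (qt (ai E E)) N) (fun hc => ?_)
      (im_le_nz_im _ hK (r.NA.trans h3)) ?_ ?_
    · obtain ⟨a, ha⟩ := IsCyclic.exists_generator (α := im (qt (ai E E)) N)
      obtain ⟨x, hx, e⟩ := (mem_im' hN).1 a.2
      refine h6 x hx fun n hn => ?_
      obtain ⟨i, hi⟩ := ha ⟨_, ex_mem_im _ hN hn⟩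
      have h7 : ex (qt (ai E E)) n = ex (qt (ai E E)) (x ^ i) := by
        rw [ex_zpow _ (hN hx), e]; exact (congrArg Subtype.val hi).symm
      rw [ex_eq (hN hn) (hN (zpow_mem hx i)), pre_qt] at h7
      have h8 := mul_mem (mem_sup_left (r.mem_ai (mul_mem hn (inv_mem (zpow_mem hx i))) h7))
        (mem_sup_right (zpow_mem (mem_zpowers x) i))
      simpa using h8
    · obtain ⟨k, hk⟩ := (isPGroup_im (qt (ai E E)) r.pg).exists_card_eq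
      rw [hk]
      exact ((Nat.Prime.coprime_iff_not_dvd (by decide)).2 e3).pow_left k
    · intro a ha ha1 c hc
      obtain ⟨x, hx, rfl⟩ := (mem_im' hN).1 ha
      obtain ⟨k, hk, rfl⟩ := (mem_im' hK).1 hc.1
      have h7 := (mem_centralizer_iff.1 hc.2) _ rfl
      rw [← ex_mul _ (hN hx) (hK hk), ← ex_mul _ (hK hk) (hN hx), eq_comm,
        ex_eq (mul_mem (hK hk) (hN hx)) (mul_mem (hN hx) (hK hk)), pre_qt] at h7
      refine ex_mem_im _ (inf_le_right.trans hK) ⟨r.hB k (h2 hk) x hx (fun h8 => ha1 ?_) ?_, hk⟩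
      · exact (ex_qt_one (hN hx)).2 (le_ai_self E h8)
      · simpa [mul_assoc] using mul_mem (ai_mono r.lt.le E h7) (r.N_ai hx)
  exact ((im_le_im' hK (inf_le_right.trans hK) ((pre_qt _).trans_le (le_inf hY h1))).1 e4).trans
    inf_le_left

/-- the commutator map -/
abbrev ph (x w : Γ) : Γ := w⁻¹ * (x * w * x⁻¹)

theorem ph_conj (b x w : Γ) : ph (b * x * b⁻¹) (b * w * b⁻¹) = b * ph x w * b⁻¹ := by group

theorem ph_div (hV : Cm V) (hx : x ∈ nz V) (h1 : w ∈ V) (h2 : z ∈ V) (h : ph x w = ph x z) :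
    x * (z⁻¹ * w) * x⁻¹ = z⁻¹ * w := by
  have h3 : x * w * x⁻¹ = w * ph x z := by rw [← h]; group
  calc _ = (x * z * x⁻¹)⁻¹ * (x * w * x⁻¹) := by group
    _ = (x * z * x⁻¹)⁻¹ * (w * z⁻¹ * (x * z * x⁻¹)) := by rw [h3, mul_assoc w]
    _ = _ := by
      rw [hV _ (mul_mem h1 (inv_mem h2)) _ (conj_mem_of_mem_nz hx h2), inv_mul_cancel_left,
        hV _ h1 _ (inv_mem h2)]

theorem ph_eq (hV : Cm V) (hx : x ∈ nz V) (h1 : w ∈ V) (h2 : z ∈ V)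
    (h : x * (z⁻¹ * w) * x⁻¹ = z⁻¹ * w) : ph x w = ph x z := by
  calc _ = w⁻¹ * ((x * z * x⁻¹) * (x * (z⁻¹ * w) * x⁻¹)) := by group
    _ = w⁻¹ * (z⁻¹ * w * (x * z * x⁻¹)) := by
      rw [h, hV _ (conj_mem_of_mem_nz hx h2) _ (mul_mem (inv_mem h2) h1)]
    _ = _ := by rw [hV _ (inv_mem h2) _ h1]; group

/-- a quadratic action whose nontrivial elements have the same axis and centre -/
structure Qd (V N A C Z : Subgroup Γ) : Prop where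
  cm : Cm V
  ZC : Z ≤ C
  CV : C ≤ V
  st : N ≤ stab V Z
  ce : N ≤ cz C
  fix : ∀ x ∈ N, ∀ w ∈ V, x * w * x⁻¹ = w → x ∈ V ∨ w ∈ C
  on1 : ∀ w ∈ V, w ∉ C → ∀ l ∈ Z, ∃ n ∈ N, ph n w = l
  on2 : ∀ x ∈ N, x ∉ V → ∀ l ∈ Z, ∃ w ∈ V, ph x w = l
  rk : ∀ w ∈ Z, w ≠ 1 → ∃ u ∈ Z, Z ≤ zpowers w ⊔ zpowers u
  ne : Z ≠ ⊥

theorem Qd.lc (q : Qd V N A C Z) (r : Lc 3 V N A B) : Lc 3 V N A (nz C ⊓ nz Z) := by
  refine { r with nB := fun h => ?_, hB := fun a ha x hx hx' h => ?_ }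
  · obtain ⟨x, hx, hx'⟩ := SetLike.exists_of_lt r.lt
    refine hx' (r.mem_of (D := stab V C ⊓ cz C) (fun a ha => mem_nz_inf (nz_stab (r.An ha) (h ha).1)
      (mem_nz_cz (h ha).1)) (fun k _ hk => pel_of_stab_cz (r.pE.to_le q.CV) hk.1 hk.2) hx
      ⟨⟨r.Nn hx, fun w hw => q.ZC ((q.st hx).2 w hw)⟩, q.ce hx⟩)
  obtain ⟨n, hn, e⟩ := mem_ai'.1 h
  have h1 : n ∉ V := fun h1 => hx' (r.cen hx (by
    have := conj_mem_of_mem_nz' (r.nzc ha) (e.mem_of_cz_le le_rfl (mem_cz'.2 fun w hw =>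
      q.cm w hw n h1))
    simpa [mul_assoc] using this))
  refine ⟨mem_nz_of_conj_mem fun c hc => ?_, mem_nz_of_conj_mem fun l hl => ?_⟩
  · have h2 := conj_mem_of_mem_nz (r.An ha) (q.CV hc)
    refine (q.fix n hn.1 _ h2 ?_).resolve_left h1
    rw [← e _ h2]
    calc _ = a * (x * c * x⁻¹) * a⁻¹ := by group
      _ = _ := by rw [mem_cz.1 (q.ce hx) c hc]
  · obtain ⟨w, hw, rfl⟩ := q.on2 x hx hx' l hl
    have h2 := conj_mem_of_mem_nz (r.An ha) hw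
    rw [← ph_conj, ph, e _ h2]
    exact (q.st hn.1).2 _ h2

theorem Qd.mem (q : Qd V N A C Z) (r : Lc 3 V N A B) (hb : b ∈ A) (hw : w ∈ Z) (h1 : w ≠ 1)
    (h2 : w ∈ cj b C) : b ∈ B := by
  obtain ⟨x, hx, hx'⟩ := SetLike.exists_of_lt r.lt
  obtain ⟨u, hu, hZ⟩ := q.rk w hw h1
  have hZV := q.ZC.trans q.CV
  have hZ' : cj b Z ≤ V := (cj_mono b hZV).trans (mem_nz.1 (r.An hb)).le
  have hy : b * x * b⁻¹ ∈ A := mul_mem (mul_mem hb (r.NA hx)) (inv_mem hb)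
  have a1 : ∀ v ∈ V, ph (b * x * b⁻¹) v ∈ cj b Z := fun v hv => by
    have := conj_mem_cj b ((q.st hx).2 _ (conj_mem_of_mem_nz' (r.An hb) hv))
    convert this using 1; group
  have a2 : ∀ v ∈ cj b C, ph (b * x * b⁻¹) v = 1 := fun v hv => by
    have := mem_cz.1 (cj_cz b C ▸ conj_mem_cj b (q.ce hx)) v hv
    rw [ph, this, inv_mul_cancel]
  have a3 := a1 u (hZV hu)
  generalize hy' : b * x * b⁻¹ = y' at *
  generalize hw' : ph y' u = w' at *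
  have a4 : ∀ n ∈ N, ∀ v ∈ C, ph n v = 1 := fun n hn v hv => by
    rw [ph, mem_cz.1 (q.ce hn) v hv, inv_mul_cancel]
  obtain ⟨n, hn, hn', a5⟩ : ∃ n ∈ N, n ∉ V ∧ ph n w' ∈ zpowers w := by
    by_cases h : w' ∈ C
    · exact ⟨x, hx, hx', by rw [a4 x hx _ h]; exact one_mem _⟩
    · obtain ⟨n, hn, e⟩ := q.on1 w' (hZ' a3) h w hw
      refine ⟨n, hn, fun h3 => h1 ?_, e ▸ mem_zpowers _⟩
      rw [← e, ph, q.cm n h3 w' (hZ' a3)]; group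
  have ck : ∀ {g v : Γ} {Y : Subgroup Γ}, Y ≤ V → v ∈ V → ph g v ∈ Y → v ∈ cmK g Y := fun h hv h' =>
    ⟨cz_le_nz _ (mem_cz'.2 fun x hx => q.cm x (h hx) _ hv), h'⟩
  have c4 : zpowers w ≤ V := zpowers_le.2 (hZV hw)
  have c5 : zpowers w' ≤ V := zpowers_le.2 (hZ' a3)
  have c3 := sup_le c4 c5
  have c2 := sup_le hZV c5
  have c1 := sup_le hZV hZ'
  have d2 : Z ⊔ zpowers w' ≤ Z ⊔ cj b Z := sup_le_sup_left (zpowers_le.2 a3) _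
  have d3 : zpowers w ⊔ zpowers w' ≤ Z ⊔ zpowers w' := sup_le_sup_right (zpowers_le.2 hw) _
  have a6 : ∀ Y, zpowers w' ≤ Y → Y ≤ V → Z ≤ cmK y' Y := fun Y h h' => hZ.trans (sup_le
    (zpowers_le.2 (ck h' (hZV hw) (by rw [a2 w h2]; exact one_mem _)))
    (zpowers_le.2 (ck h' (hZV hu) (hw' ▸ h (mem_zpowers _)))))
  have a7 : ∀ Y, Y ≤ V → zpowers w' ≤ cmK y' Y := fun Y h => zpowers_le.2
    (ck h (hZ' a3) (by rw [a2 _ (cj_mono b q.ZC a3)]; exact one_mem _))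
  have pV := r.pE
  refine r.pair (K := A ⊓ (stab V (Z ⊔ cj b Z) ⊓ stab (Z ⊔ cj b Z) (Z ⊔ zpowers w') ⊓
    stab (Z ⊔ zpowers w') (zpowers w ⊔ zpowers w') ⊓ stab (zpowers w ⊔ zpowers w') (zpowers w) ⊓
    cz (zpowers w))) inf_le_left (fun k ⟨_, ⟨⟨⟨k1, k2⟩, k3⟩, k4⟩, k5⟩ => pel_of_stab (pV.to_le c1) k1 k2.1
      (pel_of_stab (pV.to_le c2) k2 k3.1 (pel_of_stab (pV.to_le c3) k3 k4.1
        (pel_of_stab_cz (pV.to_le c4) k4 k5)))) hb hn hn' hx hx'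
    ⟨r.NA hn, ⟨⟨⟨st_of c1 fun v hv => mem_sup_left ((q.st hn).2 v hv),
      st_of d2 fun v hv => mem_sup_left ((q.st hn).2 v (c1 hv))⟩,
      st_of d3 fun v hv => (sup_le (fun l hl => ck c3 (hZV hl) (by rw [a4 n hn l (q.ZC hl)]; exact one_mem _))
        (zpowers_le.2 (ck c3 (hZ' a3) (mem_sup_left a5))) hv).2⟩,
      st_of le_sup_left fun v hv => (sup_le (zpowers_le.2 (ck c4 (hZV hw)
        (by rw [a4 n hn w (q.ZC hw)]; exact one_mem _))) (zpowers_le.2 (ck c4 (hZ' a3) a5)) hv).2⟩,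
      cz_anti (zpowers_le.2 (q.ZC hw)) (q.ce hn)⟩
    (hy' ▸ ⟨hy, ⟨⟨⟨st_of c1 fun v hv => mem_sup_right (a1 v hv),
      st_of d2 fun v hv => (sup_le (a6 _ le_sup_right c2) (fun l hl => ck c2 (hZ' hl)
        (by rw [a2 _ (cj_mono b q.ZC hl)]; exact one_mem _)) hv).2⟩,
      st_of d3 fun v hv => (sup_le (a6 _ le_sup_right c3) (a7 _ c3) hv).2⟩,
      st_of le_sup_left fun v hv => (sup_le (zpowers_le.2 (ck c4 (hZV hw)
        (by rw [a2 w h2]; exact one_mem _))) (a7 _ c4) hv).2⟩,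
      mem_cz_zpowers.2 (by have := a2 w h2; rwa [ph, inv_mul_eq_one, eq_comm] at this)⟩)

theorem Qd.main (q : Qd V N A C Z) (r : Lc 3 V N A B) : ∃ b ∈ A,
    (∀ v ∈ V, ∃ z ∈ Z, v⁻¹ * (b * z * b⁻¹) ∈ C) ∧ ∀ x ∈ N, x ∉ V → ∀ y ∈ N, y ∉ V →
      ∃ s ∈ N ⊔ cj b N, s ∈ nz Z ∧ ∀ v ∈ V, s * ph y v * s⁻¹ = ph x v := by
  replace r := q.lc r
  obtain ⟨b, hb, hb'⟩ := SetLike.not_le_iff_exists.1 r.nB
  have hZV := q.ZC.trans q.CV
  have a1 : ∀ w ∈ Z, w ∈ cj b C → w = 1 := fun w hw h => by_contra fun h1 => hb' (q.mem r hb hw h1 h)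
  have a2 : ∀ w ∈ Z, b * w * b⁻¹ ∈ C → w = 1 := fun w hw h => by_contra fun h1 =>
    hb' (inv_mem_iff.1 (q.mem r (inv_mem hb) hw h1 (by simpa [mem_cj] using h)))
  have a3 : ∀ w ∈ Z, b * w * b⁻¹ ∈ V := fun w hw => conj_mem_of_mem_nz (r.An hb) (hZV hw)
  have a4 : ∀ x ∈ N, x ∉ V → ∃ n ∈ N, b⁻¹ * x⁻¹ * (b * n * b⁻¹) ∈ nz Z ∧ ∀ l ∈ Z,
      b⁻¹ * x⁻¹ * (b * n * b⁻¹) * ph x (b * l * b⁻¹) * (b⁻¹ * x⁻¹ * (b * n * b⁻¹))⁻¹ = l := by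
    intro x hx hx'
    obtain ⟨z, hz, hz'⟩ := (Subgroup.bot_or_exists_ne_one Z).resolve_left q.ne
    have h1 := (q.st hx).2 _ (a3 z hz)
    have h2 : ph x (b * z * b⁻¹) ≠ 1 := fun h => hz' (a2 z hz ((q.fix x hx _ (a3 z hz)
      (inv_mul_eq_one.1 h).symm).resolve_left hx'))
    obtain ⟨n, hn, e⟩ := q.on1 _ (conj_mem_of_mem_nz' (r.An hb) (hZV h1))
      (fun h => h2 (a1 _ h1 (mem_cj.2 h))) z hz
    have hg : b⁻¹ * x⁻¹ * (b * n * b⁻¹) ∈ A := mul_mem (mul_mem (inv_mem hb) (inv_mem (r.NA hx)))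
      (mul_mem (mul_mem hb (r.NA hn)) (inv_mem hb))
    have h3 : b⁻¹ * x⁻¹ * (b * n * b⁻¹) * ph x (b * z * b⁻¹) * (b⁻¹ * x⁻¹ * (b * n * b⁻¹))⁻¹ = z := by
      calc _ = b⁻¹ * x⁻¹ * (ph x (b * z * b⁻¹) * (b * ph n (b⁻¹ * ph x (b * z * b⁻¹) * b) * b⁻¹)) *
            x * b := by group
        _ = _ := by rw [e, q.cm _ (hZV h1) _ (a3 z hz)]; group
    have h4 := (q.mem r hg hz hz' (h3 ▸ conj_mem_cj _ (q.ZC h1))).2
    refine ⟨n, hn, h4, fun l hl => ?_⟩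
    have h5 := (q.st hx).2 _ (a3 l hl)
    have h6 := conj_mem_of_mem_nz h4 h5
    have h7 := (q.st hn).2 _ (conj_mem_of_mem_nz' (r.An hb) (hZV h5))
    generalize hl' : b⁻¹ * x⁻¹ * (b * n * b⁻¹) * ph x (b * l * b⁻¹) *
      (b⁻¹ * x⁻¹ * (b * n * b⁻¹))⁻¹ = l' at h6
    have h8 := (q.st hx).2 _ (a3 l' h6)
    have h9 : ph x (b * l * b⁻¹) * (ph x (b * l' * b⁻¹))⁻¹ =
        b * ((ph n (b⁻¹ * ph x (b * l * b⁻¹) * b))⁻¹ * l') * b⁻¹ := by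
      have h9 : x * (b * l' * b⁻¹) * x⁻¹ = ph x (b * l * b⁻¹) *
          (b * ph n (b⁻¹ * ph x (b * l * b⁻¹) * b) * b⁻¹) := by rw [← hl']; group
      have h10 : ph x (b * l' * b⁻¹) = (b * l' * b⁻¹)⁻¹ * (ph x (b * l * b⁻¹) *
          (b * ph n (b⁻¹ * ph x (b * l * b⁻¹) * b) * b⁻¹)) := by rw [← h9]
      have h11 : ∀ t s : Γ, t * (b * s * b⁻¹)⁻¹ = (b * s * b⁻¹)⁻¹ * t →
          t * ((b * l' * b⁻¹)⁻¹ * (t * (b * s * b⁻¹)))⁻¹ = b * (s⁻¹ * l') * b⁻¹ := fun t s h => by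
        calc _ = t * (b * s * b⁻¹)⁻¹ * t⁻¹ * (b * l' * b⁻¹) := by group
          _ = _ := by rw [h]; group
      rw [h10]
      exact h11 _ _ (q.cm _ (hZV h5) _ (inv_mem (a3 _ h7)))
    have h10 := a1 _ (mul_mem h5 (inv_mem h8)) (h9 ▸ conj_mem_cj b (q.ZC (mul_mem (inv_mem h7) h6)))
    have h11 := (q.fix x hx _ (mul_mem (inv_mem (a3 l' h6)) (a3 l hl)) (ph_div q.cm (r.Nn hx) (a3 l hl)
      (a3 l' h6) (mul_inv_eq_one.1 h10))).resolve_left hx'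
    exact inv_mul_eq_one.1 (a2 _ (mul_mem (inv_mem h6) hl) (by convert h11 using 1; group))
  have a5 : ∀ x ∈ N, x ∉ V → ∀ v ∈ V, ∃ z ∈ Z, v⁻¹ * (b * z * b⁻¹) ∈ C := fun x hx hx' v hv => by
    obtain ⟨n, -, h1, h2⟩ := a4 x hx hx'
    have h3 := conj_mem_of_mem_nz h1 ((q.st hx).2 v hv)
    refine ⟨_, h3, (q.fix x hx _ (mul_mem (inv_mem hv) (a3 _ h3)) (ph_div q.cm (r.Nn hx) (a3 _ h3) hv
      ?_)).resolve_left hx'⟩
    simpa using h2 _ h3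
  obtain ⟨x, hx, hx'⟩ := SetLike.exists_of_lt r.lt
  refine ⟨b, hb, a5 x hx hx', fun x hx hx' y hy hy' => ?_⟩
  obtain ⟨n, hn, h1, h2⟩ := a4 x hx hx'
  obtain ⟨m, hm, h3, h4⟩ := a4 y hy hy'
  refine ⟨_, ?_, mul_mem (inv_mem h1) h3, fun v hv => ?_⟩
  · convert mul_mem (mul_mem (inv_mem (mem_sup_right (conj_mem_cj b hn))) (mem_sup_left
      (mul_mem hx (inv_mem hy)))) (mem_sup_right (conj_mem_cj b hm)) using 1
    group
  obtain ⟨z, hz, h5⟩ := a5 x hx hx' v hv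
  rw [← ph_eq q.cm (r.Nn hx) (a3 z hz) hv (mem_cz.1 (q.ce hx) _ h5),
    ← ph_eq q.cm (r.Nn hy) (a3 z hz) hv (mem_cz.1 (q.ce hy) _ h5)]
  have h6 := h2 z hz
  have h7 := h4 z hz
  generalize b⁻¹ * x⁻¹ * (b * n * b⁻¹) = g at *
  generalize b⁻¹ * y⁻¹ * (b * m * b⁻¹) = g' at *
  generalize ph x _ = s at *
  generalize ph y _ = s' at *
  calc _ = g⁻¹ * (g' * s' * g'⁻¹) * g := by group
    _ = _ := by rw [h7, ← h6]; group

end H16.F3
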