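import Cfsg.Agent.H16.F3v0
import Cfsg.Agent.H16.F3v1
import Cfsg.Agent.H16.F3v2

/-! Verification of the multiplication tables. -/

set_option autoImplicit false
set_option maxRecDepth 100000
set_option maxHeartbeats 0
set_option Elab.async false

namespace H16.F3
open H26 (frc frc_eq)

noncomputable def r1 (r : ℕ) : ℕ := Nat.land (Nat.shiftRight T1 (Nat.mul r (nat_lit 3888))) M1
noncomputable def r2 (r : ℕ) : ℕ := Nat.land (Nat.shiftRight T2 (Nat.mul r (nat_lit 1944))) M2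
noncomputable def r3 (r : ℕ) : ℕ := Nat.land (Nat.shiftRight T3 (Nat.mul r (nat_lit 1944))) M2
noncomputable def ri (r : ℕ) : ℕ := Nat.land (Nat.shiftRight TI (Nat.mul r (nat_lit 3888))) M1
noncomputable def mul (a b : ℕ) : ℕ :=
  Nat.rec (motive := fun _ => ℕ) (nat_lit 0) (fun q _ =>
  Nat.rec (motive := fun _ => ℕ) (nat_lit 0) (fun q' _ =>
  Nat.rec (motive := fun _ => ℕ) (nat_lit 0) (fun r _ =>
  Nat.rec (motive := fun _ => ℕ) (nat_lit 0) (fun w _ =>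
  Nat.rec (motive := fun _ => ℕ) (nat_lit 0) (fun s _ =>
    Nat.add (Nat.sub r w) (Nat.land (Nat.shiftRight (r3 s) (Nat.mul (Nat.mod b (nat_lit 243)) (nat_lit 8))) (nat_lit 255)))
  (Nat.succ (Nat.land (Nat.shiftRight (r3 w) (Nat.mul (Nat.land (Nat.shiftRight (r2 q') (Nat.mul (Nat.mod a (nat_lit 243)) (nat_lit 8))) (nat_lit 255)) (nat_lit 8))) (nat_lit 255))))
  (Nat.succ (Nat.mod r (nat_lit 243))))
  (Nat.succ (Nat.land (Nat.shiftRight (r1 q) (Nat.mul q' (nat_lit 16))) (nat_lit 65535))))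
  (Nat.succ (Nat.div b (nat_lit 243))))
  (Nat.succ (Nat.div a (nat_lit 243)))
noncomputable def inv (a : ℕ) : ℕ :=
  Nat.rec (motive := fun _ => ℕ) (nat_lit 0) (fun q _ =>
    Nat.land (Nat.shiftRight (ri q) (Nat.mul (Nat.mod a (nat_lit 243)) (nat_lit 16))) (nat_lit 65535))
  (Nat.succ (Nat.div a (nat_lit 243)))
theorem mul_eq (a b : ℕ) : mul a b = fm T1 T2 T3 M1 M2 a b := rfl
theorem ci0 : allZ (iEnt mul inv) 0 30000 = true := by decide +kernel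
theorem ci1 : allZ (iEnt mul inv) 30000 29049 = true := by decide +kernel

variable {Γ : Type*} [Group Γ] {y : ℕ → Γ}

/-- the defining relations -/
structure Rl (y : ℕ → Γ) : Prop where
  cj : ∀ k < 10, ∀ j < k, y j * y k = y k * ev y (tg TR (10 * k + j))
  pw : ∀ k < 10, y k ^ 3 = ev y (tg TP k)

theorem Rl.rel (r : Rl y) : Rel y (cc TC M1) (tg TP) :=
  ⟨fun k hk j hj => by rw [(ckP k hk).2.2 j hj]; exact r.cj k hk j hj, r.pw⟩

theorem Rl.sm (r : Rl y) {k : ℕ} (hk : k ≤ 10) : ∀ a < 3 ^ k, ∀ b < 3 ^ k, ∃ c < 3 ^ k,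
    ev y c = ev y a * ev y b := fun a ha b hb => ⟨_, sm_ok cok r.rel k hk a ha b hb⟩

theorem Rl.pw' (r : Rl y) {k : ℕ} (hk : k < 10) : ∃ c < 3 ^ k, y k ^ 3 = ev y c :=
  ⟨_, (ckP k hk).1, r.pw k hk⟩

theorem Rl.ops (r : Rl y) : Ops y mul inv := by
  refine ops_of (fun a ha b hb => ?_) (range_glue (allZ_sound0 ci0) ci1)
  rw [mul_eq]
  refine fm_ok cok r.rel (fun q hq => ?_) a ha b hb
  rcases (by omega : q < 27 ∨ (27 ≤ q ∧ q < 54) ∨ (54 ≤ q ∧ q < 81) ∨ (81 ≤ q ∧ q < 108) ∨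
    (108 ≤ q ∧ q < 135) ∨ (135 ≤ q ∧ q < 162) ∨ (162 ≤ q ∧ q < 189) ∨ (189 ≤ q ∧ q < 216) ∨
    (216 ≤ q ∧ q < 243)) with h | h | h | h | h | h | h | h | h
  exacts [ckT_ok ct0 q (Nat.zero_le _) h, ckT_ok ct1 q h.1 h.2, ckT_ok ct2 q h.1 h.2,
    ckT_ok ct3 q h.1 h.2, ckT_ok ct4 q h.1 h.2, ckT_ok ct5 q h.1 h.2, ckT_ok ct6 q h.1 h.2,
    ckT_ok ct7 q h.1 h.2, ckT_ok ct8 q h.1 h.2]

attribute [irreducible] mul inv

end H16.F3
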