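import Cfsg.Agent.H16.F3r

/-! Characteristic subgroups, weights of automorphisms, and torus elements. -/

set_option autoImplicit false
set_option linter.unusedSectionVars false
set_option maxRecDepth 100000
set_option Elab.async false

namespace H16.F3
open H26 (frc frc_eq)
open Subgroup H25 H25.FS H4.G3 H4

variable {Γ : Type*} [Group Γ] [Finite Γ] {y : ℕ → Γ} {F : FS Γ} {E H P T U V W X Y : Subgroup Γ}
  {c e k q : ℕ} {g h m s x : Γ}

/-- one characteristic subgroup from two others -/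
abbrev Oc (T k A C D : ℕ) : Prop := opCk T k A C [D] (fun Q => smCk Q D) = 0

theorem chc : Oc (cut YT 10) 1 (cut YT 10) (cut YT 10) (cut YT 7) ∧
    Oc (cut YT 10) 1 (cut YT 7) (cut YT 10) (cut YT 6) ∧ Oc (cut YT 10) 1 (cut YT 6) (cut YT 10) (cut YT 4) ∧
    Oc (cut YT 10) 1 (cut YT 4) (cut YT 10) (cut YT 3) ∧ Oc (cut YT 10) 1 (cut YT 3) (cut YT 10) (cut YT 2) ∧
    Oc (cut YT 10) 1 (cut YT 2) (cut YT 10) (cut YT 1) ∧ Oc (cut YT 10) 0 (cut YT 2) 0 (cut YT 9) ∧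
    Oc (cut YT 10) 1 (cut YT 9) (cut YT 9) (cut YT 5) ∧ Oc (cut YT 10) 0 (cut YT 10) (cut YT 6) (cut YT 8) ∧
    Oc (cut YT 9) 0 (cut YT 9) 0 (cut YT 2) ∧ Oc tE2 0 tE2 0 (cut YT 1) ∧
    Oc tE2 0 tE2 (cut YT 1) (cut YT 3) := by decide +kernel

theorem chd : clCk tE2 = 0 ∧ ent (cut YT 10) (stCk tE2 tE2) = 0 ∧ ent (cut YT 8) (sift tE2) = 0 ∧
    sift tE2 19683 = 0 ∧ cmCk (cut YT 10) (cut YT 10) 0 (cut YT 1) = 0 ∧ abCk (cut YT 10) (cut YT 7) = 0 ∧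
    smCk tE1 (cut YT 9) = 0 ∧ smCk tS (cut YT 10) = 0 := by decide +kernel

theorem trc : trpCk 1 9 0 = 0 ∧ trpCk 2 8 1 = 0 ∧ trpCk 3 9 2 = 0 ∧ trpCk 6 7 3 = 0 ∧ trpCk 8 9 6 = 0 ∧
    trpCk 9 8 6 = 0 ∧ trpCk 6 9 5 = 0 ∧ trpCk 6 8 4 = 0 ∧ trpCk 4 9 3 = 0 := by decide +kernel

theorem extS (hF : F.Sat 3) (hU : U ≤ F.S) (hn : F.S ≤ nz U) (h1 : H ≤ F.A U) (h2 : F.S ≤ H)
    (h3 : cz U ≤ H) (hg : g ∈ F.A U) (hg' : g ∈ nz H) : ∃ k ∈ F.A F.S, ∃ h ∈ H, Agree U k (h * g) := by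
  have hN := FN_of_le_nz hU hn
  obtain ⟨h, hh, h4⟩ := ((hF.syl hN).mono_right (ai_le (inf_le_left.trans h2) h3) h1).frattini
    (cz_le_ai _ _) (pel_ai hF.pg) (h1.trans (F.A_le_nz_cz U)) hg' (F.A_le_nz_cz U hg)
  obtain ⟨k, hk, e⟩ := (hF.rec_fn hN).ext_A (mul_mem (h1 hh) hg) hU inf_le_left (le_inf le_rfl hn)
    ((cj_mono _ fun x hx => mem_ai_of_mem hx (hn hx)).trans (mem_nz.1 h4).le)
  exact ⟨k, hk, h, hh, e⟩

/-- the powers of `s` permute transitively the classes modulo `Y` in a class modulo `X` -/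
def Orb (V X Y : Subgroup Γ) (s : Γ) : Prop :=
  ∀ v ∈ V, v ∉ X → ∀ w, v⁻¹ * w ∈ X → ∃ t ∈ zpowers s, (t * v * t⁻¹)⁻¹ * w ∈ Y

theorem Orb.cj (h : Orb V X Y s) (h1 : m ∈ nz V) (h2 : m ∈ nz Y) : Orb V (cj m X) Y (m * s * m⁻¹) := by
  intro v hv hv' w hw
  obtain ⟨t, ht, h3⟩ := h _ (conj_mem_of_mem_nz' h1 hv) (mt mem_cj.2 hv') (m⁻¹ * w * m)
    (by convert mem_cj.1 hw using 1; group)
  refine ⟨m * t * m⁻¹, cj_zpowers m s ▸ conj_mem_cj m ht, ?_⟩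
  convert conj_mem_of_mem_nz h2 h3 using 1; group

theorem Orb.inv (h : Orb V X Y s) (h1 : m ∈ nz V) (h2 : m ∈ nz Y) (hX : X = Y ⊔ zpowers x) (hV : X ≤ V)
    (hn : V ≤ nz X) (hm : m ∉ nz X) (hH : H ≤ nz Y) (hs : s ∈ H) (hs' : m * s * m⁻¹ ∈ H) :
    ∃ h ∈ H, (h * x * h⁻¹)⁻¹ * x⁻¹ ∈ Y := by
  have a1 : ∀ m ∈ nz Y, m * x * m⁻¹ ∈ X → m ∈ nz X := fun m h2 h => mem_nz_of_le (by
    conv_lhs => rw [hX, cj_sup, cj_zpowers, mem_nz.1 h2]
    exact sup_le (hX ▸ le_sup_left) (zpowers_le.2 h))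
  have hx : x ∈ X := hX ▸ mem_sup_right (mem_zpowers x)
  have a2 : x ∉ H25.cj m X := fun h => hm (inv_mem_iff.1 (a1 _ (inv_mem h2) (by simpa using mem_cj.1 h)))
  have a3 : m * x * m⁻¹ ∉ X := fun h => hm (a1 m h2 h)
  have a4 := conj_mem_cj m hx
  have a5 := conj_mem_of_mem_nz h1 (hV hx)
  generalize m * x * m⁻¹ = w at *
  obtain ⟨t1, b1, c1⟩ := h.cj h1 h2 x (hV hx) a2 (x * w) (by simpa using a4)
  obtain ⟨t2, b2, c2⟩ := h (x * w) (mul_mem (hV hx) a5) (mt (mul_mem_cancel_left hx).1 a3) (x⁻¹ * w) (by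
    convert conj_mem_of_mem_nz' (hn a5) (inv_mem (mul_mem hx hx)) using 1; group)
  obtain ⟨t3, b3, c3⟩ := h.cj h1 h2 x⁻¹ (inv_mem (hV hx)) (mt inv_mem_iff.1 a2) (x⁻¹ * w)
    (by simpa using a4)
  replace b1 := zpowers_le.2 hs' b1
  replace b2 := zpowers_le.2 hs b2
  replace b3 := zpowers_le.2 hs' b3
  refine ⟨t3⁻¹ * t2 * t1, mul_mem (mul_mem (inv_mem b3) b2) b1, ?_⟩
  convert conj_mem_of_mem_nz' (hH b3) (mul_mem (mul_mem (conj_mem_of_mem_nz (hH b2) c1) c2) (inv_mem c3))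
    using 1
  group

/-- both signs occur -/
def Full (y : ℕ → Γ) (K : Subgroup Γ) : Prop :=
  (∃ k ∈ K, wt y k 0 = 2) ∧ ∃ k ∈ K, wt y k 0 = 1 ∧ wt y k 1 = 2

theorem wt_agree (e : Agree U g h) (hk : y k ∈ U) : wt y g k = wt y h k := by rw [wt, wt, e _ hk]

namespace Md
variable (r : Md y)
include r

theorem chrS : ∀ k ≤ 10, Chr (gen y 10) (gen y k) := by
  obtain ⟨a7, a6, a4, a3, a2, a1, a9, a5, a8, -⟩ := chc
  have S := r.echS
  have c7 := r.chr_op S chr_self chr_self S S (r.echL (by decide)) a7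
  have c6 := r.chr_op S c7 chr_self (r.echL (by decide)) S (r.echL (by decide)) a6
  have c4 := r.chr_op S c6 chr_self (r.echL (by decide)) S (r.echL (by decide)) a4
  have c3 := r.chr_op S c4 chr_self (r.echL (by decide)) S (r.echL (by decide)) a3
  have c2 := r.chr_op S c3 chr_self (r.echL (by decide)) S (r.echL (by decide)) a2
  have c1 := r.chr_op S c2 chr_self (r.echL (by decide)) S (r.echL (by decide)) a1
  have c9 := r.chr_op S c2 chr_bot (r.echL (by decide)) ech_bot (r.echL (by decide)) a9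
  have c5 := r.chr_op S c9 c9 (r.echL (by decide)) (r.echL (by decide)) (r.echL (by decide)) a5
  have c8 := r.chr_op S chr_self c6 S (r.echL (by decide)) (r.echL (by decide)) a8
  intro k hk
  interval_cases k
  exacts [gen_zero y ▸ chr_bot, c1, c2, c3, c4, c5, c6, c7, c8, c9, chr_self]

theorem e2 : Ech y (sp y tE2) tE2 := r.ech_sp chd.1

theorem chrE : Chr (gen y 9) (gen y 2) ∧ Chr (sp y tE2) (gen y 1) ∧ Chr (sp y tE2) (gen y 3) := by
  obtain ⟨-, -, -, -, -, -, -, -, -, a1, a2, a3⟩ := chc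
  have E := r.echL (k := 9) (by decide)
  have c := r.chr_op r.e2 chr_self chr_bot r.e2 ech_bot (r.echL (by decide)) a2
  exact ⟨r.chr_op E chr_self chr_bot E ech_bot (r.echL (by decide)) a1, c,
    r.chr_op r.e2 chr_self c r.e2 (r.echL (by decide)) (r.echL (by decide)) a3⟩

theorem e2_nz : gen y 10 ≤ nz (sp y tE2) :=
  r.up' r.echS chd.2.1 fun _ he h => r.nz_of r.e2 r.e2.low he.1 h

theorem e2_ge : gen y 8 ≤ sp y tE2 := r.le_of_sift (r.echL (by decide)) r.e2.low chd.2.2.1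

theorem e2_a : y 9 ∈ sp y tE2 := by
  rw [← ev_gen (y := y) (k := 9) (by decide)]; exact r.mem_of_sift r.e2.low (by decide) chd.2.2.2.1

theorem cenS : gen y 10 ⊓ cz (gen y 10) = gen y 1 :=
  r.ech_eq (r.ech_cz r.echS r.echS chd.2.2.2.2.1) (r.echL (by decide))

theorem stS : gen y 10 ≤ stab (gen y 10) (gen y 7) :=
  (r.ab_ok r.echS (r.echL (by decide)) chd.2.2.2.2.2.1).2.1

theorem ess_cases (hF : F.Sat 3) (hS : F.S = gen y 10) (hP : F.Ess P) :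
    P = gen y 9 ∨ P = sp y tE2 ∨ ∃ V, F.Ess V ∧ Ech y V tE3 := by
  obtain ⟨s, hs, T, hT, h⟩ := r.cls (hy_ess hF hS) hP
  have h1 := (hy_ess hF hS).cj P hP s hs
  have h2 : ∀ {U}, gen y 10 ≤ nz U → cj s P = U → P = U := fun h e => by
    rw [cj_eq_iff.1 e, mem_nz.1 (inv_mem (h hs))]
  simp only [SV, List.mem_cons, List.not_mem_nil, or_false] at hT
  rcases hT with rfl | rfl | rfl | rfl | rfl | rfl | rfl | rfl | rfl | rfl
  · exact absurd (hS.trans (r.ech_eq r.echS (r.ech_same h chd.2.2.2.2.2.2.2))) h1.lt.ne'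
  · exact Or.inl (h2 (r.nzL (by decide)) (r.ech_eq (r.ech_same h chd.2.2.2.2.2.2.1) (r.echL (by decide))))
  · exact Or.inr (Or.inl (h2 r.e2_nz (r.eq_sp h)))
  · exact Or.inr (Or.inr ⟨_, h1, h⟩)
  · exact (r.p7_ok hF hS h1 h).elim
  · exact (r.p6_ok hF hS h1 h).elim
  · exact (r.tv_ok hF hS h1 h tv1).elim
  · exact (r.tv_ok hF hS h1 h tv2).elim
  · exact (r.tv_ok hF hS h1 h tv3).elim
  · exact (r.tv_ok hF hS h1 h tv4).elim

theorem wts (hg : g ∈ nz (gen y 10)) : wt y g 9 = wt y g 0 * wt y g 1 ∧ wt y g 8 = wt y g 0 ∧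
    wt y g 7 = wt y g 1 ∧ (wt y g 0 = 1 → wt y g 1 = 1 → ∀ k < 10, wt y g k = 1) := by
  have h : ∀ k ≤ 10, g ∈ nz (gen y k) := fun k hk => (r.chrS k hk).2 hg
  obtain ⟨a0, a1, a2, a3, a6, -, a5, a4, a3'⟩ := trc
  have b0 := r.wt_trp (by decide) (by decide) (by decide) a0 h
  have b1 := r.wt_trp (by decide) (by decide) (by decide) a1 h
  have b2 := r.wt_trp (by decide) (by decide) (by decide) a2 h
  have b3 := r.wt_trp (by decide) (by decide) (by decide) a3 h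
  have b6 := r.wt_trp (by decide) (by decide) (by decide) a6 h
  have b5 := r.wt_trp (by decide) (by decide) (by decide) a5 h
  have b4 := r.wt_trp (by decide) (by decide) (by decide) a4 h
  have b3' := r.wt_trp (by decide) (by decide) (by decide) a3' h
  have c9 := r.wt_ne (by decide) (h 9 (by decide))
  have c8 := r.wt_ne (by decide) (h 8 (by decide))
  have key : ∀ a b c : ZMod 3, a ≠ 0 → b ≠ 0 → b * a * b * a = b * a * c → a = b * a * c * a * b * a *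
      (b * a * c * a * b) ∧ b = b * a * c * a * b * a ∧ c = b * a * c * a * b := by decide
  rw [b4, b6] at b3'
  rw [b6] at b3
  obtain ⟨d1, d2, d3⟩ := key _ _ _ c9 c8 (b3'.symm.trans b3)
  rw [← b3, ← b2, ← b1] at d1 d2 d3
  rw [← b0] at d1 d2
  refine ⟨d1, d2, d3, fun h0 h1 k hk => ?_⟩
  rw [h0, h1, mul_one] at d1
  rw [h0] at d2
  rw [h1] at d3
  rw [d1, d2, mul_one] at b6
  interval_cases k
  exacts [h0, h1, by rw [b2, b3, d1, d2, d3]; simp, by rw [b3, d1, d2, d3]; simp, by rw [b4, b6, d2]; simp,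
    by rw [b5, b6, d1]; simp, b6, d3, d2, d1]

theorem mem_ai_of_wt (hF : F.Sat 3) (hS : F.S = gen y 10) (hg : g ∈ F.A F.S) (h0 : wt y g 0 = 1)
    (h1 : wt y g 1 = 1) : g ∈ ai F.S F.S := by
  have h2 := F.A_le_nz _ hg
  refine (hF.syl F.FN_S).mem_of_pel ((F.A_le_nz _).trans (nz_le_nz_ai_self _)) hg (PEl.mono ?_ (cz_le_ai _ _))
  rw [hS] at h2 ⊢
  have h : ∀ k ≤ 10, g ∈ nz (gen y k) := fun k hk => (r.chrS k hk).2 h2
  suffices H : ∀ k ≤ 10, PEl 3 (cz (gen y k)) g from H 10 le_rfl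
  intro k hk
  induction k with
  | zero => exact .of_mem (by rw [gen_zero]; exact mem_cz.2 fun x hx => by rw [mem_bot.1 hx]; simp)
  | succ k ih =>
    exact pel_of_stab (r.pg.to_le (gen_mono y (by omega))) ((r.wt_one hk (h k (by omega)) (h _ hk)).1
      ((r.wts h2).2.2.2 h0 h1 k hk)) (h k (by omega)) (ih (by omega))

theorem A_le (hF : F.Sat 3) (hS : F.S = gen y 10) (h1 : H ≤ F.A F.S) (h2 : ai F.S F.S ≤ H)
    (h : Full y H) : F.A F.S ≤ H := by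
  have a : ∀ g ∈ F.A F.S, ∀ k ≤ 10, g ∈ nz (gen y k) := fun g hg k hk =>
    (r.chrS k hk).2 (hS ▸ F.A_le_nz _ hg)
  have b : ∀ g ∈ F.A F.S, ∀ h ∈ F.A F.S, ∀ k < 10, wt y (g * h) k = wt y g k * wt y h k :=
    fun g hg h hh k hk => r.wt_mul hk (a g hg k hk.le) (a g hg _ hk) (a h hh _ hk)
  have c : ∀ g ∈ F.A F.S, ∀ k < 10, wt y g k = 1 ∨ wt y g k = 2 := fun g hg k hk =>
    (by decide : ∀ a : ZMod 3, a ≠ 0 → a = 1 ∨ a = 2) _ (r.wt_ne hk (a g hg k hk.le))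
  obtain ⟨⟨k1, d1, e1⟩, k2, d2, e2, e3⟩ := h
  have f : ∀ g ∈ F.A F.S, wt y g 0 = 1 → g ∈ H := fun g hg h0 => by
    rcases c g hg 1 (by decide) with h3 | h3
    · exact h2 (r.mem_ai_of_wt hF hS hg h0 h3)
    · exact (mul_mem_cancel_right d2).1 (h2 (r.mem_ai_of_wt hF hS (mul_mem hg (h1 d2))
        (by rw [b g hg _ (h1 d2) 0 (by decide), h0, e2, mul_one])
        (by rw [b g hg _ (h1 d2) 1 (by decide), h3, e3]; decide)))
  intro g hg
  rcases c g hg 0 (by decide) with h3 | h3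
  · exact f g hg h3
  · exact (mul_mem_cancel_right d1).1 (f _ (mul_mem hg (h1 d1))
      (by rw [b g hg _ (h1 d1) 0 (by decide), h3, e1]; decide))

theorem big (hT : T ≤ gen y 10) (hn : gen y 10 ≤ nz T) (h : ¬ T ≤ gen y 8) : gen y 7 ≤ T := by
  obtain ⟨a0, a1, a2, -, a6, a6', a5, a4, a3⟩ := trc
  have b6 : ¬ T ⊓ gen y 7 ≤ gen y 6 := by
    by_cases h1 : T ⊓ gen y 10 ≤ gen y 9
    · exact r.lead_trp (by decide) (by decide) (by decide) a6 hn fun h2 =>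
        h fun x hx => h2 ⟨hx, h1 ⟨hx, hT hx⟩⟩
    · exact r.lead_trp (by decide) (by decide) (by decide) a6' hn h1
  have b4 := r.lead_trp (by decide) (by decide) (by decide) a4 hn b6
  have b3 := r.lead_trp (by decide) (by decide) (by decide) a3 hn b4
  have b2 := r.lead_trp (by decide) (by decide) (by decide) a2 hn b3
  have b1 := r.lead_trp (by decide) (by decide) (by decide) a1 hn b2
  exact r.succ_le (by decide) (r.succ_le (by decide) (r.succ_le (by decide) (r.succ_le (by decide)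
    (r.succ_le (by decide) (r.succ_le (by decide) (r.succ_le (by decide) (gen_zero y ▸ bot_le)
    (r.lead_trp (by decide) (by decide) (by decide) a0 hn b1)) b1) b2) b3) b4)
    (r.lead_trp (by decide) (by decide) (by decide) a5 hn b6)) b6

theorem orb (hk : k + 1 < 10) (hq : q < 10) (h0 : trpCk (k + 1) q k = 0) :
    Orb (gen y (k + 2)) (gen y (k + 1)) (gen y k) (y q) := by
  intro v hv hv' w hw
  have hk' : k < 10 := by omega
  obtain ⟨h1, h2⟩ := r.trp hk hq hk' h0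
  obtain ⟨h3, h4⟩ := h2 v hv _ (mem_gen y q.lt_succ_self)
  have h5 : v⁻¹ * (y q * v * (y q)⁻¹) ∉ gen y k := fun h => by
    rw [r.dg_zero.2 h, r.dg_gen hq, mul_one] at h4
    exact hv' (r.dg_zero.1 ((mul_eq_zero.1 h4.symm).resolve_right h1))
  obtain ⟨a, -, h6⟩ := r.dig' hk' h3 h5 hw
  refine ⟨y q ^ a, pow_mem (mem_zpowers _) a, ?_⟩
  have h7 : ∀ a : ℕ, ((v⁻¹ * (y q * v * (y q)⁻¹)) ^ a)⁻¹ * (v⁻¹ * (y q ^ a * v * (y q ^ a)⁻¹)) ∈ gen y k :=
    fun a => by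
    induction a with
    | zero => simp
    | succ a ih =>
      have h8 := pow_mem h3 a
      convert mul_mem ((r.stabL hk' (mem_gen y hq)).2 _ h8)
        (conj_mem_of_mem_nz (r.nzL hk'.le (mem_gen y hq)) ih) using 1
      rw [pow_succ', pow_succ']
      generalize (v⁻¹ * (y q * v * (y q)⁻¹)) ^ a = d
      generalize y q ^ a = s
      group
  convert mul_mem (inv_mem (h7 a)) h6 using 1; group

theorem tor (hF : F.Sat 3) (hS : F.S = gen y 10) (hT : F.SC T) (h7 : gen y 7 ≤ T) (hU : U ≤ gen y 10)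
    (hn : gen y 10 ≤ nz U) (hk : k < 2) (hq : q < 10) (h0 : trpCk (k + 1) q k = 0)
    (h1 : Chr U (gen y (k + 2))) (h2 : Chr U (gen y k)) (h3 : ¬ F.A U ≤ nz (gen y (k + 1))) :
    ∃ g ∈ F.A F.S, g ∈ stab U T ∧ g ∈ cz (gen y k) ∧ wt y g k = 2 := by
  obtain ⟨m, hm, hm'⟩ := SetLike.not_le_iff_exists.1 h3
  have hk' : k < 10 := by omega
  have a1 : F.A U ≤ nz (gen y k) := (F.A_le_nz U).trans h2.2
  have a2 : F.A U ≤ nz (F.A U ⊓ (stab U (U ⊓ T) ⊓ cz (gen y k))) := fun a ha => mem_nz_inf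
    (le_nz_self _ ha) (mem_nz_inf (nz_stab (F.A_le_nz U ha) (hT.mem_nz_inf (hS ▸ hU) ha))
      (mem_nz_cz (a1 ha)))
  have a3 : gen y 10 ≤ F.A U ⊓ (stab U (U ⊓ T) ⊓ cz (gen y k)) := fun s hs =>
    ⟨F.N_le_A U ⟨hS ▸ hs, hn hs⟩, ⟨hn hs, fun x hx => mem_inf.2 ⟨mul_mem (inv_mem hx)
      (conj_mem_of_mem_nz (hn hs) hx), h7 ((r.stS hs).2 x (hU hx))⟩⟩, cz_anti (gen_mono y (by omega))
        (le_cz_comm.1 (r.cenS.ge.trans inf_le_right) hs)⟩
  have a4 : cz U ≤ F.A U ⊓ (stab U (U ⊓ T) ⊓ cz (gen y k)) :=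
    le_inf (F.cz_le_A U) (le_inf (cz_le_stab _ _) (cz_anti h2.1))
  have a5 : F.A U ⊓ (stab U (U ⊓ T) ⊓ cz (gen y k)) ≤ F.A U := inf_le_left
  obtain ⟨h, hh, a6⟩ := (r.orb (by omega) hq h0).inv (h1.2 (F.A_le_nz U hm)) (a1 hm) (gen_succ y k)
    (gen_mono y (by omega)) ((gen_mono y (by omega)).trans (r.nzL (by omega))) hm' (a5.trans a1)
    (a3 (mem_gen y hq)) (conj_mem_of_mem_nz (a2 hm) (a3 (mem_gen y hq)))
  have a7 := mem_gen y k.lt_succ_self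
  have a8 : h * y k * h⁻¹ ∈ gen y (k + 1) := inv_mem_iff.1
    ((mul_mem_cancel_right (inv_mem a7)).1 (gen_mono y k.le_succ a6))
  have a9 : h ∈ nz (gen y (k + 1)) := mem_nz_of_le (by
    conv_lhs => rw [gen_succ, cj_sup, cj_zpowers, mem_nz.1 (a1 hh.1)]
    exact sup_le (gen_mono y k.le_succ) (zpowers_le.2 a8))
  have b1 : wt y h k = 2 := by
    have := r.dg_zero.2 a6
    rw [r.dg_mul hk' (inv_mem a8) (inv_mem a7), r.dg_inv hk' a8, r.dg_inv hk' a7, r.dg_gen hk'] at this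
    exact (by decide : ∀ a : ZMod 3, -a + -1 = 0 → a = 2) _ this
  have b2 : gen y (k + 1) ≤ U := (gen_mono y (by omega)).trans h1.1
  obtain ⟨g, hg, t, ht, e⟩ := extS hF (hS ▸ hU) (hS ▸ hn) (H := F.A U ⊓ (stab U (U ⊓ T) ⊓ cz (gen y k)) ⊓
    stab (gen y (k + 1)) (gen y k)) (inf_le_left.trans a5) (hS ▸ le_inf a3 (r.stabL hk'))
    (le_inf a4 ((cz_anti b2).trans (cz_le_stab _ _))) (a5 hh)
    (mem_nz_inf (a2 (a5 hh)) (nz_stab a9 (a1 (a5 hh))))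
  have b3 := mul_mem (mem_inf.1 ht).1 hh
  refine ⟨g, hg, stab_mono inf_le_right (e.mem_stab b3.2.1), (e.mono h2.1).mem_of_cz_le le_rfl b3.2.2, ?_⟩
  rw [wt_agree e (b2 a7), r.wt_mul hk' (a1 ht.1.1) ht.2.1 a9, b1,
    (r.wt_one hk' (a1 ht.1.1) ht.2.1).2 ht.2, one_mul]

end Md

end H16.F3
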