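import Cfsg.Agent.H16.F3x

/-! Fusion systems without normal subgroups on the group of order `3 ^ 10` are simple. -/

set_option autoImplicit false
set_option linter.unusedSectionVars false
set_option maxRecDepth 100000
set_option Elab.async false

namespace H16.F3
open H26 (frc frc_eq)
open Subgroup H25 H25.FS H4.G3 H4

variable {Γ : Type*} [Group Γ] [Finite Γ] {y : ℕ → Γ} {F E : FS Γ} {B H K P T U V W X Y : Subgroup Γ}
  {g h s t x z e : Γ} {a b c d a' b' c' d' : ℤ}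

/-- `g` acts on `⟨z, e⟩` by the given matrix -/
def Ac (g z e : Γ) (a b c d : ℤ) : Prop := g * z * g⁻¹ = z ^ a * e ^ b ∧ g * e * g⁻¹ = z ^ c * e ^ d

theorem Ac.mul (hc : Commute z e) (hz : z ^ 3 = 1) (he : e ^ 3 = 1) (h : Ac t z e a b c d)
    (h' : Ac s z e a' b' c' d') {i j k l : ℤ} (h0 : ((a * a' + b * c' : ℤ) : ZMod 3) = i ∧
      ((a * b' + b * d' : ℤ) : ZMod 3) = j ∧ ((c * a' + d * c' : ℤ) : ZMod 3) = k ∧
      ((c * b' + d * d' : ℤ) : ZMod 3) = l) : Ac (s * t) z e i j k l := by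
  obtain ⟨h1, h2⟩ := h
  obtain ⟨h3, h4⟩ := h'
  have key : ∀ i j : ℤ, s * (z ^ i * e ^ j) * s⁻¹ = z ^ (i * a' + j * c') * e ^ (i * b' + j * d') := by
    intro i j
    rw [← conj_mul, ← conj_zpow, ← conj_zpow, h3, h4, (hc.zpow_zpow _ _).mul_zpow,
      (hc.zpow_zpow _ _).mul_zpow, ← zpow_mul, ← zpow_mul, ← zpow_mul, ← zpow_mul, zpow_add, zpow_add,
      (hc.zpow_zpow _ _).symm.mul_mul_mul_comm, mul_comm i, mul_comm i, mul_comm j, mul_comm j]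
  rw [Ac, ← zpow_congr hz h0.1, ← zpow_congr he h0.2.1, ← zpow_congr hz h0.2.2.1,
    ← zpow_congr he h0.2.2.2]
  exact ⟨by rw [← key, ← h1]; group, by rw [← key, ← h2]; group⟩

def RN : List ℕ := [0, 9, 18, 27, 36, 45, 54, 63, 72]
def RV : List ℕ := [0, 2952, 5854, 7056, 9991, 12900, 13414, 16359, 19245]
/-- `0` iff `e` lies in the list up to the subgroup -/
noncomputable def inL (L : List ℕ) (C e : ℕ) : ℕ := if ∃ x ∈ L, sift C (mul (inv x) e) = 0 then 0 else 1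

theorem e3c : abCk tE3 0 = 0 ∧ Sb tC tE3 ∧ cmCk (cut YT 10) tE3 tE3 tP7 = 0 ∧ clCk tP7 = 0 ∧
    ent tP7 (stCk tE3 (cut YT 2)) = 0 ∧ ent tP7 (stCk tC 0) = 0 ∧ ent tC (sift (cut YT 7)) = 0 ∧
    en tP7 tE3 (inL RN tE3) 10 0 = 0 ∧ en tE3 tC (inL RV tC) 10 0 = 0 ∧
    (ent tP7 (sift (cut YT 9)) = 0 ∧ ent (cut YT 2) (sift tC) = 0) ∧
    (∀ x ∈ RN, x < 59049 ∧ sift tP7 x = 0) ∧ (∀ w ∈ RV, w < 59049 ∧ sift tE3 w = 0) ∧
    (∀ x ∈ RN, ∀ w ∈ RV, cm w (inv x) = 0 → x = 0 ∨ w = 0) ∧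
    (∀ w ∈ RV, w ≠ 0 → ∀ l < 9, ∃ x ∈ RN, cm w (inv x) = l) ∧
    ∀ x ∈ RN, x ≠ 0 → ∀ l < 9, ∃ w ∈ RV, cm w (inv x) = l := by decide +kernel

theorem e3d : sift tE3 36 ≠ 0 ∧ sift tE3 9 ≠ 0 ∧ cm 2952 (inv 9) = 1 ∧ cm 2952 (inv 36) = 4 ∧
    cm 7056 (inv 9) = 3 ∧ cm 7056 (inv 36) = 5 ∧ cjn 3 (inv 19683) = 5 ∧ cjn 3 19683 = 4 ∧ mul 1 3 = 4 ∧
    mul 2 3 = 5 ∧ cu 1 = 0 ∧ cu 3 = 0 ∧ ent (cut YT 9) (stCk (cut YT 2) 0) = 0 := by decide +kernel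

namespace Md
variable (r : Md y)
include r

theorem tr_ok {L : List ℕ} {A C : ℕ} (h : Ech y P A) (h1 : Ech y B C) (hB : B ≤ P)
    (h0 : en A C (inL L C) 10 0 = 0) (hL : ∀ x ∈ L, x < 59049) (hs : s ∈ P) :
    ∃ x ∈ L, ∃ b ∈ B, ev y x * b = s := by
  obtain ⟨e, he, h2, b, hb, h3⟩ := r.en_ok h hB h1.low (fun k hk => (h1.h k hk).imp_left And.left) le_rfl 0
    (by decide) h0 s ⟨hs, h.le hs⟩
  unfold inL at h2
  split_ifs at h2 with h4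
  obtain ⟨x, hx, h4⟩ := h4
  have h5 := r.mem_of_sift h1.low (r.mul_lt (r.inv_lt (hL x hx)) he) h4
  rw [r.ev_mul (r.inv_lt (hL x hx)) he, r.ev_inv (hL x hx)] at h5
  exact ⟨x, hx, _, mul_mem h5 hb, by rw [ev_zero, one_mul] at h3; rw [← h3]; group⟩

theorem ev_ph {x w : ℕ} (hx : x < 59049) (hw : w < 59049) : ph (ev y x) (ev y w) = ev y (cm w (inv x)) := by
  rw [r.ev_cm hw (r.inv_lt hx), r.ev_inv hx, inv_inv]

theorem qd (h : Ech y V tE3) : Qd V (sp y tP7) H (sp y tC) (gen y 2) := by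
  obtain ⟨a1, a2, -, a4, a5, a6, -, a8, a9, ⟨-, a10⟩, b1, b2, b3, b4, b5⟩ := e3c
  obtain ⟨hC, hCV⟩ := r.sb h a2
  have hN := r.ech_sp a4
  have hZ := r.echL (k := 2) (by decide)
  have cm := (r.el h a1).1
  have h1 : gen y 2 ≤ sp y tC := r.le_of_sift hZ hC.low a10
  have h2 : sp y tP7 ≤ nz V := r.up' hN a5 fun _ he e => r.nz_of h (hZ.low.mono (h1.trans hCV)) he.1 e
  have h3 : sp y tP7 ≤ cz (sp y tC) := r.up' hN a6 fun _ he e => r.cz_of hC he.1 e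
  have h4 : V ≤ sp y tP7 := r.le_of_sift h hN.low (by decide +kernel)
  have t1 := fun x hx => r.tr_ok (s := x) hN h h4 a8 (fun x hx => (b1 x hx).1) hx
  have t2 := fun x hx => r.tr_ok (s := x) h hC hCV a9 (fun x hx => (b2 x hx).1) hx
  have m1 := fun x hx => r.mem_of_sift hN.low (b1 x hx).1 (b1 x hx).2
  have m2 := fun x hx => r.mem_of_sift h.low (b2 x hx).1 (b2 x hx).2
  have p1 : ∀ x : Γ, ∀ v ∈ V, ∀ w ∈ V, ph (x * v) w = ph x w := fun x v hv w hw => by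
    rw [ph, ph, mul_assoc x, cm v hv w hw]; group
  have p2 : ∀ x ∈ sp y tP7, ∀ w ∈ V, ∀ c ∈ sp y tC, ph x (w * c) = ph x w := fun x hx w hw c hc =>
    ph_eq cm (h2 hx) (mul_mem hw (hCV hc)) hw (by simpa using mem_cz.1 (h3 hx) c hc)
  refine ⟨cm, h1, hCV, r.stab_le hN h hZ.low (h.le.trans (r.nzL (by decide))) h2 a5, h3,
    fun x hx w hw e => ?_, fun w hw hw' l hl => ?_, fun x hx hx' l hl => ?_, fun w hw hw' => ?_,
    fun e => r.ne (mem_bot.1 (e ▸ mem_gen y (by decide)))⟩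
  · obtain ⟨i, hi, v, hv, rfl⟩ := t1 x hx
    obtain ⟨j, hj, c, hc, rfl⟩ := t2 w hw
    replace e : ph (ev y i * v) (ev y j * c) = 1 := by rw [ph, e, inv_mul_cancel]
    rw [p1 _ v hv _ hw, p2 _ (m1 i hi) _ (m2 j hj) c hc, r.ev_ph (b1 i hi).1 (b2 j hj).1,
      r.eq_one (r.cm_lt (b2 j hj).1 (r.inv_lt (b1 i hi).1))] at e
    exact (b3 i hi j hj e).imp (fun e => by simpa [e] using hv) fun e => by simpa [e] using hc
  · obtain ⟨j, hj, c, hc, rfl⟩ := t2 w hw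
    obtain ⟨l, hl', rfl⟩ := (r.mem_gen_iff (by decide)).1 hl
    obtain ⟨i, hi, e⟩ := b4 j hj (fun e => hw' (by simpa [e] using hc)) l hl'
    exact ⟨_, m1 i hi, by rw [p2 _ (m1 i hi) _ (m2 j hj) c hc, r.ev_ph (b1 i hi).1 (b2 j hj).1, e]⟩
  · obtain ⟨i, hi, v, hv, rfl⟩ := t1 x hx
    obtain ⟨l, hl', rfl⟩ := (r.mem_gen_iff (by decide)).1 hl
    obtain ⟨j, hj, e⟩ := b5 i hi (fun e => hx' (by simpa [e] using hv)) l hl'
    exact ⟨_, m2 j hj, by rw [p1 _ v hv _ (m2 j hj), r.ev_ph (b1 i hi).1 (b2 j hj).1, e]⟩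
  · by_cases h5 : w ∈ gen y 1
    · refine ⟨y 1, mem_gen y (by decide), ?_⟩
      rw [gen_succ y 1, ← r.sup_eq (k := 0) (by decide) h5 (by simpa [gen_zero] using hw'), gen_zero,
        bot_sup_eq]
    · refine ⟨y 0, mem_gen y (by decide), ?_⟩
      rw [← r.sup_eq (k := 1) (by decide) hw h5, gen_succ y 0, gen_zero, bot_sup_eq, sup_comm]

theorem ev45 : ev y 4 = y 0 ^ (1 : ℤ) * y 1 ^ (1 : ℤ) ∧ ev y 5 = y 0 ^ (2 : ℤ) * y 1 ^ (1 : ℤ) ∧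
    ev y 1 = y 0 ∧ ev y 3 = y 1 ∧ ev y 19683 = y 9 := by
  obtain ⟨-, -, -, -, -, -, -, -, a1, a2, -⟩ := e3d
  have h0 : ev y 1 = y 0 := ev_gen (k := 0) (by decide)
  have h1 : ev y 3 = y 1 := ev_gen (k := 1) (by decide)
  have h2 : ev y 2 = y 0 ^ 2 := ev_pw (k := 0) (d := 2) (by decide) (by decide)
  exact ⟨by rw [← a1, r.ev_mul (by decide) (by decide), h0, h1]; simp,
    by rw [← a2, r.ev_mul (by decide) (by decide), h2, h1]; simp, h0, h1, ev_gen (k := 9) (by decide)⟩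

theorem z_cz : gen y 10 ≤ cz (gen y 1) := le_cz_comm.1 (r.cenS.ge.trans inf_le_right)

theorem z_fix (hg : g ∈ gen y 10) : g * y 0 * g⁻¹ = y 0 := mem_cz.1 (r.z_cz hg) _ (mem_gen y (by decide))

theorem aca : Commute (y 0) (y 1) ∧ y 0 ^ 3 = 1 ∧ y 1 ^ 3 = 1 ∧ Ac (y 9) (y 0) (y 1) 1 0 2 1 ∧
    Ac (y 9)⁻¹ (y 0) (y 1) 1 0 1 1 := by
  obtain ⟨-, -, -, -, -, -, a1, a2, -, -, a3, a4, -⟩ := e3d
  obtain ⟨e4, e5, e1, e3, e9⟩ := r.ev45
  have h9 := mem_gen y (show 9 < 10 by decide)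
  refine ⟨(mul_inv_eq_iff_eq_mul.1 (r.z_fix (mem_gen y (by decide)))).symm,
    by rw [← e1, ← r.ev_cu (by decide), a3, ev_zero], by rw [← e3, ← r.ev_cu (by decide), a4, ev_zero],
    ⟨by simpa using r.z_fix h9, ?_⟩, by simpa using r.z_fix (inv_mem h9), ?_⟩
  · rw [← e5, ← a1, r.ev_cjn (by decide) (r.inv_lt (by decide)), r.ev_inv (by decide), e3, e9, inv_inv]
  · rw [← e4, ← a2, r.ev_cjn (by decide) (by decide), e3, e9, inv_inv]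

theorem L2_eq : gen y 2 = zpowers (y 0) ⊔ zpowers (y 1) := by
  rw [gen_succ, gen_succ, gen_zero, bot_sup_eq]

theorem e3_ok (hF : F.Sat 3) (hS : F.S = gen y 10) (hV : F.Ess V) (h : Ech y V tE3) :
    gen y 2 ≤ V ∧ F.N V ≤ gen y 9 ∧ ∃ b ∈ F.A V, (∀ v ∈ V, ∃ z ∈ gen y 2, v⁻¹ * (b * z * b⁻¹) ∈ gen y 7) ∧
      ∃ s ∈ F.N V ⊔ cj b (F.N V), s ∈ nz (gen y 2) ∧ Ac s (y 0) (y 1) 1 1 2 1 := by
  obtain ⟨-, a2, a3, a4, -, -, a7, -, -, ⟨a9, -⟩, b1, b2, -⟩ := e3c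
  obtain ⟨c1, c2, c3, c4, c5, c6, -⟩ := e3d
  obtain ⟨e4, e5, e1, e3, -⟩ := r.ev45
  have hN : F.N V = sp y tP7 := by rw [FS.N, hS]; exact r.eq_sp (r.ech_nz r.echS h a3)
  have q := r.qd (H := F.A V) h
  have hN' := r.ech_sp a4
  have m1 := fun x hx => r.mem_of_sift hN'.low (b1 x hx).1 (b1 x hx).2
  have m2 := fun x hx => r.mem_of_sift h.low (b2 x hx).1 (b2 x hx).2
  rw [hN]
  obtain ⟨b, hb, h1, h2⟩ := q.main (hN ▸ lc_of_ess hF hV)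
  obtain ⟨s, hs, h3, h4⟩ := h2 _ (m1 36 (by decide)) (r.nmem_of h (by decide) c1) _ (m1 9 (by decide))
    (r.nmem_of h (by decide) c2)
  have h5 := h4 _ (m2 2952 (by decide))
  have h6 := h4 _ (m2 7056 (by decide))
  rw [r.ev_ph (by decide) (by decide), r.ev_ph (by decide) (by decide)] at h5 h6
  rw [c3, c4, e1, e4] at h5
  rw [c5, c6, e3, e5] at h6
  exact ⟨q.ZC.trans q.CV, r.le_of_sift hN' (low_YT le_rfl) a9, b, hb, fun v hv => (h1 v hv).imp fun z hz =>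
    ⟨hz.1, r.le_of_sift (r.ech_sp a2.1) (low_YT le_rfl) a7 hz.2⟩, s, hs, h3, h5, h6⟩

theorem case2 (hF : F.Sat 3) (hS : F.S = gen y 10) (h0 : F.core = ⊥) (h : ∀ V, F.Ess V → ¬ Ech y V tE3)
    (hT : F.SC T) (h7 : gen y 7 ≤ T) : (∃ g ∈ F.A F.S, g ∈ stab (gen y 9) T ∧ wt y g 0 = 2) ∧
      ∃ g ∈ F.A F.S, g ∈ stab (sp y tE2) T ∧ wt y g 0 = 1 ∧ wt y g 1 = 2 := by
  obtain ⟨c1, c2, c3⟩ := r.chrE
  have a : ∀ k, 0 < k → k ≤ 8 → ∃ P, (P = gen y 9 ∨ P = sp y tE2) ∧ ¬ F.A P ≤ nz (gen y k) := by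
    intro k hk hk'
    by_contra! h1
    refine r.ne (mem_bot.1 (h0 ▸ (hF.nm_iff_ess.2 fun P hP => ?_).le_core (mem_gen y hk)))
    rcases hP with rfl | hP
    · exact ⟨hS ▸ gen_mono y (by omega), (F.A_le_nz _).trans (hS ▸ (r.chrS k (by omega)).2)⟩
    rcases r.ess_cases hF hS hP with e | e | ⟨V, h2, h3⟩
    · exact ⟨e ▸ gen_mono y (by omega), h1 P (Or.inl e)⟩
    · exact ⟨e ▸ (gen_mono y hk').trans r.e2_ge, h1 P (Or.inr e)⟩
    · exact absurd h3 (h V h2)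
  obtain ⟨P, rfl | rfl, h1⟩ := a 1 (by decide) (by decide)
  swap
  · exact absurd ((F.A_le_nz _).trans c2.2) h1
  obtain ⟨P, rfl | rfl, h2⟩ := a 2 (by decide) (by decide)
  · exact absurd ((F.A_le_nz _).trans c1.2) h2
  obtain ⟨g, a1, a2, -, a3⟩ := r.tor hF hS hT h7 (gen_mono y (by decide)) (r.nzL (by decide)) (k := 0)
    (by decide) (by decide) trc.1 c1 (gen_zero y ▸ chr_bot) h1
  obtain ⟨k, b1, b2, b3, b4⟩ := r.tor hF hS hT h7 r.e2.le r.e2_nz (k := 1) (by decide) (by decide)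
    trc.2.1 c3 c2 h2
  exact ⟨⟨g, a1, a2, a3⟩, k, b1, b2, by
    rw [wt, mem_cz.1 b3 _ (mem_gen y (by decide)), r.dg_gen (by decide)], b4⟩

theorem ext2 (hF : F.Sat 3) (hS : F.S = gen y 10) (hg : g ∈ F.A (gen y 2)) {i j : ℕ}
    (h : Ac g (y 0) (y 1) i 0 1 j) : ∃ k ∈ F.A F.S, wt y k 0 = i ∧ wt y k 1 = j := by
  have h0 := mem_gen y (show 0 < 1 by decide)
  have a0 : ∀ g, g ∈ nz (gen y 0) := fun g => gen_zero y ▸ le_nz_bot ⊤ (mem_top g)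
  have a1 : g ∈ nz (gen y 1) := mem_nz_of_le (by
    conv_lhs => rw [gen_succ, gen_zero, bot_sup_eq, cj_zpowers, h.1]
    simpa using pow_mem h0 i)
  have a2 := F.A_le_nz _ hg
  obtain ⟨k, hk, t, ht, e⟩ := extS hF (hS ▸ gen_mono y (by decide)) (hS ▸ r.nzL (by decide))
    (H := F.A (gen y 2) ⊓ (stab (gen y 1) (gen y 0) ⊓ stab (gen y 2) (gen y 1))) inf_le_left
    (fun s hs => ⟨F.N_le_A _ ⟨hs, r.nzL (by decide) (hS ▸ hs)⟩, r.stabL (by decide) (hS ▸ hs),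
      r.stabL (by decide) (hS ▸ hs)⟩)
    (le_inf (F.cz_le_A _) (le_inf ((cz_anti (gen_mono y (by decide))).trans (cz_le_stab _ _))
      (cz_le_stab _ _))) hg (mem_nz_inf (le_nz_self _ hg) (mem_nz_inf (nz_stab a1 (a0 g)) (nz_stab a2 a1)))
  refine ⟨k, hk, ?_, ?_⟩
  · rw [wt_agree e (mem_gen y (by decide)), r.wt_mul (by decide) (a0 t) ht.2.1.1 a1,
      (r.wt_one (by decide) (a0 t) ht.2.1.1).2 ht.2.1, one_mul, wt, h.1]
    exact r.dg_eq (by decide) (by simp)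
  · rw [wt_agree e (mem_gen y (by decide)), r.wt_mul (by decide) ht.2.1.1 ht.2.2.1 a2,
      (r.wt_one (by decide) ht.2.1.1 ht.2.2.1).2 ht.2.2, one_mul, wt, h.2]
    exact r.dg_eq (by decide) (by
      simpa [mul_assoc] using conj_mem_of_mem_nz' (r.nzL (by decide)
        (pow_mem (mem_gen y (show 1 < 10 by decide)) j)) h0)

theorem full (hF : F.Sat 3) (hS : F.S = gen y 10) (h0 : F.core = ⊥) : Full y (F.A F.S) := by
  by_cases h : ∀ V, F.Ess V → ¬ Ech y V tE3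
  · obtain ⟨⟨g, a1, -, a2⟩, k, b1, -, b2⟩ := r.case2 hF hS h0 h F.sc_S (hS ▸ gen_mono y (by decide))
    exact ⟨⟨g, a1, a2⟩, k, b1, b2⟩
  push Not at h
  obtain ⟨V, hV, h⟩ := h
  obtain ⟨h1, -, b, hb, -, s, hs, h2, h3⟩ := r.e3_ok hF hS hV h
  obtain ⟨c1, c2, c3, h4, -⟩ := r.aca
  have h5 := mem_A_of_le hV.le (sup_le (F.N_le_A V) ((cj_mono b (F.N_le_A V)).trans
    (cj_eq_of_mem hb).le) hs) h1 h2
  have h6 : y 9 ∈ F.A (gen y 2) :=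
    F.N_le_A _ ⟨hS ▸ mem_gen y (by decide), r.nzL (by decide) (mem_gen y (by decide))⟩
  obtain ⟨g, a1, a2, -⟩ := r.ext2 hF hS (mul_mem h5 (mul_mem h6 (mul_mem h5 h5))) (i := 2) (j := 1)
    (((h3.mul c1 c2 c3 h3 (i := 0) (j := 2) (k := 1) (l := 0) (by decide)).mul c1 c2 c3 h4
      (i := 1) (j := 2) (k := 1) (l := 0) (by decide)).mul c1 c2 c3 h3 (by decide))
  obtain ⟨k, b1, b2, b3⟩ := r.ext2 hF hS (mul_mem h5 (mul_mem h5 (mul_mem h6 h5))) (i := 1) (j := 2)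
    (((h3.mul c1 c2 c3 h4 (i := 0) (j := 1) (k := 1) (l := 1) (by decide)).mul c1 c2 c3 h3
      (i := 2) (j := 1) (k := 0) (l := 2) (by decide)).mul c1 c2 c3 h3 (by decide))
  exact ⟨⟨g, a1, a2⟩, k, b1, b2, b3⟩

theorem up_wt (hk : ∀ k ≤ 10, g ∈ nz (gen y k)) {k : ℕ} (h1 : k < 10) (h2 : g ∈ stab U T) (h3 : y k ∈ U)
    (h4 : wt y g k = 2) (h5 : gen y k ≤ T) : gen y (k + 1) ≤ T := r.succ_le h1 h5 fun h => by
  have h6 := mem_gen y k.lt_succ_self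
  have := r.dg_zero.2 (h (mem_inf.2 ⟨h2.2 _ h3, mul_mem (inv_mem h6) (conj_mem_of_mem_nz (hk _ h1) h6)⟩))
  rw [r.dg_comm h1 (hk k h1.le) (hk _ h1) h6, r.dg_gen h1, h4] at this
  exact absurd this (by decide)

theorem sc_eq (hS : F.S = gen y 10) (h0 : F.core = ⊥) (hE : E.WN F 3) (hb : E.S ≠ ⊥) : E.S = F.S := by
  have hF := hE.satF
  have hT := hE.sc
  have a1 : E.S ≤ gen y 10 := hS ▸ hT.le
  have a2 : gen y 10 ≤ nz E.S := hS ▸ hT.S_le_nz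
  refine le_antisymm hT.le (hS ▸ ?_)
  by_cases h : ∀ V, F.Ess V → ¬ Ech y V tE3
  · have h7 := r.big a1 a2 fun h1 => hb (le_bot_iff.1 (h0 ▸ (hF.nm_of_wc hT.wc fun P hP => by
      rcases r.ess_cases hF hS hP with rfl | rfl | ⟨V, h2, h3⟩
      exacts [h1.trans (gen_mono y (by decide)), h1.trans r.e2_ge, absurd h3 (h V h2)]).le_core))
    obtain ⟨⟨g, b1, b2, b3⟩, k, c1, c2, c3, c4⟩ := r.case2 hF hS h0 h hT h7
    replace b1 : g ∈ nz (gen y 10) := hS ▸ F.A_le_nz _ b1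
    replace c1 : k ∈ nz (gen y 10) := hS ▸ F.A_le_nz _ c1
    obtain ⟨d1, -, d2, -⟩ := r.wts c1
    exact r.up_wt (fun j hj => (r.chrS j hj).2 c1) (by decide) c2 r.e2_a (by rw [d1, c3, c4, one_mul])
      (r.up_wt (fun j hj => (r.chrS j hj).2 b1) (by decide) b2 (mem_gen y (by decide))
        ((r.wts b1).2.1.trans b3) (r.up_wt (fun j hj => (r.chrS j hj).2 c1) (by decide) c2
          (r.e2_ge (mem_gen y (by decide))) (d2.trans c4) h7))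
  push Not at h
  obtain ⟨V, hV, h⟩ := h
  obtain ⟨h1, h9, b, hb', h7, s, hs, h2, h3⟩ := r.e3_ok hF hS hV h
  obtain ⟨c1, c2, c3, h4, h5⟩ := r.aca
  obtain ⟨-, -, -, -, -, -, -, -, -, -, -, b2, -⟩ := e3c
  have m2 := fun x hx => r.mem_of_sift h.low (b2 x hx).1 (b2 x hx).2
  have d0 : y 0 ∈ E.S := by
    obtain ⟨x, hx, hx'⟩ := (Subgroup.bot_or_exists_ne_one _).resolve_left (inf_cz_ne_bot r.pg a1 a2 hb)
    exact r.succ_le (k := 0) (by decide) (gen_zero y ▸ bot_le) (fun h => hx' (by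
      simpa [gen_zero] using h ⟨hx.1, r.cenS.le ⟨a1 hx.1, hx.2⟩⟩)) (mem_gen y (by decide))
  have d1 := hT.conj_mem (T_of_mem_A hV.le (sup_le (F.N_le_A V) ((cj_mono b (F.N_le_A V)).trans
    (cj_eq_of_mem hb').le) hs)) (h1 (mem_gen y (by decide))) d0
  rw [h3.1, zpow_one, zpow_one, mul_mem_cancel_left d0] at d1
  have d2 : gen y 2 ≤ E.S := r.L2_eq ▸ sup_le (zpowers_le.2 d0) (zpowers_le.2 d1)
  have d3 := fun z hz => hT.conj_mem (T_of_mem_A hV.le hb') (h1 hz) (d2 (x := z) hz)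
  have d4 := r.big a1 a2 fun h => by
    obtain ⟨z, hz, h8⟩ := h7 _ (m2 7056 (by decide))
    have := (mul_mem_cancel_right (h (d3 z hz))).1 (gen_mono y (by decide) h8)
    rw [inv_mem_iff, r.mem_iff (by decide) (by decide)] at this
    omega
  have d5 : V ≤ E.S := fun v hv => by
    obtain ⟨z, hz, h8⟩ := h7 v hv
    exact inv_mem_iff.1 ((mul_mem_cancel_right (d3 z hz)).1 (d4 h8))
  have d6 : ∀ k < 10, ∀ x ∈ RV, 3 ^ k ≤ x → x < 3 ^ (k + 1) → gen y k ≤ E.S → gen y (k + 1) ≤ E.S :=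
    fun k hk x hx e1 e2 e3 => r.succ_le hk e3 fun h => absurd ((r.mem_iff hk.le (b2 x hx).1).1
      (h ⟨d5 (m2 x hx), ev_mem_gen hk x e2⟩)) (by omega)
  have d7 := d6 8 (by decide) 7056 (by decide) (by decide) (by decide)
    (d6 7 (by decide) 2952 (by decide) (by decide) (by decide) d4)
  refine r.succ_le (by decide) d7 fun h8 => ?_
  have d8 : E.S ≤ cz (gen y 2) := le_trans (b := gen y 9) (fun x hx => h8 ⟨hx, a1 hx⟩)
    (r.up' (r.echL (by decide)) e3d.2.2.2.2.2.2.2.2.2.2.2.2 fun _ he e => r.cz_of (r.echL (by decide)) he.1 e)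
  have d9 : F.N V ≤ E.A V := fun x hx => E.N_le_A V ⟨d7 (h9 hx), hx.2⟩
  have f1 := mem_A_of_le d5 (sup_le d9 ((cj_mono b d9).trans
    (mem_nz.1 (hE.inv.A_le_nz d5 hb')).le) hs) h1 h2
  have f2 : y 9 ∈ F.N (gen y 2) := ⟨hS ▸ mem_gen y (by decide), r.nzL (by decide) (mem_gen y (by decide))⟩
  have f3 := mul_mem (conj_mem_of_mem_nz (hE.inv.A_le_nz d2 (F.N_le_A _ f2)) f1) f1
  have f4 := ((h3.mul c1 c2 c3 h5 (i := 2) (j := 1) (k := 0) (l := 1) (by decide)).mul c1 c2 c3 h3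
    (i := 1) (j := 0) (k := 2) (l := 1) (by decide)).mul c1 c2 c3 h4 (i := 1) (j := 0) (k := 1) (l := 1)
    (by decide)
  have f5 : Agree (gen y 2) (y 9)⁻¹ (y 9 * s * (y 9)⁻¹ * s) := by
    rw [r.L2_eq, agree_sup, agree_zpowers, agree_zpowers, h5.1, h5.2, ← f4.1, ← f4.2]
    exact ⟨by group, by group⟩
  have f6 : ai E.S (gen y 2) = cz (gen y 2) := le_antisymm (ai_le (inf_le_left.trans d8) le_rfl) (cz_le_ai _ _)
  have f7 := (f6 ▸ hE.sat.syl (FN_of_le_nz d2 (d8.trans (cz_le_nz _)))).mem_of_pel (E.A_le_nz_cz _)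
    (f5.mem_A f3) (.of_isPGroup hF.pg (inv_mem f2.1))
  have f8 := h5.2
  rw [mem_cz.1 f7 _ (mem_gen y (by decide))] at f8
  exact r.ne (by simpa using f8)

theorem simple (hF : F.Sat 3) (hS : F.S = gen y 10) (h0 : F.core = ⊥) : F.Simple 3 := by
  refine ⟨hF, fun e => r.ne (mem_bot.1 (e ▸ hS ▸ mem_gen y (by decide))), fun E hE => ?_⟩
  by_cases hb : E.S = ⊥
  · exact Or.inl hb
  have e := r.sc_eq hS h0 hE.wn hb
  refine Or.inr (hE.inv.eq_of_A_le e ?_)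
  have h1 := r.full hE.sat (e.trans hS) (le_bot_iff.1 (h0 ▸ hE.wn.core_le))
  have h2 := A_mono hE.le (le_refl E.S)
  have h3 := E.ai_le_A E.S
  rw [e] at *
  exact r.A_le hF hS h2 h3 h1

end Md

end H16.F3
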