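import Cfsg.Agent.H19.Amb5
import Cfsg.Agent.H10.Known
import Cfsg.Prelude.Def_Classification2
import Cfsg.Prelude.Def_Transfer

/-! The Monster from two 7-local subgroups (S3024): vocabulary and interfaces (plans at the end of the file). -/

set_option autoImplicit false
set_option linter.unusedSectionVars false

open Cfsg Subgroup
namespace H16.M7
open H19
open scoped commutatorElement

abbrev A7 := alternatingGroup (Fin 7)

universe u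
variable {G : Type u} [Group G] [Finite G] {B : Type*} [Group B] {K M P X Z : Subgroup G}
  {f : G → B} {a b c g k q t x y : G}

/-- a map that is multiplicative on the subgroup `M` -/
structure PH (M : Subgroup G) (f : G → B) : Prop where
  mul : ∀ {a b}, a ∈ M → b ∈ M → f (a * b) = f a * f b

namespace PH
variable (h : PH M f)
include h

theorem one : f 1 = 1 := by
  have := h.mul M.one_mem M.one_mem
  rwa [mul_one, left_eq_mul] at this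

def hom : M →* B := ⟨⟨fun g => f g, h.one⟩, fun a b => h.mul a.2 b.2⟩

theorem inv (ha : a ∈ M) : f a⁻¹ = (f a)⁻¹ := h.hom.map_inv ⟨a, ha⟩
theorem pow (ha : a ∈ M) (n : ℕ) : f (a ^ n) = f a ^ n := h.hom.map_pow ⟨a, ha⟩ n
theorem conj (hg : g ∈ M) (ha : a ∈ M) : f (g * a * g⁻¹) = f g * f a * (f g)⁻¹ := by
  rw [h.mul (mul_mem hg ha) (inv_mem hg), h.mul hg ha, h.inv hg]
theorem div (ha : a ∈ M) (hb : b ∈ M) (e : f a = f b) : f (a * b⁻¹) = 1 := by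
  rw [h.mul ha (inv_mem hb), h.inv hb, e, mul_inv_cancel]
theorem cmt (ha : a ∈ M) (hb : b ∈ M) : f ⁅a, b⁆ = ⁅f a, f b⁆ :=
  map_commutatorElement h.hom ⟨a, ha⟩ ⟨b, hb⟩
theorem mono (le : K ≤ M) : PH K f := ⟨fun ha hb => h.mul (le ha) (le hb)⟩
theorem cnj (σ : B) : PH M fun g => σ * f g * σ⁻¹ := ⟨fun ha hb => by rw [h.mul ha hb, conj_mul]⟩
theorem J (g : G) : PH (cj g M) fun x => f (g⁻¹ * x * g) :=
  ⟨fun ha hb => by rw [← h.mul (mem_cj.1 ha) (mem_cj.1 hb)]; congr 1; group⟩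

theorem mem_im {σ : B} : σ ∈ im h.hom X ↔ ∃ x ∈ X, x ∈ M ∧ f x = σ :=
  H19.mem_im.trans ⟨fun ⟨x, h1, h2⟩ => ⟨x, h1, x.2, h2⟩, fun ⟨x, h1, h2, h3⟩ => ⟨⟨x, h2⟩, h1, h3⟩⟩

theorem mem_pre {Y : Subgroup B} : g ∈ pre h.hom Y ↔ g ∈ M ∧ f g ∈ Y :=
  H19.mem_pre.trans ⟨fun ⟨h1, h2⟩ => ⟨h1, h2⟩, fun ⟨h1, h2⟩ => ⟨h1, h2⟩⟩

theorem im_top (hs : ∀ σ, ∃ g ∈ M, f g = σ) : im h.hom M = ⊤ :=
  eq_top_iff.2 fun σ _ => have ⟨g, hg, e⟩ := hs σ; h.mem_im.2 ⟨g, hg, hg, e⟩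

/-- order of a subgroup from its image and the kernel -/
theorem card (hX : X ≤ M) (hk : ∀ g ∈ X, f g = 1 ↔ g ∈ K) : #X = #(K ⊓ X) * #(im h.hom X) := by
  have e : (imHom h.hom hX).ker = K.subgroupOf X := Subgroup.ext fun x => imHom_eq_one.trans (hk x x.2)
  rw [← card_subgroupOf, ← e, ← (imHom h.hom hX).ker.card_mul_index, index_ker,
    MonoidHom.range_eq_top.2 (imHom_surj _ hX), card_top]

/-- a map that kills the kernel of `f` factors through the image -/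
theorem desc {B' : Type*} [Group B'] {f' : G → B'} (h' : PH M f') (hk : ∀ g ∈ M, f g = 1 → f' g = 1) :
    ∃ π : B → B', (∀ g ∈ M, π (f g) = f' g) ∧ ∀ a ∈ im h.hom M, ∀ b ∈ im h.hom M, π (a * b) = π a * π b := by
  classical
  have k : ∀ g ∈ M, (if e : ∃ c ∈ M, f c = f g then f' e.choose else 1) = f' g := fun g hg => by
    have e : ∃ c ∈ M, f c = f g := ⟨g, hg, rfl⟩
    rw [dif_pos e, ← mul_inv_eq_one, ← h'.inv hg, ← h'.mul e.choose_spec.1 (inv_mem hg)]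
    exact hk _ (mul_mem e.choose_spec.1 (inv_mem hg)) (h.div e.choose_spec.1 hg e.choose_spec.2)
  refine ⟨fun σ => if e : ∃ c ∈ M, f c = σ then f' e.choose else 1, k, fun a ha b hb => ?_⟩
  obtain ⟨a, h1, -, rfl⟩ := h.mem_im.1 ha
  obtain ⟨b, h2, -, rfl⟩ := h.mem_im.1 hb
  beta_reduce
  rw [← h.mul h1 h2, k a h1, k b h2, k _ (mul_mem h1 h2), h'.mul h1 h2]

/-- simple images of proper subgroups are known -/
theorem known (hK : IsCompositionKProper G) (n : M ≠ ⊤) (hs : ∀ σ, ∃ g ∈ M, f g = σ) [IsSimpleGroup B]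
    (na : ¬ IsMulCommutative B) : IsKnownSimple' B := by
  have s : Function.Surjective (h.hom.comp (Subgroup.subtype ⊤)) := fun σ =>
    have ⟨g, hg, e⟩ := hs σ; ⟨⟨⟨g, hg⟩, trivial⟩, e⟩
  have e := QuotientGroup.quotientKerEquivOfSurjective _ s
  exact (H10.isKnown_congr e).1 (hK M n ⊤ .top _ e.isSimpleGroup fun c => na
    ⟨⟨fun a b => e.symm.injective (by rw [map_mul, map_mul, c.1.1])⟩⟩)

end PH

theorem exists_PH (ρ : M →* B) : ∃ f : G → B, PH M f ∧ ∀ g : M, f g = ρ g := by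
  classical
  refine ⟨fun g => if h : g ∈ M then ρ ⟨g, h⟩ else 1, ⟨fun ha hb => ?_⟩, fun g => dif_pos g.2⟩
  rw [dif_pos ha, dif_pos hb, dif_pos (mul_mem ha hb), ← map_mul]; rfl

theorem compK [IsSimpleGroup B] (h : IsKnownSimple' B) : IsCompositionKGroup B := fun H hH N _ s na => by
  rcases hH.eq_bot_or_top_of_isSimpleGroup ‹_› with rfl | rfl
  · exact (na ⟨⟨fun a b => by
      obtain ⟨a, rfl⟩ := QuotientGroup.mk_surjective a
      rw [Subsingleton.elim a 1]; simp⟩⟩).elim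
  · have := Subgroup.topEquiv.isSimpleGroup (G := (⊤ : Subgroup B))
    rcases IsSimpleGroup.eq_bot_or_eq_top_of_normal N ‹_› with rfl | rfl
    · exact (H10.isKnown_congr (QuotientGroup.quotientBot.trans Subgroup.topEquiv)).2 h
    · exact (not_subsingleton_iff_nontrivial.2 s.toNontrivial QuotientGroup.subsingleton_quotient_top).elim

theorem p7 : Nat.Prime 7 := by norm_num
theorem card7 (h : x ^ 7 = 1) (h1 : x ≠ 1) : #(zpowers x) = 7 := (Nat.card_zpowers x).trans (orderOf_of_pow p7 h h1)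
theorem card2 (h : t * t = 1) (h1 : t ≠ 1) : #(zpowers t) = 2 :=
  (Nat.card_zpowers t).trans (orderOf_of_pow Nat.prime_two ((sq t).trans h) h1)
theorem eq_one_cop {m l : ℕ} (h : m.Coprime l) (h1 : g ^ m = 1) (h2 : g ^ l = 1) : g = 1 :=
  (pow_eq_one_iff_of_coprime h).1 ⟨h1, h2⟩
theorem mem_cop {m l : ℕ} (h : m.Coprime l) (h1 : g ^ m ∈ K) (h2 : g ^ l ∈ K) : g ∈ K := by
  have := mul_mem (zpow_mem h1 (m.gcdA l)) (zpow_mem h2 (m.gcdB l))
  rwa [← zpow_natCast, ← zpow_natCast, ← zpow_mul, ← zpow_mul, ← zpow_add, ← Nat.gcd_eq_gcd_ab, h.gcd_eq_one,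
    Nat.cast_one, zpow_one] at this
theorem conj_of_comm (h : g * x = x * g) : g * x * g⁻¹ = x := by rw [h, mul_inv_cancel_right]
theorem comm_of_conj (h : g * t * g⁻¹ = t) : g * t = t * g := mul_inv_eq_iff_eq_mul.1 h
theorem cjm (g n t : G) : g * n * t * (g * n)⁻¹ = g * (n * t * n⁻¹) * g⁻¹ := by group
theorem isConj_of (h : g * a * g⁻¹ = b) : IsConj a b := isConj_iff.2 ⟨g, h⟩
theorem inv_self (h : t * t = 1) : t⁻¹ = t := inv_eq_of_mul_eq_one_left h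
theorem pe_of {p n : ℕ} (hp : p.Prime) (h : g ^ p ^ n = 1) : PiE {p} g :=
  (PiN.prime_pow hp n).dvd (orderOf_dvd_of_pow_eq_one h)
theorem pe_pow {p : ℕ} (h : PiE {p} g) : ∃ n, g ^ p ^ n = 1 :=
  have ⟨n, e⟩ := h.exists_pow (orderOf_pos g).ne'
  ⟨n, e ▸ pow_orderOf_eq_one g⟩

/-- the conjugacy class of `x` under `K` -/
theorem orb_card (K : Subgroup G) (x : G) : {y | ∃ k ∈ K, k * x * k⁻¹ = y}.ncard = C[x].relIndex K := by
  have := MulAction.index_stabilizer (K.map (ConjAct.toConjAct (G := G) : G →* ConjAct G)) x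
  rw [relIndex, ← Nat.card_coe_set_eq, index]
  refine (Nat.card_congr (Equiv.ofBijective (fun q : K ⧸ C[x].subgroupOf K => Quotient.liftOn' q
    (fun k : K => (⟨k * x * (k : G)⁻¹, k, k.2, rfl⟩ : {y | ∃ k ∈ K, k * x * k⁻¹ = y})) fun a b e => Subtype.ext ?_)
      ⟨?_, ?_⟩)).symm
  · have := mem_cent1.1 (mem_subgroupOf.1 (QuotientGroup.leftRel_apply.1 e))
    simp only [coe_mul, coe_inv] at this
    calc _ = a * x * ((a : G)⁻¹ * b) * (b : G)⁻¹ := by group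
      _ = _ := by rw [mul_assoc (a : G), ← this]; group
  · rintro ⟨a⟩ ⟨b⟩ e
    have e : (a : G) * x * (a : G)⁻¹ = b * x * (b : G)⁻¹ := congrArg Subtype.val e
    refine Quotient.sound' (QuotientGroup.leftRel_apply.2 (mem_subgroupOf.2 (mem_cent1.2 ?_)))
    simp only [coe_mul, coe_inv]
    calc _ = (a : G)⁻¹ * (b * x * (b : G)⁻¹) * b := by group
      _ = _ := by rw [← e]; group
  · rintro ⟨_, k, hk, rfl⟩
    exact ⟨Quotient.mk'' ⟨k, hk⟩, rfl⟩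

theorem orb_le {S : Set G} (h : ∀ k ∈ K, k * x * k⁻¹ ∈ S) : C[x].relIndex K ≤ S.ncard :=
  orb_card K x ▸ Set.ncard_le_ncard (fun _ ⟨k, hk, e⟩ => e ▸ h k hk) (Set.toFinite _)

/-- the elements of `N(Z)` that commute with `g` modulo `Z` -/
def FX (Z : Subgroup G) (g : G) : Subgroup G where
  carrier := {q | q ∈ N(Z) ∧ ⁅g, q⁆ ∈ Z}
  one_mem' := ⟨one_mem _, by simp [Z.one_mem]⟩
  mul_mem' := fun {a b} ha hb => ⟨mul_mem ha.1 hb.1, by
    have := mul_mem ha.2 (conj_mem_of_norm ha.1 hb.2)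
    rwa [show ⁅g, a⁆ * (a * ⁅g, b⁆ * a⁻¹) = ⁅g, a * b⁆ by simp only [commutatorElement_def]; group] at this⟩
  inv_mem' := fun {a} ha => ⟨inv_mem ha.1, by
    have := conj_mem_of_norm' ha.1 (inv_mem ha.2)
    rwa [show a⁻¹ * ⁅g, a⁆⁻¹ * a = ⁅g, a⁻¹⁆ by simp only [commutatorElement_def]; group] at this⟩

theorem FX_conj (hk : k ∈ N(Z)) (h : q ∈ FX Z g) : k * q * k⁻¹ ∈ FX Z (k * g * k⁻¹) :=
  ⟨mul_mem (mul_mem hk h.1) (inv_mem hk), by
    have := conj_mem_of_norm hk h.2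
    rwa [show k * ⁅g, q⁆ * k⁻¹ = ⁅k * g * k⁻¹, k * q * k⁻¹⁆ by simp only [commutatorElement_def]; group] at this⟩

theorem le_FX (hg : g ∈ N(Z)) : Z ≤ FX Z g := fun _ h =>
  ⟨le_normalizer h, mul_mem (conj_mem_of_norm hg h) (inv_mem h)⟩

theorem FX_idx (h : X ≤ FX Z g) : #X ≤ #Z * #(C[g] ⊓ X) := by
  have h1 : C[g].relIndex X ≤ ((fun c => c * g) '' (Z : Set G)).ncard := orb_le fun k hk =>
    ⟨_, inv_mem (h hk).2, by simp only [commutatorElement_def]; group⟩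
  rw [Set.ncard_image_of_injective _ (mul_left_injective g), ← Nat.card_coe_set_eq] at h1
  rw [← card_inf_mul_relIndex C[g] X, mul_comm]
  exact Nat.mul_le_mul_right _ h1

/-- the group generated by the 7-elements normalizing `Y` and centralizing `a` -/
def T7 (Y : Subgroup G) (a : G) : Subgroup G := closure {c | c ∈ N(Y) ∧ c ∈ C[a] ∧ PiE {7} c}

/-- the two local subgroups: `C[z] = 7^(1+4).2.A7` and `N(Y)` -/
structure Hy (S Q Y A R : Subgroup G) (z t : G) (ψ : G → A7) : Prop where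
  syl : Syl 7 S ⊤
  cS : #S = 7 ^ 6
  zS : zpowers z = Z(S)
  z7 : z ^ 7 = 1
  z1 : z ≠ 1
  cQ : #Q = 7 ^ 5
  Q7 : ∀ q ∈ Q, q ^ 7 = 1
  Qc : ∀ a ∈ Q, ∀ b ∈ Q, ⁅a, b⁆ ∈ zpowers z
  CQ : C(Q) ≤ zpowers z
  QS : Q ≤ S
  NQ : N(zpowers z) ≤ N(Q)
  ph : PH C[z] ψ
  ψs : ∀ σ, ∃ g ∈ C[z], ψ g = σ
  tt : t * t = 1
  t1 : t ≠ 1
  tz : t ∈ C[z]
  ψk : ∀ g ∈ C[z], ψ g = 1 ↔ g ∈ Q ⊔ zpowers t
  ns : ∀ g ∈ C[z], g * g ∈ Q → ψ g = 1
  zY : z ∈ Y
  YA : Y ≤ A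
  AQ : A ≤ Q
  AR : A ≤ R
  cY : #Y = 49
  cA : #A = 343
  cR : #R = 7 ^ 5
  SY : S ≤ N(Y)
  nA : N(Y) ≤ N(A)
  nR : N(Y) ≤ N(R)
  RY : R = S ⊓ C(Y)
  nN : ¬ N(Y) ≤ N(zpowers z)
  cC : #C[z] = 7 ^ 5 * 5040
  irr : ∀ U, zpowers z ≤ U → U ≤ Q → C[z] ≤ N(U) → U = zpowers z ∨ U = Q

/-- with the data read off the action of `2.A7` on `Q / Z` -/
structure Hz (S Q Y A R : Subgroup G) (z t a x : G) (ψ : G → A7) : Prop extends Hy S Q Y A R z t ψ where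
  aA : a ∈ A
  aY : a ∉ Y
  cD : #(C[z] ⊓ C[a]) = 7 ^ 4 * 3
  xz : x ∈ C[z]
  xa : x ∈ C[a]
  xA : x ∉ N(A)
  sylP : Syl 7 (Q ⊓ C[a]) C[a]
  tr : ∀ y ∈ Y, y ≠ 1 → ∃ g ∈ T7 Y a, g * z * g⁻¹ = y
  WQ : ¬ S ⊓ C[t] ≤ Q
  dich : ∀ w ∈ S ⊓ C[t], w ≠ 1 → IsConj z w ∨ IsConj a w

/-- the data seen from the centralizer of the involution `t` -/
structure HC (W : Subgroup G) (z t a : G) (ψ : G → A7) (φ : G → Spor.He) : Prop where
  z1 : z ≠ 1
  tt : t * t = 1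
  t1 : t ≠ 1
  tz : t ∈ C[z]
  nt : C[t] ≠ ⊤
  ph : PH (C[z] ⊓ C[t]) ψ
  ψs : ∀ σ, ∃ g ∈ C[z] ⊓ C[t], ψ g = σ
  ψk : ∀ g ∈ C[z] ⊓ C[t], ψ g = 1 ↔ g ∈ zpowers z ⊔ zpowers t
  inv : ∀ u ∈ C[z], u * u = 1 → u ≠ 1 → ∃ k ∈ C[z], k * u * k⁻¹ = t
  zW : z ∈ W
  Wt : W ≤ C[t]
  el : El 7 2 W ⊤
  cB : {w | w ∈ W ∧ IsConj z w}.ncard = 24
  dich : ∀ w ∈ W, w ≠ 1 → IsConj z w ∨ IsConj a w
  a7 : a ^ 7 = 1
  φh : PH C[a] φ
  φs : ∀ σ, ∃ g ∈ C[a], φ g = σ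
  φk : ∀ g ∈ C[a], φ g = 1 ↔ g ∈ zpowers a

/-- chunk B: `C(a) / ⟨a⟩` is the Held group -/
def CB : Prop := ∀ {G : Type u} [Group G] [Finite G] {S Q Y A R : Subgroup G} {z t a x : G} {ψ : G → A7},
  IsCompositionKProper G → Hz S Q Y A R z t a x ψ →
    ∃ φ : G → Spor.He, PH C[a] φ ∧ (∀ σ, ∃ g ∈ C[a], φ g = σ) ∧ ∀ g ∈ C[a], φ g = 1 ↔ g ∈ zpowers a

/-- chunk D: `G` is simple -/
def CD : Prop := ∀ {G : Type u} [Group G] [Finite G] {S Q Y A R : Subgroup G} {z t a x : G} {ψ : G → A7},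
  Hz S Q Y A R z t a x ψ → IsSimpleGroup G

/-- chunk HE: involution centralizers of the Held group -/
def HE : Prop := Finite Spor.He ∧ ∀ τ : Spor.He, τ * τ = 1 → τ ≠ 1 → #C[τ] = 161280 ∨ (#C[τ] = 21504 ∧
  ∃ E : Subgroup Spor.He, #E = 128 ∧ ¬ Ab E ∧ ∀ N, N ⊴ C[τ] → Sol N → N ≤ E)

/-- chunk SV: the survey of the known simple groups -/
def SV : Prop := ∀ {M : Type u} [Group M] [Finite M] [IsSimpleGroup M] {z a : M} {π : M → A7}, IsKnownSimple' M →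
  z ^ 7 = 1 → z ≠ 1 → PH C[z] π → (∀ σ, ∃ g ∈ C[z], π g = σ) → (∀ g ∈ C[z], π g = 1 ↔ g ∈ zpowers z) →
    a ^ 7 = 1 → PiG {2, 3, 7} C[a] → ¬ Sol C[a] → ¬ 343 ∣ Nat.card M →
      Spor.IsoCo1 M ∨ Spor.IsoTh M ∨ Spor.IsoB M

/-- chunk C: the centralizer of `t` -/
def CC : Prop := ∀ {G : Type u} [Group G] [Finite G] {W : Subgroup G} {z t a : G} {ψ : G → A7} {φ : G → Spor.He},
  IsCompositionKProper G → HC W z t a ψ φ → ∃ (Q : Subgroup C[t]) (_ : Q.Normal), IsExtraspecial 2 Q ∧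
    Nat.card Q = 2 ^ 25 ∧ Subgroup.centralizer (Q : Set C[t]) ≤ Q ∧ Spor.IsoCo1 (C[t] ⧸ Q)

end H16.M7

/- Plans.  Z = <z>, K = C[z], P = Q ⊓ C[a], X = C[a], D0 = C[z] ⊓ C[a].

CB.  #P = 7^4 (P Sylow in D0).  A is abelian (A ≤ R ≤ C(Y), A/Y cyclic), A ≤ P, Y ≤ X, T7 ≤ X ⊓ N(Y).
(1) O = O_7'(X) = 1: `El.le_of_cent_le` for Y; O ⊓ C[y] is T7-conjugate to U = O ⊓ C[z]; U and P normalize each other,
so U centralizes P ≥ A; if U ≠ 1 then D0 = P U ≤ N(A) (P ≤ S ≤ N(Y) ≤ N(A)), against x.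
(2) P is not abelian and Z(P) = <a, z> (FX_idx with CQ: abelian subgroups of Q have order ≤ 7^3).
(3) Every L normal in X with <a> < L contains P: 7 divides |L : <a>| (else a complement to <a> lies in O_7'(X));
p ∈ L ⊓ P outside <a> gives z ∈ L; Y ≤ L by tr; A = <a> Y ≤ L; P = A A^x ≤ L.
(4) Such L contains all 7-elements of X, so T7.  x ∈ L: otherwise L ⊓ D0 = P; take u ∈ T7 with u z u⁻¹ = z⁻¹; then
[u, x^i] ∈ L ⊓ D0 = P, so u normalizes the three distinct groups A, A^x, A^(x^2) of index 7 in P, so u is a scalar λ on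
P/<a,z> = 7^2 and acts on z = [p, q] as λ^2; but -1 is not a square mod 7.  D = N(Z) ⊓ X = N_X(P) (P' = Z) is
(L ⊓ D) D0 by tr, #D = 7^4 * 18, D ≤ L, Frattini: L = X.  So X/<a> is simple, known (PH.known; X ≠ G since a ∉ Z ≥ C(Q)),
S2215 (compK) gives L3(7), U3(7), He, ON, Fi24'; Sylow: |X/<a>| / (343 * 18) ≡ 1 mod 7 leaves He
(7'-parts mod 7: 5, 6, 4, 3, 1).

CD.  N normal, N ≠ 1.  If 7 ∤ |N|: N ⊓ C[z] centralizes Q so is trivial, tr and `El.le_of_cent_le` for Y give N = 1.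
Else z ∈ N (N ⊓ S meets Z(S)), Y ≤ N (tr), Q ≤ N (irr), S ⊓ C[t] ≤ N (dich), S ≤ N (WQ, index 7), so all
7-elements and T7 lie in N; ψ(N ⊓ K) = A7 (normal, nontrivial), t ∈ N (square of a lift of an involution, ns), K ≤ N,
N(Z) ≤ N (tr), Frattini with N(S) ≤ N(Z).

HE.  H15.IC.He (cov, c0ac_card, c1ac_card): two classes of involutions; S2134 + S5424 (n = 3): C = E : SL3(2), E
extraspecial of order 128; the image of a solvable normal subgroup in the simple group SL3(2) is trivial.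

SV.  |C[z]| = 17640.  H27.ID.known_cases.  Alternating: `Equiv.Perm.nat_card_centralizer` forces n = 14 (z a 7-cycle), then
C[a] has order divisible by 5 or is a 7-group.  Tits: 7 does not divide.  Sporadic: 49 ∣ order, 343 ∤ order.
Lie type in characteristic 7: H8.isCharP_cent_of_chev, but O_7(C[z]) = <z> is central.  Other p: `H16.M7.Cz p M`
(H16/M7L1, M7L2): p = 2: z * x, x over (123), centralizer 7 × 3 × A4; p = 3: x over (12)(34); else a * 1 with r = 2, 3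
makes the 3-elements and the 2-elements of C[a] commute, so C[a] is solvable.
-/
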