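import Cfsg.Agent.H27.MS1

/-! S5899, chunk MBS: an involution of `SL₃(3)` has a commutator space of dimension at least four. -/

set_option autoImplicit false
set_option linter.unusedVariables false
set_option synthInstance.maxSize 8000

namespace H16.MS
open Cfsg Subgroup H18 H17.GS H28.S H2.GW
open H19 hiding eq_bot_mono
open H28.NG hiding Hyp Uniq Ch
open H27.MS
open scoped MatrixGroups

abbrev Z3 := ZMod 3
abbrev T9 := Z3 × Z3 × Z3 × Z3 × Z3 × Z3 × Z3 × Z3 × Z3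

def mu : T9 → T9 → T9
  | (a, b, c, d, e, f, g, h, i), (a', b', c', d', e', f', g', h', i') =>
    (a * a' + b * d' + c * g', a * b' + b * e' + c * h', a * c' + b * f' + c * i',
     d * a' + e * d' + f * g', d * b' + e * e' + f * h', d * c' + e * f' + f * i',
     g * a' + h * d' + i * g', g * b' + h * e' + i * h', g * c' + h * f' + i * i')
def dt : T9 → Z3
  | (a, b, c, d, e, f, g, h, i) => a * e * i - a * f * h - b * d * i + b * f * g + c * d * h - c * e * g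
def dc (n : ℕ) : T9 := ((n : ℕ), (n / 3 : ℕ), (n / 9 : ℕ), (n / 27 : ℕ), (n / 81 : ℕ), (n / 243 : ℕ),
  (n / 729 : ℕ), (n / 2187 : ℕ), (n / 6561 : ℕ))
def LL : List ℕ := [13942, 14428, 14185, 14680, 14923, 15166, 3892, 14422, 14908, 13945, 3901, 15160, 14683, 3910, 14197, 3166, 14182, 15154, 13948, 14920, 3175, 14686, 14443, 3184, 4618, 7372, 8101, 6076, 7858, 8344, 5347, 7615, 8587, 4636, 6094, 5365, 4627, 6085, 5356, 4624, 7378, 8107, 4642, 8368, 7639, 4633, 7873, 8602, 4621, 7375, 8104, 4639, 7879, 8608, 4630, 8356, 7627, 1308, 1803, 975, 1056, 2028, 993, 984, 1548, 831, 1551, 829, 832, 835, 1549, 1555, 1552, 1791, 2034, 1309, 1804, 1708, 1303, 1789, 1717, 1726, 1792, 1315, 2050, 1069, 976, 1057, 2029, 994, 985, 1072, 2035, 14670, 14913, 15156, 8109, 8352, 8595, 3162, 14178, 15150, 14430, 3171, 14673, 14925, 3180, 13953, 5349, 7617, 8589, 8364, 5367, 7392, 7869, 5358,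 8112]
def o9 : T9 := (1, 0, 0, 0, 1, 0, 0, 0, 1)
def d9 : T9 := (1, 0, 0, 0, 2, 0, 0, 0, 2)

theorem cert : ∀ a b c d e f g h i : Z3, mu (a, b, c, d, e, f, g, h, i) (a, b, c, d, e, f, g, h, i) = o9 →
    dt (a, b, c, d, e, f, g, h, i) = 1 → (a, b, c, d, e, f, g, h, i) ≠ o9 →
    ∃ n ∈ LL, dt (dc n) = 1 ∧ mu (dc n) (a, b, c, d, e, f, g, h, i) = mu d9 (dc n) := by decide +kernel

def tt (x : SL(3, Z3)) : T9 := (x 0 0, x 0 1, x 0 2, x 1 0, x 1 1, x 1 2, x 2 0, x 2 1, x 2 2)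
def mk : (t : T9) → dt t = 1 → SL(3, Z3)
  | (a, b, c, d, e, f, g, h, i), k => ⟨!![a, b, c; d, e, f; g, h, i], by rw [Matrix.det_fin_three]; exact k⟩
theorem tt_mk (t : T9) (k : dt t = 1) : tt (mk t k) = t := rfl
theorem tt_mul (x y : SL(3, Z3)) : tt (x * y) = mu (tt x) (tt y) := by
  simp only [tt, mu, Matrix.SpecialLinearGroup.coe_mul, Matrix.mul_apply, Fin.sum_univ_three]
theorem tt_one : tt 1 = o9 := by decide
theorem tt_inj {x y : SL(3, Z3)} (h : tt x = tt y) : x = y := by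
  simp only [tt, Prod.mk.injEq] at h
  obtain ⟨h1, h2, h3, h4, h5, h6, h7, h8, h9⟩ := h
  ext i j
  fin_cases i <;> fin_cases j <;> assumption
theorem dt_tt (x : SL(3, Z3)) : dt (tt x) = 1 := by
  have := x.2
  rw [Matrix.det_fin_three] at this
  exact this

def dd : SL(3, Z3) := mk d9 (by decide)
def uu : SL(3, Z3) := mk (1, 0, 1, 1, 2, 2, 0, 0, 2) (by decide)
def vv : SL(3, Z3) := mk (1, 1, 0, 0, 2, 0, 2, 1, 2) (by decide)
def xx : SL(3, Z3) := mk (0, 1, 1, 2, 2, 2, 1, 1, 2) (by decide)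

theorem conj_dd {t : SL(3, Z3)} (h : t * t = 1) (h1 : t ≠ 1) : ∃ g, g * t * g⁻¹ = dd := by
  obtain ⟨n, -, k, e⟩ := cert (t 0 0) (t 0 1) (t 0 2) (t 1 0) (t 1 1) (t 1 2) (t 2 0) (t 2 1) (t 2 2)
    ((tt_mul t t).symm.trans (h ▸ tt_one)) (dt_tt t) (fun e => h1 (tt_inj (e.trans tt_one.symm)))
  refine ⟨mk (dc n) k, mul_inv_eq_iff_eq_mul.2 (tt_inj ?_)⟩
  rw [tt_mul, tt_mul, tt_mk]
  exact e

theorem uu_inv : uu⁻¹ = uu := inv_eq_of_mul_eq_one_left (tt_inj (by rw [tt_mul, tt_one]; decide))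
theorem vv_inv : vv⁻¹ = vv := inv_eq_of_mul_eq_one_left (tt_inj (by rw [tt_mul, tt_one]; decide))
theorem xx_eq : dd * (uu * dd * uu⁻¹) * (vv * dd * vv⁻¹) = xx := by
  rw [uu_inv, vv_inv]
  exact tt_inj (by simp only [tt_mul]; decide)
theorem xx_ne : xx ≠ 1 := fun e => absurd (congrArg tt e) (by rw [tt_one]; decide)
theorem xx_pow : xx ^ 13 = 1 := by
  refine tt_inj ?_
  simp only [pow_succ, pow_zero, one_mul, tt_mul, tt_one]
  decide +kernel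

theorem key {t : SL(3, Z3)} (h : t * t = 1) (h1 : t ≠ 1) : ∃ f g k : SL(3, Z3),
    (f * t * f⁻¹) * (g * t * g⁻¹) * (k * t * k⁻¹) = xx := by
  obtain ⟨g, e⟩ := conj_dd h h1
  refine ⟨g, uu * g, vv * g, ?_⟩
  rw [← xx_eq, ← e]
  group

universe u
variable {G : Type u} [Group G] [Finite G] {N Q T V₀ V E A B : Subgroup G} {a g x : G}

theorem cong {p : ℕ} [Fact p.Prime] (hg : g ∈ N(E)) (hp : g ^ p ∈ C(E)) : #E ≡ #(E ⊓ C[g] : Subgroup G) [MOD p] := by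
  classical
  have := Fintype.ofFinite E
  let f : Function.End E := fun x => ⟨g * x * g⁻¹, conj_mem_of_norm hg x.2⟩
  have k : ∀ n x, ((f ^ n) x : G) = g ^ n * x * (g ^ n)⁻¹ := fun n => by
    induction n with
    | zero => intro x; simp; rfl
    | succ n ih => intro x; rw [pow_succ', pow_succ']; show g * ((f ^ n) x : G) * g⁻¹ = _; rw [ih]; group
  have := Equiv.Perm.card_fixedPoints_modEq (f := f) (p := p) (n := 1) (funext fun x => Subtype.ext (by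
    rw [k, pow_one, ← mem_cent.1 hp x x.2, mul_inv_cancel_right]; rfl))
  rw [← Nat.card_eq_fintype_card, ← Nat.card_eq_fintype_card] at this
  rwa [← Nat.card_congr (α := (E ⊓ C[g] : Subgroup G)) (β := Function.fixedPoints f) ⟨fun x => ⟨⟨x.1, x.2.1⟩,
      Subtype.ext (mul_inv_eq_iff_eq_mul.2 (mem_cent1.1 x.2.2).symm)⟩, fun x => ⟨x.1, x.1.2, mem_cent1.2
    (mul_inv_eq_iff_eq_mul.1 (congrArg Subtype.val x.2)).symm⟩, fun _ => rfl, fun _ => rfl⟩] at this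

theorem eb_cj {e : ℕ} (s : Sec N Q V₀ V) (hg : g ∈ N) (h : Eb V₀ V a e) :
    (Cm V₀ (zpowers (g * a * g⁻¹))).relIndex V ≤ 2 ^ e := by
  have k : cj g (V ⊓ Cm V₀ (zpowers a)) = V ⊓ Cm V₀ (zpowers (g * a * g⁻¹)) := by
    rw [cj_inf, cj_Cm, cj_zpowers, cj_of_mem_norm (s.nV hg), cj_of_mem_norm (s.n0 hg)]
  unfold Eb at h
  rw [← card_cj g (V ⊓ _), k, inf_comm] at h
  have := card_inf_mul_relIndex (Cm V₀ (zpowers (g * a * g⁻¹))) V
  rw [← this, mul_comm (2 ^ e)] at h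
  exact Nat.le_of_mul_le_mul_left h Nat.card_pos

/-- the kernel of the action on a section -/
theorem sec_ker (f : Fr N Q T) (s : Sec N Q V₀ V) (hx : x ∈ N) (h : x ∈ Cm V₀ V) : x ∈ Q := by
  rcases f.smp (N ⊓ Cm V₀ V) ⟨inf_le_left, norms_inf le_normalizer (norms_Cm s.n0 s.nV)⟩ with k | k
  · exact k ⟨hx, h⟩
  · exact absurd (k ▸ inf_le_right) s.nc

theorem sec_mod {p : ℕ} [Fact p.Prime] (s : Sec N Q V₀ V) (hx : x ∈ N) (hp : x ^ p ∈ Q) :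
    #V ≡ #(V ⊓ Cm V₀ (zpowers x) : Subgroup G) [MOD p] := by
  have z : zpowers x ≤ N(V₀) := zpowers_le.2 (s.n0 hx)
  have h1 : qm V₀ x ∈ N(quo V₀ V) := quo_norms s.nV (qm_mem (s.n0 hx) hx)
  have h2 : qm V₀ x ^ p ∈ C(quo V₀ V) := by
    rw [← qm_pow (s.n0 hx)]
    exact (quo_cents_iff (s.cq.trans Cm_le_norm) s.ea.norm).2 (commg_of_Cm s.cq)
      (qm_mem (pow_mem (s.n0 hx) p) hp)
  have := (cong h1 h2).mul_left #V₀
  rwa [← cent_zpowers, ← quo_zp (s.n0 hx), ← quo_Cm z, ← card_eq_quo s.ea.le s.ea.norm,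
    ← card_eq_quo (s.ea.leC z) (inf_le_left.trans s.ea.norm)] at this

theorem ord13 (f : Fr N Q T) (s : Sec N Q V₀ V) (hx : x ∈ N) (h1 : x ∉ Q) (hp : x ^ 13 ∈ Q) :
    ¬ (Cm V₀ (zpowers x)).relIndex V ≤ 512 := fun h => by
  have : Fact (Nat.Prime 13) := ⟨by norm_num⟩
  have : Fact (Nat.Prime 2) := ⟨by norm_num⟩
  have m := sec_mod s hx hp
  have e := card_inf_mul_relIndex (Cm V₀ (zpowers x)) V
  obtain ⟨n, hn⟩ := s.ea.pgV.isPGroup.exists_card_eq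
  rw [inf_comm] at e
  obtain ⟨d, -, hd⟩ := (Nat.dvd_prime_pow Nat.prime_two).1 (hn ▸ Dvd.intro_left _ e)
  obtain ⟨c, -, hc⟩ := (Nat.dvd_prime_pow Nat.prime_two).1 (hn ▸ Dvd.intro _ e)
  rw [← e, hc, hd] at m
  have m2 : 2 ^ d ≡ 1 [MOD 13] := Nat.ModEq.cancel_left_of_coprime (c := 2 ^ c)
    (Nat.Coprime.pow_right _ (by norm_num)) (by rwa [mul_one])
  rw [hd] at h
  have d9 : d ≤ 9 := (Nat.pow_le_pow_iff_right (by norm_num : 1 < 2)).1 (by simpa using h)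
  have d0 : d = 0 := by interval_cases d <;> first | rfl | exact absurd m2 (by decide)
  rw [d0, pow_zero, relIndex_eq_one] at hd
  exact h1 (sec_ker f s hx (mem_Cm_of (s.n0 hx) hd))

theorem mbs : MBS.{u} := by
  intro G _ _ N Q T V₀ V a f l s ⟨ha, a1, a2⟩ h
  obtain ⟨π, hπ, hk⟩ := l
  obtain ⟨g₁, g₂, g₃, e⟩ := key (t := π ⟨a, ha⟩) (by rw [← map_mul]; exact (hk _).2 a2) fun e => a1 ((hk _).1 e)
  obtain ⟨g₁, rfl⟩ := hπ g₁
  obtain ⟨g₂, rfl⟩ := hπ g₂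
  obtain ⟨g₃, rfl⟩ := hπ g₃
  simp only [← map_mul, ← map_inv] at e
  set x : N := g₁ * ⟨a, ha⟩ * g₁⁻¹ * (g₂ * ⟨a, ha⟩ * g₂⁻¹) * (g₃ * ⟨a, ha⟩ * g₃⁻¹) with hx
  refine ord13 f s x.2 (fun k => xx_ne (e ▸ (hk x).2 k)) ((hk (x ^ 13)).1 (by rw [map_pow, e, xx_pow])) ?_
  have b : ∀ g : N, (g : G) * a * (g : G)⁻¹ ∈ N(V₀) := fun g => s.n0 (mul_mem (mul_mem g.2 ha) (inv_mem g.2))
  set D := V ⊓ (Cm V₀ (zpowers (g₁ * a * (g₁ : G)⁻¹)) ⊓ Cm V₀ (zpowers (g₂ * a * (g₂ : G)⁻¹)) ⊓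
    Cm V₀ (zpowers (g₃ * a * (g₃ : G)⁻¹))) with hD
  have k : (x : G) ∈ Cm V₀ D := mul_mem (mul_mem (mem_Cm_of (b g₁) fun w hw => hw.2.1.1)
    (mem_Cm_of (b g₂) fun w hw => hw.2.1.2)) (mem_Cm_of (b g₃) fun w hw => hw.2.2)
  have l : D ≤ Cm V₀ (zpowers (x : G)) := fun w hw => mem_Cm_symm k hw (s.ea.norm hw.1)
  refine (relIndex_le_of_le_left l (index_ne_zero_of_finite)).trans ?_
  rw [hD, inf_relIndex_left]
  refine relIndex_inf_le.trans ((Nat.mul_le_mul relIndex_inf_le (eb_cj s g₃.2 h)).trans ?_)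
  exact (Nat.mul_le_mul_right _ (Nat.mul_le_mul (eb_cj s g₁.2 h) (eb_cj s g₂.2 h))).trans (by norm_num)

end H16.MS
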