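import Cfsg.Agent.H8.MS1

/-! S5899, part 3: the centralizer of a point is not of type `L₃(2)`; the local computation. -/

set_option autoImplicit false
set_option linter.unusedVariables false
set_option linter.unusedSectionVars false
set_option synthInstance.maxSize 8000

namespace H16.MT
open Cfsg Subgroup H18 H17.GS H28.S H2.GW
open H19 hiding eq_bot_mono
open H28.NG hiding Hyp Uniq Ch
open H27.MS
open H8.MS (L3 xa xb xz sa sb t8 Up up_iff θ std Md exMd two)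
open scoped MatrixGroups

universe u

def w0 : L3 := sa * sb * sa
def φ : L3 →* L3 := (MulAut.conj w0).toMonoidHom.comp θ
theorem φ_ap (g : L3) : φ g = w0 * θ g * w0⁻¹ := rfl
theorem φ_up : ∀ g : L3, Up (w0 * θ g * w0⁻¹) ↔ Up g := by decide +kernel
theorem φ_sb : w0 * θ sb * w0⁻¹ = sa := by decide +kernel
theorem φ_inj : Function.Injective φ := (MulAut.conj w0).injective.comp (Function.LeftInverse.injective H8.MS.θθ)
theorem dz : ∀ i, t8 i = 1 ∨ t8 i = xz ∨ ∃ j, t8 j * t8 i * (t8 j)⁻¹ * (t8 i)⁻¹ = xz := by decide +kernel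
theorem db : ∀ g : L3, Up (g * xz * g⁻¹) → Up g ∨ ∃ i j, t8 i * g * t8 j = sa ∨ t8 i * g * t8 j = sb := by
  decide +kernel
theorem dr : ∀ i, Up (sa * t8 i * sa⁻¹) → t8 i ∈ [1, xz, xb, xb * xz] := by decide +kernel
theorem dt : ∀ r ∈ [1, xz, xb, xb * xz], ∀ r' ∈ [1, xz, xb, xb * xz], r ≠ 1 → r' ≠ 1 →
    ∃ g ∈ [1, sa, xa, sa * xa, xa * sa, sa * xa * sa], g * r * g⁻¹ = r' := by decide +kernel
theorem bru : ∀ g : L3, ∃ i j, ∃ n ∈ [1, sa, sb, sa * sb, sb * sa, sa * sb * sa], g = t8 i * n * t8 j := by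
  decide +kernel
theorem rl : xz = xa * xb * (xa * xb) ∧ sa * xz * sa⁻¹ = xb ∧ sb * xz = xa * sb ∧ sb = xb * (sb * xb * sb) * xb ∧
    xa * xa = 1 ∧ sa * sa = 1 ∧ sb * sb = 1 ∧ xb * sa = sa * xz ∧ xz * sa = sa * xb ∧ sa * (sb * sa) = sb * sa * sb ∧
    xa * (sb * sa) = sb * sa * xb ∧ xb * (sb * sa) = sb * sa * sb * sa * xa * sa * sb ∧ xz * (sb * sa) = sb * xa * sa ∧
    xa ∉ [1, xz, xb, xb * xz] ∧ Up xa := by decide +kernel

theorem gen {p : L3 → Prop} (h1 : p 1) (hm : ∀ a b, p a → p b → p (a * b)) (a : p xa) (b : p xb) (c : p sa)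
    (d : p sb) (g : L3) : p g := by
  have z : p xz := rl.1 ▸ hm _ _ (hm _ _ a b) (hm _ _ a b)
  have t : ∀ i, p (t8 i) := fun i => by
    fin_cases i
    exacts [h1, a, b, z, hm _ _ a b, hm _ _ b a, hm _ _ a z, hm _ _ b z]
  obtain ⟨i, j, n, hn, rfl⟩ := bru g
  refine hm _ _ (hm _ _ (t i) ?_) (t j)
  simp only [List.mem_cons, List.not_mem_nil, or_false] at hn
  rcases hn with rfl | rfl | rfl | rfl | rfl | rfl
  exacts [h1, c, d, hm _ _ c d, hm _ _ d c, hm _ _ (hm _ _ c d) c]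

section
variable {W : Type u} [AddCommGroup W] [Module (ZMod 2) W] {ρ : Representation (ZMod 2) L3 W} {v w : W}
theorem mu (g h : L3) (w : W) : ρ g (ρ h w) = ρ (g * h) w := by rw [map_mul]; rfl

/-- a quadratic four-group -/
theorem fixb (q : ∀ u, ρ xb (ρ xz u + u) = ρ xz u + u) (e : ρ xa v + v = w) (b : ρ xb w = w) :
    ρ xa w = w ∧ ρ sb w = w := by
  obtain ⟨-, -, r3, r4, r5, -, r7, -⟩ := rl
  have a : ρ xa w = w := by rw [← e, map_add, mu, r5, map_one, Module.End.one_apply, add_comm]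
  have k := congrArg (ρ sb) (q (ρ sb v))
  have s : ρ sb (ρ xz (ρ sb v) + ρ sb v) = w := by
    rw [map_add, mu, mu, mu, r3, mul_assoc, r7, mul_one, map_one, Module.End.one_apply, e]
  have s' : ρ xz (ρ sb v) + ρ sb v = ρ sb w := by rw [← s, mu sb sb, r7, map_one, Module.End.one_apply]
  rw [s, s', mu, mu] at k
  exact ⟨a, by rw [r4, ← mu, ← mu, b, k, b]⟩

theorem span3 (a : ρ xa w = w) (b : ρ xb w = w) (d : ρ sb w = w) (c : ρ xa (ρ sa w) = w + ρ sa w) :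
    (∀ g, ∀ u ∈ Submodule.span (ZMod 2) {w, ρ sa w, ρ (sb * sa) w},
      ρ g u ∈ Submodule.span (ZMod 2) {w, ρ sa w, ρ (sb * sa) w}) ∧
    ∀ r ∈ [1, xz, xb, xb * xz], ∀ u ∈ Submodule.span (ZMod 2) {w, ρ sa w, ρ (sb * sa) w},
      ρ r u + u ∈ Submodule.span (ZMod 2) {w, ρ sa w} := by
  obtain ⟨r1, -, r3, r4, r5, r6, r7, r8, r9, r10, r11, r12, r13, -⟩ := rl
  have z : ρ xz w = w := by rw [r1, ← mu, ← mu xa xb w, b, a, ← mu, b, a]
  have b2 : ρ xb (ρ sa w) = ρ sa w := by rw [mu, r8, ← mu, z]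
  have z2 : ρ xz (ρ sa w) = ρ sa w := by rw [mu, r9, ← mu, b]
  have ss : ρ sa (ρ sa w) = w := by rw [mu, r6, map_one, Module.End.one_apply]
  have c3 : ρ sa (ρ (sb * sa) w) = ρ (sb * sa) w := by rw [mu, r10, ← mu, d]
  have a3 : ρ xa (ρ (sb * sa) w) = ρ (sb * sa) w := by rw [mu, r11, ← mu, b]
  have d3 : ρ sb (ρ (sb * sa) w) = ρ sa w := by rw [mu, ← mul_assoc, r7, one_mul]
  have b3 : ρ xb (ρ (sb * sa) w) = ρ (sb * sa) w + ρ sa w := by
    rw [mu xb, r12, ← mu, d, ← mu, ← mu, c, ← mu, map_add (ρ sa), ss, ← mu, map_add (ρ sb), d, mu sb sa, ← mu sb sa,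
      map_add (ρ sa), c3, map_add, d3, mu, add_comm]
  have z3 : ρ xz (ρ (sb * sa) w) = ρ (sb * sa) w + w := by
    rw [mu xz, r13, ← mu, ← mu, c, map_add, d, mu, add_comm]
  set S := Submodule.span (ZMod 2) {w, ρ sa w, ρ (sb * sa) w}
  set S' := Submodule.span (ZMod 2) {w, ρ sa w}
  have m1 : w ∈ S := Submodule.subset_span (by simp)
  have m2 : ρ sa w ∈ S := Submodule.subset_span (by simp)
  have m3 : ρ (sb * sa) w ∈ S := Submodule.subset_span (by simp)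
  have n1 : w ∈ S' := Submodule.subset_span (by simp)
  have n2 : ρ sa w ∈ S' := Submodule.subset_span (by simp)
  have k : ∀ (f : W →ₗ[ZMod 2] W) (X : Submodule (ZMod 2) W), f w ∈ X → f (ρ sa w) ∈ X → f (ρ (sb * sa) w) ∈ X →
      ∀ u ∈ S, f u ∈ X := fun f X p q r => (Submodule.span_le (p := X.comap f)).2 (by
    rintro _ (rfl | rfl | rfl)
    exacts [p, q, r])
  refine ⟨gen (p := fun g => ∀ u ∈ S, ρ g u ∈ S) (fun u h => by simpa using h)
    (fun g h p q u hu => mu g h u ▸ p _ (q _ hu)) (k _ _ ?_ ?_ ?_) (k _ _ ?_ ?_ ?_) (k _ _ m2 ?_ ?_) (k _ _ ?_ ?_ ?_),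
    fun r hr => k (ρ r + LinearMap.id) S' ?_ ?_ ?_⟩
  · rwa [a]
  · rw [c]; exact add_mem m1 m2
  · rwa [a3]
  · rwa [b]
  · rwa [b2]
  · rw [b3]; exact add_mem m3 m2
  · rwa [ss]
  · rwa [c3]
  · rwa [d]
  · rwa [mu]
  · rwa [d3]
  all_goals
    simp only [List.mem_cons, List.not_mem_nil, or_false] at hr
    rcases hr with rfl | rfl | rfl | rfl <;>
      simp only [LinearMap.add_apply, LinearMap.id_apply, map_one, Module.End.one_apply, ← mu xb xz, z, b, z2, b2, z3, b3,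
        map_add, two, zero_mem]
  · rw [add_right_comm, two, zero_add]; exact n1
  · rw [add_right_comm, two, zero_add]; exact n2
  · rw [add_assoc (ρ (sb * sa) w), add_right_comm, two, zero_add]; exact add_mem n2 n1
end

end H16.MT
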