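import Cfsg.Agent.H16.MS2

/-! S5899, part 3: the centralizer of a point is not of type `L₃(2)`; the group part. -/

set_option autoImplicit false
set_option linter.unusedVariables false
set_option linter.unusedSectionVars false

namespace H16.MT
open Cfsg Subgroup H18 H17.GS H28.S H2.GW
open H19 hiding eq_bot_mono
open H28.NG hiding Hyp Uniq Ch
open H27.MS
open H8.MS (L3 xa xb xz sa sb t8 Up up_iff θ std Md exMd two)
open scoped MatrixGroups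

universe u
variable {G : Type u} [Group G] [Finite G] {C D T P Q V U A B M : Subgroup G} {p a : G}

theorem two_le (h : A < B) : 2 * #A ≤ #B := by
  have e := card_inf_mul_relIndex A B
  rw [inf_eq_left.2 h.le] at e
  have h0 : A.relIndex B ≠ 0 := index_ne_zero_of_finite
  have h1 : A.relIndex B ≠ 1 := fun k => h.not_ge (relIndex_eq_one.1 k)
  rw [← e, mul_comm]
  exact Nat.mul_le_mul_left _ (by omega)

theorem cinf (h1 : A ≤ M) (h2 : B ≤ M) : #A * #B ≤ #M * #(A ⊓ B : Subgroup G) := by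
  have e1 := card_inf_mul_relIndex A B
  have e2 := card_inf_mul_relIndex A M
  rw [inf_eq_left.2 h1] at e2
  have := relIndex_le_of_le_right (H := A) h2 index_ne_zero_of_finite
  rw [← e1, ← e2, mul_comm #(A ⊓ B : Subgroup G), ← mul_assoc]
  exact Nat.mul_le_mul_right _ (Nat.mul_le_mul_left _ this)

theorem φ_sur : Function.Surjective φ := Finite.injective_iff_surjective.1 φ_inj

structure Cf (C D T P Q V U : Subgroup G) (p : G) : Prop where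
  fr : Fr C D T
  l7 : L7 C D
  TP : T ≤ P
  PC : P ≤ C
  nT : ¬ P ≤ T
  Qn : P ≤ N(Q)
  QT : Q ≤ T
  cV : C(V) = Q
  nV : P ≤ N(V)
  eU : U = Kc V C
  ab : Abelem 2 U
  UD : U ≤ D
  cD : ⁅U, D⁆ ≤ zpowers p
  pV : p ∈ V
  p1 : p ≠ 1
  pC : C ≤ C[p]
  nD : ¬ D ≤ Q
  nQ : ¬ Q ≤ D
  c8 : #V = 8
  c4 : #(Q ⊔ D : Subgroup G) = 4 * #D
  uni : ∀ X, X ≤ V → P ≤ N(X) → X = ⊥ ∨ X = zpowers p ∨ X = V
  ker : ∀ g ∈ P, g ∈ Cm (zpowers p) V → g ∈ Q ⊔ D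

structure St (C D P Q : Subgroup G) (π : C →* L3) (s x z b : C) : Prop where
  sur : Function.Surjective π
  ker : ∀ g, π g = 1 ↔ g.1 ∈ D
  sP : s.1 ∈ P
  xP : x.1 ∈ P
  zQ : z.1 ∈ Q
  bQ : b.1 ∈ Q
  es : π s = sa
  ex : π x = xa
  ez : π z = xz
  eb : π b = xb
  ra : ∀ q : C, q.1 ∈ Q → π q ∈ [1, xz, xb, xb * xz]

namespace Cf
variable (h : Cf C D T P Q V U p)
include h
theorem QC : Q ≤ C := h.QT.trans h.fr.syl.le
theorem VU : V ≤ U := h.eU ▸ le_Kc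
theorem nU : C ≤ N(U) := h.eU ▸ Kc_norm
theorem nZ : C ≤ N(U ⊓ C(D)) := norms_inf h.nU (norms_cent h.fr.nq.norm)
theorem pp : p * p = 1 := sq_one h.ab (h.VU h.pV)
theorem pZ : zpowers p ≤ U ⊓ C(D) := le_inf (zpowers_le.2 (h.VU h.pV)) (cents_symm (zp_cent (h.fr.nq.le.trans h.pC)))
theorem VZ : V ⊓ (U ⊓ C(D)) = zpowers p := by
  rcases h.uni _ inf_le_left (norms_inf h.nV (h.PC.trans h.nZ)) with e | e | e
  · exact absurd (e.le ⟨h.pV, h.pZ (mem_zpowers p)⟩) h.p1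
  · exact e
  · exact absurd (h.cV ▸ cents_symm (e.ge.trans (inf_le_right.trans inf_le_right))) h.nD
theorem cq : D ≤ Cm (U ⊓ C(D)) U := le_Cm (h.fr.nq.le.trans h.nZ) (by rw [commutator_comm]; exact h.cD.trans h.pZ)

theorem exz {π : C →* L3} (s : Function.Surjective π) (k : ∀ g, π g = 1 ↔ g.1 ∈ D) (t : ∀ g : C, g.1 ∈ T ↔ Up (π g)) :
    ∃ z : C, z.1 ∈ Q ∧ π z = xz := by
  obtain ⟨q, hq, q0⟩ := SetLike.not_le_iff_exists.1 h.nQ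
  obtain ⟨i, e⟩ := (up_iff _).1 ((t ⟨q, h.QC hq⟩).1 (h.QT hq))
  rcases dz i with f | f | ⟨j, f⟩
  · exact absurd ((k _).1 (e ▸ f)) q0
  · exact ⟨_, hq, e ▸ f⟩
  · obtain ⟨y, hy⟩ := s (t8 j)
    refine ⟨y * ⟨q, h.QC hq⟩ * y⁻¹ * ⟨q, h.QC hq⟩⁻¹, mul_mem (conj_mem_of_norm
      (h.Qn (h.TP ((t y).2 (hy ▸ (up_iff _).2 ⟨j, rfl⟩)))) hq) (inv_mem hq), ?_⟩
    rw [map_mul, map_mul, map_mul, map_inv, map_inv, hy, ← e, f]

theorem st0 : ∃ π : C →* L3, Function.Surjective π ∧ (∀ g, π g = 1 ↔ g.1 ∈ D) ∧ (∀ g : C, g.1 ∈ T ↔ Up (π g)) ∧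
    ∃ s : C, s.1 ∈ P ∧ π s = sa := by
  obtain ⟨π, s, k, t⟩ := std h.fr h.l7
  obtain ⟨z, zQ, ez⟩ := h.exz s k t
  obtain ⟨g, hg, g0⟩ := SetLike.not_le_iff_exists.1 h.nT
  have u := (t (⟨g, h.PC hg⟩ * z * ⟨g, h.PC hg⟩⁻¹)).1 (h.QT (conj_mem_of_norm (h.Qn hg) zQ))
  rw [map_mul, map_mul, map_inv, ez] at u
  obtain ⟨i, j, e⟩ := (db _ u).resolve_left fun c => g0 ((t ⟨g, h.PC hg⟩).2 c)
  obtain ⟨y, hy⟩ := s (t8 i)
  obtain ⟨y', hy'⟩ := s (t8 j)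
  have m : (y * ⟨g, h.PC hg⟩ * y' : C).1 ∈ P := mul_mem (mul_mem (h.TP ((t y).2 (hy ▸ H8.MS.t8U i))) hg)
    (h.TP ((t y').2 (hy' ▸ H8.MS.t8U j)))
  rw [← hy, ← hy', ← map_mul, ← map_mul] at e
  rcases e with e | e
  · exact ⟨π, s, k, t, _, m, e⟩
  · refine ⟨φ.comp π, fun y => ?_, fun g => ?_, fun g => ?_, _, m, ?_⟩
    · obtain ⟨y, rfl⟩ := φ_sur y
      obtain ⟨y, rfl⟩ := s y
      exact ⟨y, rfl⟩
    · rw [MonoidHom.comp_apply, map_eq_one_iff φ φ_inj, k]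
    · rw [MonoidHom.comp_apply, φ_ap, φ_up, t, H8.MS.mem_U]
    · rw [MonoidHom.comp_apply, e, φ_ap, φ_sb]

theorem st : ∃ π s x z b, St C D P Q π s x z b := by
  obtain ⟨π, s, k, t, y, yP, e⟩ := h.st0
  obtain ⟨z, zQ, ez⟩ := h.exz s k t
  obtain ⟨x, ex⟩ := s xa
  refine ⟨π, y, x, z, y * z * y⁻¹, s, k, yP, h.TP ((t x).2 (ex ▸ rl.2.2.2.2.2.2.2.2.2.2.2.2.2.2)), zQ,
    conj_mem_of_norm (h.Qn yP) zQ, e, ex, ez, by rw [map_mul, map_mul, map_inv, e, ez, rl.2.1], fun q hq => ?_⟩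
  obtain ⟨i, f⟩ := (up_iff _).1 ((t q).1 (h.QT hq))
  have u := (t (y * q * y⁻¹)).1 (h.QT (conj_mem_of_norm (h.Qn yP) hq))
  rw [map_mul, map_mul, map_inv, e, ← f] at u
  exact f ▸ dr i u

theorem fin (el : EL.{u}) (one : One C D) (ha : a ∈ Q) (a0 : a ∉ D) (aa : a * a = 1)
    (hm : ∀ q ∈ Q, ∀ u ∈ U, q * u * q⁻¹ * u⁻¹ ∈ V ⊔ U ⊓ C(D)) : False := by
  obtain ⟨π, s, x, z, b, t⟩ := h.st
  have DC := h.fr.nq.le
  have n0 : C ≤ N(D ⊓ C(U)) := norms_inf h.fr.nq.norm (norms_cent h.nU)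
  have cp : ∀ x ∈ D, ∀ u ∈ U, ∃ c, x * u * x⁻¹ = c * u ∧ c * c = 1 ∧ ∀ g ∈ C, g * c = c * g := fun x hx u hu => by
    have k := inv_mem (commg_le_iff.1 h.cD u hu x hx)
    exact ⟨_, by group, sq_one h.ab (h.pZ k).1, fun g hg => (mem_cent.1 (zp_cent h.pC hg) _ k).symm⟩
  have k1 : ∀ x ∈ D, x * x ∈ D ⊓ C(U) := fun x hx => ⟨mul_mem hx hx, mem_cent.2 fun u hu => by
    obtain ⟨c, e, cc, f⟩ := cp x hx u hu
    have : x * x * u * (x * x)⁻¹ = u := by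
      rw [show x * x * u * (x * x)⁻¹ = x * (x * u * x⁻¹) * x⁻¹ by group, e, ← mul_assoc, f x (DC hx), mul_assoc c,
        mul_assoc c, e, ← mul_assoc, cc, one_mul]
    exact (mul_inv_eq_iff_eq_mul.1 this).symm⟩
  have k2 : ∀ x ∈ D, x ∈ Q → ∀ q ∈ Q, x⁻¹ * (q * x * q⁻¹) ∈ D ⊓ C(U) := fun x hx xQ q hq =>
    ⟨D.mul_mem (D.inv_mem hx) (conj_mem_of_norm (h.fr.nq.norm (h.QC hq)) hx), mem_cent.2 fun u hu => by
      obtain ⟨c, e, cc, f⟩ := cp x hx u hu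
      have m := hm _ (inv_mem hq) u hu
      have m1 : V ⊔ U ⊓ C(D) ≤ C[x] := sup_le (fun v hv => mem_cent1.2 (mem_cent.1 (h.cV.ge xQ) v hv))
        fun v hv => mem_cent1.2 (mem_cent.1 hv.2 x hx).symm
      have m2 := f _ (DC (h.UD ((sup_le h.VU inf_le_left :) m)))
      have m3 := mem_cent1.1 (m1 m)
      set y := q⁻¹ * u * q⁻¹⁻¹ * u⁻¹ with hy
      have : x⁻¹ * (q * x * q⁻¹) * u * (x⁻¹ * (q * x * q⁻¹))⁻¹ = u := by
        rw [show x⁻¹ * (q * x * q⁻¹) * u * (x⁻¹ * (q * x * q⁻¹))⁻¹ = x⁻¹ * (q * (x * y * u * x⁻¹) * q⁻¹) * x by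
          rw [hy]; group, ← m3, mul_assoc y, mul_assoc y, e, ← mul_assoc y, m2, mul_assoc c, ← mul_assoc q,
          f q (h.QC hq), show c * q * (y * u) * q⁻¹ = c * u by rw [hy]; group, ← e]
        group
      exact (mul_inv_eq_iff_eq_mul.1 this).symm⟩
  have sq : ∀ q ∈ Q, q * q ∈ D ⊓ C(U) := fun q hq => by
    by_cases q0 : q ∈ D
    · exact k1 q q0
    obtain ⟨g, hg, e⟩ := dt _ (t.ra ⟨a, h.QC ha⟩ ha) _ (t.ra ⟨q, h.QC hq⟩ hq) (fun c => a0 ((t.ker _).1 c))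
      fun c => q0 ((t.ker _).1 c)
    obtain ⟨y, yP, rfl⟩ : ∃ y : C, y.1 ∈ P ∧ π y = g := by
      simp only [List.mem_cons, List.not_mem_nil, or_false, ← t.es, ← t.ex, ← map_mul] at hg
      rcases hg with rfl | rfl | rfl | rfl | rfl | rfl
      exacts [⟨1, one_mem _, map_one _⟩, ⟨_, t.sP, rfl⟩, ⟨_, t.xP, rfl⟩, ⟨_, mul_mem t.sP t.xP, rfl⟩,
        ⟨_, mul_mem t.xP t.sP, rfl⟩, ⟨_, mul_mem (mul_mem t.sP t.xP) t.sP, rfl⟩]
    have c : q * (y.1 * a * y.1⁻¹)⁻¹ ∈ D := (t.ker (⟨q, h.QC hq⟩ * (y * ⟨a, h.QC ha⟩ * y⁻¹)⁻¹)).1 (by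
      rw [map_mul, map_inv, map_mul, map_mul, map_inv, e, mul_inv_cancel])
    have a1 := conj_mem_of_norm (h.Qn yP) ha
    have := mul_mem (k1 _ c) (k2 _ c (mul_mem hq (inv_mem a1)) _ a1)
    rwa [show q * (y.1 * a * y.1⁻¹)⁻¹ * (q * (y.1 * a * y.1⁻¹)⁻¹) * ((q * (y.1 * a * y.1⁻¹)⁻¹)⁻¹ * (y.1 * a * y.1⁻¹ *
      (q * (y.1 * a * y.1⁻¹)⁻¹) * (y.1 * a * y.1⁻¹)⁻¹)) = q * q * (y.1 * (a * a) * y.1⁻¹)⁻¹ by group, aa, mul_one, mul_inv_cancel,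
      inv_one, mul_one] at this
  refine el h.fr (.inl h.l7) (n := 0) one ⟨inf_le_left.trans DC, n0⟩ (inf_lt_left.2 fun c => h.nD ?_)
    ⟨h.QT, h.TP.trans h.Qn⟩ (commg_le_iff.2 fun x hx y hy => ?_) sq h.c4 (h.QC ha) a0 (aa ▸ one_mem _)
  · exact h.cV ▸ cents_symm (h.VU.trans (cents_symm c))
  · rw [show x * y * x⁻¹ * y⁻¹ = x * y * (x * y) * (y⁻¹ * (x * x)⁻¹ * y) * (y * y)⁻¹ by group]
    exact mul_mem (mul_mem (sq _ (mul_mem hx hy)) (conj_mem_of_norm' (n0 (h.QC hy)) (inv_mem (sq x hx))))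
      (inv_mem (sq y hy))

/-- some element of `P` moves `V/⟨p⟩` -/
theorem mv {π : C →* L3} {s x z b : C} (t : St C D P Q π s x z b) : ∃ v ∈ V, x.1 * v * x.1⁻¹ * v⁻¹ ∉ zpowers p := by
  by_contra c
  push Not at c
  obtain ⟨d, hd, q, hq, e⟩ := (mem_sup_of_norm (h.QC.trans h.fr.nq.norm)).1
    (sup_comm Q D ▸ h.ker _ t.xP ⟨cent1_le_norm_zpowers p (h.pC x.2), c⟩)
  have := t.ra ⟨q, h.QC hq⟩ hq
  rw [show π ⟨q, h.QC hq⟩ = xa by rw [← t.ex, show x = ⟨d, h.fr.nq.le hd⟩ * ⟨q, h.QC hq⟩ from Subtype.ext e, map_mul,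
    (t.ker ⟨d, h.fr.nq.le hd⟩).2 hd, one_mul]] at this
  exact rl.2.2.2.2.2.2.2.2.2.2.2.2.2.1 this

theorem ncU : ¬ C ≤ Cm (U ⊓ C(D)) U := fun c => by
  obtain ⟨π, s, x, z, b, t⟩ := h.st
  obtain ⟨v, hv, n⟩ := h.mv t
  exact n (h.VZ.le ⟨V.mul_mem (conj_mem_of_norm (h.nV t.xP) hv) (V.inv_mem hv), (c x.2).2 v (h.VU hv)⟩)

/-- the case of a small commutator space -/
theorem caseB (fu : FU.{u}) (mb : MB1.{u}) (ha : a ∈ Q) (a0 : a ∉ D) (c : #U ≤ 4 * #(U ⊓ C[a] : Subgroup G)) :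
    ∀ q ∈ Q, ∀ u ∈ U, q * u * q⁻¹ * u⁻¹ ∈ V ⊔ U ⊓ C(D) := by
  have DC := h.fr.nq.le
  have n0 : C ≤ N(U ⊓ C(C)) := norms_inf h.nU (norms_cent le_normalizer)
  obtain ⟨X, ⟨x1, x2, x3⟩, xm⟩ := (wellFounded_lt (α := Subgroup G)).has_min {X | U ⊓ C(C) < X ∧ X ≤ U ∧ C ≤ N(X)}
    ⟨U, inf_lt_left.2 fun k => h.nD (h.cV ▸ DC.trans (cents_symm (h.VU.trans k))), le_rfl, h.nU⟩
  have nc : ¬ C ≤ C(X) := fun k => x1.not_ge (le_inf x2 (cents_symm k))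
  have XZ : X ≤ U ⊓ C(D) := le_inf x2 (cents_symm (fu h.fr (abelem_mono h.ab x2) x1.le (x2.trans h.UD) x3
    (cents_symm inf_le_right) (fun Y y1 y2 y3 => y1.eq_or_lt.imp Eq.symm fun k =>
      y2.eq_or_lt.resolve_right (xm Y ⟨k, y2.trans x2, y3⟩)) nc))
  have na : ¬ U ⊓ C(D) ≤ C[a] := fun k => a0 ((h.fr.smp (C ⊓ C(U ⊓ C(D))) ⟨inf_le_left, norms_inf le_normalizer
    (norms_cent h.nZ)⟩).resolve_right (fun e => nc (e.ge.trans (inf_le_right.trans (cents_symm (XZ.trans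
      (cents_symm le_rfl)))))) ⟨h.QC ha, mem_cent.2 fun y hy => mem_cent1.1 (k hy)⟩)
  have ea := ea_of h.ab (inf_le_left : U ⊓ C(D) ≤ U)
  have lt : U ⊓ C[a] < U ⊓ Cm (U ⊓ C(D)) (zpowers a) := by
    refine lt_of_le_of_ne (fun y hy => ⟨hy.1, ea.norm hy.1, fun w hw => by
      rw [← mem_cent.1 (zp_cent le_rfl hy.2) w hw]; simp⟩) fun e => na ?_
    exact ((ea.leC (zpowers_le.2 (h.nZ (h.QC ha)))).trans e.ge).trans inf_le_right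
  have := two_le lt
  obtain ⟨-, -, c8⟩ := mb h.fr ⟨ea, h.nU, h.nZ, h.cq, h.ncU⟩ (h.QC ha) a0 (by unfold Eb; omega)
  have VB : V ≤ ⁅U, C⁆ ⊔ U ⊓ C(D) := by
    obtain ⟨π, s, x, z, b, t⟩ := h.st
    obtain ⟨v, hv, n⟩ := h.mv t
    have m : x.1 * v * x.1⁻¹ * v⁻¹ ∈ V ⊓ (⁅U, C⁆ ⊔ U ⊓ C(D)) := ⟨V.mul_mem (conj_mem_of_norm (h.nV t.xP) hv) (V.inv_mem hv),
      mem_sup_left (by rw [commutator_comm]; exact commg_le_iff.1 le_rfl _ x.2 v (h.VU hv))⟩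
    rcases h.uni _ inf_le_left (norms_inf h.nV (h.PC.trans (norms_sup (commg_normr U C) h.nZ))) with e | e | e
    exacts [absurd (bot_le (a := zpowers p) (e.le m)) n, absurd (e.le m) n, e.ge.trans inf_le_right]
  have UB : U ≤ ⁅U, C⁆ ⊔ U ⊓ C(D) := h.eU.le.trans (Kc_le_of VB (norms_sup (commg_normr U C) h.nZ))
  have c1 := card_le_of_le UB
  have c2 := cinf (M := V ⊔ U ⊓ C(D)) le_sup_left le_sup_right
  rw [h.VZ, h.c8, card_zp h.pp h.p1] at c2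
  have MU : V ⊔ U ⊓ C(D) ≤ U := sup_le h.VU inf_le_left
  have nM : Q ≤ N(V ⊔ U ⊓ C(D)) := norms_sup ((h.QT.trans h.TP).trans h.nV) (h.QC.trans h.nZ)
  intro q hq u hu
  by_cases k : u ∈ V ⊔ U ⊓ C(D)
  · exact mul_mem (conj_mem_of_norm (nM hq) k) (inv_mem k)
  have := two_le (lt_of_le_of_ne MU fun e => k (e.ge hu))
  refine (mul_mem_iff_of_index_two (H := (V ⊔ U ⊓ C(D)).subgroupOf U) (hyp_of_card MU (by omega)).idx
    (a := ⟨_, conj_mem_of_norm (h.nU (h.QC hq)) hu⟩) (b := ⟨_, inv_mem hu⟩)).2 (iff_of_false (fun e => k ?_)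
      fun e => k (inv_mem_iff.1 e))
  simpa [mul_assoc] using conj_mem_of_norm' (nM hq) e

/-- the case of a quadratic four-group -/
theorem caseA (hA : A ≤ Q) (QA : Q ≤ D ⊔ A) (qd : ⁅U, A⁆ ≤ C(A)) :
    ∀ q ∈ Q, ∀ u ∈ U, q * u * q⁻¹ * u⁻¹ ∈ V ⊔ U ⊓ C(D) := by
  obtain ⟨π, s, x, z, b, t⟩ := h.st
  obtain ⟨v, hv, n⟩ := h.mv t
  have ea := ea_of h.ab (inf_le_left : U ⊓ C(D) ≤ U)
  obtain ⟨W, _, _, _, f, ρ, m⟩ := exMd ea h.nU h.nZ t.sur fun g e => h.cq ((t.ker g).1 e)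
  have ac : ∀ g : C, ∀ u ∈ U, f (g.1 * u * g.1⁻¹) = ρ (π g) (f u) := m.act
  have lf : ∀ q : C, q.1 ∈ Q → ∃ a : C, a.1 ∈ A ∧ π a = π q := fun q hq => by
    obtain ⟨d, hd, a, ha, e⟩ := (mem_sup_of_norm ((hA.trans h.QC).trans h.fr.nq.norm)).1 (QA hq)
    refine ⟨⟨a, h.QC (hA ha)⟩, ha, ?_⟩
    rw [← one_mul (π _), ← (t.ker ⟨d, h.fr.nq.le hd⟩).2 hd, ← map_mul]
    exact congrArg π (Subtype.ext e.symm)
  have br : ∀ g : C, ∀ u ∈ U, f (g.1 * u * g.1⁻¹ * u⁻¹) = ρ (π g) (f u) + f u := fun g u hu => by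
    rw [m.add _ (conj_mem_of_norm (h.nU g.2) hu) _ (inv_mem hu), ac g u hu, m.inv hu]
  obtain ⟨a1, h1, e1⟩ := lf z t.zQ
  obtain ⟨a2, h2, e2⟩ := lf b t.bQ
  have y1 : x.1 * v * x.1⁻¹ * v⁻¹ ∈ V := mul_mem (conj_mem_of_norm (h.nV t.xP) hv) (inv_mem hv)
  set y := x.1 * v * x.1⁻¹ * v⁻¹ with hy
  have w0 : f y ≠ 0 := fun e => n (h.VZ.le ⟨y1, (m.zero _ (h.VU y1)).1 e⟩)
  have ew : ρ xa (f v) + f v = f y := by rw [hy, br x v (h.VU hv), t.ex]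
  obtain ⟨fa, fs⟩ := fixb (ρ := ρ) (fun u => by
    obtain ⟨u, hu, rfl⟩ := m.sur u
    have k : a1.1 * u * a1.1⁻¹ * u⁻¹ ∈ C(A) := qd (by
      rw [commutator_comm]; exact commg_le_iff.1 le_rfl _ h1 u hu)
    rw [← t.ez, ← t.eb, ← e1, ← e2, ← br a1 u hu, ← ac a2 _ (mul_mem (conj_mem_of_norm (h.nU a1.2) hu) (inv_mem hu)),
      mem_cent.1 k _ h2, mul_inv_cancel_right]) ew (by
    rw [← t.eb, ← ac b y (h.VU y1), ← mem_cent.1 (h.cV.ge t.bQ) y y1, mul_inv_cancel_right])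
  have fb : ρ xb (f y) = f y := by
    rw [← t.eb, ← ac b y (h.VU y1), ← mem_cent.1 (h.cV.ge t.bQ) y y1, mul_inv_cancel_right]
  have nP : ∀ S : Submodule (ZMod 2) W, (∀ g, ∀ w ∈ S, ρ g w ∈ S) → C ≤ N(m.pre S) := fun S k g hg =>
    mem_norm_of_cj_le fun u hu => by
      obtain ⟨u, hu', rfl⟩ := mem_cj'.1 hu
      exact ⟨conj_mem_of_norm (h.nU hg) hu'.1, (ac ⟨g, hg⟩ u hu'.1).symm ▸ k _ _ hu'.2⟩
  have cs : ∀ c : ZMod 2, c = 0 ∨ c = 1 := by decide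
  have l1 : zpowers p < V ⊓ m.pre (Submodule.span (ZMod 2) {f y}) := lt_of_le_of_ne (fun u hu =>
    ⟨zpowers_le.2 h.pV hu, (h.pZ hu).1, by rw [(m.zero _ (h.pZ hu).1).2 (h.pZ hu)]; exact zero_mem _⟩)
    fun e => n (e.ge ⟨y1, h.VU y1, Submodule.subset_span rfl⟩)
  have s1 : s.1 * y * s.1⁻¹ ∈ V := conj_mem_of_norm (h.nV t.sP) y1
  have s2 : f (s.1 * y * s.1⁻¹) = ρ sa (f y) := by rw [ac s y (h.VU y1), t.es]
  have l2 : V ⊓ m.pre (Submodule.span (ZMod 2) {f y}) < V ⊓ m.pre (Submodule.span (ZMod 2) {f y, ρ sa (f y)}) := by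
    refine lt_of_le_of_ne (fun u hu => ⟨hu.1, hu.2.1, Submodule.span_mono (by simp) hu.2.2⟩) fun e => ?_
    obtain ⟨c, hc⟩ := Submodule.mem_span_singleton.1
      (e.ge ⟨s1, h.VU s1, s2 ▸ Submodule.subset_span (by simp)⟩).2.2
    rw [s2] at hc
    rcases cs c with rfl | rfl
    · rw [zero_smul] at hc
      exact w0 (by rw [← map_zero (ρ sa), hc, mu, rl.2.2.2.2.2.1, map_one, Module.End.one_apply])
    rw [one_smul] at hc
    have al := gen (p := fun g => ρ g (f y) = f y) (by simp) (fun g g' p q => by rw [← mu, q, p]) fa fb hc.symm fs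
    rcases h.uni _ inf_le_left (norms_inf h.nV (h.PC.trans (nP (Submodule.span (ZMod 2) {f y}) fun g w hw => by
      obtain ⟨c, rfl⟩ := Submodule.mem_span_singleton.1 hw
      rwa [map_smul, al]))) with k | k | k
    · exact not_lt_bot (k ▸ l1)
    · exact l1.ne k.symm
    · obtain ⟨c, hc⟩ := Submodule.mem_span_singleton.1 (k.ge hv).2.2
      exact w0 (by rw [← ew, ← hc, map_smul, fa, two])
  have V2 : V ⊓ m.pre (Submodule.span (ZMod 2) {f y, ρ sa (f y)}) = V := eq_of_le_of_card_ge inf_le_left (by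
    have := two_le l1
    have := two_le l2
    have := card_zp h.pp h.p1
    have := h.c8
    omega)
  have fc : ρ xa (ρ sa (f y)) = f y + ρ sa (f y) := by
    obtain ⟨c, c', hc⟩ := Submodule.mem_span_pair.1 (V2.ge hv).2.2
    rw [← hc, map_add, map_smul, map_smul, fa, add_add_add_comm, two, zero_add] at ew
    rcases cs c' with rfl | rfl
    · exact absurd (by rw [← ew, zero_smul, zero_smul, add_zero]) w0
    · rw [one_smul, one_smul] at ew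
      exact (add_right_cancel (b := ρ sa (f y)) (by rw [ew, add_assoc, two, add_zero]))
  obtain ⟨k1, k2⟩ := span3 fa fb fs fc
  have UP := h.eU.le.trans (Kc_le_of (M := m.pre _) (fun u hu => ⟨h.VU hu, Submodule.span_mono
    (Set.insert_subset_insert (by simp)) (V2.ge hu).2.2⟩) (nP _ k1))
  intro q hq u hu
  have k3 := k2 _ (t.ra ⟨q, h.QC hq⟩ hq) _ (UP hu).2
  rw [← br ⟨q, h.QC hq⟩ u hu] at k3
  obtain ⟨v', ⟨hv', -⟩, e⟩ := Submodule.span_le (p := m.img V).2 (by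
    rintro _ (rfl | rfl)
    exacts [⟨y, ⟨y1, h.VU y1⟩, rfl⟩, ⟨_, ⟨s1, h.VU s1⟩, s2⟩]) k3
  have := mul_mem (mem_sup_right (S := V) (inv_mem ((m.eq (h.VU hv') (mul_mem (conj_mem_of_norm (h.nU (h.QC hq)) hu)
    (inv_mem hu))).1 e))) (mem_sup_left hv')
  simpa only [mul_inv_rev, inv_inv, inv_mul_cancel_right] using this
end Cf

/-- the centralizer of a point does not have type `L₃(2)` -/
theorem Cf.false (h : Cf C D T P Q V U p) (el : EL.{u}) (fu : FU.{u}) (mb : MB1.{u}) (ty : Ty.{u}) (ab : Abelem 2 A)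
    (hA : A ≤ Q) (nA : ¬ A ≤ D) (qd : ⁅U, A⁆ ≤ C(A))
    (c : #(A ⊔ D : Subgroup G) = 4 * #D ∨ ∃ a ∈ A, a ∉ D ∧ #U ≤ 4 * #(U ⊓ C[a] : Subgroup G)) : False := by
  obtain ⟨a, ha, a0⟩ := SetLike.not_le_iff_exists.1 nA
  refine h.fin el (ty h.fr).1 (hA ha) a0 (sq_one ab ha) ?_
  rcases c with c | ⟨b, hb, b0, c⟩
  · exact h.caseA hA (le_sup_left.trans ((eq_of_le_of_card_ge (sup_le_sup_right hA D) (h.c4.trans c.symm).le).ge.trans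
      (sup_comm A D).le)) qd
  · exact h.caseB fu mb (hA hb) b0 c

end H16.MT
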