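import Cfsg.Agent.H1.MS2
import Cfsg.Agent.H8.MS1

/-! S5899, part 3, chunk `LA`. -/

set_option autoImplicit false
set_option linter.unusedVariables false
set_option linter.unusedSectionVars false
set_option synthInstance.maxSize 8000

namespace H16.MU
open Cfsg Subgroup H18 H17.GS H28.S H2.GW
open H19 hiding eq_bot_mono
open H28.NG hiding Hyp Uniq Ch
open H27.MS H12.MS
open H8.MS (L3 xa xb xz sb)
open H1.MS (V3 e1 e3 pt ln Md NM7 LAM EXT LA)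
open scoped MatrixGroups
open Matrix

universe u

abbrev R0 : List L3 := [1, xa, xz, xa * xz]
theorem d1 : ∀ y y' : V3, (∀ x ∈ [1, sb, xb * sb], y ⬝ᵥ pt x + ln x ⬝ᵥ y' = 0) → y 0 = 0 ∧ y' 1 = 0 ∧ y' 2 = 0 := by
  decide +kernel
theorem d2 : ∀ r ∈ R0, ∀ y v : V3, y 0 = 0 → y ⬝ᵥ (r⁻¹).1 *ᵥ v = y ⬝ᵥ v := by decide +kernel
theorem d3 : ∀ r ∈ R0, ∀ l y : V3, y 1 = 0 → y 2 = 0 → (l ᵥ* r.1) ⬝ᵥ y = l ⬝ᵥ y := by decide +kernel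
theorem d4 : ∀ g : L3, pt g = e1 → ln g = e3 → ln (sb * g * sb⁻¹) = e3 → g ∈ R0 := by decide +kernel
theorem d5 : ∀ r ∈ R0, ∀ r' ∈ R0, r ≠ 1 → r' ≠ 1 →
    ∃ g ∈ [1, sb, xb, sb * xb, xb * sb, sb * xb * sb], pt g = e1 ∧ g * r * g⁻¹ = r' := by decide +kernel
theorem d6 : (∀ x ∈ [1, sb, xb * sb], pt x = e1) ∧ xa ≠ 1 ∧ xz ≠ 1 ∧ xz * xb = xb * xz ∧ xa * xb ≠ xb * xa ∧
    (∀ r ∈ R0, r * xa = xa * r) ∧ pt xb = e1 ∧ ln xb = e3 := by decide +kernel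

theorem pt_mul (r x : L3) : pt (r * x) = r.1 *ᵥ pt x := by
  rw [pt, pt, Matrix.SpecialLinearGroup.coe_mul, mulVec_mulVec]
theorem ln_mul (r x : L3) : ln (r⁻¹ * x) = ln x ᵥ* r.1 := by
  rw [ln, ln, _root_.mul_inv_rev, inv_inv, Matrix.SpecialLinearGroup.coe_mul, vecMul_vecMul]

variable {G : Type u} [Group G] [Finite G] {N Q T A B : Subgroup G}

theorem two_le (h : A < B) : 2 * #A ≤ #B := by
  have e := card_inf_mul_relIndex A B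
  rw [inf_eq_left.2 h.le] at e
  have h0 : A.relIndex B ≠ 0 := index_ne_zero_of_finite
  have h1 : A.relIndex B ≠ 1 := fun k => h.not_ge (relIndex_eq_one.1 k)
  rw [← e, mul_comm]
  exact Nat.mul_le_mul_left _ (by omega)

theorem cT (h : Fr N Q T) (l : L7 N Q) : #T ≤ 8 * #Q := by
  obtain ⟨π, s, k⟩ := l
  have e : π.ker = Q.subgroupOf N := Subgroup.ext k
  have c := π.ker.index_mul_card
  rw [index_ker, MonoidHom.range_eq_top.2 s, card_top, H11.card_sl3_two, e, card_subgroupOf, inf_eq_left.2 h.nq.le] at c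
  obtain ⟨k, hk⟩ := h.syl.pi.exists_card
  have d : #T ∣ 8 * #Q * 21 := by
    have := card_dvd_of_le h.syl.le
    rwa [← c, show 168 * #Q = 8 * #Q * 21 by ring] at this
  exact Nat.le_of_dvd (Nat.mul_pos (by omega) Nat.card_pos)
    (Nat.Coprime.dvd_of_dvd_mul_right (hk ▸ Nat.Coprime.pow_left k (by decide)) d)

theorem mem_pre (π : N →* L3) (H : Subgroup L3) (g : N) : g.1 ∈ (H.comap π).map N.subtype ↔ π g ∈ H :=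
  ⟨fun ⟨x, hx, e⟩ => (Subtype.ext e : x = g) ▸ hx, fun h => ⟨g, h, rfl⟩⟩

theorem la (nm : NM7.{u}) (ext : EXT.{u}) (lam : LAM.{u}) (el : EL.{u}) (ty : Ty.{u}) : LA.{u} := by
  intro G _ _ N Q T P E i f l TP PN c3 nE pE nQ iE i0 ii
  obtain ⟨a1, a2, a3, a4, a5, a6, a7, a8⟩ := d6
  have EN := nE.le.trans PN
  have ET : E ≤ T := f.syl.le_of_norm' EN pE (TP.trans nE.norm)
  have nX : P ≤ N(Q ⊓ E) := norms_inf (PN.trans f.nq.norm) nE.norm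
  obtain ⟨T₀, XT, l0, c0, n0⟩ := ext f l (X := Q ⊓ E) ⟨inf_le_left.trans f.le, TP.trans nX⟩ (inf_lt_left.2 nQ)
    (EN iE) i0 ii
  obtain ⟨π, m, mP, -⟩ := nm f l TP PN c3
  have i2 : ∀ x ∈ T, ∀ y ∈ T, x * y ∈ T₀ ↔ (x ∈ T₀ ↔ y ∈ T₀) := fun x hx y hy =>
    mul_mem_iff_of_index_two (H := T₀.subgroupOf T) (hyp_of_card l0 (by omega)).idx (a := ⟨x, hx⟩) (b := ⟨y, hy⟩)
  let Q₀ : Subgroup G := Q ⊓ ⨅ g : N, H19.cj g T₀
  have mQ : ∀ q, q ∈ Q₀ ↔ q ∈ Q ∧ ∀ g : N, g.1⁻¹ * q * g ∈ T₀ := fun q => by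
    simp only [Q₀, mem_inf, mem_iInf, mem_cj]
  have nQ0 : N ≤ N(Q₀) := fun n hn => mem_norm_of_cj_le fun y hy => by
    obtain ⟨q, hq, rfl⟩ := mem_cj'.1 hy
    refine (mQ _).2 ⟨conj_mem_of_norm (f.nq.norm hn) hq.1, fun g => ?_⟩
    simpa [mul_assoc] using ((mQ q).1 hq).2 (⟨n, hn⟩⁻¹ * g)
  have cj' : ∀ q ∈ Q, ∀ g : N, g.1⁻¹ * q * g ∈ T := fun q hq g => f.le (conj_mem_of_norm' (f.nq.norm g.2) hq)
  have k1 : ∀ q ∈ Q, q * q ∈ Q₀ := fun q hq => (mQ _).2 ⟨mul_mem hq hq, fun g => by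
    rw [show g.1⁻¹ * (q * q) * g = g.1⁻¹ * q * g * (g.1⁻¹ * q * g) by group]
    exact (i2 _ (cj' q hq g) _ (cj' q hq g)).2 Iff.rfl⟩
  obtain ⟨s, es⟩ := m.sj sb
  have sP : s.1 ∈ P := (mP s).2 (es ▸ a1 _ (by simp))
  have ra : ∀ e : N, e.1 ∈ E → π e ∈ R0 := fun e he => by
    have u := ((m.mT (s * e * s⁻¹)).1 (ET (conj_mem_of_norm (nE.norm sP) he))).2
    rw [map_mul, map_mul, map_inv, es] at u
    exact d4 _ ((m.mT e).1 (ET he)).1 ((m.mT e).1 (ET he)).2 u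
  have k2 : ∀ q ∈ Q, q ∈ E → ∀ e ∈ E, q⁻¹ * (e * q * e⁻¹) ∈ Q₀ := fun q hq qE e he => by
    obtain ⟨y, y', F⟩ := lam f m l0 c0 q hq
    obtain ⟨b1, b2, b3⟩ := d1 y y' fun x hx => by
      obtain ⟨x, rfl⟩ := m.sj x
      exact (F x).1 (XT (conj_mem_of_norm' (nX ((mP x).2 (a1 _ hx))) ⟨hq, qE⟩))
    have q' := conj_mem_of_norm (f.nq.norm (EN he)) hq
    refine (mQ _).2 ⟨mul_mem (inv_mem hq) q', fun g => ?_⟩
    rw [show g.1⁻¹ * (q⁻¹ * (e * q * e⁻¹)) * g = (g.1⁻¹ * q * g)⁻¹ * (g.1⁻¹ * (e * q * e⁻¹) * g) by group,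
      i2 _ (inv_mem (cj' q hq g)) _ (cj' _ q' g), inv_mem_iff, F g]
    have := F (⟨e, EN he⟩⁻¹ * g)
    rw [map_mul, map_inv, pt_mul, ln_mul, d2 _ (ra _ he) _ _ b1, d3 _ (ra ⟨e, EN he⟩ he) _ _ b2 b3] at this
    rw [← this]
    simp [mul_assoc]
  have tr : ∀ r ∈ R0, r ≠ 1 → ∃ x : N, x.1 ∈ P ∧ π (x * ⟨i, EN iE⟩ * x⁻¹) = r := fun r hr r1 => by
    obtain ⟨g, -, p, e⟩ := d5 _ (ra ⟨i, EN iE⟩ iE) r hr (fun c => i0 ((m.ker _).1 c)) r1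
    obtain ⟨x, rfl⟩ := m.sj g
    exact ⟨x, (mP x).2 p, by rw [map_mul, map_mul, map_inv, e]⟩
  have sq : ∀ q ∈ E, q * q ∈ Q₀ := fun q hq => by
    by_cases q0 : q ∈ Q
    · exact k1 q q0
    obtain ⟨y, yP, e⟩ := tr _ (ra ⟨q, EN hq⟩ hq) fun c => q0 ((m.ker _).1 c)
    have c : q * (y.1 * i * y.1⁻¹)⁻¹ ∈ Q := (m.ker (⟨q, EN hq⟩ * (y * ⟨i, EN iE⟩ * y⁻¹)⁻¹)).1 (by
      rw [map_mul, map_inv, e, mul_inv_cancel])
    have b1 := conj_mem_of_norm (nE.norm yP) iE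
    have := mul_mem (k1 _ c) (k2 _ c (mul_mem hq (inv_mem b1)) _ b1)
    rwa [show q * (y.1 * i * y.1⁻¹)⁻¹ * (q * (y.1 * i * y.1⁻¹)⁻¹) * ((q * (y.1 * i * y.1⁻¹)⁻¹)⁻¹ * (y.1 * i * y.1⁻¹ *
      (q * (y.1 * i * y.1⁻¹)⁻¹) * (y.1 * i * y.1⁻¹)⁻¹)) = q * q * (y.1 * (i * i) * y.1⁻¹)⁻¹ by group, ii, mul_one,
      mul_inv_cancel, inv_one, mul_one] at this
  have Qp : ∀ H : Subgroup L3, Q ≤ (H.comap π).map N.subtype := fun H q hq =>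
    (mem_pre π H ⟨q, f.QN hq⟩).2 ((m.ker ⟨q, f.QN hq⟩).2 hq ▸ one_mem H)
  have c4 : #(E ⊔ Q : Subgroup G) = 4 * #Q := by
    obtain ⟨x, xP, ex⟩ := tr xa (by simp) a2
    obtain ⟨z, zP, ez⟩ := tr xz (by simp) a3
    obtain ⟨b, eb⟩ := m.sj xb
    have x1 : (x * ⟨i, EN iE⟩ * x⁻¹ : N).1 ∈ E := conj_mem_of_norm (nE.norm xP) iE
    have z1 : (z * ⟨i, EN iE⟩ * z⁻¹ : N).1 ∈ E := conj_mem_of_norm (nE.norm zP) iE
    have l1 : Q < (E ⊔ Q) ⊓ (C[xb].comap π).map N.subtype := lt_of_le_of_ne (le_inf le_sup_right (Qp _)) fun e =>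
      a3 (ez ▸ (m.ker _).2 (e.ge ⟨mem_sup_left z1, (mem_pre π _ _).2 (ez ▸ mem_cent1.2 a4)⟩))
    have l2 : (E ⊔ Q) ⊓ (C[xb].comap π).map N.subtype < E ⊔ Q := inf_lt_left.2 fun e =>
      a5 (mem_cent1.1 (ex ▸ (mem_pre π _ _).1 (e (mem_sup_left x1))))
    have l3 : E ⊔ Q < T := lt_of_le_of_ne (sup_le ET f.le) fun e => by
      have : E ⊔ Q ≤ (C[xa].comap π).map N.subtype := sup_le (fun y hy => (mem_pre π _ ⟨y, EN hy⟩).2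
        (mem_cent1.2 (a6 _ (ra _ hy)))) (Qp _)
      exact a5 (mem_cent1.1 (eb ▸ (mem_pre π _ b).1 (this (e.ge ((m.mT b).2 (eb ▸ ⟨a7, a8⟩)))))).symm
    have := two_le l1
    have := two_le l2
    have := two_le l3
    have := cT f l
    omega
  refine el f (.inl l) (n := 0) (ty f).1 ⟨inf_le_left.trans f.QN, nQ0⟩ (lt_of_le_of_ne inf_le_left fun e => n0 fun q hq => ?_)
    ⟨ET, TP.trans nE.norm⟩ (commg_le_iff.2 fun x hx y hy => ?_) sq c4 (EN iE) i0 (ii ▸ one_mem _)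
  · simpa using ((mQ q).1 (e.ge hq)).2 1
  · rw [show x * y * x⁻¹ * y⁻¹ = x * y * (x * y) * (y⁻¹ * (x * x)⁻¹ * y) * (y * y)⁻¹ by group]
    exact mul_mem (mul_mem (sq _ (mul_mem hx hy)) (conj_mem_of_norm' (nQ0 (EN hy)) (inv_mem (sq x hx))))
      (inv_mem (sq y hy))

end H16.MU
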