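import Cfsg.Agent.H16.W

/-! Generated by tools/h16 (computation kit). -/

set_option maxRecDepth 100000
set_option maxHeartbeats 0

namespace H16.HN3.AT

noncomputable def R : List (List ℕ) := [[nat_lit 0, nat_lit 1],
  [nat_lit 1, nat_lit 0],
  [nat_lit 2, nat_lit 3],
  [nat_lit 3, nat_lit 2],
  [nat_lit 4, nat_lit 5],
  [nat_lit 5, nat_lit 4],
  [nat_lit 0, nat_lit 0, nat_lit 0, nat_lit 0, nat_lit 0],
  [nat_lit 2, nat_lit 2, nat_lit 2, nat_lit 2],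
  [nat_lit 2, nat_lit 2, nat_lit 0, nat_lit 3, nat_lit 3, nat_lit 1],
  [nat_lit 0, nat_lit 2, nat_lit 0, nat_lit 2, nat_lit 0, nat_lit 2, nat_lit 5],
  [nat_lit 4, nat_lit 0, nat_lit 5, nat_lit 1],
  [nat_lit 4, nat_lit 2, nat_lit 5, nat_lit 3],
  [nat_lit 4, nat_lit 4, nat_lit 4]]
noncomputable def Tcd : List ℕ := [nat_lit 0x26a53092f5560008ee8ed92b9670003e93725e495e91c0000000009a69b19550006179549a191390f9a099f99d99a0009470008d2000000000000000888000000942990000941989986983980,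
  nat_lit 0x3a70004f18f092d92c7cb0000000000009aa00056300059d0000009570009a59550009a295400000000000099e99b8d991000094600000000000000000094300099294200098d941987984980,
  nat_lit 0x9a952092e0000000008ec0004a60004e50004284df55e9a75db0000005a15d90009a369861a0000006d294981069161770f7556ed00099688794388699492b0007cb90200098a940985981,
  nat_lit 0x9b20000008ef00092b0000009714659620004a75a095b9a855e4f000052361800000000000065a65294d7909490006966537d46d16c799770480694399500084c84a94198e98b8c5940982,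
  nat_lit 0x2ea0000000000008cc0000003270000003f20004710004df0006200000009b05560009a400095294d0000009af99c94700070e0009447460000000000009ae0008ca99100074b9ad9889ac9ab,
  nat_lit 0x4274a50009559499439419402b24280000000000000000000000005e152300000095400000000000065a59d00000000099900000074b00099892d78490700000099300000098f98c000000000]
noncomputable def Tc (k u : ℕ) : ℕ := Nat.land (Nat.shiftRight (nth (nat_lit 0) Tcd k) (Nat.mul u (nat_lit 12))) (nat_lit 4095)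
noncomputable def Icd : List ℕ := [nat_lit 0x432200020060302000110020144111100000000070001001115,
  nat_lit 0x600044300001020300001001000001102000000000010010115,
  nat_lit 0x12200000303002519006801a60030740204014071200501011,
  nat_lit 0x10000300020003010000400000202000000215201000011001,
  nat_lit 0x200000003000000004001001000001100200500001001001111,
  nat_lit 0x230000000700000000030000000220001004014650010011000]
noncomputable def Ic (k u : ℕ) : ℕ := Nat.land (Nat.shiftRight (nth (nat_lit 0) Icd k) (Nat.mul u (nat_lit 4))) (nat_lit 15)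
noncomputable def Dcd : ℕ := nat_lit 0x3ca5974cb854120e8c2c40a10243ade50ecf767330196aca6652328d938a8a54229fd4fca7c53ca9e10e2853428a14107283831798acc5062430e986cc3261730a9850c244102069030810407203080c404000
noncomputable def Dc (u : ℕ) : ℕ := Nat.land (Nat.shiftRight Dcd (Nat.mul u (nat_lit 13))) (nat_lit 8191)
noncomputable def Ectd : ℕ := nat_lit 0x89de567955424c320440
noncomputable def Ect (u : ℕ) : ℕ := Nat.land (Nat.shiftRight Ectd (Nat.mul u (nat_lit 10))) (nat_lit 1023)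
noncomputable def Jctd : ℕ := nat_lit 0x90c2118002
noncomputable def Jct (u : ℕ) : ℕ := Nat.land (Nat.shiftRight Jctd (Nat.mul u (nat_lit 5))) (nat_lit 31)
noncomputable def Wctd : ℕ := nat_lit 0xcb1c2fbadb2b
noncomputable def Wct (u : ℕ) : ℕ := Nat.land (Nat.shiftRight Wctd (Nat.mul u (nat_lit 6))) (nat_lit 63)
@[irreducible] noncomputable def Ec (a : ℕ) : ℕ := force (Nat.sub a (nat_lit 43)) Ect
@[irreducible] noncomputable def Jc (a : ℕ) : ℕ := force (Nat.sub a (nat_lit 43)) Jct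
@[irreducible] noncomputable def Wc (a : ℕ) : ℕ := force (Nat.sub a (nat_lit 43)) Wct
noncomputable def RLc : List (List Rule) := [[.rel (nat_lit 0) (nat_lit 0) [nat_lit 1], .defn, .rel (nat_lit 20) (nat_lit 1) [nat_lit 5, nat_lit 1, nat_lit 4], .rel (nat_lit 12) (nat_lit 0) [nat_lit 0, nat_lit 0, nat_lit 0, nat_lit 0], .rel (nat_lit 21) (nat_lit 0) [nat_lit 4, nat_lit 1, nat_lit 5], .sub (nat_lit 0) [] [], .rel (nat_lit 18) (nat_lit 0) [nat_lit 2, nat_lit 0, nat_lit 2, nat_lit 0, nat_lit 2, nat_lit 5], .rel (nat_lit 18) (nat_lit 2) [nat_lit 2, nat_lit 0, nat_lit 2, nat_lit 5, nat_lit 0, nat_lit 2]],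
  [.rel (nat_lit 0) (nat_lit 1) [nat_lit 0], .defn, .rel (nat_lit 13) (nat_lit 0) [nat_lit 1, nat_lit 1, nat_lit 1, nat_lit 1], .rel (nat_lit 17) (nat_lit 3) [nat_lit 3, nat_lit 3, nat_lit 0, nat_lit 2, nat_lit 2], .rel (nat_lit 21) (nat_lit 2) [nat_lit 5, nat_lit 0, nat_lit 4], .sub (nat_lit 2) [] [], .rel (nat_lit 16) (nat_lit 5) [nat_lit 2, nat_lit 2, nat_lit 0, nat_lit 3, nat_lit 3]],
  [.rel (nat_lit 4) (nat_lit 0) [nat_lit 3], .defn, .rel (nat_lit 22) (nat_lit 1) [nat_lit 5, nat_lit 3, nat_lit 4], .rel (nat_lit 16) (nat_lit 1) [nat_lit 0, nat_lit 3, nat_lit 3, nat_lit 1, nat_lit 2], .rel (nat_lit 23) (nat_lit 0) [nat_lit 4, nat_lit 3, nat_lit 5], .rel (nat_lit 14) (nat_lit 0) [nat_lit 2, nat_lit 2, nat_lit 2], .rel (nat_lit 16) (nat_lit 0) [nat_lit 2, nat_lit 0, nat_lit 3, nat_lit 3, nat_lit 1], .rel (nat_lit 17) (nat_lit 2) [nat_lit 1, nat_lit 3, nat_lit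 3, nat_lit 0, nat_lit 2], .rel (nat_lit 17) (nat_lit 1) [nat_lit 2, nat_lit 1, nat_lit 3, nat_lit 3, nat_lit 0], .rel (nat_lit 18) (nat_lit 1) [nat_lit 0, nat_lit 2, nat_lit 0, nat_lit 2, nat_lit 5, nat_lit 0], .rel (nat_lit 18) (nat_lit 3) [nat_lit 0, nat_lit 2, nat_lit 5, nat_lit 0, nat_lit 2, nat_lit 0]],
  [.rel (nat_lit 4) (nat_lit 1) [nat_lit 2], .defn, .rel (nat_lit 15) (nat_lit 0) [nat_lit 3, nat_lit 3, nat_lit 3], .rel (nat_lit 23) (nat_lit 2) [nat_lit 5, nat_lit 2, nat_lit 4], .rel (nat_lit 16) (nat_lit 3) [nat_lit 3, nat_lit 1, nat_lit 2, nat_lit 2, nat_lit 0], .rel (nat_lit 22) (nat_lit 3) [nat_lit 4, nat_lit 2, nat_lit 5]],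
  [.rel (nat_lit 8) (nat_lit 0) [nat_lit 5], .defn, .rel (nat_lit 24) (nat_lit 0) [nat_lit 4, nat_lit 4], .rel (nat_lit 20) (nat_lit 0) [nat_lit 0, nat_lit 5, nat_lit 1], .rel (nat_lit 21) (nat_lit 1) [nat_lit 1, nat_lit 5, nat_lit 0], .rel (nat_lit 22) (nat_lit 0) [nat_lit 2, nat_lit 5, nat_lit 3]],
  [.rel (nat_lit 8) (nat_lit 1) [nat_lit 4], .defn, .rel (nat_lit 23) (nat_lit 3) [nat_lit 2, nat_lit 4, nat_lit 3], .rel (nat_lit 20) (nat_lit 2) [nat_lit 1, nat_lit 4, nat_lit 0], .rel (nat_lit 25) (nat_lit 0) [nat_lit 5, nat_lit 5], .rel (nat_lit 18) (nat_lit 6) [nat_lit 0, nat_lit 2, nat_lit 0, nat_lit 2, nat_lit 0, nat_lit 2], .rel (nat_lit 21) (nat_lit 3) [nat_lit 0, nat_lit 4, nat_lit 1], .rel (nat_lit 22) (nat_lit 2) [nat_lit 3, nat_lit 4, nat_lit 2]]]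
noncomputable def cc : TCert2 := ⟨43, 0, 51, 6, 63, 511, 1, Tc, Ic, Dc, Ec, Jc, Wc, [[nat_lit 0],
  [nat_lit 1]], RLc⟩
noncomputable def TB : List (List ℕ) := [[],
  [],
  [],
  [],
  [],
  [],
  [],
  [],
  [],
  [],
  [],
  [],
  [],
  [],
  [],
  [],
  [],
  [],
  [],
  [],
  [],
  [],
  [],
  [],
  [],
  [],
  [],
  [],
  [],
  [],
  [],
  [],
  [],
  [],
  [],
  [],
  [],
  [],
  [],
  [],
  [],
  [],
  [],
  [],
  [],
  [nat_lit 0, nat_lit 0, nat_lit 0],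
  [nat_lit 0, nat_lit 0, nat_lit 0, nat_lit 1, nat_lit 1, nat_lit 0, nat_lit 1, nat_lit 0, nat_lit 1, nat_lit 1],
  [nat_lit 0, nat_lit 1, nat_lit 0, nat_lit 1],
  [nat_lit 0, nat_lit 0, nat_lit 0, nat_lit 1, nat_lit 1, nat_lit 0, nat_lit 1, nat_lit 1],
  [nat_lit 0, nat_lit 0, nat_lit 0, nat_lit 1, nat_lit 0, nat_lit 1, nat_lit 1, nat_lit 0, nat_lit 1],
  [],
  [],
  [],
  [],
  [],
  [],
  [],
  [],
  [],
  [],
  [nat_lit 1, nat_lit 0, nat_lit 1, nat_lit 1, nat_lit 0, nat_lit 1, nat_lit 0, nat_lit 1, nat_lit 1, nat_lit 0, nat_lit 1],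
  [nat_lit 0, nat_lit 0, nat_lit 1, nat_lit 0, nat_lit 1, nat_lit 1, nat_lit 0, nat_lit 1, nat_lit 0, nat_lit 1],
  [nat_lit 1, nat_lit 0, nat_lit 1, nat_lit 1, nat_lit 0],
  [nat_lit 0, nat_lit 0, nat_lit 1, nat_lit 1, nat_lit 0, nat_lit 1, nat_lit 0],
  [nat_lit 0, nat_lit 0, nat_lit 0, nat_lit 1, nat_lit 0, nat_lit 1, nat_lit 0, nat_lit 1, nat_lit 1, nat_lit 0, nat_lit 1, nat_lit 0],
  [],
  [],
  [],
  [],
  [],
  [],
  [],
  [],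
  [],
  [],
  [],
  [],
  [],
  [],
  [],
  [],
  [],
  [],
  [],
  [],
  [],
  [],
  [],
  [],
  [],
  [nat_lit 1, nat_lit 1, nat_lit 0, nat_lit 1, nat_lit 0, nat_lit 1, nat_lit 1, nat_lit 0, nat_lit 1, nat_lit 0, nat_lit 1, nat_lit 1],
  [nat_lit 0, nat_lit 1, nat_lit 0, nat_lit 1, nat_lit 0, nat_lit 1, nat_lit 1, nat_lit 0, nat_lit 1, nat_lit 0],
  [nat_lit 1, nat_lit 1, nat_lit 0, nat_lit 1, nat_lit 0],
  [nat_lit 0, nat_lit 0, nat_lit 1, nat_lit 0, nat_lit 1, nat_lit 1, nat_lit 0],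
  [nat_lit 1, nat_lit 0, nat_lit 1, nat_lit 1, nat_lit 0, nat_lit 1, nat_lit 0, nat_lit 1],
  [],
  [],
  [],
  [],
  [],
  [],
  [],
  [],
  [],
  [],
  [nat_lit 0],
  [nat_lit 0, nat_lit 1, nat_lit 0, nat_lit 1, nat_lit 1, nat_lit 0, nat_lit 1],
  [nat_lit 0, nat_lit 1, nat_lit 1, nat_lit 0, nat_lit 1, nat_lit 1],
  [nat_lit 0, nat_lit 0, nat_lit 0, nat_lit 1, nat_lit 0, nat_lit 1],
  [nat_lit 0, nat_lit 1, nat_lit 1, nat_lit 0, nat_lit 1, nat_lit 0, nat_lit 1, nat_lit 1],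
  [],
  [],
  [],
  [],
  [],
  [],
  [],
  [],
  [],
  [],
  [],
  [],
  [],
  [],
  [],
  [],
  [],
  [],
  [],
  [],
  [],
  [nat_lit 1, nat_lit 1, nat_lit 0, nat_lit 1, nat_lit 0, nat_lit 1, nat_lit 1],
  [],
  [],
  [],
  [],
  [nat_lit 0, nat_lit 0, nat_lit 1, nat_lit 0, nat_lit 1],
  [],
  [],
  [],
  [],
  [nat_lit 1, nat_lit 1, nat_lit 0, nat_lit 1, nat_lit 1],
  [],
  [],
  [],
  [],
  [nat_lit 1, nat_lit 0, nat_lit 1, nat_lit 1, nat_lit 0, nat_lit 1],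
  [],
  [],
  [],
  [],
  [nat_lit 0, nat_lit 0, nat_lit 0, nat_lit 1, nat_lit 0, nat_lit 1, nat_lit 1, nat_lit 0, nat_lit 1, nat_lit 0],
  [],
  [],
  [],
  [],
  [],
  [nat_lit 1, nat_lit 1, nat_lit 0, nat_lit 1, nat_lit 0, nat_lit 1, nat_lit 1, nat_lit 0, nat_lit 1, nat_lit 0, nat_lit 1],
  [],
  [],
  [],
  [],
  [],
  [nat_lit 0, nat_lit 1, nat_lit 0, nat_lit 1, nat_lit 0, nat_lit 1, nat_lit 1, nat_lit 0],
  [],
  [],
  [],
  [],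
  [],
  [nat_lit 0, nat_lit 1, nat_lit 1, nat_lit 0, nat_lit 1, nat_lit 0, nat_lit 1, nat_lit 1, nat_lit 0, nat_lit 1, nat_lit 0],
  [nat_lit 0, nat_lit 0, nat_lit 1, nat_lit 1, nat_lit 0, nat_lit 1, nat_lit 0, nat_lit 1, nat_lit 1, nat_lit 0],
  [],
  [],
  [],
  [],
  [],
  [nat_lit 1, nat_lit 0, nat_lit 1, nat_lit 0, nat_lit 1],
  [],
  [],
  [],
  [],
  [],
  [],
  [nat_lit 0, nat_lit 0, nat_lit 1, nat_lit 0, nat_lit 1, nat_lit 1, nat_lit 0, nat_lit 1, nat_lit 1],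
  [],
  [nat_lit 0, nat_lit 0, nat_lit 1, nat_lit 0, nat_lit 1, nat_lit 0, nat_lit 1, nat_lit 1, nat_lit 0, nat_lit 1],
  [],
  [],
  [],
  [],
  [],
  [],
  [nat_lit 0, nat_lit 0, nat_lit 1, nat_lit 0],
  [],
  [],
  [],
  [],
  [],
  [],
  [nat_lit 0, nat_lit 0, nat_lit 1, nat_lit 0, nat_lit 1, nat_lit 1, nat_lit 0, nat_lit 1, nat_lit 0, nat_lit 1, nat_lit 1],
  [],
  [nat_lit 0, nat_lit 1, nat_lit 0, nat_lit 1, nat_lit 0],
  [],
  [],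
  [],
  [],
  [],
  [],
  [],
  [nat_lit 1, nat_lit 1, nat_lit 0, nat_lit 1, nat_lit 0, nat_lit 1, nat_lit 1, nat_lit 0, nat_lit 1],
  [],
  [],
  [nat_lit 1, nat_lit 1, nat_lit 0],
  [],
  [],
  [nat_lit 0, nat_lit 1, nat_lit 0, nat_lit 1, nat_lit 0, nat_lit 1, nat_lit 1, nat_lit 0, nat_lit 1, nat_lit 1],
  [],
  [],
  [],
  [],
  [],
  [],
  [],
  [nat_lit 0, nat_lit 0, nat_lit 1, nat_lit 1, nat_lit 0, nat_lit 1, nat_lit 0, nat_lit 1],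
  [],
  [],
  [nat_lit 1, nat_lit 0, nat_lit 1, nat_lit 0, nat_lit 1, nat_lit 1, nat_lit 0, nat_lit 1, nat_lit 0, nat_lit 1],
  [],
  [],
  [],
  [nat_lit 1, nat_lit 0, nat_lit 1, nat_lit 1, nat_lit 0, nat_lit 1, nat_lit 0],
  [],
  [],
  [],
  [],
  [],
  [],
  [],
  [],
  [nat_lit 0, nat_lit 1, nat_lit 1, nat_lit 0, nat_lit 1, nat_lit 0, nat_lit 1, nat_lit 1, nat_lit 0, nat_lit 1, nat_lit 0, nat_lit 1],
  [],
  [],
  [],
  [nat_lit 0, nat_lit 0, nat_lit 1, nat_lit 0, nat_lit 1, nat_lit 0, nat_lit 1, nat_lit 1, nat_lit 0],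
  [],
  [],
  [],
  [nat_lit 0, nat_lit 0, nat_lit 1, nat_lit 1, nat_lit 0, nat_lit 1, nat_lit 0, nat_lit 1, nat_lit 1, nat_lit 0, nat_lit 1, nat_lit 0],
  [],
  [],
  [],
  [],
  [],
  [nat_lit 0, nat_lit 1, nat_lit 0, nat_lit 1, nat_lit 1, nat_lit 0, nat_lit 1, nat_lit 0, nat_lit 1, nat_lit 1, nat_lit 0, nat_lit 1],
  [],
  [],
  [],
  [],
  [nat_lit 0, nat_lit 0, nat_lit 0, nat_lit 1, nat_lit 0, nat_lit 1, nat_lit 1, nat_lit 0, nat_lit 1, nat_lit 0, nat_lit 1],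
  [],
  [],
  [],
  [],
  [nat_lit 0, nat_lit 1, nat_lit 0, nat_lit 1, nat_lit 1, nat_lit 0],
  [],
  [],
  [],
  [],
  [nat_lit 0, nat_lit 0, nat_lit 0, nat_lit 1, nat_lit 1, nat_lit 0, nat_lit 1, nat_lit 0],
  [],
  [],
  [],
  [],
  [nat_lit 1, nat_lit 0, nat_lit 1, nat_lit 0, nat_lit 1, nat_lit 1, nat_lit 0, nat_lit 1, nat_lit 0],
  [],
  [],
  [],
  [],
  [nat_lit 1, nat_lit 0, nat_lit 1, nat_lit 0, nat_lit 1, nat_lit 1, nat_lit 0, nat_lit 1, nat_lit 1],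
  [],
  [],
  [nat_lit 1, nat_lit 0, nat_lit 1, nat_lit 0, nat_lit 1, nat_lit 1, nat_lit 0, nat_lit 1, nat_lit 0, nat_lit 1, nat_lit 1],
  [],
  [],
  [],
  [],
  [],
  [],
  [],
  [nat_lit 0, nat_lit 1, nat_lit 1, nat_lit 0, nat_lit 1, nat_lit 0, nat_lit 1],
  [],
  [],
  [nat_lit 0, nat_lit 0, nat_lit 0, nat_lit 1, nat_lit 1, nat_lit 0],
  [],
  [],
  [nat_lit 1, nat_lit 0, nat_lit 1, nat_lit 0],
  [],
  [],
  [],
  [],
  [],
  [],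
  [],
  [nat_lit 1, nat_lit 0, nat_lit 1, nat_lit 1],
  [],
  [],
  [],
  [],
  [],
  [nat_lit 1, nat_lit 0, nat_lit 1, nat_lit 0, nat_lit 1, nat_lit 1],
  [nat_lit 0, nat_lit 1, nat_lit 1, nat_lit 0, nat_lit 1],
  [],
  [],
  [],
  [],
  [],
  [nat_lit 0, nat_lit 0, nat_lit 0, nat_lit 1],
  [],
  [],
  [],
  [],
  [],
  [nat_lit 1, nat_lit 1],
  [],
  [],
  [],
  [],
  [],
  [nat_lit 0, nat_lit 0, nat_lit 1, nat_lit 1, nat_lit 0, nat_lit 1],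
  [],
  [],
  [],
  [nat_lit 1],
  [],
  [],
  [],
  [nat_lit 0, nat_lit 1, nat_lit 1],
  [],
  [],
  [],
  [nat_lit 0, nat_lit 1, nat_lit 0, nat_lit 1, nat_lit 1],
  [],
  [],
  [],
  [],
  [],
  [],
  [],
  [],
  [nat_lit 0, nat_lit 1, nat_lit 0, nat_lit 1, nat_lit 0, nat_lit 1, nat_lit 1],
  [],
  [],
  [],
  [nat_lit 0, nat_lit 0, nat_lit 0, nat_lit 1, nat_lit 0, nat_lit 1, nat_lit 0, nat_lit 1, nat_lit 1, nat_lit 0, nat_lit 1],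
  [],
  [nat_lit 0, nat_lit 1, nat_lit 0, nat_lit 1, nat_lit 0, nat_lit 1],
  [],
  [],
  [],
  [],
  [],
  [],
  [nat_lit 0, nat_lit 0, nat_lit 0, nat_lit 1, nat_lit 0],
  [],
  [],
  [],
  [],
  [],
  [],
  [nat_lit 0, nat_lit 0, nat_lit 0, nat_lit 1, nat_lit 0, nat_lit 1, nat_lit 1, nat_lit 0, nat_lit 1, nat_lit 1],
  [],
  [nat_lit 0, nat_lit 0, nat_lit 0, nat_lit 1, nat_lit 0, nat_lit 1, nat_lit 1, nat_lit 0, nat_lit 1, nat_lit 0, nat_lit 1, nat_lit 1],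
  [],
  [],
  [],
  [],
  [],
  [nat_lit 1, nat_lit 0, nat_lit 1, nat_lit 1, nat_lit 0, nat_lit 1, nat_lit 0, nat_lit 1, nat_lit 1, nat_lit 0, nat_lit 1, nat_lit 0],
  [],
  [],
  [],
  [],
  [nat_lit 0, nat_lit 0, nat_lit 1, nat_lit 0, nat_lit 1, nat_lit 0, nat_lit 1, nat_lit 1, nat_lit 0, nat_lit 1, nat_lit 0],
  [],
  [],
  [],
  [],
  [nat_lit 0, nat_lit 1, nat_lit 1, nat_lit 0, nat_lit 1, nat_lit 0],
  [],
  [],
  [],
  [],
  [nat_lit 0, nat_lit 0, nat_lit 0, nat_lit 1, nat_lit 0, nat_lit 1, nat_lit 1, nat_lit 0],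
  [],
  [],
  [],
  [],
  [nat_lit 0, nat_lit 1, nat_lit 0, nat_lit 1, nat_lit 1, nat_lit 0, nat_lit 1, nat_lit 0, nat_lit 1],
  [],
  [],
  [],
  [],
  [nat_lit 0, nat_lit 1, nat_lit 0, nat_lit 1, nat_lit 0, nat_lit 1, nat_lit 1, nat_lit 0, nat_lit 1],
  [],
  [],
  [],
  [],
  [],
  [],
  [nat_lit 0, nat_lit 1, nat_lit 0, nat_lit 1, nat_lit 1, nat_lit 0, nat_lit 1, nat_lit 0, nat_lit 1, nat_lit 1],
  [],
  [nat_lit 0, nat_lit 1, nat_lit 0, nat_lit 1, nat_lit 1, nat_lit 0, nat_lit 1, nat_lit 1],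
  [],
  [],
  [],
  [],
  [],
  [],
  [nat_lit 0, nat_lit 1, nat_lit 0],
  [],
  [nat_lit 0, nat_lit 0, nat_lit 0, nat_lit 1, nat_lit 0, nat_lit 1, nat_lit 0, nat_lit 1],
  [],
  [],
  [],
  [],
  [],
  [],
  [nat_lit 1, nat_lit 1, nat_lit 0, nat_lit 1],
  [],
  [],
  [],
  [nat_lit 0, nat_lit 0, nat_lit 0, nat_lit 1, nat_lit 0, nat_lit 1, nat_lit 0, nat_lit 1, nat_lit 1],
  [],
  [],
  [],
  [nat_lit 0, nat_lit 0, nat_lit 0, nat_lit 1, nat_lit 0, nat_lit 1, nat_lit 1],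
  [],
  [],
  [],
  [],
  [],
  [],
  [],
  [],
  [nat_lit 0, nat_lit 0, nat_lit 0, nat_lit 1, nat_lit 1],
  [],
  [],
  [],
  [nat_lit 0, nat_lit 0, nat_lit 1],
  [],
  [],
  [],
  [nat_lit 0, nat_lit 0, nat_lit 1, nat_lit 0, nat_lit 1, nat_lit 1],
  [],
  [],
  [],
  [],
  [],
  [nat_lit 0, nat_lit 0, nat_lit 1, nat_lit 1],
  [],
  [],
  [],
  [],
  [],
  [nat_lit 0, nat_lit 1],
  [nat_lit 0, nat_lit 0, nat_lit 0, nat_lit 1, nat_lit 1, nat_lit 0, nat_lit 1],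
  [],
  [],
  [],
  [],
  [],
  [nat_lit 0, nat_lit 0, nat_lit 1, nat_lit 0, nat_lit 1, nat_lit 0, nat_lit 1, nat_lit 1],
  [],
  [],
  [],
  [],
  [],
  [nat_lit 0, nat_lit 0, nat_lit 1, nat_lit 0, nat_lit 1, nat_lit 0, nat_lit 1, nat_lit 1, nat_lit 0, nat_lit 1, nat_lit 1],
  [],
  [],
  [nat_lit 0, nat_lit 0, nat_lit 1, nat_lit 0, nat_lit 1, nat_lit 0],
  [],
  [],
  [],
  [],
  [],
  [],
  [],
  [nat_lit 0, nat_lit 1, nat_lit 1, nat_lit 0],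
  [],
  [],
  [nat_lit 0, nat_lit 0, nat_lit 0, nat_lit 1, nat_lit 1, nat_lit 0, nat_lit 1, nat_lit 0, nat_lit 1],
  [],
  [],
  [],
  [],
  [],
  [],
  [],
  [nat_lit 0, nat_lit 1, nat_lit 1, nat_lit 0, nat_lit 1, nat_lit 0, nat_lit 1, nat_lit 1, nat_lit 0, nat_lit 1],
  [],
  [],
  [],
  [],
  [nat_lit 0, nat_lit 0],
  [],
  [],
  [],
  [],
  [nat_lit 0, nat_lit 0, nat_lit 1, nat_lit 0, nat_lit 1, nat_lit 1, nat_lit 0, nat_lit 1],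
  [],
  [],
  [],
  [],
  [nat_lit 0, nat_lit 0, nat_lit 1, nat_lit 1, nat_lit 0, nat_lit 1, nat_lit 1],
  [],
  [],
  [],
  [],
  [nat_lit 1, nat_lit 0, nat_lit 1],
  [],
  [],
  [],
  [],
  [nat_lit 0, nat_lit 0, nat_lit 1, nat_lit 1, nat_lit 0, nat_lit 1, nat_lit 0, nat_lit 1, nat_lit 1],
  [],
  [],
  [],
  [],
  [nat_lit 0, nat_lit 1, nat_lit 1, nat_lit 0, nat_lit 1, nat_lit 0, nat_lit 1, nat_lit 1, nat_lit 0],
  [],
  [],
  [],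
  [nat_lit 1, nat_lit 1, nat_lit 0, nat_lit 1, nat_lit 0, nat_lit 1, nat_lit 1, nat_lit 0, nat_lit 1, nat_lit 0],
  [],
  [],
  [],
  [nat_lit 1, nat_lit 0, nat_lit 1, nat_lit 0, nat_lit 1, nat_lit 1, nat_lit 0],
  [],
  [],
  [],
  [nat_lit 0, nat_lit 1, nat_lit 0, nat_lit 1, nat_lit 1, nat_lit 0, nat_lit 1, nat_lit 0, nat_lit 1, nat_lit 1, nat_lit 0],
  [],
  [],
  [],
  [nat_lit 0, nat_lit 0, nat_lit 1, nat_lit 0, nat_lit 1, nat_lit 1, nat_lit 0, nat_lit 1, nat_lit 0],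
  [],
  [],
  [],
  [],
  [],
  [],
  [],
  [],
  [nat_lit 0, nat_lit 0, nat_lit 0, nat_lit 1, nat_lit 0, nat_lit 1, nat_lit 0],
  [],
  [],
  [nat_lit 1, nat_lit 1, nat_lit 0, nat_lit 1, nat_lit 0, nat_lit 1],
  [],
  [],
  [nat_lit 0, nat_lit 0, nat_lit 0, nat_lit 1, nat_lit 0, nat_lit 1, nat_lit 0, nat_lit 1, nat_lit 1, nat_lit 0, nat_lit 1, nat_lit 1],
  [],
  [],
  [],
  [],
  [],
  [],
  [],
  [nat_lit 0, nat_lit 0, nat_lit 1, nat_lit 1, nat_lit 0],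
  [],
  [],
  [nat_lit 0, nat_lit 0, nat_lit 1, nat_lit 1, nat_lit 0, nat_lit 1, nat_lit 0, nat_lit 1, nat_lit 1, nat_lit 0, nat_lit 1],
  [],
  [],
  [],
  [],
  [],
  [],
  [],
  [nat_lit 0, nat_lit 0, nat_lit 1, nat_lit 0, nat_lit 1, nat_lit 0, nat_lit 1],
  [],
  [nat_lit 1, nat_lit 0, nat_lit 1, nat_lit 1, nat_lit 0, nat_lit 1, nat_lit 0, nat_lit 1, nat_lit 1],
  [],
  [],
  [],
  [],
  [],
  [],
  [nat_lit 1, nat_lit 0],
  [],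
  [nat_lit 1, nat_lit 0, nat_lit 1, nat_lit 0, nat_lit 1, nat_lit 1, nat_lit 0, nat_lit 1],
  [],
  [],
  [],
  [],
  [],
  [],
  [nat_lit 1, nat_lit 0, nat_lit 1, nat_lit 1, nat_lit 0, nat_lit 1, nat_lit 1],
  [],
  [],
  [],
  [],
  [],
  [],
  [nat_lit 0, nat_lit 1, nat_lit 0, nat_lit 1, nat_lit 1, nat_lit 0, nat_lit 1, nat_lit 0],
  [nat_lit 1, nat_lit 1, nat_lit 0, nat_lit 1, nat_lit 0, nat_lit 1, nat_lit 1, nat_lit 0],
  [],
  [],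
  [],
  [],
  [],
  [nat_lit 1, nat_lit 0, nat_lit 1, nat_lit 0, nat_lit 1, nat_lit 1, nat_lit 0, nat_lit 1, nat_lit 0, nat_lit 1, nat_lit 1, nat_lit 0],
  [],
  [],
  [],
  [],
  [],
  [nat_lit 0, nat_lit 0, nat_lit 0, nat_lit 1, nat_lit 0, nat_lit 1, nat_lit 0, nat_lit 1, nat_lit 1, nat_lit 0],
  [],
  [],
  [],
  [],
  [],
  [nat_lit 1, nat_lit 0, nat_lit 1, nat_lit 1, nat_lit 0, nat_lit 1, nat_lit 0, nat_lit 1, nat_lit 1, nat_lit 0],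
  []]

theorem ivR : ivChk R (nat_lit 6) = true := by decide +kernel
theorem tcce_a : allZ2 (ent2 Tc Ec (selR RLc Ic) Dc (nat_lit 63) (nat_lit 43) (nat_lit 0) (nat_lit 51) (nat_lit 6) (nat_lit 511) (nat_lit 1)) (nat_lit 6) (nat_lit 51) = true := by decide +kernel
theorem tccp_0 : allZ (eps2 Tc Ec Jc Wc RLc (nat_lit 63) (nat_lit 43) (nat_lit 51) (nat_lit 6) (nat_lit 1)) (nat_lit 0) (nat_lit 8) = true := by decide +kernel
theorem tccr : rulesChk R cc.Sl RLc (nat_lit 6) = true := by decide +kernel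
theorem tccn : 0 < cc.M ∧ cc.n0 ≤ cc.M ∧ 0 < cc.K ∧ cc.K ≤ 6 ∧ cc.D 0 = 0 := by decide +kernel
theorem tccq : cc.M - cc.n = 8 := by decide +kernel
theorem gl : allL (ltAll 2) cc.Sl = true ∧ cc.goal [4] = 0 := by decide +kernel

theorem tcce : ∀ k < 6, ∀ i < 51, (ent2 Tc Ec (selR RLc Ic) Dc (nat_lit 63) (nat_lit 43) (nat_lit 0) (nat_lit 51) (nat_lit 6) (nat_lit 511) (nat_lit 1)) k i = 0 := allZ2_sound tcce_a
theorem tccp : ∀ i < 8, (eps2 Tc Ec Jc Wc RLc (nat_lit 63) (nat_lit 43) (nat_lit 51) (nat_lit 6) (nat_lit 1)) i = 0 := allZ_sound0 tccp_0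
theorem tcc : cc.OK R 6 := ⟨tccn, ivR, tccr, tcce, fun i h => tccp i (lt_of_lt_of_eq h tccq)⟩

end H16.HN3.AT
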