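import Cfsg.Agent.H16.N3AD
import Cfsg.Agent.H16.N3CT
import Cfsg.Agent.H1.Am1

/-! A model of the normaliser of the elementary abelian group of order `81`. Generated by tools/h16. -/

set_option autoImplicit false
set_option maxRecDepth 100000
set_option synthInstance.maxSize 2000

namespace H16.N3.M
open H16 H2.L3 H1.Am

def dec (i : ℕ) : F4 := (i, (i / 3 : ℕ), (i / 9 : ℕ), (i / 27 : ℕ))
def enc (v : F4) : ℕ := v.1.val + 3 * v.2.1.val + 9 * v.2.2.1.val + 27 * v.2.2.2.val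
def Mk (k : ℕ) : E4 := [Tl 2, Vj, Gj, Xj].getD k (u0, u1, u2, u3)
def ub (k : ℕ) : F4 := [0, 0, 0, 0, u0, u1, u2, u3].getD k 0
noncomputable def mw (W : List ℕ) : F4 → F4 := List.rec (fun v => v) (fun k _ ih v => ih (ap (Mk k) v)) W
noncomputable def Pd : List ℕ := [nat_lit 0x4895267509f2e6cc80fe0c68b1e1c288e1bb67cf5e3b74e583262b57ae66d5a284ea52a44cad52c407cf1d386d1a24260d192a5cb12284c80f223460e14245880e182840608080,
  nat_lit 0x468b1e144870603f7af1f3976e9c376d3e750973664a9321121467901f3a70db466d583262bd72d56a962752a13254864c1a2a5cb14264880f223070d16284870c201850808080,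
  nat_lit 0x3262c14a84e80f9e6ad19ac56a91a242bd72d4c9521d386e6cc97121c276e9cd09f3a3c68af9ebc952644180fdc376c5cb151c34605080cd19304480f101c314264858a1208080,
  nat_lit 0x2c52995a84aa93a48f120c687022c27e4470b203450f1825ab25ed18ae66c16d09b2a7cc933a5c8345ca192c4cc15248d01d447ce213c6df3b70f5d3778e5b080a083840218180,
  nat_lit 0x4f9d4264b9b2644a8d163c3851203f82f5e3e74e5db76ce1a336ac58325cb57ab54b14275295226448519f3c80e1b3a64c1a2c54b93245080f223460e14245870c202030a04002,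
  nat_lit 0x4d992e54991427ce890e14180fe3c68aedd3970ddb3e7af193160bd72d6ad19a9509d32548b15aa407cf1d386d1a2425cb15284c91a326070d182c5092240785080c1010020386,
  nat_lit 0x478d16243850603f7cf5e3b74e5c376d427ce9b325ca932162b54a54274c95223448501f3c74e1b6ad19b262c17ae5a4480f1c3460b14244070c14203040401a3260b962a50992,
  nat_lit 0x3568cd93160bd72d58ad529509d325488d121407cf1d386cd19305cb15284c911203c70d182c509101c305080c10101427ce9b325ca93223c68b121c28301fbe7af1dba72e1bb6]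
noncomputable def P (k u : ℕ) : ℕ := Nat.land (Nat.shiftRight (nth (nat_lit 0) Pd k) (Nat.mul u (nat_lit 7))) (nat_lit 127)
noncomputable def κ : List ℕ → ℕ := H15.CS.key (tot P 8) 81 [0, 1, 3, 9, 27]
noncomputable def TZ : Wl := [[],
  [],
  [nat_lit 3, nat_lit 2, nat_lit 2, nat_lit 3],
  [nat_lit 3],
  [nat_lit 3, nat_lit 1],
  [nat_lit 3, nat_lit 1, nat_lit 1],
  [nat_lit 3, nat_lit 2, nat_lit 2],
  [nat_lit 3, nat_lit 1, nat_lit 1, nat_lit 3],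
  [nat_lit 3, nat_lit 2, nat_lit 0, nat_lit 2],
  [nat_lit 3, nat_lit 2],
  [nat_lit 3, nat_lit 1, nat_lit 2],
  [nat_lit 3, nat_lit 2, nat_lit 0],
  [],
  [nat_lit 1],
  [nat_lit 0],
  [nat_lit 2],
  [nat_lit 1, nat_lit 2],
  [nat_lit 0, nat_lit 2],
  [nat_lit 3, nat_lit 2, nat_lit 2, nat_lit 2],
  [nat_lit 3, nat_lit 1, nat_lit 1, nat_lit 3, nat_lit 2],
  [nat_lit 3, nat_lit 2, nat_lit 0, nat_lit 2, nat_lit 2],
  [nat_lit 2, nat_lit 2, nat_lit 2],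
  [nat_lit 1, nat_lit 2, nat_lit 2, nat_lit 2],
  [nat_lit 0, nat_lit 2, nat_lit 2, nat_lit 2],
  [nat_lit 2, nat_lit 2],
  [nat_lit 1, nat_lit 2, nat_lit 2],
  [nat_lit 0, nat_lit 2, nat_lit 2],
  [nat_lit 3, nat_lit 2, nat_lit 3, nat_lit 2],
  [nat_lit 3, nat_lit 2],
  [nat_lit 2, nat_lit 2, nat_lit 3],
  [nat_lit 3, nat_lit 2, nat_lit 3, nat_lit 1, nat_lit 2],
  [nat_lit 3, nat_lit 1, nat_lit 2],
  [nat_lit 1, nat_lit 2, nat_lit 2, nat_lit 3],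
  [nat_lit 3, nat_lit 2, nat_lit 3, nat_lit 2, nat_lit 0],
  [nat_lit 3, nat_lit 2, nat_lit 0],
  [nat_lit 0, nat_lit 2, nat_lit 2, nat_lit 3],
  [nat_lit 3, nat_lit 1, nat_lit 2, nat_lit 3, nat_lit 2],
  [nat_lit 1, nat_lit 3, nat_lit 2],
  [nat_lit 0, nat_lit 3, nat_lit 1, nat_lit 3],
  [nat_lit 3, nat_lit 1, nat_lit 3],
  [nat_lit 3, nat_lit 1, nat_lit 2, nat_lit 3, nat_lit 1, nat_lit 2],
  [nat_lit 1, nat_lit 3, nat_lit 1, nat_lit 2],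
  [nat_lit 1, nat_lit 3, nat_lit 2, nat_lit 0],
  [nat_lit 1, nat_lit 3, nat_lit 1, nat_lit 3],
  [nat_lit 3, nat_lit 1, nat_lit 2, nat_lit 3, nat_lit 2, nat_lit 0],
  [nat_lit 3, nat_lit 2, nat_lit 0, nat_lit 3, nat_lit 2],
  [nat_lit 0, nat_lit 3, nat_lit 2],
  [nat_lit 0, nat_lit 2, nat_lit 3, nat_lit 2],
  [nat_lit 0, nat_lit 3, nat_lit 1, nat_lit 2],
  [nat_lit 3, nat_lit 1, nat_lit 3, nat_lit 1],
  [nat_lit 3, nat_lit 2, nat_lit 0, nat_lit 3, nat_lit 1, nat_lit 2],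
  [nat_lit 0, nat_lit 2, nat_lit 3, nat_lit 2, nat_lit 0],
  [nat_lit 3, nat_lit 2, nat_lit 0, nat_lit 3, nat_lit 2, nat_lit 0],
  [nat_lit 0, nat_lit 3, nat_lit 2, nat_lit 0],
  [nat_lit 3, nat_lit 2, nat_lit 3],
  [nat_lit 3],
  [nat_lit 2, nat_lit 3],
  [nat_lit 3, nat_lit 1, nat_lit 2, nat_lit 3],
  [nat_lit 1, nat_lit 3],
  [nat_lit 1, nat_lit 2, nat_lit 3],
  [nat_lit 3, nat_lit 2, nat_lit 0, nat_lit 3],
  [nat_lit 0, nat_lit 3],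
  [nat_lit 0, nat_lit 2, nat_lit 3],
  [nat_lit 3, nat_lit 2, nat_lit 3, nat_lit 1, nat_lit 1],
  [nat_lit 3, nat_lit 1, nat_lit 1],
  [nat_lit 2, nat_lit 3, nat_lit 1, nat_lit 1],
  [nat_lit 1, nat_lit 3, nat_lit 1, nat_lit 1],
  [nat_lit 1, nat_lit 2, nat_lit 3, nat_lit 1, nat_lit 1],
  [nat_lit 3, nat_lit 1, nat_lit 2, nat_lit 3, nat_lit 1, nat_lit 1],
  [nat_lit 3, nat_lit 1, nat_lit 3, nat_lit 2],
  [nat_lit 3, nat_lit 2, nat_lit 0, nat_lit 3, nat_lit 1, nat_lit 1],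
  [nat_lit 0, nat_lit 3, nat_lit 1, nat_lit 1],
  [nat_lit 3, nat_lit 2, nat_lit 3, nat_lit 1],
  [nat_lit 3, nat_lit 1],
  [nat_lit 2, nat_lit 3, nat_lit 1],
  [nat_lit 1, nat_lit 2, nat_lit 3, nat_lit 1],
  [nat_lit 3, nat_lit 1, nat_lit 2, nat_lit 3, nat_lit 1],
  [nat_lit 1, nat_lit 3, nat_lit 1],
  [nat_lit 0, nat_lit 3, nat_lit 1],
  [nat_lit 0, nat_lit 2, nat_lit 3, nat_lit 1],
  [nat_lit 3, nat_lit 2, nat_lit 0, nat_lit 3, nat_lit 1]]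
noncomputable def TY : Wl := [[],
  [],
  [],
  [],
  [nat_lit 1],
  [nat_lit 1, nat_lit 1],
  [nat_lit 2, nat_lit 2],
  [nat_lit 1, nat_lit 2, nat_lit 2],
  [nat_lit 2, nat_lit 0, nat_lit 2],
  [nat_lit 2],
  [nat_lit 1, nat_lit 2],
  [nat_lit 2, nat_lit 0],
  [],
  [],
  [],
  [],
  [],
  [],
  [nat_lit 2, nat_lit 2, nat_lit 2],
  [nat_lit 1, nat_lit 2, nat_lit 2, nat_lit 2],
  [nat_lit 2, nat_lit 0, nat_lit 2, nat_lit 2],
  [],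
  [],
  [],
  [],
  [],
  [],
  [],
  [],
  [],
  [],
  [],
  [],
  [],
  [],
  [],
  [],
  [],
  [],
  [],
  [],
  [],
  [],
  [],
  [],
  [],
  [],
  [],
  [],
  [],
  [],
  [],
  [],
  [],
  [],
  [],
  [],
  [],
  [],
  [],
  [],
  [],
  [],
  [],
  [],
  [],
  [],
  [],
  [],
  [],
  [],
  [],
  [],
  [],
  [],
  [],
  [],
  [],
  [],
  [],
  []]
noncomputable def T1 : Wl := [[nat_lit 3, nat_lit 2, nat_lit 3, nat_lit 2],
  [nat_lit 3, nat_lit 2, nat_lit 3],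
  [nat_lit 3, nat_lit 2],
  [nat_lit 3, nat_lit 1, nat_lit 2, nat_lit 3, nat_lit 2],
  [nat_lit 3, nat_lit 2, nat_lit 3, nat_lit 1, nat_lit 1],
  [nat_lit 3, nat_lit 2, nat_lit 2, nat_lit 2],
  [nat_lit 3, nat_lit 2, nat_lit 0, nat_lit 3, nat_lit 2],
  [nat_lit 3, nat_lit 2, nat_lit 3, nat_lit 1],
  [nat_lit 3],
  [nat_lit 3, nat_lit 2, nat_lit 3, nat_lit 1, nat_lit 2],
  [nat_lit 3, nat_lit 1, nat_lit 2, nat_lit 3],
  [nat_lit 3, nat_lit 2, nat_lit 2],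
  [nat_lit 3, nat_lit 2, nat_lit 3, nat_lit 2, nat_lit 0],
  [nat_lit 3, nat_lit 2, nat_lit 0, nat_lit 3],
  [],
  [nat_lit 3, nat_lit 1, nat_lit 2],
  [nat_lit 3, nat_lit 1, nat_lit 1, nat_lit 3, nat_lit 2],
  [nat_lit 3, nat_lit 1],
  [nat_lit 3, nat_lit 1, nat_lit 2, nat_lit 3, nat_lit 1, nat_lit 2],
  [nat_lit 3, nat_lit 1, nat_lit 2, nat_lit 3, nat_lit 1],
  [nat_lit 3, nat_lit 1, nat_lit 1, nat_lit 3],
  [nat_lit 3, nat_lit 2, nat_lit 0, nat_lit 3, nat_lit 1, nat_lit 1],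
  [nat_lit 3, nat_lit 2, nat_lit 0, nat_lit 3, nat_lit 2, nat_lit 0],
  [nat_lit 3, nat_lit 2, nat_lit 2, nat_lit 3],
  [nat_lit 3, nat_lit 2, nat_lit 0],
  [nat_lit 3, nat_lit 2, nat_lit 0, nat_lit 2, nat_lit 2],
  [nat_lit 3, nat_lit 1, nat_lit 1],
  [nat_lit 3, nat_lit 1, nat_lit 2, nat_lit 3, nat_lit 1, nat_lit 1],
  [nat_lit 3, nat_lit 2, nat_lit 0, nat_lit 3, nat_lit 1, nat_lit 2],
  [nat_lit 3, nat_lit 2, nat_lit 0, nat_lit 2],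
  [nat_lit 3, nat_lit 1, nat_lit 2, nat_lit 3, nat_lit 2, nat_lit 0],
  [nat_lit 3, nat_lit 2, nat_lit 0, nat_lit 3, nat_lit 1]]
noncomputable def T2 : Wl := [[nat_lit 2],
  [nat_lit 2, nat_lit 2, nat_lit 2],
  [],
  [nat_lit 2, nat_lit 2],
  [nat_lit 1, nat_lit 2],
  [nat_lit 1, nat_lit 2, nat_lit 2, nat_lit 2],
  [nat_lit 1],
  [nat_lit 1, nat_lit 2, nat_lit 2],
  [nat_lit 2, nat_lit 0],
  [nat_lit 2, nat_lit 0, nat_lit 2, nat_lit 2],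
  [nat_lit 1, nat_lit 1],
  [nat_lit 2, nat_lit 0, nat_lit 2]]
noncomputable def T3 : Wl := [[],
  [nat_lit 0],
  [nat_lit 0, nat_lit 0]]
noncomputable def Us : Wl := [[nat_lit 4, nat_lit 5, nat_lit 5, nat_lit 6, nat_lit 7],
  [nat_lit 4, nat_lit 4, nat_lit 5, nat_lit 6, nat_lit 6, nat_lit 7, nat_lit 7],
  [nat_lit 4, nat_lit 5, nat_lit 6, nat_lit 6, nat_lit 7],
  [nat_lit 4, nat_lit 4, nat_lit 5, nat_lit 5, nat_lit 6, nat_lit 7, nat_lit 7],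
  [nat_lit 4, nat_lit 4, nat_lit 7],
  [nat_lit 4, nat_lit 7, nat_lit 7],
  [nat_lit 0, nat_lit 1],
  [nat_lit 0, nat_lit 0, nat_lit 1, nat_lit 1],
  [nat_lit 3, nat_lit 2, nat_lit 2, nat_lit 3],
  [nat_lit 2, nat_lit 2, nat_lit 2, nat_lit 3, nat_lit 2, nat_lit 3],
  [],
  [nat_lit 0, nat_lit 0, nat_lit 1, nat_lit 2, nat_lit 3, nat_lit 2, nat_lit 0, nat_lit 3, nat_lit 1],
  [nat_lit 0, nat_lit 2, nat_lit 0, nat_lit 3, nat_lit 1, nat_lit 2, nat_lit 3, nat_lit 1, nat_lit 1],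
  [nat_lit 5, nat_lit 6],
  [nat_lit 5, nat_lit 5, nat_lit 6, nat_lit 6],
  [nat_lit 1, nat_lit 2, nat_lit 3, nat_lit 2, nat_lit 2]]
noncomputable def L24 : Wl := [[],
  [nat_lit 6],
  [nat_lit 7],
  [nat_lit 8],
  [nat_lit 9],
  [nat_lit 6, nat_lit 8],
  [nat_lit 6, nat_lit 9],
  [nat_lit 7, nat_lit 8],
  [nat_lit 7, nat_lit 9],
  [nat_lit 8, nat_lit 9],
  [nat_lit 9, nat_lit 6],
  [nat_lit 9, nat_lit 7],
  [nat_lit 6, nat_lit 8, nat_lit 9],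
  [nat_lit 6, nat_lit 9, nat_lit 6],
  [nat_lit 6, nat_lit 9, nat_lit 7],
  [nat_lit 7, nat_lit 8, nat_lit 9],
  [nat_lit 7, nat_lit 9, nat_lit 6],
  [nat_lit 7, nat_lit 9, nat_lit 7],
  [nat_lit 8, nat_lit 9, nat_lit 6],
  [nat_lit 8, nat_lit 9, nat_lit 7],
  [nat_lit 6, nat_lit 8, nat_lit 9, nat_lit 6],
  [nat_lit 6, nat_lit 8, nat_lit 9, nat_lit 7],
  [nat_lit 7, nat_lit 8, nat_lit 9, nat_lit 6],
  [nat_lit 7, nat_lit 8, nat_lit 9, nat_lit 7]]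
noncomputable def JW : Wl := [[nat_lit 0, nat_lit 2, nat_lit 4],
  [nat_lit 13, nat_lit 13, nat_lit 0, nat_lit 0, nat_lit 2],
  [nat_lit 13, nat_lit 13, nat_lit 0, nat_lit 2, nat_lit 2],
  [nat_lit 0, nat_lit 2, nat_lit 4, nat_lit 4]]
noncomputable def We : List ℕ := [nat_lit 2, nat_lit 2, nat_lit 3, nat_lit 2, nat_lit 2, nat_lit 3]
noncomputable def Woz : List ℕ := []
noncomputable def Woy : List ℕ := [nat_lit 3, nat_lit 2, nat_lit 2]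
noncomputable def κ2 (W : List ℕ) : ℕ := κ (fl Us W)
noncomputable def inJ (W : List ℕ) : Bool := allB (fun k => cjK κ W [k] [k]) [4, 5, 6, 7]

theorem tab : ∀ k < 8, ∀ i < 81, P k i < 81 ∧ dec (P k i) = ub k + ap (Mk k) (dec i) + ub k := by decide +kernel
theorem enc_dec : ∀ i < 81, enc (dec i) = i := by decide +kernel
theorem d_e : ∀ v, mw We v = -v := by decide +kernel
theorem d_tz : ∀ v, v ≠ 0 → (nth [] TZ (enc v) ∈ T1 ∧ mw (nth [] TZ (enc v)) u0 = v) ∨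
    mw (nth [] TZ (enc v)) (u1 + u2) = v := by decide +kernel
theorem d_ty : ∀ v : F4, v.2.2.2 = 0 → v.2.1 = 0 ∨ v.2.2.1 = 0 → (v = 0 ∨ v = u0 ∨ v = -u0) ∨
    nth [] TY (enc v) ∈ T2 ∧ mw (nth [] TY (enc v)) u0 = u0 ∧ mw (nth [] TY (enc v)) u1 = v := by decide +kernel
theorem d_tl : ∀ l, ∃ W ∈ T3, ∀ v, mw W v = ap (Tl l) v := by decide +kernel
theorem c_nj : allB (fun T => allB (fun U => allB (fun V => !cjK κ (H1.Am.app V (H1.Am.app U T)) [6, 5] [6, 5] ||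
    anyB (fun W => eqK κ (H1.Am.app V (H1.Am.app U T)) (fl Us W)) L24) T3) T2) T1 = true := by decide +kernel
theorem c_pr : allB (fun U => !inJ (rep (fl Us U) 3) || allB (fun V => !inJ (rep (fl Us V) 3) ||
    !inJ (rep (H1.Am.app (fl Us V) (fl Us U)) 4) || inJ (rep (H1.Am.app (fl Us V) (fl Us U)) 2)) L24) L24 = true := by
  decide +kernel
theorem c_24 : ∀ W ∈ L24, ∀ k ∈ W, k ∈ [6, 7, 8, 9] := by decide +kernel
theorem c_jw : ∀ k < 4, eqK κ [k + 4] (fl Us (nth [] JW k)) = true ∧ ∀ j ∈ nth [] JW k, j ∈ [13, 0, 2, 4] := by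
  decide +kernel
theorem c_R : allB (fun r => mem r 10 || eqK κ2 r []) CT.R = true := by decide +kernel

end H16.N3.M
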