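import Cfsg.Agent.H16.N3X2

/-! The conjugation table of the element fusing the two classes (generated). -/

set_option autoImplicit false
set_option maxRecDepth 100000
set_option Elab.async false

namespace H16.HN3
open Subgroup H0.TR H1.Am

namespace K
noncomputable def T1u : Wl := [[nat_lit 7, nat_lit 0, nat_lit 7, nat_lit 0],
  [nat_lit 10],
  [nat_lit 12],
  [nat_lit 14],
  [nat_lit 16]]
noncomputable def T1v : Wl := [[nat_lit 7, nat_lit 0, nat_lit 7, nat_lit 0],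
  [nat_lit 10, nat_lit 13],
  [nat_lit 10, nat_lit 12],
  [nat_lit 14, nat_lit 16],
  [nat_lit 14, nat_lit 17]]
noncomputable def T2u : Wl := [[nat_lit 7, nat_lit 0, nat_lit 7, nat_lit 0],
  [nat_lit 10],
  [nat_lit 12],
  [nat_lit 14],
  [nat_lit 16],
  [nat_lit 17, nat_lit 15],
  [nat_lit 16, nat_lit 15],
  [nat_lit 22, nat_lit 1, nat_lit 22]]
noncomputable def T2v : Wl := [[nat_lit 22, nat_lit 1, nat_lit 22],
  [nat_lit 13, nat_lit 10],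
  [nat_lit 12, nat_lit 10],
  [nat_lit 16, nat_lit 14],
  [nat_lit 17, nat_lit 14],
  [nat_lit 14],
  [nat_lit 16],
  [nat_lit 7, nat_lit 0, nat_lit 7, nat_lit 0]]
noncomputable def T2c : List (List ℕ × List ℕ × List ℕ) := [([nat_lit 7, nat_lit 0, nat_lit 7, nat_lit 0], [nat_lit 22, nat_lit 1, nat_lit 22], [nat_lit 0]),
  ([nat_lit 10], [nat_lit 13, nat_lit 10], [nat_lit 1]),
  ([nat_lit 12], [nat_lit 12, nat_lit 10], [nat_lit 2]),
  ([nat_lit 14], [nat_lit 16, nat_lit 14], [nat_lit 3]),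
  ([nat_lit 16], [nat_lit 17, nat_lit 14], [nat_lit 4]),
  ([nat_lit 17, nat_lit 15], [nat_lit 14], [nat_lit 3, nat_lit 3, nat_lit 4, nat_lit 4]),
  ([nat_lit 16, nat_lit 15], [nat_lit 16], [nat_lit 3, nat_lit 3, nat_lit 4]),
  ([nat_lit 22, nat_lit 1, nat_lit 22], [nat_lit 7, nat_lit 0, nat_lit 7, nat_lit 0], [nat_lit 0])]
noncomputable def T3u : Wl := [[nat_lit 0],
  [nat_lit 7, nat_lit 0, nat_lit 7, nat_lit 0],
  [nat_lit 10],
  [nat_lit 12],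
  [nat_lit 14],
  [nat_lit 16],
  [nat_lit 17, nat_lit 15],
  [nat_lit 16, nat_lit 15],
  [nat_lit 22, nat_lit 1, nat_lit 22]]
noncomputable def T3v : Wl := [[nat_lit 1, nat_lit 7, nat_lit 1],
  [nat_lit 22, nat_lit 1, nat_lit 22],
  [nat_lit 13, nat_lit 10],
  [nat_lit 12, nat_lit 10],
  [nat_lit 16, nat_lit 14],
  [nat_lit 17, nat_lit 14],
  [nat_lit 14],
  [nat_lit 16],
  [nat_lit 7, nat_lit 0, nat_lit 7, nat_lit 0]]
noncomputable def T3r : Wl := [[nat_lit 0, nat_lit 0],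
  [nat_lit 0, nat_lit 2, nat_lit 0, nat_lit 2, nat_lit 0, nat_lit 2]]
noncomputable def T3n : Wl := [[nat_lit 0]]
noncomputable def T3l : List (List ℕ × ℕ) := [([], nat_lit 0)]
noncomputable def T4u : Wl := [[nat_lit 7],
  [nat_lit 0],
  [nat_lit 7, nat_lit 0, nat_lit 7, nat_lit 0],
  [nat_lit 10],
  [nat_lit 12],
  [nat_lit 14],
  [nat_lit 16],
  [nat_lit 17, nat_lit 15],
  [nat_lit 16, nat_lit 15],
  [nat_lit 22, nat_lit 1, nat_lit 22]]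
noncomputable def T4v : Wl := [[nat_lit 0],
  [nat_lit 1, nat_lit 7, nat_lit 1],
  [nat_lit 22, nat_lit 1, nat_lit 22],
  [nat_lit 13, nat_lit 10],
  [nat_lit 12, nat_lit 10],
  [nat_lit 16, nat_lit 14],
  [nat_lit 17, nat_lit 14],
  [nat_lit 14],
  [nat_lit 16],
  [nat_lit 7, nat_lit 0, nat_lit 7, nat_lit 0]]
noncomputable def T4r : Wl := [[nat_lit 0, nat_lit 0],
  [nat_lit 0, nat_lit 3, nat_lit 0, nat_lit 4, nat_lit 0, nat_lit 3, nat_lit 0, nat_lit 4]]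
noncomputable def T4n : Wl := []
noncomputable def T4l : List (List ℕ × ℕ) := [([], nat_lit 0)]
noncomputable def L9 : Wl := [[nat_lit 17, nat_lit 14],
  [nat_lit 17, nat_lit 15],
  [nat_lit 17],
  [nat_lit 14],
  [nat_lit 15],
  [],
  [nat_lit 16, nat_lit 14],
  [nat_lit 16, nat_lit 15],
  [nat_lit 16]]
noncomputable def T5u : Wl := [[nat_lit 0],
  [nat_lit 7],
  [nat_lit 10],
  [nat_lit 12],
  [nat_lit 14],
  [nat_lit 16]]
noncomputable def T5v : Wl := [[nat_lit 1, nat_lit 7, nat_lit 1],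
  [nat_lit 0],
  [nat_lit 13, nat_lit 10],
  [nat_lit 12, nat_lit 10],
  [nat_lit 16, nat_lit 14],
  [nat_lit 17, nat_lit 14]]
noncomputable def T5c : List (List ℕ × List ℕ × List ℕ) := [([nat_lit 0], [nat_lit 1, nat_lit 7, nat_lit 1], [nat_lit 1]),
  ([nat_lit 7], [nat_lit 0], [nat_lit 0]),
  ([nat_lit 10], [nat_lit 13, nat_lit 10], [nat_lit 3]),
  ([nat_lit 12], [nat_lit 12, nat_lit 10], [nat_lit 4]),
  ([nat_lit 14], [nat_lit 16, nat_lit 14], [nat_lit 5]),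
  ([nat_lit 16], [nat_lit 17, nat_lit 14], [nat_lit 6])]
noncomputable def T5k : List (List ℕ × List ℕ × List ℕ) := [([nat_lit 2, nat_lit 2, nat_lit 3, nat_lit 3], [nat_lit 2, nat_lit 2, nat_lit 3, nat_lit 3], [nat_lit 10]),
  ([nat_lit 2, nat_lit 3, nat_lit 3], [nat_lit 2, nat_lit 3, nat_lit 3], [nat_lit 12]),
  ([nat_lit 4, nat_lit 5], [nat_lit 4, nat_lit 4, nat_lit 5, nat_lit 5], [nat_lit 14]),
  ([nat_lit 4, nat_lit 5, nat_lit 5], [nat_lit 4, nat_lit 4, nat_lit 5], [nat_lit 16]),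
  ([nat_lit 1], [nat_lit 1], [nat_lit 0])]
noncomputable def T6u : Wl := [[nat_lit 5, nat_lit 2],
  [nat_lit 0],
  [nat_lit 7],
  [nat_lit 10],
  [nat_lit 12],
  [nat_lit 14],
  [nat_lit 16]]
noncomputable def T6v : Wl := [[nat_lit 5, nat_lit 2],
  [nat_lit 1, nat_lit 7, nat_lit 1],
  [nat_lit 0],
  [nat_lit 13, nat_lit 10],
  [nat_lit 12, nat_lit 10],
  [nat_lit 16, nat_lit 14],
  [nat_lit 17, nat_lit 14]]
noncomputable def T6r : Wl := []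
noncomputable def T6n : Wl := []
noncomputable def T6l : List (List ℕ × ℕ) := [([nat_lit 17, nat_lit 14], nat_lit 0), ([nat_lit 17, nat_lit 15], nat_lit 0), ([nat_lit 17], nat_lit 0), ([nat_lit 14], nat_lit 0), ([nat_lit 15], nat_lit 0), ([], nat_lit 0), ([nat_lit 16, nat_lit 14], nat_lit 0), ([nat_lit 16, nat_lit 15], nat_lit 0), ([nat_lit 16], nat_lit 0)]
noncomputable def T7u : Wl := [[nat_lit 5, nat_lit 2],
  [nat_lit 0],
  [nat_lit 7],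
  [nat_lit 10],
  [nat_lit 12],
  [nat_lit 14],
  [nat_lit 16],
  [nat_lit 13, nat_lit 11],
  [nat_lit 13, nat_lit 10],
  [nat_lit 7],
  [nat_lit 5, nat_lit 2]]
noncomputable def T7v : Wl := [[nat_lit 5, nat_lit 2],
  [nat_lit 1, nat_lit 7, nat_lit 1],
  [nat_lit 0],
  [nat_lit 13, nat_lit 10],
  [nat_lit 12, nat_lit 10],
  [nat_lit 16, nat_lit 14],
  [nat_lit 17, nat_lit 14],
  [nat_lit 10],
  [nat_lit 12],
  [nat_lit 0],
  [nat_lit 5, nat_lit 2]]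
noncomputable def T7c : List (List ℕ × List ℕ × List ℕ) := [([nat_lit 5, nat_lit 2], [nat_lit 5, nat_lit 2], [nat_lit 0]),
  ([nat_lit 0], [nat_lit 1, nat_lit 7, nat_lit 1], [nat_lit 1]),
  ([nat_lit 7], [nat_lit 0], [nat_lit 2]),
  ([nat_lit 10], [nat_lit 13, nat_lit 10], [nat_lit 3]),
  ([nat_lit 12], [nat_lit 12, nat_lit 10], [nat_lit 4]),
  ([nat_lit 14], [nat_lit 16, nat_lit 14], [nat_lit 5]),
  ([nat_lit 16], [nat_lit 17, nat_lit 14], [nat_lit 6]),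
  ([nat_lit 13, nat_lit 11], [nat_lit 10], [nat_lit 3, nat_lit 3, nat_lit 4, nat_lit 4]),
  ([nat_lit 13, nat_lit 10], [nat_lit 12], [nat_lit 3, nat_lit 4, nat_lit 4]),
  ([nat_lit 7], [nat_lit 0], [nat_lit 2]),
  ([nat_lit 5, nat_lit 2], [nat_lit 5, nat_lit 2], [nat_lit 0])]
noncomputable def T8u : Wl := [[nat_lit 16, nat_lit 4, nat_lit 17, nat_lit 2],
  [nat_lit 5, nat_lit 2],
  [nat_lit 0],
  [nat_lit 7],
  [nat_lit 10],
  [nat_lit 12],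
  [nat_lit 14],
  [nat_lit 16],
  [nat_lit 13, nat_lit 11],
  [nat_lit 13, nat_lit 10],
  [nat_lit 7],
  [nat_lit 5, nat_lit 2]]
noncomputable def T8v : Wl := [[nat_lit 14, nat_lit 4, nat_lit 5, nat_lit 3, nat_lit 4, nat_lit 15],
  [nat_lit 5, nat_lit 2],
  [nat_lit 1, nat_lit 7, nat_lit 1],
  [nat_lit 0],
  [nat_lit 13, nat_lit 10],
  [nat_lit 12, nat_lit 10],
  [nat_lit 16, nat_lit 14],
  [nat_lit 17, nat_lit 14],
  [nat_lit 10],
  [nat_lit 12],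
  [nat_lit 0],
  [nat_lit 5, nat_lit 2]]
noncomputable def T8r : Wl := [[nat_lit 0, nat_lit 6, nat_lit 0, nat_lit 6, nat_lit 0, nat_lit 6]]
noncomputable def T8n : Wl := [[nat_lit 0]]
noncomputable def T8l : List (List ℕ × ℕ) := [([], nat_lit 0)]
noncomputable def T9u : Wl := [[nat_lit 0],
  [nat_lit 10],
  [nat_lit 12],
  [nat_lit 14],
  [nat_lit 16],
  [nat_lit 16, nat_lit 4, nat_lit 17, nat_lit 2]]
noncomputable def T9v : Wl := [[nat_lit 1, nat_lit 7, nat_lit 1],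
  [nat_lit 13, nat_lit 10],
  [nat_lit 12, nat_lit 10],
  [nat_lit 16, nat_lit 14],
  [nat_lit 17, nat_lit 14],
  [nat_lit 14, nat_lit 4, nat_lit 5, nat_lit 3, nat_lit 4, nat_lit 15]]
noncomputable def T9c : List (List ℕ × List ℕ × List ℕ) := [([nat_lit 0], [nat_lit 1, nat_lit 7, nat_lit 1], [nat_lit 2]),
  ([nat_lit 10], [nat_lit 13, nat_lit 10], [nat_lit 4]),
  ([nat_lit 12], [nat_lit 12, nat_lit 10], [nat_lit 5]),
  ([nat_lit 14], [nat_lit 16, nat_lit 14], [nat_lit 6]),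
  ([nat_lit 16], [nat_lit 17, nat_lit 14], [nat_lit 7]),
  ([nat_lit 16, nat_lit 4, nat_lit 17, nat_lit 2], [nat_lit 14, nat_lit 4, nat_lit 5, nat_lit 3, nat_lit 4, nat_lit 15], [nat_lit 0])]
noncomputable def T9k : List (List ℕ × List ℕ × List ℕ) := [([nat_lit 1, nat_lit 2, nat_lit 2], [nat_lit 1, nat_lit 1, nat_lit 2, nat_lit 2], [nat_lit 10]),
  ([nat_lit 1, nat_lit 1, nat_lit 2, nat_lit 2], [nat_lit 1, nat_lit 2, nat_lit 2], [nat_lit 12]),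
  ([nat_lit 3, nat_lit 4, nat_lit 4], [nat_lit 3, nat_lit 3, nat_lit 4, nat_lit 4], [nat_lit 14]),
  ([nat_lit 3, nat_lit 4], [nat_lit 3, nat_lit 3, nat_lit 4], [nat_lit 16]),
  ([nat_lit 2, nat_lit 0, nat_lit 1, nat_lit 0, nat_lit 2, nat_lit 0, nat_lit 1, nat_lit 0, nat_lit 2], [nat_lit 1, nat_lit 0, nat_lit 2, nat_lit 0, nat_lit 1, nat_lit 0, nat_lit 2, nat_lit 0, nat_lit 1], [nat_lit 0]),
  ([nat_lit 4, nat_lit 5, nat_lit 3, nat_lit 5, nat_lit 4, nat_lit 5, nat_lit 3, nat_lit 5, nat_lit 4], [nat_lit 3, nat_lit 4, nat_lit 5, nat_lit 3, nat_lit 3, nat_lit 4, nat_lit 5, nat_lit 3, nat_lit 4], [nat_lit 16, nat_lit 4, nat_lit 17, nat_lit 2])]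
noncomputable def T10u : Wl := [[nat_lit 2],
  [nat_lit 0],
  [nat_lit 10],
  [nat_lit 12],
  [nat_lit 14],
  [nat_lit 16],
  [nat_lit 16, nat_lit 4, nat_lit 17, nat_lit 2]]
noncomputable def T10v : Wl := [[nat_lit 6, nat_lit 2, nat_lit 23, nat_lit 0, nat_lit 7, nat_lit 18],
  [nat_lit 1, nat_lit 7, nat_lit 1],
  [nat_lit 13, nat_lit 10],
  [nat_lit 12, nat_lit 10],
  [nat_lit 16, nat_lit 14],
  [nat_lit 17, nat_lit 14],
  [nat_lit 14, nat_lit 4, nat_lit 5, nat_lit 3, nat_lit 4, nat_lit 15]]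
noncomputable def T10r : Wl := []
noncomputable def T10n : Wl := []
noncomputable def T10l : List (List ℕ × ℕ) := [([], nat_lit 0)]
noncomputable def T11u : Wl := [[nat_lit 0],
  [nat_lit 2],
  [nat_lit 3],
  [nat_lit 4],
  [nat_lit 5],
  [nat_lit 6],
  [nat_lit 7],
  [nat_lit 10],
  [nat_lit 12]]
noncomputable def T11v : Wl := [[nat_lit 1, nat_lit 7, nat_lit 1],
  [nat_lit 6, nat_lit 2, nat_lit 23, nat_lit 0, nat_lit 7, nat_lit 18],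
  [nat_lit 10, nat_lit 0, nat_lit 7, nat_lit 18, nat_lit 20],
  [nat_lit 3, nat_lit 15, nat_lit 17, nat_lit 4, nat_lit 5, nat_lit 14, nat_lit 0, nat_lit 7],
  [nat_lit 18, nat_lit 23, nat_lit 18, nat_lit 24],
  [nat_lit 17, nat_lit 15, nat_lit 19, nat_lit 7, nat_lit 0, nat_lit 24],
  [nat_lit 0],
  [nat_lit 13, nat_lit 10],
  [nat_lit 12, nat_lit 10]]
noncomputable def T11c : List (List ℕ × List ℕ × List ℕ) := [([nat_lit 0], [nat_lit 1, nat_lit 7, nat_lit 1], [nat_lit 1]),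
  ([nat_lit 2], [nat_lit 6, nat_lit 2, nat_lit 23, nat_lit 0, nat_lit 7, nat_lit 18], [nat_lit 0]),
  ([nat_lit 3], [nat_lit 10, nat_lit 0, nat_lit 7, nat_lit 18, nat_lit 20], [nat_lit 4, nat_lit 0]),
  ([nat_lit 4], [nat_lit 3, nat_lit 15, nat_lit 17, nat_lit 4, nat_lit 5, nat_lit 14, nat_lit 0, nat_lit 7], [nat_lit 0, nat_lit 5, nat_lit 5, nat_lit 6, nat_lit 5]),
  ([nat_lit 5], [nat_lit 18, nat_lit 23, nat_lit 18, nat_lit 24], [nat_lit 0, nat_lit 5, nat_lit 6, nat_lit 5, nat_lit 5, nat_lit 6, nat_lit 5, nat_lit 6]),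
  ([nat_lit 6], [nat_lit 17, nat_lit 15, nat_lit 19, nat_lit 7, nat_lit 0, nat_lit 24], [nat_lit 0, nat_lit 6, nat_lit 5, nat_lit 6, nat_lit 5, nat_lit 5, nat_lit 6]),
  ([nat_lit 7], [nat_lit 0], [nat_lit 2, nat_lit 1, nat_lit 3, nat_lit 1, nat_lit 2, nat_lit 1, nat_lit 3, nat_lit 1, nat_lit 2]),
  ([nat_lit 10], [nat_lit 13, nat_lit 10], [nat_lit 2]),
  ([nat_lit 12], [nat_lit 12, nat_lit 10], [nat_lit 3])]
noncomputable def T12u : Wl := [[nat_lit 0],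
  [nat_lit 2],
  [nat_lit 3],
  [nat_lit 4],
  [nat_lit 5],
  [nat_lit 6],
  [nat_lit 7],
  [nat_lit 10],
  [nat_lit 12]]
noncomputable def T12v : Wl := [[nat_lit 7],
  [nat_lit 6, nat_lit 4, nat_lit 2, nat_lit 7, nat_lit 0],
  [nat_lit 6, nat_lit 5, nat_lit 3, nat_lit 4, nat_lit 5, nat_lit 6, nat_lit 2, nat_lit 3, nat_lit 0, nat_lit 7, nat_lit 5],
  [nat_lit 5, nat_lit 6, nat_lit 4, nat_lit 2, nat_lit 0, nat_lit 7, nat_lit 5],
  [nat_lit 6, nat_lit 3, nat_lit 0, nat_lit 7, nat_lit 4, nat_lit 2, nat_lit 3],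
  [nat_lit 5, nat_lit 6, nat_lit 4, nat_lit 5, nat_lit 6, nat_lit 2, nat_lit 0, nat_lit 7, nat_lit 4],
  [nat_lit 0],
  [nat_lit 0, nat_lit 13, nat_lit 10, nat_lit 0],
  [nat_lit 0, nat_lit 12, nat_lit 10, nat_lit 0]]
noncomputable def T13u : Wl := [[nat_lit 7],
  [nat_lit 6, nat_lit 4, nat_lit 2, nat_lit 7, nat_lit 0],
  [nat_lit 6, nat_lit 5, nat_lit 3, nat_lit 4, nat_lit 5, nat_lit 6, nat_lit 2, nat_lit 3, nat_lit 0, nat_lit 7, nat_lit 5],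
  [nat_lit 5, nat_lit 6, nat_lit 4, nat_lit 2, nat_lit 0, nat_lit 7, nat_lit 5],
  [nat_lit 6, nat_lit 3, nat_lit 0, nat_lit 7, nat_lit 4, nat_lit 2, nat_lit 3],
  [nat_lit 5, nat_lit 6, nat_lit 4, nat_lit 5, nat_lit 6, nat_lit 2, nat_lit 0, nat_lit 7, nat_lit 4],
  [nat_lit 0],
  [nat_lit 0, nat_lit 13, nat_lit 10, nat_lit 0],
  [nat_lit 0, nat_lit 12, nat_lit 10, nat_lit 0]]
noncomputable def T13v : Wl := [[nat_lit 0],
  [nat_lit 2],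
  [nat_lit 4, nat_lit 3, nat_lit 4],
  [nat_lit 4],
  [nat_lit 16, nat_lit 4, nat_lit 17],
  [nat_lit 6],
  [nat_lit 7],
  [nat_lit 10],
  [nat_lit 12]]
noncomputable def T13c : List (List ℕ × List ℕ × List ℕ) := [([nat_lit 7], [nat_lit 0], [nat_lit 6]),
  ([nat_lit 6, nat_lit 4, nat_lit 2, nat_lit 7, nat_lit 0], [nat_lit 2], [nat_lit 0, nat_lit 1, nat_lit 3, nat_lit 6, nat_lit 5]),
  ([nat_lit 6, nat_lit 5, nat_lit 3, nat_lit 4, nat_lit 5, nat_lit 6, nat_lit 2, nat_lit 3, nat_lit 0, nat_lit 7, nat_lit 5], [nat_lit 4, nat_lit 3, nat_lit 4], [nat_lit 0, nat_lit 2, nat_lit 1, nat_lit 3, nat_lit 4, nat_lit 3, nat_lit 5, nat_lit 4, nat_lit 3, nat_lit 6, nat_lit 2]),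
  ([nat_lit 5, nat_lit 6, nat_lit 4, nat_lit 2, nat_lit 0, nat_lit 7, nat_lit 5], [nat_lit 4], [nat_lit 0, nat_lit 1, nat_lit 4, nat_lit 3, nat_lit 5, nat_lit 6, nat_lit 4]),
  ([nat_lit 6, nat_lit 3, nat_lit 0, nat_lit 7, nat_lit 4, nat_lit 2, nat_lit 3], [nat_lit 16, nat_lit 4, nat_lit 17], [nat_lit 0, nat_lit 2, nat_lit 1, nat_lit 3, nat_lit 2, nat_lit 6, nat_lit 5]),
  ([nat_lit 5, nat_lit 6, nat_lit 4, nat_lit 5, nat_lit 6, nat_lit 2, nat_lit 0, nat_lit 7, nat_lit 4], [nat_lit 6], [nat_lit 0, nat_lit 1, nat_lit 3, nat_lit 4, nat_lit 3, nat_lit 5, nat_lit 4, nat_lit 6, nat_lit 3]),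
  ([nat_lit 0], [nat_lit 7], [nat_lit 0]),
  ([nat_lit 0, nat_lit 13, nat_lit 10, nat_lit 0], [nat_lit 10], [nat_lit 0, nat_lit 7, nat_lit 8, nat_lit 8, nat_lit 0]),
  ([nat_lit 0, nat_lit 12, nat_lit 10, nat_lit 0], [nat_lit 12], [nat_lit 0, nat_lit 7, nat_lit 8, nat_lit 0])]
noncomputable def T14u : Wl := [[nat_lit 0],
  [nat_lit 2],
  [nat_lit 3],
  [nat_lit 4],
  [nat_lit 5],
  [nat_lit 6],
  [nat_lit 7],
  [nat_lit 10],
  [nat_lit 12]]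
noncomputable def T14v : Wl := [[nat_lit 0],
  [nat_lit 2],
  [nat_lit 3],
  [nat_lit 4],
  [nat_lit 5],
  [nat_lit 6],
  [nat_lit 7],
  [nat_lit 10],
  [nat_lit 12]]
noncomputable def T15u : Wl := [[nat_lit 10],
  [nat_lit 12],
  [nat_lit 14],
  [nat_lit 16],
  [nat_lit 0],
  [nat_lit 16, nat_lit 4, nat_lit 17, nat_lit 2]]
noncomputable def T15v : Wl := [[nat_lit 10],
  [nat_lit 12],
  [nat_lit 14],
  [nat_lit 16],
  [nat_lit 0],
  [nat_lit 16, nat_lit 4, nat_lit 17, nat_lit 2]]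
noncomputable def T15c : List (List ℕ × List ℕ × List ℕ) := [([nat_lit 10], [nat_lit 10], [nat_lit 7]),
  ([nat_lit 12], [nat_lit 12], [nat_lit 8]),
  ([nat_lit 14], [nat_lit 14], [nat_lit 2, nat_lit 1]),
  ([nat_lit 16], [nat_lit 16], [nat_lit 5, nat_lit 4]),
  ([nat_lit 0], [nat_lit 0], [nat_lit 0]),
  ([nat_lit 16, nat_lit 4, nat_lit 17, nat_lit 2], [nat_lit 16, nat_lit 4, nat_lit 17, nat_lit 2], [nat_lit 1, nat_lit 3, nat_lit 4, nat_lit 5, nat_lit 4, nat_lit 3])]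
noncomputable def T16u : Wl := [[nat_lit 0],
  [nat_lit 2],
  [nat_lit 3],
  [nat_lit 4],
  [nat_lit 5],
  [nat_lit 6],
  [nat_lit 7]]
noncomputable def T16v : Wl := [[nat_lit 7],
  [nat_lit 4, nat_lit 0, nat_lit 6, nat_lit 7, nat_lit 2],
  [nat_lit 16, nat_lit 3, nat_lit 4, nat_lit 16, nat_lit 15, nat_lit 0, nat_lit 7, nat_lit 6],
  [nat_lit 17, nat_lit 4, nat_lit 5, nat_lit 0, nat_lit 7, nat_lit 2],
  [nat_lit 3, nat_lit 4, nat_lit 15, nat_lit 0, nat_lit 7, nat_lit 6],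
  [nat_lit 16, nat_lit 4, nat_lit 5, nat_lit 16, nat_lit 2, nat_lit 7, nat_lit 0],
  [nat_lit 0]]
noncomputable def T16c : List (List ℕ × List ℕ × List ℕ) := [([nat_lit 0], [nat_lit 7], [nat_lit 0]),
  ([nat_lit 2], [nat_lit 4, nat_lit 0, nat_lit 6, nat_lit 7, nat_lit 2], [nat_lit 1]),
  ([nat_lit 3], [nat_lit 16, nat_lit 3, nat_lit 4, nat_lit 16, nat_lit 15, nat_lit 0, nat_lit 7, nat_lit 6], [nat_lit 2]),
  ([nat_lit 4], [nat_lit 17, nat_lit 4, nat_lit 5, nat_lit 0, nat_lit 7, nat_lit 2], [nat_lit 3]),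
  ([nat_lit 5], [nat_lit 3, nat_lit 4, nat_lit 15, nat_lit 0, nat_lit 7, nat_lit 6], [nat_lit 4]),
  ([nat_lit 6], [nat_lit 16, nat_lit 4, nat_lit 5, nat_lit 16, nat_lit 2, nat_lit 7, nat_lit 0], [nat_lit 5]),
  ([nat_lit 7], [nat_lit 0], [nat_lit 6])]
noncomputable def R0 : Wl := [[nat_lit 0, nat_lit 0],
  [nat_lit 1, nat_lit 1],
  [nat_lit 2, nat_lit 2],
  [nat_lit 3, nat_lit 3],
  [nat_lit 4, nat_lit 4],
  [nat_lit 5, nat_lit 5],
  [nat_lit 6, nat_lit 6],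
  [nat_lit 7, nat_lit 7],
  [nat_lit 0, nat_lit 1, nat_lit 0, nat_lit 1, nat_lit 0, nat_lit 1],
  [nat_lit 0, nat_lit 2, nat_lit 0, nat_lit 2],
  [nat_lit 0, nat_lit 3, nat_lit 0, nat_lit 3],
  [nat_lit 0, nat_lit 4, nat_lit 0, nat_lit 4],
  [nat_lit 0, nat_lit 5, nat_lit 0, nat_lit 5],
  [nat_lit 0, nat_lit 6, nat_lit 0, nat_lit 6],
  [nat_lit 1, nat_lit 2, nat_lit 1, nat_lit 2, nat_lit 1, nat_lit 2],
  [nat_lit 1, nat_lit 3, nat_lit 1, nat_lit 3],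
  [nat_lit 1, nat_lit 4, nat_lit 1, nat_lit 4],
  [nat_lit 1, nat_lit 5, nat_lit 1, nat_lit 5],
  [nat_lit 1, nat_lit 6, nat_lit 1, nat_lit 6],
  [nat_lit 2, nat_lit 3, nat_lit 2, nat_lit 3, nat_lit 2, nat_lit 3],
  [nat_lit 2, nat_lit 4, nat_lit 2, nat_lit 4],
  [nat_lit 2, nat_lit 5, nat_lit 2, nat_lit 5],
  [nat_lit 2, nat_lit 6, nat_lit 2, nat_lit 6],
  [nat_lit 3, nat_lit 4, nat_lit 3, nat_lit 4, nat_lit 3, nat_lit 4],
  [nat_lit 3, nat_lit 5, nat_lit 3, nat_lit 5],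
  [nat_lit 3, nat_lit 6, nat_lit 3, nat_lit 6],
  [nat_lit 4, nat_lit 5, nat_lit 4, nat_lit 5, nat_lit 4, nat_lit 5],
  [nat_lit 4, nat_lit 6, nat_lit 4, nat_lit 6],
  [nat_lit 5, nat_lit 6, nat_lit 5, nat_lit 6, nat_lit 5, nat_lit 6],
  [nat_lit 7, nat_lit 0, nat_lit 7, nat_lit 0, nat_lit 7, nat_lit 0, nat_lit 7, nat_lit 0],
  [nat_lit 7, nat_lit 0, nat_lit 7, nat_lit 0, nat_lit 7, nat_lit 1, nat_lit 7, nat_lit 1],
  [nat_lit 7, nat_lit 0, nat_lit 7, nat_lit 0, nat_lit 7, nat_lit 2, nat_lit 7, nat_lit 2],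
  [nat_lit 7, nat_lit 0, nat_lit 7, nat_lit 0, nat_lit 7, nat_lit 3, nat_lit 7, nat_lit 3],
  [nat_lit 7, nat_lit 0, nat_lit 7, nat_lit 0, nat_lit 7, nat_lit 4, nat_lit 7, nat_lit 4],
  [nat_lit 7, nat_lit 0, nat_lit 7, nat_lit 0, nat_lit 7, nat_lit 5, nat_lit 7, nat_lit 5],
  [nat_lit 7, nat_lit 0, nat_lit 7, nat_lit 0, nat_lit 7, nat_lit 6, nat_lit 7, nat_lit 6],
  [nat_lit 7, nat_lit 0, nat_lit 7, nat_lit 0, nat_lit 0, nat_lit 7, nat_lit 0, nat_lit 7, nat_lit 0, nat_lit 0],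
  [nat_lit 7, nat_lit 0, nat_lit 7, nat_lit 0, nat_lit 1, nat_lit 7, nat_lit 0, nat_lit 7, nat_lit 0, nat_lit 1],
  [nat_lit 7, nat_lit 0, nat_lit 7, nat_lit 0, nat_lit 2, nat_lit 7, nat_lit 0, nat_lit 7, nat_lit 0, nat_lit 2],
  [nat_lit 7, nat_lit 0, nat_lit 7, nat_lit 0, nat_lit 3, nat_lit 7, nat_lit 0, nat_lit 7, nat_lit 0, nat_lit 3],
  [nat_lit 7, nat_lit 0, nat_lit 7, nat_lit 0, nat_lit 4, nat_lit 7, nat_lit 0, nat_lit 7, nat_lit 0, nat_lit 4],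
  [nat_lit 7, nat_lit 0, nat_lit 7, nat_lit 0, nat_lit 5, nat_lit 7, nat_lit 0, nat_lit 7, nat_lit 0, nat_lit 5],
  [nat_lit 7, nat_lit 0, nat_lit 7, nat_lit 0, nat_lit 6, nat_lit 7, nat_lit 0, nat_lit 7, nat_lit 0, nat_lit 6]]
noncomputable def RG : Wl := [[nat_lit 9, nat_lit 0, nat_lit 8, nat_lit 7],
  [nat_lit 9, nat_lit 2, nat_lit 8, nat_lit 0, nat_lit 7, nat_lit 2, nat_lit 4, nat_lit 6],
  [nat_lit 9, nat_lit 3, nat_lit 8, nat_lit 5, nat_lit 7, nat_lit 0, nat_lit 3, nat_lit 2, nat_lit 6, nat_lit 5, nat_lit 4, nat_lit 3, nat_lit 5, nat_lit 6],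
  [nat_lit 9, nat_lit 4, nat_lit 8, nat_lit 5, nat_lit 7, nat_lit 0, nat_lit 2, nat_lit 4, nat_lit 6, nat_lit 5],
  [nat_lit 9, nat_lit 5, nat_lit 8, nat_lit 3, nat_lit 2, nat_lit 4, nat_lit 7, nat_lit 0, nat_lit 3, nat_lit 6],
  [nat_lit 9, nat_lit 6, nat_lit 8, nat_lit 4, nat_lit 7, nat_lit 0, nat_lit 2, nat_lit 6, nat_lit 5, nat_lit 4, nat_lit 6, nat_lit 5],
  [nat_lit 9, nat_lit 7, nat_lit 8, nat_lit 0]]
noncomputable def RGc : List (List ℕ × List ℕ × List ℕ) := [([nat_lit 0], [nat_lit 7], [nat_lit 0]),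
  ([nat_lit 2], [nat_lit 0, nat_lit 7, nat_lit 2, nat_lit 4, nat_lit 6], [nat_lit 1]),
  ([nat_lit 3], [nat_lit 5, nat_lit 7, nat_lit 0, nat_lit 3, nat_lit 2, nat_lit 6, nat_lit 5, nat_lit 4, nat_lit 3, nat_lit 5, nat_lit 6], [nat_lit 2]),
  ([nat_lit 4], [nat_lit 5, nat_lit 7, nat_lit 0, nat_lit 2, nat_lit 4, nat_lit 6, nat_lit 5], [nat_lit 3]),
  ([nat_lit 5], [nat_lit 3, nat_lit 2, nat_lit 4, nat_lit 7, nat_lit 0, nat_lit 3, nat_lit 6], [nat_lit 4]),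
  ([nat_lit 6], [nat_lit 4, nat_lit 7, nat_lit 0, nat_lit 2, nat_lit 6, nat_lit 5, nat_lit 4, nat_lit 6, nat_lit 5], [nat_lit 5]),
  ([nat_lit 7], [nat_lit 0], [nat_lit 6])]
noncomputable def T17u : Wl := [[nat_lit 0],
  [nat_lit 2],
  [nat_lit 3],
  [nat_lit 4],
  [nat_lit 5],
  [nat_lit 6],
  [nat_lit 7]]
noncomputable def T17v : Wl := [[nat_lit 7],
  [nat_lit 4, nat_lit 0, nat_lit 6, nat_lit 7, nat_lit 2],
  [nat_lit 5, nat_lit 18, nat_lit 4, nat_lit 5, nat_lit 16, nat_lit 15, nat_lit 20, nat_lit 0, nat_lit 1, nat_lit 7],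
  [nat_lit 4, nat_lit 3, nat_lit 14, nat_lit 18, nat_lit 7, nat_lit 19, nat_lit 24, nat_lit 0, nat_lit 7, nat_lit 18, nat_lit 0, nat_lit 19],
  [nat_lit 1, nat_lit 0, nat_lit 15, nat_lit 6, nat_lit 7, nat_lit 3, nat_lit 4, nat_lit 1],
  [nat_lit 19, nat_lit 4, nat_lit 1, nat_lit 19, nat_lit 17, nat_lit 22, nat_lit 15, nat_lit 22, nat_lit 14, nat_lit 20, nat_lit 0, nat_lit 19, nat_lit 7],
  [nat_lit 4]]
noncomputable def L2 : List (List ℕ × List ℕ × List ℕ) := [([nat_lit 0, nat_lit 6, nat_lit 0, nat_lit 6], [nat_lit 0, nat_lit 6, nat_lit 0, nat_lit 6], [nat_lit 7, nat_lit 0, nat_lit 7, nat_lit 0]),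
  ([nat_lit 0, nat_lit 1, nat_lit 4, nat_lit 3, nat_lit 5, nat_lit 6, nat_lit 4], [nat_lit 6], [nat_lit 7]),
  ([nat_lit 0, nat_lit 1, nat_lit 3, nat_lit 4, nat_lit 3, nat_lit 6], [nat_lit 4, nat_lit 5, nat_lit 6, nat_lit 4], [nat_lit 16, nat_lit 7, nat_lit 6]),
  ([nat_lit 3, nat_lit 4, nat_lit 3, nat_lit 5, nat_lit 4, nat_lit 6, nat_lit 3, nat_lit 6], [nat_lit 0, nat_lit 1, nat_lit 3, nat_lit 5], [nat_lit 6, nat_lit 0, nat_lit 4, nat_lit 2]),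
  ([nat_lit 4, nat_lit 3, nat_lit 5, nat_lit 4, nat_lit 6], [nat_lit 0, nat_lit 6, nat_lit 1], [nat_lit 0, nat_lit 7, nat_lit 2])]
noncomputable def LB : List (List ℕ × List ℕ) := [([], []), ([nat_lit 3, nat_lit 4, nat_lit 3, nat_lit 5, nat_lit 4, nat_lit 3], [nat_lit 0, nat_lit 2]), ([nat_lit 0, nat_lit 1], [nat_lit 0, nat_lit 2, nat_lit 7, nat_lit 0, nat_lit 7, nat_lit 0, nat_lit 4, nat_lit 6]), ([nat_lit 0, nat_lit 1, nat_lit 3, nat_lit 4, nat_lit 3, nat_lit 5, nat_lit 4, nat_lit 3], [nat_lit 7, nat_lit 0, nat_lit 7, nat_lit 0, nat_lit 4, nat_lit 6])]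

variable {G : Type*} [Group G] {ι : A12 →* G} {g : G}

theorem tab (h0 : A0 ι) (h : CJ (Al ι) g T1u T1v) : ∃ g, CJ (Al ι) g T16u T16v ∧ evA (Al ι) [4, 6] * (g * g) = 1 := by
  have w := h0.wd
  have E72 := h0.en [22, 24, 18, 20, 23] X.e72 (by decide +kernel)
  have E9 := (h0.en [] X.e81 (by decide +kernel)).sub w (Zs' := [[0]]) (Cs := L9) (by decide +kernel)
  have E1 := E9.sub w (Zs' := [[16, 4, 17, 2]]) (Cs := [[]]) (by decide +kernel)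
  have E8 := h0.en [] X.e8 (by decide +kernel)
  replace h := (CJ.ch w h T2c (Us' := T2u) (Vs' := T2v) (by decide +kernel))
  obtain ⟨g, h⟩ : ∃ g, CJ (Al ι) g T3u T3v := step1 w h (h.mem w E72 (U := [0]) (J := [[5], [6], [7]]) (by decide +kernel)) T3r T3n T3l (by decide +kernel)
  obtain ⟨g, h⟩ : ∃ g, CJ (Al ι) g T4u T4v := step1 w h (h.mem w E72 (U := [7]) (J := [[6], [7], [8]]) (by decide +kernel)) T4r T4n T4l (by decide +kernel)
  replace h := (CJ.ch w h T5c (Us' := T5u) (Vs' := T5v) (by decide +kernel))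
  obtain ⟨g, h⟩ : ∃ g, CJ (Al ι) g T6u T6v := step1 w h (cj_cos w h E9 T5k (U := [5, 2]) (V := [5, 2]) (by decide +kernel)) T6r T6n T6l (by decide +kernel)
  replace h := (CJ.ch w h T7c (Us' := T7u) (Vs' := T7v) (by decide +kernel))
  obtain ⟨g, h⟩ : ∃ g, CJ (Al ι) g T8u T8v := step1 w h (h.mem w E8 (U := [16, 4, 17, 2]) (J := [[7], [8], [2], [0]]) (by decide +kernel)) T8r T8n T8l (by decide +kernel)
  replace h := (CJ.ch w h T9c (Us' := T9u) (Vs' := T9v) (by decide +kernel))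
  obtain ⟨g, h⟩ : ∃ g, CJ (Al ι) g T10u T10v := step1 w h (cj_cos w h E1 T9k (U := [2]) (V := [6, 2, 23, 0, 7, 18]) (by decide +kernel)) T10r T10n T10l (by decide +kernel)
  replace h := (CJ.ch w h T11c (Us' := T11u) (Vs' := T11v) (by decide +kernel))
  replace h := h.mul w (W := [5, 4, 17, 3, 4, 0]) (Vs' := T12v) (by decide +kernel)
  generalize evA (Al ι) [5, 4, 17, 3, 4, 0] * g = g at h
  have s := CJ.en (CJ.ch w ((cj_comp h (CJ.ch w h T13c (Us' := T13u) (Vs' := T13v) (by decide +kernel))).mul w (W := [4, 6]) (Vs' := T14v) (by decide +kernel)) T15c (Us' := T15u) (Vs' := T15v) (by decide +kernel)) E1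
  replace h := (CJ.ch w h T16c (Us' := T16u) (Vs' := T16v) (by decide +kernel))
  obtain ⟨_, hW, s⟩ := s
  rw [List.mem_singleton.1 hW] at s
  exact ⟨g, h, s⟩

theorem tab0 (h : AX ι g) : CJ (Al ι) g T1u T1v := by
  have e : evA al [7, 0, 7, 0] = r ∧ evA al [10] = a₁ ∧ evA al [12] = a₂ ∧ evA al [14] = a₃ ∧ evA al [16] = a₄ ∧
    evA al [10, 13] = a₁ * a₂⁻¹ ∧ evA al [10, 12] = a₁ * a₂ ∧ evA al [14, 16] = a₃ * a₄ ∧
    evA al [14, 17] = a₃ * a₄⁻¹ := by decide +kernel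
  obtain ⟨e0, e1, e2, e3, e4, e5, e6, e7, e8⟩ := e
  refine .cons ?_ (.cons ?_ (.cons ?_ (.cons ?_ (.cons ?_ .nil)))) <;> simp only [evAl]
  · rw [e0, h.gr, mul_inv_cancel_right]
  · rw [e1, e5, h.g1, map_mul, map_inv]
  · rw [e2, e6, h.g2, map_mul]
  · rw [e3, e7, h.g3, map_mul]
  · rw [e4, e8, h.g4, map_mul, map_inv]

noncomputable def R : Wl := R0 ++ RG ++ [[8, 9], [9, 8], [8, 8, 4, 6]]

theorem rels (h0 : A0 ι) (h : CJ (Al ι) g T16u T16v) (s : evA (Al ι) [4, 6] * (g * g) = 1) : Rels (Fg (Al ι) g) R :=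
  ((relsF h0.wd (by decide +kernel)).append (relsG h0.wd h RGc (by decide +kernel))).append fun r hr => by
    simp only [List.mem_cons, List.not_mem_nil, or_false] at hr
    rcases hr with rfl | rfl | rfl
    · simp [Fg]
    · simp [Fg]
    · simpa [Fg, mul_assoc] using s

noncomputable def bw : List ℕ := [9, 1, 2, 0, 1, 8, 1, 2, 0, 1, 9, 1, 2, 0, 1, 8, 1, 2, 0, 1]

theorem four (h0 : A0 ι) (cv : CV ι) (h : CJ (Al ι) g T16u T16v) :
    ∃ p ∈ LB, evA (Fg (Al ι) g) (H1.Am.app bw p.2) = 1 := by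
  have w := h0.wd
  have e : evA al [7, 0, 7, 0] = r ∧ evA al [7] = v := by decide +kernel
  have E : En (Al ι) X.e16x_W X.e16L := en_up h0.inj X.e16 fun y hy => cv y
    (by have := hy [7, 0, 7, 0] (by decide +kernel); rwa [evAl, e.1, mul_inv_eq_iff_eq_mul] at this)
    (by have := hy [7] (by decide +kernel); rwa [evAl, e.2, mul_inv_eq_iff_eq_mul] at this)
  have h' := h.mul w (W := [1, 0, 2, 1, 3, 2, 1, 0, 4, 3, 2, 1]) (Vs' := T17v) (by decide +kernel)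
  generalize evA (Al ι) [1, 0, 2, 1, 3, 2, 1, 0, 4, 3, 2, 1] * g = γ at h'
  obtain ⟨W, e1, e2⟩ := in_all (cj_two w h h' E L2 (U := [1, 2, 0, 1]) (by decide +kernel))
    (p := fun W => anyB (fun p => eqK X.κ (rep (H1.Am.app W [16, 4, 17, 2]) 2) (fl T16u p.1) &&
      eqK X.κ (H1.Am.app (fl T17v p.1) p.2) [] && fr p.2) LB) (by decide +kernel)
  obtain ⟨p, hp, e2⟩ := anyB_iff.1 e2
  simp only [Bool.and_eq_true, w.eq] at e2
  obtain ⟨⟨e2, e3⟩, e4⟩ := e2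
  have e5 := h'.fl [1, 3, 4, 5, 4, 3]
  rw [← w.eq.1 (show eqK X.κ [16, 4, 17, 2] (fl T16u [1, 3, 4, 5, 4, 3]) = true by decide +kernel),
    ← w.eq.1 (show eqK X.κ [1, 2, 0, 1] (fl T17v [1, 3, 4, 5, 4, 3]) = true by decide +kernel)] at e5
  refine ⟨p, hp, ?_⟩
  rw [evA_app, ← h'.fl, ← e2, evA_rep', evA_app, ← e1] at e3
  have e6 : evA (Fg (Al ι) g) bw = (evA (Al ι) [1, 2, 0, 1] * (g * evA (Al ι) [1, 2, 0, 1] * g⁻¹)) ^ 2 := by
    simp [bw, Fg, sq, mul_assoc]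
  rw [evA_app, evA_Fg e4, e6, ← show _ = (1 : G) from e3]
  generalize g * evA (Al ι) [1, 2, 0, 1] * g⁻¹ = b
  rw [← e5]; simp only [sq]; group

end K
end H16.HN3
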