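import Cfsg.Agent.H16.N3X0

/-! Generated by tools/h0/tr.py. -/

set_option maxRecDepth 100000
set_option maxHeartbeats 0

namespace H16.HN3.X
open H16 H0.TR
open scoped commutatorElement

noncomputable def e72x_W : List (List ℕ) := [[nat_lit 14],
  [nat_lit 16],
  [nat_lit 7, nat_lit 0, nat_lit 7, nat_lit 0]]
noncomputable def e72x_P : ℕ → ℕ → ℕ := wdsP H16.HN3.X.P e72x_W
noncomputable def e72th_W : List (List ℕ) := [[nat_lit 3, nat_lit 21, nat_lit 0],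
  [nat_lit 12],
  [nat_lit 13],
  [nat_lit 0, nat_lit 13, nat_lit 11],
  [nat_lit 0],
  [nat_lit 7],
  [nat_lit 10],
  [nat_lit 11],
  [nat_lit 0, nat_lit 19, nat_lit 16, nat_lit 4, nat_lit 5, nat_lit 18, nat_lit 10],
  [nat_lit 6],
  [nat_lit 5],
  [nat_lit 16],
  [nat_lit 17],
  [nat_lit 23],
  [nat_lit 24],
  [nat_lit 4],
  [nat_lit 3],
  [nat_lit 21],
  [nat_lit 1],
  [nat_lit 2],
  [nat_lit 14],
  [nat_lit 15],
  [nat_lit 18],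
  [nat_lit 19],
  [nat_lit 20],
  [nat_lit 22]]
noncomputable def e72th_P : ℕ → ℕ → ℕ := wdsP H16.HN3.X.P e72th_W
noncomputable def e72tl0Dd : ℕ := nat_lit 0xa7a6876d1a171b1614131200
noncomputable def e72tl0D (u : ℕ) : ℕ := Nat.land (Nat.shiftRight e72tl0Dd (Nat.mul u (nat_lit 8))) (nat_lit 255)
noncomputable def e72tl0Pd : ℕ := nat_lit 0xba1029438756
noncomputable def e72tl0P (u : ℕ) : ℕ := Nat.land (Nat.shiftRight e72tl0Pd (Nat.mul u (nat_lit 4))) (nat_lit 15)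
noncomputable def e72tl0Qd : ℕ := nat_lit 0xba6320154798
noncomputable def e72tl0Q (u : ℕ) : ℕ := Nat.land (Nat.shiftRight e72tl0Qd (Nat.mul u (nat_lit 4))) (nat_lit 15)
noncomputable def e72tl0 : Lev := ⟨12, 26, e72tl0D, e72tl0P, e72tl0Q⟩
noncomputable def e72tl1Dd : ℕ := nat_lit 0x807f605f5e312f2e211000
noncomputable def e72tl1D (u : ℕ) : ℕ := Nat.land (Nat.shiftRight e72tl1Dd (Nat.mul u (nat_lit 8))) (nat_lit 255)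
noncomputable def e72tl1Pd : ℕ := nat_lit 0x452310ba987
noncomputable def e72tl1P (u : ℕ) : ℕ := Nat.land (Nat.shiftRight e72tl1Pd (Nat.mul u (nat_lit 4))) (nat_lit 15)
noncomputable def e72tl1Qd : ℕ := nat_lit 0x4321009a7865
noncomputable def e72tl1Q (u : ℕ) : ℕ := Nat.land (Nat.shiftRight e72tl1Qd (Nat.mul u (nat_lit 4))) (nat_lit 15)
noncomputable def e72tl1 : Lev := ⟨11, 18, e72tl1D, e72tl1P, e72tl1Q⟩
noncomputable def e72tl2Dd : ℕ := nat_lit 0x31618d1621d3668780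
noncomputable def e72tl2D (u : ℕ) : ℕ := Nat.land (Nat.shiftRight e72tl2Dd (Nat.mul u (nat_lit 7))) (nat_lit 127)
noncomputable def e72tl2Pd : ℕ := nat_lit 0x452310ba98
noncomputable def e72tl2P (u : ℕ) : ℕ := Nat.land (Nat.shiftRight e72tl2Pd (Nat.mul u (nat_lit 4))) (nat_lit 15)
noncomputable def e72tl2Qd : ℕ := nat_lit 0x321000896754
noncomputable def e72tl2Q (u : ℕ) : ℕ := Nat.land (Nat.shiftRight e72tl2Qd (Nat.mul u (nat_lit 4))) (nat_lit 15)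
noncomputable def e72tl2 : Lev := ⟨10, 16, e72tl2D, e72tl2P, e72tl2Q⟩
noncomputable def e72tl3Dd : ℕ := nat_lit 0x4d98cd9311a2c500
noncomputable def e72tl3D (u : ℕ) : ℕ := Nat.land (Nat.shiftRight e72tl3Dd (Nat.mul u (nat_lit 7))) (nat_lit 127)
noncomputable def e72tl3Pd : ℕ := nat_lit 0x452310ba9
noncomputable def e72tl3P (u : ℕ) : ℕ := Nat.land (Nat.shiftRight e72tl3Pd (Nat.mul u (nat_lit 4))) (nat_lit 15)
noncomputable def e72tl3Qd : ℕ := nat_lit 0x210000785643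
noncomputable def e72tl3Q (u : ℕ) : ℕ := Nat.land (Nat.shiftRight e72tl3Qd (Nat.mul u (nat_lit 4))) (nat_lit 15)
noncomputable def e72tl3 : Lev := ⟨9, 15, e72tl3D, e72tl3P, e72tl3Q⟩
noncomputable def e72tl4Dd : ℕ := nat_lit 0xfef58a4920
noncomputable def e72tl4D (u : ℕ) : ℕ := Nat.land (Nat.shiftRight e72tl4Dd (Nat.mul u (nat_lit 5))) (nat_lit 31)
noncomputable def e72tl4Pd : ℕ := nat_lit 0x301542ba
noncomputable def e72tl4P (u : ℕ) : ℕ := Nat.land (Nat.shiftRight e72tl4Pd (Nat.mul u (nat_lit 4))) (nat_lit 15)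
noncomputable def e72tl4Qd : ℕ := nat_lit 0x200023eae
noncomputable def e72tl4Q (u : ℕ) : ℕ := Nat.land (Nat.shiftRight e72tl4Qd (Nat.mul u (nat_lit 3))) (nat_lit 7)
noncomputable def e72tl4 : Lev := ⟨8, 10, e72tl4D, e72tl4P, e72tl4Q⟩
noncomputable def e72tl5Dd : ℕ := nat_lit 0x4e0f6a500
noncomputable def e72tl5D (u : ℕ) : ℕ := Nat.land (Nat.shiftRight e72tl5Dd (Nat.mul u (nat_lit 5))) (nat_lit 31)
noncomputable def e72tl5Pd : ℕ := nat_lit 0x301542b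
noncomputable def e72tl5P (u : ℕ) : ℕ := Nat.land (Nat.shiftRight e72tl5Pd (Nat.mul u (nat_lit 4))) (nat_lit 15)
noncomputable def e72tl5Qd : ℕ := nat_lit 0x1ac65
noncomputable def e72tl5Q (u : ℕ) : ℕ := Nat.land (Nat.shiftRight e72tl5Qd (Nat.mul u (nat_lit 3))) (nat_lit 7)
noncomputable def e72tl5 : Lev := ⟨7, 9, e72tl5D, e72tl5P, e72tl5Q⟩
noncomputable def e72tl6Dd : ℕ := nat_lit 0x25131480
noncomputable def e72tl6D (u : ℕ) : ℕ := Nat.land (Nat.shiftRight e72tl6Dd (Nat.mul u (nat_lit 5))) (nat_lit 31)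
noncomputable def e72tl6Pd : ℕ := nat_lit 0x254c8
noncomputable def e72tl6P (u : ℕ) : ℕ := Nat.land (Nat.shiftRight e72tl6Pd (Nat.mul u (nat_lit 3))) (nat_lit 7)
noncomputable def e72tl6Qd : ℕ := nat_lit 0x254c8
noncomputable def e72tl6Q (u : ℕ) : ℕ := Nat.land (Nat.shiftRight e72tl6Qd (Nat.mul u (nat_lit 3))) (nat_lit 7)
noncomputable def e72tl6 : Lev := ⟨6, 8, e72tl6D, e72tl6P, e72tl6Q⟩
noncomputable def e72tl7Dd : ℕ := nat_lit 0x4d58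
noncomputable def e72tl7D (u : ℕ) : ℕ := Nat.land (Nat.shiftRight e72tl7Dd (Nat.mul u (nat_lit 3))) (nat_lit 7)
noncomputable def e72tl7Pd : ℕ := nat_lit 0x2729
noncomputable def e72tl7P (u : ℕ) : ℕ := Nat.land (Nat.shiftRight e72tl7Pd (Nat.mul u (nat_lit 3))) (nat_lit 7)
noncomputable def e72tl7Qd : ℕ := nat_lit 0xa700
noncomputable def e72tl7Q (u : ℕ) : ℕ := Nat.land (Nat.shiftRight e72tl7Qd (Nat.mul u (nat_lit 3))) (nat_lit 7)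
noncomputable def e72tl7 : Lev := ⟨5, 4, e72tl7D, e72tl7P, e72tl7Q⟩
noncomputable def e72tl8Dd : ℕ := nat_lit 0xe4
noncomputable def e72tl8D (u : ℕ) : ℕ := Nat.land (Nat.shiftRight e72tl8Dd (Nat.mul u (nat_lit 2))) (nat_lit 3)
noncomputable def e72tl8Pd : ℕ := nat_lit 0x52b
noncomputable def e72tl8P (u : ℕ) : ℕ := Nat.land (Nat.shiftRight e72tl8Pd (Nat.mul u (nat_lit 3))) (nat_lit 7)
noncomputable def e72tl8Qd : ℕ := nat_lit 0x630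
noncomputable def e72tl8Q (u : ℕ) : ℕ := Nat.land (Nat.shiftRight e72tl8Qd (Nat.mul u (nat_lit 2))) (nat_lit 3)
noncomputable def e72tl8 : Lev := ⟨4, 3, e72tl8D, e72tl8P, e72tl8Q⟩
noncomputable def e72tl9Dd : ℕ := nat_lit 4
noncomputable def e72tl9D (u : ℕ) : ℕ := Nat.land (Nat.shiftRight e72tl9Dd (Nat.mul u (nat_lit 1))) (nat_lit 1)
noncomputable def e72tl9Pd : ℕ := nat_lit 0xac
noncomputable def e72tl9P (u : ℕ) : ℕ := Nat.land (Nat.shiftRight e72tl9Pd (Nat.mul u (nat_lit 3))) (nat_lit 7)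
noncomputable def e72tl9Qd : ℕ := nat_lit 0x420
noncomputable def e72tl9Q (u : ℕ) : ℕ := Nat.land (Nat.shiftRight e72tl9Qd (Nat.mul u (nat_lit 2))) (nat_lit 3)
noncomputable def e72tl9 : Lev := ⟨3, 1, e72tl9D, e72tl9P, e72tl9Q⟩
noncomputable def e72ce_W : List (List ℕ) := [[nat_lit 7, nat_lit 0, nat_lit 7],
  [nat_lit 0, nat_lit 7],
  [nat_lit 16],
  [nat_lit 15, nat_lit 0]]
noncomputable def e72ce_P : ℕ → ℕ → ℕ := wdsP H16.HN3.X.P e72ce_W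
noncomputable def e72cc8Dd : ℕ := nat_lit 0
noncomputable def e72cc8D (u : ℕ) : ℕ := Nat.land (Nat.shiftRight e72cc8Dd (Nat.mul u (nat_lit 1))) (nat_lit 1)
noncomputable def e72cc8Pd : ℕ := nat_lit 0x23
noncomputable def e72cc8P (u : ℕ) : ℕ := Nat.land (Nat.shiftRight e72cc8Pd (Nat.mul u (nat_lit 3))) (nat_lit 7)
noncomputable def e72cc8Qd : ℕ := nat_lit 0x10
noncomputable def e72cc8Q (u : ℕ) : ℕ := Nat.land (Nat.shiftRight e72cc8Qd (Nat.mul u (nat_lit 1))) (nat_lit 1)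
noncomputable def e72cc8 : Lev := ⟨2, 1, e72cc8D, e72cc8P, e72cc8Q⟩
noncomputable def e72tn0Fd : ℕ := nat_lit 0x84
noncomputable def e72tn0F (u : ℕ) : ℕ := Nat.land (Nat.shiftRight e72tn0Fd (Nat.mul u (nat_lit 2))) (nat_lit 3)
noncomputable def e72tn0 : Nd := ⟨e72tn0F, (nat_lit 2), (nat_lit 1), [[nat_lit 2]], [((nat_lit 0), [])], []⟩
noncomputable def e72cc6Dd : ℕ := nat_lit 0xb4
noncomputable def e72cc6D (u : ℕ) : ℕ := Nat.land (Nat.shiftRight e72cc6Dd (Nat.mul u (nat_lit 2))) (nat_lit 3)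
noncomputable def e72cc6Pd : ℕ := nat_lit 0x858
noncomputable def e72cc6P (u : ℕ) : ℕ := Nat.land (Nat.shiftRight e72cc6Pd (Nat.mul u (nat_lit 3))) (nat_lit 7)
noncomputable def e72cc6Qd : ℕ := nat_lit 0x348
noncomputable def e72cc6Q (u : ℕ) : ℕ := Nat.land (Nat.shiftRight e72cc6Qd (Nat.mul u (nat_lit 2))) (nat_lit 3)
noncomputable def e72cc6 : Lev := ⟨4, 2, e72cc6D, e72cc6P, e72cc6Q⟩
noncomputable def e72tn1Fd : ℕ := nat_lit 0x340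
noncomputable def e72tn1F (u : ℕ) : ℕ := Nat.land (Nat.shiftRight e72tn1Fd (Nat.mul u (nat_lit 2))) (nat_lit 3)
noncomputable def e72tn1 : Nd := ⟨e72tn1F, (nat_lit 2), (nat_lit 2), [[nat_lit 2]], [((nat_lit 0), [])], []⟩
noncomputable def e72cc3Dd : ℕ := nat_lit 0x150
noncomputable def e72cc3D (u : ℕ) : ℕ := Nat.land (Nat.shiftRight e72cc3Dd (Nat.mul u (nat_lit 3))) (nat_lit 7)
noncomputable def e72cc3Pd : ℕ := nat_lit 0xab9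
noncomputable def e72cc3P (u : ℕ) : ℕ := Nat.land (Nat.shiftRight e72cc3Pd (Nat.mul u (nat_lit 4))) (nat_lit 15)
noncomputable def e72cc3Qd : ℕ := nat_lit 0x600000
noncomputable def e72cc3Q (u : ℕ) : ℕ := Nat.land (Nat.shiftRight e72cc3Qd (Nat.mul u (nat_lit 2))) (nat_lit 3)
noncomputable def e72cc3 : Lev := ⟨3, 3, e72cc3D, e72cc3P, e72cc3Q⟩
noncomputable def e72tn2Fd : ℕ := nat_lit 0x6867200
noncomputable def e72tn2F (u : ℕ) : ℕ := Nat.land (Nat.shiftRight e72tn2Fd (Nat.mul u (nat_lit 3))) (nat_lit 7)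
noncomputable def e72tn2 : Nd := ⟨e72tn2F, (nat_lit 3), (nat_lit 3), [[nat_lit 1]], [((nat_lit 0), [])], []⟩
noncomputable def e72cc0Dd : ℕ := nat_lit 0x1d8
noncomputable def e72cc0D (u : ℕ) : ℕ := Nat.land (Nat.shiftRight e72cc0Dd (Nat.mul u (nat_lit 3))) (nat_lit 7)
noncomputable def e72cc0Pd : ℕ := nat_lit 0x876
noncomputable def e72cc0P (u : ℕ) : ℕ := Nat.land (Nat.shiftRight e72cc0Pd (Nat.mul u (nat_lit 4))) (nat_lit 15)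
noncomputable def e72cc0Qd : ℕ := nat_lit 0x24000
noncomputable def e72cc0Q (u : ℕ) : ℕ := Nat.land (Nat.shiftRight e72cc0Qd (Nat.mul u (nat_lit 2))) (nat_lit 3)
noncomputable def e72cc0 : Lev := ⟨3, 4, e72cc0D, e72cc0P, e72cc0Q⟩
noncomputable def e72tn3Fd : ℕ := nat_lit 0x6a5951410010
noncomputable def e72tn3F (u : ℕ) : ℕ := Nat.land (Nat.shiftRight e72tn3Fd (Nat.mul u (nat_lit 4))) (nat_lit 15)
noncomputable def e72tn3 : Nd := ⟨e72tn3F, (nat_lit 4), (nat_lit 4), [[nat_lit 0]], [((nat_lit 0), [])], []⟩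
noncomputable def e72L : List (List ℕ) := [[nat_lit 17, nat_lit 14, nat_lit 7, nat_lit 0],
  [nat_lit 17, nat_lit 14, nat_lit 0, nat_lit 7],
  [nat_lit 7, nat_lit 17, nat_lit 14, nat_lit 0, nat_lit 7],
  [nat_lit 17, nat_lit 14, nat_lit 0],
  [nat_lit 3, nat_lit 7, nat_lit 17, nat_lit 2],
  [nat_lit 17, nat_lit 14, nat_lit 7],
  [nat_lit 17, nat_lit 21, nat_lit 2, nat_lit 12],
  [nat_lit 17, nat_lit 14],
  [nat_lit 15, nat_lit 7, nat_lit 0, nat_lit 17],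
  [nat_lit 17, nat_lit 15, nat_lit 0, nat_lit 7],
  [nat_lit 7, nat_lit 17, nat_lit 15, nat_lit 0, nat_lit 7],
  [nat_lit 17, nat_lit 15, nat_lit 0],
  [nat_lit 17, nat_lit 2, nat_lit 7, nat_lit 3],
  [nat_lit 17, nat_lit 15, nat_lit 7],
  [nat_lit 17, nat_lit 2, nat_lit 13, nat_lit 21],
  [nat_lit 17, nat_lit 15],
  [nat_lit 7, nat_lit 17, nat_lit 0],
  [nat_lit 17, nat_lit 0, nat_lit 7],
  [nat_lit 17, nat_lit 7, nat_lit 0, nat_lit 7],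
  [nat_lit 17, nat_lit 0],
  [nat_lit 5, nat_lit 7, nat_lit 6],
  [nat_lit 17, nat_lit 7],
  [nat_lit 5, nat_lit 7, nat_lit 6, nat_lit 7],
  [nat_lit 17],
  [nat_lit 14, nat_lit 7, nat_lit 0],
  [nat_lit 14, nat_lit 0, nat_lit 7],
  [nat_lit 7, nat_lit 14, nat_lit 0, nat_lit 7],
  [nat_lit 14, nat_lit 0],
  [nat_lit 3, nat_lit 7, nat_lit 2],
  [nat_lit 14, nat_lit 7],
  [nat_lit 21, nat_lit 2, nat_lit 12],
  [nat_lit 14],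
  [nat_lit 7, nat_lit 15, nat_lit 0],
  [nat_lit 15, nat_lit 0, nat_lit 7],
  [nat_lit 7, nat_lit 15, nat_lit 0, nat_lit 7],
  [nat_lit 15, nat_lit 0],
  [nat_lit 2, nat_lit 7, nat_lit 3],
  [nat_lit 15, nat_lit 7],
  [nat_lit 2, nat_lit 13, nat_lit 21],
  [nat_lit 15],
  [nat_lit 7, nat_lit 0],
  [nat_lit 0, nat_lit 7],
  [nat_lit 7, nat_lit 0, nat_lit 7],
  [nat_lit 0],
  [nat_lit 1, nat_lit 7, nat_lit 1],
  [nat_lit 7],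
  [nat_lit 18, nat_lit 2, nat_lit 19],
  [],
  [nat_lit 16, nat_lit 14, nat_lit 7, nat_lit 0],
  [nat_lit 16, nat_lit 14, nat_lit 0, nat_lit 7],
  [nat_lit 7, nat_lit 16, nat_lit 14, nat_lit 0, nat_lit 7],
  [nat_lit 16, nat_lit 14, nat_lit 0],
  [nat_lit 3, nat_lit 7, nat_lit 16, nat_lit 2],
  [nat_lit 16, nat_lit 14, nat_lit 7],
  [nat_lit 16, nat_lit 13, nat_lit 21, nat_lit 2],
  [nat_lit 16, nat_lit 14],
  [nat_lit 16, nat_lit 15, nat_lit 7, nat_lit 0],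
  [nat_lit 16, nat_lit 15, nat_lit 0, nat_lit 7],
  [nat_lit 16, nat_lit 2, nat_lit 0, nat_lit 13, nat_lit 21],
  [nat_lit 16, nat_lit 15, nat_lit 0],
  [nat_lit 16, nat_lit 2, nat_lit 7, nat_lit 3],
  [nat_lit 16, nat_lit 15, nat_lit 7],
  [nat_lit 16, nat_lit 2, nat_lit 21, nat_lit 12],
  [nat_lit 16, nat_lit 15],
  [nat_lit 16, nat_lit 7, nat_lit 0],
  [nat_lit 16, nat_lit 0, nat_lit 7],
  [nat_lit 7, nat_lit 16, nat_lit 0, nat_lit 7],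
  [nat_lit 16, nat_lit 0],
  [nat_lit 16, nat_lit 2, nat_lit 7, nat_lit 2],
  [nat_lit 16, nat_lit 7],
  [nat_lit 7, nat_lit 6, nat_lit 7, nat_lit 5],
  [nat_lit 16]]
noncomputable def e81x_W : List (List ℕ) := [[nat_lit 10],
  [nat_lit 12],
  [nat_lit 14],
  [nat_lit 16]]
noncomputable def e81x_P : ℕ → ℕ → ℕ := wdsP H16.HN3.X.P e81x_W
noncomputable def e81th_W : List (List ℕ) := [[nat_lit 16],
  [nat_lit 17],
  [nat_lit 4, nat_lit 5],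
  [nat_lit 17, nat_lit 5, nat_lit 3],
  [nat_lit 14],
  [nat_lit 15],
  [nat_lit 1, nat_lit 15, nat_lit 4, nat_lit 5, nat_lit 2],
  [nat_lit 21],
  [nat_lit 12],
  [nat_lit 13],
  [nat_lit 18],
  [nat_lit 19],
  [nat_lit 20],
  [nat_lit 22],
  [nat_lit 14, nat_lit 22, nat_lit 0, nat_lit 1, nat_lit 18, nat_lit 22, nat_lit 13],
  [nat_lit 15, nat_lit 16, nat_lit 11, nat_lit 18, nat_lit 22, nat_lit 19, nat_lit 13, nat_lit 19, nat_lit 0, nat_lit 12, nat_lit 7],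
  [nat_lit 0],
  [nat_lit 1],
  [nat_lit 2],
  [nat_lit 3],
  [nat_lit 4],
  [nat_lit 5],
  [nat_lit 6],
  [nat_lit 7],
  [nat_lit 10],
  [nat_lit 11],
  [nat_lit 23],
  [nat_lit 24]]
noncomputable def e81th_P : ℕ → ℕ → ℕ := wdsP H16.HN3.X.P e81th_W
noncomputable def e81tl0Dd : ℕ := nat_lit 0xb243aa414071701a18171000
noncomputable def e81tl0D (u : ℕ) : ℕ := Nat.land (Nat.shiftRight e81tl0Dd (Nat.mul u (nat_lit 8))) (nat_lit 255)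
noncomputable def e81tl0Pd : ℕ := nat_lit 0x76845ab92310
noncomputable def e81tl0P (u : ℕ) : ℕ := Nat.land (Nat.shiftRight e81tl0Pd (Nat.mul u (nat_lit 4))) (nat_lit 15)
noncomputable def e81tl0Qd : ℕ := nat_lit 0x5649ba782310
noncomputable def e81tl0Q (u : ℕ) : ℕ := Nat.land (Nat.shiftRight e81tl0Qd (Nat.mul u (nat_lit 4))) (nat_lit 15)
noncomputable def e81tl0 : Lev := ⟨12, 28, e81tl0D, e81tl0P, e81tl0Q⟩
noncomputable def e81tl1Dd : ℕ := nat_lit 0x1b956038c8d9a2a50780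
noncomputable def e81tl1D (u : ℕ) : ℕ := Nat.land (Nat.shiftRight e81tl1Dd (Nat.mul u (nat_lit 7))) (nat_lit 127)
noncomputable def e81tl1Pd : ℕ := nat_lit 0x23b59a48671
noncomputable def e81tl1P (u : ℕ) : ℕ := Nat.land (Nat.shiftRight e81tl1Pd (Nat.mul u (nat_lit 4))) (nat_lit 15)
noncomputable def e81tl1Qd : ℕ := nat_lit 0x856312749a00
noncomputable def e81tl1Q (u : ℕ) : ℕ := Nat.land (Nat.shiftRight e81tl1Qd (Nat.mul u (nat_lit 4))) (nat_lit 15)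
noncomputable def e81tl1 : Lev := ⟨11, 16, e81tl1D, e81tl1P, e81tl1Q⟩
noncomputable def e81tl2Dd : ℕ := nat_lit 0x27bd786cd192e58700
noncomputable def e81tl2D (u : ℕ) : ℕ := Nat.land (Nat.shiftRight e81tl2Dd (Nat.mul u (nat_lit 7))) (nat_lit 127)
noncomputable def e81tl2Pd : ℕ := nat_lit 0x6b987a3542
noncomputable def e81tl2P (u : ℕ) : ℕ := Nat.land (Nat.shiftRight e81tl2Pd (Nat.mul u (nat_lit 4))) (nat_lit 15)
noncomputable def e81tl2Qd : ℕ := nat_lit 0x847659213000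
noncomputable def e81tl2Q (u : ℕ) : ℕ := Nat.land (Nat.shiftRight e81tl2Qd (Nat.mul u (nat_lit 4))) (nat_lit 15)
noncomputable def e81tl2 : Lev := ⟨10, 15, e81tl2D, e81tl2P, e81tl2Q⟩
noncomputable def e81tl3Dd : ℕ := nat_lit 0x3df2ba8b289200
noncomputable def e81tl3D (u : ℕ) : ℕ := Nat.land (Nat.shiftRight e81tl3Dd (Nat.mul u (nat_lit 6))) (nat_lit 63)
noncomputable def e81tl3Pd : ℕ := nat_lit 0x78ab69453
noncomputable def e81tl3P (u : ℕ) : ℕ := Nat.land (Nat.shiftRight e81tl3Pd (Nat.mul u (nat_lit 4))) (nat_lit 15)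
noncomputable def e81tl3Qd : ℕ := nat_lit 0x563784120000
noncomputable def e81tl3Q (u : ℕ) : ℕ := Nat.land (Nat.shiftRight e81tl3Qd (Nat.mul u (nat_lit 4))) (nat_lit 15)
noncomputable def e81tl3 : Lev := ⟨9, 14, e81tl3D, e81tl3P, e81tl3Q⟩
noncomputable def e81tl4Dd : ℕ := nat_lit 0xa6869550e1c0
noncomputable def e81tl4D (u : ℕ) : ℕ := Nat.land (Nat.shiftRight e81tl4Dd (Nat.mul u (nat_lit 6))) (nat_lit 63)
noncomputable def e81tl4Pd : ℕ := nat_lit 0xab978654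
noncomputable def e81tl4P (u : ℕ) : ℕ := Nat.land (Nat.shiftRight e81tl4Pd (Nat.mul u (nat_lit 4))) (nat_lit 15)
noncomputable def e81tl4Qd : ℕ := nat_lit 0xdeb888000
noncomputable def e81tl4Q (u : ℕ) : ℕ := Nat.land (Nat.shiftRight e81tl4Qd (Nat.mul u (nat_lit 3))) (nat_lit 7)
noncomputable def e81tl4 : Lev := ⟨8, 8, e81tl4D, e81tl4P, e81tl4Q⟩
noncomputable def e81tl5Dd : ℕ := nat_lit 0x779062cc0
noncomputable def e81tl5D (u : ℕ) : ℕ := Nat.land (Nat.shiftRight e81tl5Dd (Nat.mul u (nat_lit 5))) (nat_lit 31)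
noncomputable def e81tl5Pd : ℕ := nat_lit 0xab97865
noncomputable def e81tl5P (u : ℕ) : ℕ := Nat.land (Nat.shiftRight e81tl5Pd (Nat.mul u (nat_lit 4))) (nat_lit 15)
noncomputable def e81tl5Qd : ℕ := nat_lit 0xba2640000
noncomputable def e81tl5Q (u : ℕ) : ℕ := Nat.land (Nat.shiftRight e81tl5Qd (Nat.mul u (nat_lit 3))) (nat_lit 7)
noncomputable def e81tl5 : Lev := ⟨7, 7, e81tl5D, e81tl5P, e81tl5Q⟩
noncomputable def e81tl6Dd : ℕ := nat_lit 0x27241480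
noncomputable def e81tl6D (u : ℕ) : ℕ := Nat.land (Nat.shiftRight e81tl6Dd (Nat.mul u (nat_lit 5))) (nat_lit 31)
noncomputable def e81tl6Pd : ℕ := nat_lit 0xab9786
noncomputable def e81tl6P (u : ℕ) : ℕ := Nat.land (Nat.shiftRight e81tl6Pd (Nat.mul u (nat_lit 4))) (nat_lit 15)
noncomputable def e81tl6Qd : ℕ := nat_lit 0x959400000
noncomputable def e81tl6Q (u : ℕ) : ℕ := Nat.land (Nat.shiftRight e81tl6Qd (Nat.mul u (nat_lit 3))) (nat_lit 7)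
noncomputable def e81tl6 : Lev := ⟨6, 6, e81tl6D, e81tl6P, e81tl6Q⟩
noncomputable def e81tl7Dd : ℕ := nat_lit 0x98630
noncomputable def e81tl7D (u : ℕ) : ℕ := Nat.land (Nat.shiftRight e81tl7Dd (Nat.mul u (nat_lit 4))) (nat_lit 15)
noncomputable def e81tl7Pd : ℕ := nat_lit 0xab987
noncomputable def e81tl7P (u : ℕ) : ℕ := Nat.land (Nat.shiftRight e81tl7Pd (Nat.mul u (nat_lit 4))) (nat_lit 15)
noncomputable def e81tl7Qd : ℕ := nat_lit 0x711000000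
noncomputable def e81tl7Q (u : ℕ) : ℕ := Nat.land (Nat.shiftRight e81tl7Qd (Nat.mul u (nat_lit 3))) (nat_lit 7)
noncomputable def e81tl7 : Lev := ⟨5, 4, e81tl7D, e81tl7P, e81tl7Q⟩
noncomputable def e81tl8Dd : ℕ := nat_lit 0x8d0
noncomputable def e81tl8D (u : ℕ) : ℕ := Nat.land (Nat.shiftRight e81tl8Dd (Nat.mul u (nat_lit 3))) (nat_lit 7)
noncomputable def e81tl8Pd : ℕ := nat_lit 0xab98
noncomputable def e81tl8P (u : ℕ) : ℕ := Nat.land (Nat.shiftRight e81tl8Pd (Nat.mul u (nat_lit 4))) (nat_lit 15)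
noncomputable def e81tl8Qd : ℕ := nat_lit 0xb40000
noncomputable def e81tl8Q (u : ℕ) : ℕ := Nat.land (Nat.shiftRight e81tl8Qd (Nat.mul u (nat_lit 2))) (nat_lit 3)
noncomputable def e81tl8 : Lev := ⟨4, 3, e81tl8D, e81tl8P, e81tl8Q⟩
noncomputable def e81tl9Dd : ℕ := nat_lit 4
noncomputable def e81tl9D (u : ℕ) : ℕ := Nat.land (Nat.shiftRight e81tl9Dd (Nat.mul u (nat_lit 1))) (nat_lit 1)
noncomputable def e81tl9Pd : ℕ := nat_lit 0xab9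
noncomputable def e81tl9P (u : ℕ) : ℕ := Nat.land (Nat.shiftRight e81tl9Pd (Nat.mul u (nat_lit 4))) (nat_lit 15)
noncomputable def e81tl9Qd : ℕ := nat_lit 0x600000
noncomputable def e81tl9Q (u : ℕ) : ℕ := Nat.land (Nat.shiftRight e81tl9Qd (Nat.mul u (nat_lit 2))) (nat_lit 3)
noncomputable def e81tl9 : Lev := ⟨3, 2, e81tl9D, e81tl9P, e81tl9Q⟩
noncomputable def e81ce_W : List (List ℕ) := [[nat_lit 17],
  [nat_lit 15],
  [nat_lit 13],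
  [nat_lit 17, nat_lit 15, nat_lit 13, nat_lit 11]]
noncomputable def e81ce_P : ℕ → ℕ → ℕ := wdsP H16.HN3.X.P e81ce_W
noncomputable def e81cc9Dd : ℕ := nat_lit 4
noncomputable def e81cc9D (u : ℕ) : ℕ := Nat.land (Nat.shiftRight e81cc9Dd (Nat.mul u (nat_lit 1))) (nat_lit 1)
noncomputable def e81cc9Pd : ℕ := nat_lit 0xba9
noncomputable def e81cc9P (u : ℕ) : ℕ := Nat.land (Nat.shiftRight e81cc9Pd (Nat.mul u (nat_lit 4))) (nat_lit 15)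
noncomputable def e81cc9Qd : ℕ := nat_lit 0x900000
noncomputable def e81cc9Q (u : ℕ) : ℕ := Nat.land (Nat.shiftRight e81cc9Qd (Nat.mul u (nat_lit 2))) (nat_lit 3)
noncomputable def e81cc9 : Lev := ⟨3, 1, e81cc9D, e81cc9P, e81cc9Q⟩
noncomputable def e81tn0Fd : ℕ := nat_lit 0
noncomputable def e81tn0F (u : ℕ) : ℕ := Nat.land (Nat.shiftRight e81tn0Fd (Nat.mul u (nat_lit 1))) (nat_lit 1)
noncomputable def e81tn0 : Nd := ⟨e81tn0F, (nat_lit 2), (nat_lit 1), [], [((nat_lit 0), [])], []⟩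
noncomputable def e81cc6Dd : ℕ := nat_lit 0x34
noncomputable def e81cc6D (u : ℕ) : ℕ := Nat.land (Nat.shiftRight e81cc6Dd (Nat.mul u (nat_lit 2))) (nat_lit 3)
noncomputable def e81cc6Pd : ℕ := nat_lit 0x876
noncomputable def e81cc6P (u : ℕ) : ℕ := Nat.land (Nat.shiftRight e81cc6Pd (Nat.mul u (nat_lit 4))) (nat_lit 15)
noncomputable def e81cc6Qd : ℕ := nat_lit 0x24000
noncomputable def e81cc6Q (u : ℕ) : ℕ := Nat.land (Nat.shiftRight e81cc6Qd (Nat.mul u (nat_lit 2))) (nat_lit 3)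
noncomputable def e81cc6 : Lev := ⟨3, 2, e81cc6D, e81cc6P, e81cc6Q⟩
noncomputable def e81tn1Fd : ℕ := nat_lit 0x14200
noncomputable def e81tn1F (u : ℕ) : ℕ := Nat.land (Nat.shiftRight e81tn1Fd (Nat.mul u (nat_lit 3))) (nat_lit 7)
noncomputable def e81tn1 : Nd := ⟨e81tn1F, (nat_lit 2), (nat_lit 2), [[nat_lit 2]], [((nat_lit 0), [])], []⟩
noncomputable def e81cc3Dd : ℕ := nat_lit 0x150
noncomputable def e81cc3D (u : ℕ) : ℕ := Nat.land (Nat.shiftRight e81cc3Dd (Nat.mul u (nat_lit 3))) (nat_lit 7)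
noncomputable def e81cc3Pd : ℕ := nat_lit 0x163
noncomputable def e81cc3P (u : ℕ) : ℕ := Nat.land (Nat.shiftRight e81cc3Pd (Nat.mul u (nat_lit 3))) (nat_lit 7)
noncomputable def e81cc3Qd : ℕ := nat_lit 0x900
noncomputable def e81cc3Q (u : ℕ) : ℕ := Nat.land (Nat.shiftRight e81cc3Qd (Nat.mul u (nat_lit 2))) (nat_lit 3)
noncomputable def e81cc3 : Lev := ⟨3, 3, e81cc3D, e81cc3P, e81cc3Q⟩
noncomputable def e81tn2Fd : ℕ := nat_lit 0x4ef1200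
noncomputable def e81tn2F (u : ℕ) : ℕ := Nat.land (Nat.shiftRight e81tn2Fd (Nat.mul u (nat_lit 3))) (nat_lit 7)
noncomputable def e81tn2 : Nd := ⟨e81tn2F, (nat_lit 3), (nat_lit 3), [[nat_lit 1]], [((nat_lit 0), [])], []⟩
noncomputable def e81cc0Dd : ℕ := nat_lit 0x1d8
noncomputable def e81cc0D (u : ℕ) : ℕ := Nat.land (Nat.shiftRight e81cc0Dd (Nat.mul u (nat_lit 3))) (nat_lit 7)
noncomputable def e81cc0Pd : ℕ := nat_lit 0x24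
noncomputable def e81cc0P (u : ℕ) : ℕ := Nat.land (Nat.shiftRight e81cc0Pd (Nat.mul u (nat_lit 2))) (nat_lit 3)
noncomputable def e81cc0Qd : ℕ := nat_lit 0x24
noncomputable def e81cc0Q (u : ℕ) : ℕ := Nat.land (Nat.shiftRight e81cc0Qd (Nat.mul u (nat_lit 2))) (nat_lit 3)
noncomputable def e81cc0 : Lev := ⟨3, 4, e81cc0D, e81cc0P, e81cc0Q⟩
noncomputable def e81tn3Fd : ℕ := nat_lit 0x9516a4810100
noncomputable def e81tn3F (u : ℕ) : ℕ := Nat.land (Nat.shiftRight e81tn3Fd (Nat.mul u (nat_lit 4))) (nat_lit 15)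
noncomputable def e81tn3 : Nd := ⟨e81tn3F, (nat_lit 4), (nat_lit 4), [[nat_lit 0]], [((nat_lit 0), [])], []⟩
noncomputable def e81L : List (List ℕ) := [[nat_lit 17, nat_lit 14, nat_lit 12, nat_lit 10],
  [nat_lit 17, nat_lit 14, nat_lit 12, nat_lit 11],
  [nat_lit 17, nat_lit 14, nat_lit 12],
  [nat_lit 17, nat_lit 14, nat_lit 13, nat_lit 10],
  [nat_lit 17, nat_lit 14, nat_lit 13, nat_lit 11],
  [nat_lit 17, nat_lit 14, nat_lit 13],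
  [nat_lit 17, nat_lit 14, nat_lit 10],
  [nat_lit 17, nat_lit 14, nat_lit 11],
  [nat_lit 17, nat_lit 14],
  [nat_lit 17, nat_lit 15, nat_lit 12, nat_lit 10],
  [nat_lit 17, nat_lit 15, nat_lit 12, nat_lit 11],
  [nat_lit 17, nat_lit 15, nat_lit 12],
  [nat_lit 17, nat_lit 15, nat_lit 13, nat_lit 10],
  [nat_lit 17, nat_lit 15, nat_lit 13, nat_lit 11],
  [nat_lit 17, nat_lit 15, nat_lit 13],
  [nat_lit 17, nat_lit 15, nat_lit 10],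
  [nat_lit 17, nat_lit 15, nat_lit 11],
  [nat_lit 17, nat_lit 15],
  [nat_lit 17, nat_lit 12, nat_lit 10],
  [nat_lit 17, nat_lit 12, nat_lit 11],
  [nat_lit 17, nat_lit 12],
  [nat_lit 17, nat_lit 13, nat_lit 10],
  [nat_lit 17, nat_lit 13, nat_lit 11],
  [nat_lit 17, nat_lit 13],
  [nat_lit 17, nat_lit 10],
  [nat_lit 17, nat_lit 11],
  [nat_lit 17],
  [nat_lit 14, nat_lit 12, nat_lit 10],
  [nat_lit 14, nat_lit 12, nat_lit 11],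
  [nat_lit 14, nat_lit 12],
  [nat_lit 14, nat_lit 13, nat_lit 10],
  [nat_lit 14, nat_lit 13, nat_lit 11],
  [nat_lit 14, nat_lit 13],
  [nat_lit 14, nat_lit 10],
  [nat_lit 14, nat_lit 11],
  [nat_lit 14],
  [nat_lit 15, nat_lit 12, nat_lit 10],
  [nat_lit 15, nat_lit 12, nat_lit 11],
  [nat_lit 15, nat_lit 12],
  [nat_lit 15, nat_lit 13, nat_lit 10],
  [nat_lit 15, nat_lit 13, nat_lit 11],
  [nat_lit 15, nat_lit 13],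
  [nat_lit 15, nat_lit 10],
  [nat_lit 15, nat_lit 11],
  [nat_lit 15],
  [nat_lit 12, nat_lit 10],
  [nat_lit 12, nat_lit 11],
  [nat_lit 12],
  [nat_lit 13, nat_lit 10],
  [nat_lit 13, nat_lit 11],
  [nat_lit 13],
  [nat_lit 10],
  [nat_lit 11],
  [],
  [nat_lit 16, nat_lit 14, nat_lit 12, nat_lit 10],
  [nat_lit 16, nat_lit 14, nat_lit 12, nat_lit 11],
  [nat_lit 16, nat_lit 14, nat_lit 12],
  [nat_lit 16, nat_lit 14, nat_lit 13, nat_lit 10],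
  [nat_lit 16, nat_lit 14, nat_lit 13, nat_lit 11],
  [nat_lit 16, nat_lit 14, nat_lit 13],
  [nat_lit 16, nat_lit 14, nat_lit 10],
  [nat_lit 16, nat_lit 14, nat_lit 11],
  [nat_lit 16, nat_lit 14],
  [nat_lit 16, nat_lit 15, nat_lit 12, nat_lit 10],
  [nat_lit 16, nat_lit 15, nat_lit 12, nat_lit 11],
  [nat_lit 16, nat_lit 15, nat_lit 12],
  [nat_lit 16, nat_lit 15, nat_lit 13, nat_lit 10],
  [nat_lit 16, nat_lit 15, nat_lit 13, nat_lit 11],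
  [nat_lit 16, nat_lit 15, nat_lit 13],
  [nat_lit 16, nat_lit 15, nat_lit 10],
  [nat_lit 16, nat_lit 15, nat_lit 11],
  [nat_lit 16, nat_lit 15],
  [nat_lit 16, nat_lit 12, nat_lit 10],
  [nat_lit 16, nat_lit 12, nat_lit 11],
  [nat_lit 16, nat_lit 12],
  [nat_lit 16, nat_lit 13, nat_lit 10],
  [nat_lit 16, nat_lit 13, nat_lit 11],
  [nat_lit 16, nat_lit 13],
  [nat_lit 16, nat_lit 10],
  [nat_lit 16, nat_lit 11],
  [nat_lit 16]]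
noncomputable def e8x_W : List (List ℕ) := [[nat_lit 10],
  [nat_lit 12],
  [nat_lit 0],
  [nat_lit 5, nat_lit 2]]
noncomputable def e8x_P : ℕ → ℕ → ℕ := wdsP H16.HN3.X.P e8x_W
noncomputable def e8th_W : List (List ℕ) := [[nat_lit 16, nat_lit 4, nat_lit 5],
  [nat_lit 16],
  [nat_lit 17],
  [nat_lit 16, nat_lit 4, nat_lit 3, nat_lit 17],
  [nat_lit 14],
  [nat_lit 15],
  [nat_lit 24, nat_lit 15, nat_lit 18, nat_lit 0, nat_lit 19, nat_lit 23],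
  [nat_lit 19, nat_lit 6, nat_lit 7, nat_lit 16, nat_lit 4, nat_lit 5, nat_lit 22, nat_lit 15, nat_lit 22, nat_lit 13, nat_lit 7, nat_lit 18],
  [nat_lit 2],
  [nat_lit 3],
  [nat_lit 4],
  [nat_lit 5],
  [nat_lit 6],
  [nat_lit 7],
  [nat_lit 10],
  [nat_lit 11],
  [nat_lit 23],
  [nat_lit 24],
  [nat_lit 0],
  [nat_lit 1],
  [nat_lit 12],
  [nat_lit 13],
  [nat_lit 18],
  [nat_lit 19],
  [nat_lit 20],
  [nat_lit 21],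
  [nat_lit 22]]
noncomputable def e8th_P : ℕ → ℕ → ℕ := wdsP H16.HN3.X.P e8th_W
noncomputable def e8tl0Dd : ℕ := nat_lit 0x2a2989881817161514131200
noncomputable def e8tl0D (u : ℕ) : ℕ := Nat.land (Nat.shiftRight e8tl0Dd (Nat.mul u (nat_lit 8))) (nat_lit 255)
noncomputable def e8tl0Pd : ℕ := nat_lit 0x19a78b34625
noncomputable def e8tl0P (u : ℕ) : ℕ := Nat.land (Nat.shiftRight e8tl0Pd (Nat.mul u (nat_lit 4))) (nat_lit 15)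
noncomputable def e8tl0Qd : ℕ := nat_lit 0x5896720341ab
noncomputable def e8tl0Q (u : ℕ) : ℕ := Nat.land (Nat.shiftRight e8tl0Qd (Nat.mul u (nat_lit 4))) (nat_lit 15)
noncomputable def e8tl0 : Lev := ⟨12, 27, e8tl0D, e8tl0P, e8tl0Q⟩
noncomputable def e8tl1Dd : ℕ := nat_lit 0xc789fe0d9b91203c700
noncomputable def e8tl1D (u : ℕ) : ℕ := Nat.land (Nat.shiftRight e8tl1Dd (Nat.mul u (nat_lit 7))) (nat_lit 127)
noncomputable def e8tl1Pd : ℕ := nat_lit 0x364789ba012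
noncomputable def e8tl1P (u : ℕ) : ℕ := Nat.land (Nat.shiftRight e8tl1Pd (Nat.mul u (nat_lit 4))) (nat_lit 15)
noncomputable def e8tl1Qd : ℕ := nat_lit 0x43567908a012
noncomputable def e8tl1Q (u : ℕ) : ℕ := Nat.land (Nat.shiftRight e8tl1Qd (Nat.mul u (nat_lit 4))) (nat_lit 15)
noncomputable def e8tl1 : Lev := ⟨11, 18, e8tl1D, e8tl1P, e8tl1Q⟩
noncomputable def e8tl2Dd : ℕ := nat_lit 0x33e646e9ca25258680
noncomputable def e8tl2D (u : ℕ) : ℕ := Nat.land (Nat.shiftRight e8tl2Dd (Nat.mul u (nat_lit 7))) (nat_lit 127)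
noncomputable def e8tl2Pd : ℕ := nat_lit 0x6789ab4103
noncomputable def e8tl2P (u : ℕ) : ℕ := Nat.land (Nat.shiftRight e8tl2Pd (Nat.mul u (nat_lit 4))) (nat_lit 15)
noncomputable def e8tl2Qd : ℕ := nat_lit 0x456789030021
noncomputable def e8tl2Q (u : ℕ) : ℕ := Nat.land (Nat.shiftRight e8tl2Qd (Nat.mul u (nat_lit 4))) (nat_lit 15)
noncomputable def e8tl2 : Lev := ⟨10, 14, e8tl2D, e8tl2P, e8tl2Q⟩
noncomputable def e8tl3Dd : ℕ := nat_lit 0x2e8d14a1c364c400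
noncomputable def e8tl3D (u : ℕ) : ℕ := Nat.land (Nat.shiftRight e8tl3Dd (Nat.mul u (nat_lit 7))) (nat_lit 127)
noncomputable def e8tl3Pd : ℕ := nat_lit 0x46789ab10
noncomputable def e8tl3P (u : ℕ) : ℕ := Nat.land (Nat.shiftRight e8tl3Pd (Nat.mul u (nat_lit 4))) (nat_lit 15)
noncomputable def e8tl3Qd : ℕ := nat_lit 0x234567080010
noncomputable def e8tl3Q (u : ℕ) : ℕ := Nat.land (Nat.shiftRight e8tl3Qd (Nat.mul u (nat_lit 4))) (nat_lit 15)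
noncomputable def e8tl3 : Lev := ⟨9, 13, e8tl3D, e8tl3P, e8tl3Q⟩
noncomputable def e8tl4Dd : ℕ := nat_lit 0x9643902891c0
noncomputable def e8tl4D (u : ℕ) : ℕ := Nat.land (Nat.shiftRight e8tl4Dd (Nat.mul u (nat_lit 6))) (nat_lit 63)
noncomputable def e8tl4Pd : ℕ := nat_lit 0x67189ab4
noncomputable def e8tl4P (u : ℕ) : ℕ := Nat.land (Nat.shiftRight e8tl4Pd (Nat.mul u (nat_lit 4))) (nat_lit 15)
noncomputable def e8tl4Qd : ℕ := nat_lit 0x29cdc0028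
noncomputable def e8tl4Q (u : ℕ) : ℕ := Nat.land (Nat.shiftRight e8tl4Qd (Nat.mul u (nat_lit 3))) (nat_lit 7)
noncomputable def e8tl4 : Lev := ⟨8, 8, e8tl4D, e8tl4P, e8tl4Q⟩
noncomputable def e8tl5Dd : ℕ := nat_lit 0x2180e248180
noncomputable def e8tl5D (u : ℕ) : ℕ := Nat.land (Nat.shiftRight e8tl5Dd (Nat.mul u (nat_lit 6))) (nat_lit 63)
noncomputable def e8tl5Pd : ℕ := nat_lit 0x6789ab1
noncomputable def e8tl5P (u : ℕ) : ℕ := Nat.land (Nat.shiftRight e8tl5Pd (Nat.mul u (nat_lit 4))) (nat_lit 15)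
noncomputable def e8tl5Qd : ℕ := nat_lit 0x29cb80000
noncomputable def e8tl5Q (u : ℕ) : ℕ := Nat.land (Nat.shiftRight e8tl5Qd (Nat.mul u (nat_lit 3))) (nat_lit 7)
noncomputable def e8tl5 : Lev := ⟨7, 7, e8tl5D, e8tl5P, e8tl5Q⟩
noncomputable def e8tl6Dd : ℕ := nat_lit 0x29331480
noncomputable def e8tl6D (u : ℕ) : ℕ := Nat.land (Nat.shiftRight e8tl6Dd (Nat.mul u (nat_lit 5))) (nat_lit 31)
noncomputable def e8tl6Pd : ℕ := nat_lit 0x9ab786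
noncomputable def e8tl6P (u : ℕ) : ℕ := Nat.land (Nat.shiftRight e8tl6Pd (Nat.mul u (nat_lit 4))) (nat_lit 15)
noncomputable def e8tl6Qd : ℕ := nat_lit 0x729400000
noncomputable def e8tl6Q (u : ℕ) : ℕ := Nat.land (Nat.shiftRight e8tl6Qd (Nat.mul u (nat_lit 3))) (nat_lit 7)
noncomputable def e8tl6 : Lev := ⟨6, 6, e8tl6D, e8tl6P, e8tl6Q⟩
noncomputable def e8tl7Dd : ℕ := nat_lit 0x86530
noncomputable def e8tl7D (u : ℕ) : ℕ := Nat.land (Nat.shiftRight e8tl7Dd (Nat.mul u (nat_lit 4))) (nat_lit 15)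
noncomputable def e8tl7Pd : ℕ := nat_lit 0x89ab7
noncomputable def e8tl7P (u : ℕ) : ℕ := Nat.land (Nat.shiftRight e8tl7Pd (Nat.mul u (nat_lit 4))) (nat_lit 15)
noncomputable def e8tl7Qd : ℕ := nat_lit 0x29c000000
noncomputable def e8tl7Q (u : ℕ) : ℕ := Nat.land (Nat.shiftRight e8tl7Qd (Nat.mul u (nat_lit 3))) (nat_lit 7)
noncomputable def e8tl7 : Lev := ⟨5, 4, e8tl7D, e8tl7P, e8tl7Q⟩
noncomputable def e8tl8Dd : ℕ := nat_lit 0xc88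
noncomputable def e8tl8D (u : ℕ) : ℕ := Nat.land (Nat.shiftRight e8tl8Dd (Nat.mul u (nat_lit 3))) (nat_lit 7)
noncomputable def e8tl8Pd : ℕ := nat_lit 0x8ab9
noncomputable def e8tl8P (u : ℕ) : ℕ := Nat.land (Nat.shiftRight e8tl8Pd (Nat.mul u (nat_lit 4))) (nat_lit 15)
noncomputable def e8tl8Qd : ℕ := nat_lit 0x630000
noncomputable def e8tl8Q (u : ℕ) : ℕ := Nat.land (Nat.shiftRight e8tl8Qd (Nat.mul u (nat_lit 2))) (nat_lit 3)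
noncomputable def e8tl8 : Lev := ⟨4, 3, e8tl8D, e8tl8P, e8tl8Q⟩
noncomputable def e8tl9Dd : ℕ := nat_lit 4
noncomputable def e8tl9D (u : ℕ) : ℕ := Nat.land (Nat.shiftRight e8tl9Dd (Nat.mul u (nat_lit 1))) (nat_lit 1)
noncomputable def e8tl9Pd : ℕ := nat_lit 0xb8a
noncomputable def e8tl9P (u : ℕ) : ℕ := Nat.land (Nat.shiftRight e8tl9Pd (Nat.mul u (nat_lit 4))) (nat_lit 15)
noncomputable def e8tl9Qd : ℕ := nat_lit 0x810000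
noncomputable def e8tl9Q (u : ℕ) : ℕ := Nat.land (Nat.shiftRight e8tl9Qd (Nat.mul u (nat_lit 2))) (nat_lit 3)
noncomputable def e8tl9 : Lev := ⟨3, 1, e8tl9D, e8tl9P, e8tl9Q⟩
noncomputable def e8ce_W : List (List ℕ) := [[nat_lit 16, nat_lit 4, nat_lit 5, nat_lit 16],
  [nat_lit 15, nat_lit 18, nat_lit 21, nat_lit 20]]
noncomputable def e8ce_P : ℕ → ℕ → ℕ := wdsP H16.HN3.X.P e8ce_W
noncomputable def e8cc8Dd : ℕ := nat_lit 0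
noncomputable def e8cc8D (u : ℕ) : ℕ := Nat.land (Nat.shiftRight e8cc8Dd (Nat.mul u (nat_lit 1))) (nat_lit 1)
noncomputable def e8cc8Pd : ℕ := nat_lit 0xa9
noncomputable def e8cc8P (u : ℕ) : ℕ := Nat.land (Nat.shiftRight e8cc8Pd (Nat.mul u (nat_lit 4))) (nat_lit 15)
noncomputable def e8cc8Qd : ℕ := nat_lit 0x400
noncomputable def e8cc8Q (u : ℕ) : ℕ := Nat.land (Nat.shiftRight e8cc8Qd (Nat.mul u (nat_lit 1))) (nat_lit 1)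
noncomputable def e8cc8 : Lev := ⟨2, 1, e8cc8D, e8cc8P, e8cc8Q⟩
noncomputable def e8tn0Fd : ℕ := nat_lit 0x84
noncomputable def e8tn0F (u : ℕ) : ℕ := Nat.land (Nat.shiftRight e8tn0Fd (Nat.mul u (nat_lit 2))) (nat_lit 3)
noncomputable def e8tn0 : Nd := ⟨e8tn0F, (nat_lit 2), (nat_lit 1), [[nat_lit 3]], [((nat_lit 0), [])], []⟩
noncomputable def e8cc6Dd : ℕ := nat_lit 0xe4
noncomputable def e8cc6D (u : ℕ) : ℕ := Nat.land (Nat.shiftRight e8cc6Dd (Nat.mul u (nat_lit 2))) (nat_lit 3)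
noncomputable def e8cc6Pd : ℕ := nat_lit 0x7a96
noncomputable def e8cc6P (u : ℕ) : ℕ := Nat.land (Nat.shiftRight e8cc6Pd (Nat.mul u (nat_lit 4))) (nat_lit 15)
noncomputable def e8cc6Qd : ℕ := nat_lit 0x24c000
noncomputable def e8cc6Q (u : ℕ) : ℕ := Nat.land (Nat.shiftRight e8cc6Qd (Nat.mul u (nat_lit 2))) (nat_lit 3)
noncomputable def e8cc6 : Lev := ⟨4, 2, e8cc6D, e8cc6P, e8cc6Q⟩
noncomputable def e8tn1Fd : ℕ := nat_lit 0x84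
noncomputable def e8tn1F (u : ℕ) : ℕ := Nat.land (Nat.shiftRight e8tn1Fd (Nat.mul u (nat_lit 2))) (nat_lit 3)
noncomputable def e8tn1 : Nd := ⟨e8tn1F, (nat_lit 2), (nat_lit 2), [[nat_lit 3]], [((nat_lit 0), [])], []⟩
noncomputable def e8tn2Fd : ℕ := nat_lit 0x25ca89248
noncomputable def e8tn2F (u : ℕ) : ℕ := Nat.land (Nat.shiftRight e8tn2Fd (Nat.mul u (nat_lit 3))) (nat_lit 7)
noncomputable def e8tn2 : Nd := ⟨e8tn2F, (nat_lit 2), (nat_lit 2), [[nat_lit 1],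
  [nat_lit 2]], [((nat_lit 0), [])], []⟩
noncomputable def e8L : List (List ℕ) := [[nat_lit 15, nat_lit 4, nat_lit 5, nat_lit 19, nat_lit 22, nat_lit 18],
  [nat_lit 21, nat_lit 17, nat_lit 18, nat_lit 20],
  [nat_lit 14, nat_lit 4, nat_lit 5, nat_lit 3, nat_lit 4, nat_lit 15],
  [nat_lit 15, nat_lit 18, nat_lit 21, nat_lit 20],
  [nat_lit 5, nat_lit 2],
  [nat_lit 16, nat_lit 4, nat_lit 5, nat_lit 16],
  [],
  [nat_lit 16, nat_lit 4, nat_lit 17, nat_lit 2]]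
noncomputable def e16x_W : List (List ℕ) := [[nat_lit 7, nat_lit 0, nat_lit 7, nat_lit 0],
  [nat_lit 7],
  [nat_lit 16, nat_lit 7, nat_lit 6],
  [nat_lit 6, nat_lit 0, nat_lit 4, nat_lit 2],
  [nat_lit 0, nat_lit 7, nat_lit 2]]
noncomputable def e16x_P : ℕ → ℕ → ℕ := wdsP H16.HN3.X.P e16x_W
noncomputable def e16th_W : List (List ℕ) := [[nat_lit 2, nat_lit 1],
  [nat_lit 1, nat_lit 0],
  [nat_lit 3, nat_lit 21, nat_lit 0],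
  [nat_lit 12],
  [nat_lit 13],
  [nat_lit 22],
  [nat_lit 22, nat_lit 0, nat_lit 13, nat_lit 22, nat_lit 11],
  [nat_lit 0],
  [nat_lit 1],
  [nat_lit 2],
  [nat_lit 7],
  [nat_lit 10],
  [nat_lit 11],
  [nat_lit 17, nat_lit 4, nat_lit 5, nat_lit 3, nat_lit 4, nat_lit 0, nat_lit 19, nat_lit 0, nat_lit 23, nat_lit 4, nat_lit 21],
  [nat_lit 6],
  [nat_lit 5],
  [nat_lit 16],
  [nat_lit 17],
  [nat_lit 23],
  [nat_lit 24],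
  [nat_lit 3],
  [nat_lit 4],
  [nat_lit 14],
  [nat_lit 15],
  [nat_lit 18],
  [nat_lit 19],
  [nat_lit 20],
  [nat_lit 21]]
noncomputable def e16th_P : ℕ → ℕ → ℕ := wdsP H16.HN3.X.P e16th_W
noncomputable def e16tl0Dd : ℕ := nat_lit 0x4ab24759711a191817151400
noncomputable def e16tl0D (u : ℕ) : ℕ := Nat.land (Nat.shiftRight e16tl0Dd (Nat.mul u (nat_lit 8))) (nat_lit 255)
noncomputable def e16tl0Pd : ℕ := nat_lit 0x1a324b56978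
noncomputable def e16tl0P (u : ℕ) : ℕ := Nat.land (Nat.shiftRight e16tl0Pd (Nat.mul u (nat_lit 4))) (nat_lit 15)
noncomputable def e16tl0Qd : ℕ := nat_lit 0x5920134687ab
noncomputable def e16tl0Q (u : ℕ) : ℕ := Nat.land (Nat.shiftRight e16tl0Qd (Nat.mul u (nat_lit 4))) (nat_lit 15)
noncomputable def e16tl0 : Lev := ⟨12, 28, e16tl0D, e16tl0P, e16tl0Q⟩
noncomputable def e16tl1Dd : ℕ := nat_lit 0x8c68796747464312100f00
noncomputable def e16tl1D (u : ℕ) : ℕ := Nat.land (Nat.shiftRight e16tl1Dd (Nat.mul u (nat_lit 8))) (nat_lit 255)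
noncomputable def e16tl1Pd : ℕ := nat_lit 0x74652310ba9
noncomputable def e16tl1P (u : ℕ) : ℕ := Nat.land (Nat.shiftRight e16tl1Pd (Nat.mul u (nat_lit 4))) (nat_lit 15)
noncomputable def e16tl1Qd : ℕ := nat_lit 0x2100a8795643
noncomputable def e16tl1Q (u : ℕ) : ℕ := Nat.land (Nat.shiftRight e16tl1Qd (Nat.mul u (nat_lit 4))) (nat_lit 15)
noncomputable def e16tl1 : Lev := ⟨11, 20, e16tl1D, e16tl1P, e16tl1Q⟩
noncomputable def e16tl2Dd : ℕ := nat_lit 0x34cc80fd5284a70700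
noncomputable def e16tl2D (u : ℕ) : ℕ := Nat.land (Nat.shiftRight e16tl2Dd (Nat.mul u (nat_lit 7))) (nat_lit 127)
noncomputable def e16tl2Pd : ℕ := nat_lit 0x76532401ab
noncomputable def e16tl2P (u : ℕ) : ℕ := Nat.land (Nat.shiftRight e16tl2Pd (Nat.mul u (nat_lit 4))) (nat_lit 15)
noncomputable def e16tl2Qd : ℕ := nat_lit 0x10098746523
noncomputable def e16tl2Q (u : ℕ) : ℕ := Nat.land (Nat.shiftRight e16tl2Qd (Nat.mul u (nat_lit 4))) (nat_lit 15)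
noncomputable def e16tl2 : Lev := ⟨10, 15, e16tl2D, e16tl2P, e16tl2Q⟩
noncomputable def e16tl3Dd : ℕ := nat_lit 0x5472b969a3054680
noncomputable def e16tl3D (u : ℕ) : ℕ := Nat.land (Nat.shiftRight e16tl3Dd (Nat.mul u (nat_lit 7))) (nat_lit 127)
noncomputable def e16tl3Pd : ℕ := nat_lit 0x76532401a
noncomputable def e16tl3P (u : ℕ) : ℕ := Nat.land (Nat.shiftRight e16tl3Pd (Nat.mul u (nat_lit 4))) (nat_lit 15)
noncomputable def e16tl3Qd : ℕ := nat_lit 0x87635412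
noncomputable def e16tl3Q (u : ℕ) : ℕ := Nat.land (Nat.shiftRight e16tl3Qd (Nat.mul u (nat_lit 4))) (nat_lit 15)
noncomputable def e16tl3 : Lev := ⟨9, 14, e16tl3D, e16tl3P, e16tl3Q⟩
noncomputable def e16tl4Dd : ℕ := nat_lit 0xd1ea1d2ca1c0
noncomputable def e16tl4D (u : ℕ) : ℕ := Nat.land (Nat.shiftRight e16tl4Dd (Nat.mul u (nat_lit 6))) (nat_lit 63)
noncomputable def e16tl4Pd : ℕ := nat_lit 0xf354c8
noncomputable def e16tl4P (u : ℕ) : ℕ := Nat.land (Nat.shiftRight e16tl4Pd (Nat.mul u (nat_lit 3))) (nat_lit 7)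
noncomputable def e16tl4Qd : ℕ := nat_lit 0xf664c8
noncomputable def e16tl4Q (u : ℕ) : ℕ := Nat.land (Nat.shiftRight e16tl4Qd (Nat.mul u (nat_lit 3))) (nat_lit 7)
noncomputable def e16tl4 : Lev := ⟨8, 13, e16tl4D, e16tl4P, e16tl4Q⟩
noncomputable def e16tl5Dd : ℕ := nat_lit 0x4ed55a8c0
noncomputable def e16tl5D (u : ℕ) : ℕ := Nat.land (Nat.shiftRight e16tl5Dd (Nat.mul u (nat_lit 5))) (nat_lit 31)
noncomputable def e16tl5Pd : ℕ := nat_lit 0x197ae1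
noncomputable def e16tl5P (u : ℕ) : ℕ := Nat.land (Nat.shiftRight e16tl5Pd (Nat.mul u (nat_lit 3))) (nat_lit 7)
noncomputable def e16tl5Qd : ℕ := nat_lit 0x999540
noncomputable def e16tl5Q (u : ℕ) : ℕ := Nat.land (Nat.shiftRight e16tl5Qd (Nat.mul u (nat_lit 3))) (nat_lit 7)
noncomputable def e16tl5 : Lev := ⟨7, 7, e16tl5D, e16tl5P, e16tl5Q⟩
noncomputable def e16tl6Dd : ℕ := nat_lit 0x3eb18
noncomputable def e16tl6D (u : ℕ) : ℕ := Nat.land (Nat.shiftRight e16tl6Dd (Nat.mul u (nat_lit 3))) (nat_lit 7)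
noncomputable def e16tl6Pd : ℕ := nat_lit 0x17d2b
noncomputable def e16tl6P (u : ℕ) : ℕ := Nat.land (Nat.shiftRight e16tl6Pd (Nat.mul u (nat_lit 3))) (nat_lit 7)
noncomputable def e16tl6Qd : ℕ := nat_lit 0x8ca140
noncomputable def e16tl6Q (u : ℕ) : ℕ := Nat.land (Nat.shiftRight e16tl6Qd (Nat.mul u (nat_lit 3))) (nat_lit 7)
noncomputable def e16tl6 : Lev := ⟨6, 6, e16tl6D, e16tl6P, e16tl6Q⟩
noncomputable def e16tl7Dd : ℕ := nat_lit 0x68d0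
noncomputable def e16tl7D (u : ℕ) : ℕ := Nat.land (Nat.shiftRight e16tl7Dd (Nat.mul u (nat_lit 3))) (nat_lit 7)
noncomputable def e16tl7Pd : ℕ := nat_lit 0x65ec
noncomputable def e16tl7P (u : ℕ) : ℕ := Nat.land (Nat.shiftRight e16tl7Pd (Nat.mul u (nat_lit 3))) (nat_lit 7)
noncomputable def e16tl7Qd : ℕ := nat_lit 0x5080c0
noncomputable def e16tl7Q (u : ℕ) : ℕ := Nat.land (Nat.shiftRight e16tl7Qd (Nat.mul u (nat_lit 3))) (nat_lit 7)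
noncomputable def e16tl7 : Lev := ⟨5, 3, e16tl7D, e16tl7P, e16tl7Q⟩
noncomputable def e16tl8Dd : ℕ := nat_lit 0x888
noncomputable def e16tl8D (u : ℕ) : ℕ := Nat.land (Nat.shiftRight e16tl8Dd (Nat.mul u (nat_lit 3))) (nat_lit 7)
noncomputable def e16tl8Pd : ℕ := nat_lit 0xf72
noncomputable def e16tl8P (u : ℕ) : ℕ := Nat.land (Nat.shiftRight e16tl8Pd (Nat.mul u (nat_lit 3))) (nat_lit 7)
noncomputable def e16tl8Qd : ℕ := nat_lit 0xd800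
noncomputable def e16tl8Q (u : ℕ) : ℕ := Nat.land (Nat.shiftRight e16tl8Qd (Nat.mul u (nat_lit 2))) (nat_lit 3)
noncomputable def e16tl8 : Lev := ⟨4, 2, e16tl8D, e16tl8P, e16tl8Q⟩
noncomputable def e16tl9Dd : ℕ := nat_lit 4
noncomputable def e16tl9D (u : ℕ) : ℕ := Nat.land (Nat.shiftRight e16tl9Dd (Nat.mul u (nat_lit 1))) (nat_lit 1)
noncomputable def e16tl9Pd : ℕ := nat_lit 0x1bd
noncomputable def e16tl9P (u : ℕ) : ℕ := Nat.land (Nat.shiftRight e16tl9Pd (Nat.mul u (nat_lit 3))) (nat_lit 7)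
noncomputable def e16tl9Qd : ℕ := nat_lit 0x6000
noncomputable def e16tl9Q (u : ℕ) : ℕ := Nat.land (Nat.shiftRight e16tl9Qd (Nat.mul u (nat_lit 2))) (nat_lit 3)
noncomputable def e16tl9 : Lev := ⟨3, 1, e16tl9D, e16tl9P, e16tl9Q⟩
noncomputable def e16ce_W : List (List ℕ) := [[nat_lit 2, nat_lit 0],
  [nat_lit 1, nat_lit 0, nat_lit 2, nat_lit 1],
  [nat_lit 21, nat_lit 14, nat_lit 12, nat_lit 0],
  [nat_lit 1, nat_lit 2, nat_lit 17, nat_lit 4, nat_lit 5, nat_lit 0, nat_lit 1]]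
noncomputable def e16ce_P : ℕ → ℕ → ℕ := wdsP H16.HN3.X.P e16ce_W
noncomputable def e16cc8Dd : ℕ := nat_lit 0xd0
noncomputable def e16cc8D (u : ℕ) : ℕ := Nat.land (Nat.shiftRight e16cc8Dd (Nat.mul u (nat_lit 2))) (nat_lit 3)
noncomputable def e16cc8Pd : ℕ := nat_lit 0xfaa
noncomputable def e16cc8P (u : ℕ) : ℕ := Nat.land (Nat.shiftRight e16cc8Pd (Nat.mul u (nat_lit 3))) (nat_lit 7)
noncomputable def e16cc8Qd : ℕ := nat_lit 0xe400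
noncomputable def e16cc8Q (u : ℕ) : ℕ := Nat.land (Nat.shiftRight e16cc8Qd (Nat.mul u (nat_lit 2))) (nat_lit 3)
noncomputable def e16cc8 : Lev := ⟨4, 2, e16cc8D, e16cc8P, e16cc8Q⟩
noncomputable def e16tn0Fd : ℕ := nat_lit 0
noncomputable def e16tn0F (u : ℕ) : ℕ := Nat.land (Nat.shiftRight e16tn0Fd (Nat.mul u (nat_lit 1))) (nat_lit 1)
noncomputable def e16tn0 : Nd := ⟨e16tn0F, (nat_lit 2), (nat_lit 2), [], [((nat_lit 0), [])], []⟩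
noncomputable def e16cc4Dd : ℕ := nat_lit 8
noncomputable def e16cc4D (u : ℕ) : ℕ := Nat.land (Nat.shiftRight e16cc4Dd (Nat.mul u (nat_lit 2))) (nat_lit 3)
noncomputable def e16cc4Pd : ℕ := nat_lit 2
noncomputable def e16cc4P (u : ℕ) : ℕ := Nat.land (Nat.shiftRight e16cc4Pd (Nat.mul u (nat_lit 1))) (nat_lit 1)
noncomputable def e16cc4Qd : ℕ := nat_lit 2
noncomputable def e16cc4Q (u : ℕ) : ℕ := Nat.land (Nat.shiftRight e16cc4Qd (Nat.mul u (nat_lit 1))) (nat_lit 1)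
noncomputable def e16cc4 : Lev := ⟨2, 3, e16cc4D, e16cc4P, e16cc4Q⟩
noncomputable def e16tn1Fd : ℕ := nat_lit 0xf63240
noncomputable def e16tn1F (u : ℕ) : ℕ := Nat.land (Nat.shiftRight e16tn1Fd (Nat.mul u (nat_lit 3))) (nat_lit 7)
noncomputable def e16tn1 : Nd := ⟨e16tn1F, (nat_lit 3), (nat_lit 3), [[nat_lit 1, nat_lit 2]], [((nat_lit 0), [])], []⟩
noncomputable def e16cc0Dd : ℕ := nat_lit 0xc
noncomputable def e16cc0D (u : ℕ) : ℕ := Nat.land (Nat.shiftRight e16cc0Dd (Nat.mul u (nat_lit 2))) (nat_lit 3)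
noncomputable def e16cc0Pd : ℕ := nat_lit 0xa8
noncomputable def e16cc0P (u : ℕ) : ℕ := Nat.land (Nat.shiftRight e16cc0Pd (Nat.mul u (nat_lit 4))) (nat_lit 15)
noncomputable def e16cc0Qd : ℕ := nat_lit 0x400
noncomputable def e16cc0Q (u : ℕ) : ℕ := Nat.land (Nat.shiftRight e16cc0Qd (Nat.mul u (nat_lit 1))) (nat_lit 1)
noncomputable def e16cc0 : Lev := ⟨2, 4, e16cc0D, e16cc0P, e16cc0Q⟩
noncomputable def e16tn2Fd : ℕ := nat_lit 0x610691754110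
noncomputable def e16tn2F (u : ℕ) : ℕ := Nat.land (Nat.shiftRight e16tn2Fd (Nat.mul u (nat_lit 4))) (nat_lit 15)
noncomputable def e16tn2 : Nd := ⟨e16tn2F, (nat_lit 4), (nat_lit 4), [[nat_lit 2],
  [nat_lit 4]], [((nat_lit 0), [])], []⟩
noncomputable def e16L : List (List ℕ) := [[nat_lit 1, nat_lit 7, nat_lit 17, nat_lit 4, nat_lit 5, nat_lit 20, nat_lit 0, nat_lit 20, nat_lit 7],
  [nat_lit 1, nat_lit 17, nat_lit 4, nat_lit 5, nat_lit 20, nat_lit 0, nat_lit 20],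
  [nat_lit 1, nat_lit 21, nat_lit 5, nat_lit 4, nat_lit 3, nat_lit 4, nat_lit 16, nat_lit 14, nat_lit 12, nat_lit 0, nat_lit 1],
  [nat_lit 1, nat_lit 2, nat_lit 17, nat_lit 4, nat_lit 5, nat_lit 0, nat_lit 1],
  [nat_lit 15, nat_lit 21, nat_lit 17, nat_lit 4, nat_lit 5, nat_lit 12, nat_lit 0],
  [nat_lit 17, nat_lit 4, nat_lit 5, nat_lit 2, nat_lit 0],
  [nat_lit 17, nat_lit 4, nat_lit 5, nat_lit 22, nat_lit 1, nat_lit 22],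
  [nat_lit 17, nat_lit 4, nat_lit 5],
  [nat_lit 1, nat_lit 7, nat_lit 20, nat_lit 0, nat_lit 20, nat_lit 7],
  [nat_lit 20, nat_lit 0, nat_lit 20, nat_lit 1],
  [nat_lit 18, nat_lit 2, nat_lit 4, nat_lit 5, nat_lit 19, nat_lit 0, nat_lit 1],
  [nat_lit 1, nat_lit 0, nat_lit 2, nat_lit 1],
  [nat_lit 21, nat_lit 14, nat_lit 12, nat_lit 0],
  [nat_lit 2, nat_lit 0],
  [nat_lit 18, nat_lit 2, nat_lit 19],
  []]
noncomputable def e4x_W : List (List ℕ) := [[nat_lit 14],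
  [nat_lit 7, nat_lit 0, nat_lit 7, nat_lit 0],
  [nat_lit 0, nat_lit 1, nat_lit 2, nat_lit 3, nat_lit 4, nat_lit 5]]
noncomputable def e4x_P : ℕ → ℕ → ℕ := wdsP H16.HN3.X.P e4x_W
noncomputable def e4th_W : List (List ℕ) := [[nat_lit 19, nat_lit 4, nat_lit 5, nat_lit 18],
  [nat_lit 10, nat_lit 0, nat_lit 12, nat_lit 0, nat_lit 11],
  [nat_lit 7],
  [nat_lit 6, nat_lit 17],
  [nat_lit 5],
  [nat_lit 6],
  [nat_lit 16],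
  [nat_lit 17],
  [nat_lit 4],
  [nat_lit 10],
  [nat_lit 11],
  [nat_lit 23],
  [nat_lit 24],
  [nat_lit 3],
  [nat_lit 0],
  [nat_lit 12],
  [nat_lit 13],
  [nat_lit 21],
  [nat_lit 1],
  [nat_lit 2],
  [nat_lit 14],
  [nat_lit 15],
  [nat_lit 18],
  [nat_lit 19],
  [nat_lit 20],
  [nat_lit 22]]
noncomputable def e4th_P : ℕ → ℕ → ℕ := wdsP H16.HN3.X.P e4th_W
noncomputable def e4tl0Dd : ℕ := nat_lit 0x28698586686a171614131200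
noncomputable def e4tl0D (u : ℕ) : ℕ := Nat.land (Nat.shiftRight e4tl0Dd (Nat.mul u (nat_lit 8))) (nat_lit 255)
noncomputable def e4tl0Pd : ℕ := nat_lit 0x21ba40938756
noncomputable def e4tl0P (u : ℕ) : ℕ := Nat.land (Nat.shiftRight e4tl0Pd (Nat.mul u (nat_lit 4))) (nat_lit 15)
noncomputable def e4tl0Qd : ℕ := nat_lit 0x985320174ba6
noncomputable def e4tl0Q (u : ℕ) : ℕ := Nat.land (Nat.shiftRight e4tl0Qd (Nat.mul u (nat_lit 4))) (nat_lit 15)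
noncomputable def e4tl0 : Lev := ⟨12, 26, e4tl0D, e4tl0P, e4tl0Q⟩
noncomputable def e4tl1Dd : ℕ := nat_lit 0xaf986f1d243826100f0e00
noncomputable def e4tl1D (u : ℕ) : ℕ := Nat.land (Nat.shiftRight e4tl1Dd (Nat.mul u (nat_lit 8))) (nat_lit 255)
noncomputable def e4tl1Pd : ℕ := nat_lit 0x789ab013425
noncomputable def e4tl1P (u : ℕ) : ℕ := Nat.land (Nat.shiftRight e4tl1Pd (Nat.mul u (nat_lit 4))) (nat_lit 15)
noncomputable def e4tl1Qd : ℕ := nat_lit 0x6789a0023145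
noncomputable def e4tl1Q (u : ℕ) : ℕ := Nat.land (Nat.shiftRight e4tl1Qd (Nat.mul u (nat_lit 4))) (nat_lit 15)
noncomputable def e4tl1 : Lev := ⟨11, 18, e4tl1D, e4tl1P, e4tl1Q⟩
noncomputable def e4tl2Dd : ℕ := nat_lit 0x2a436ae139f4058680
noncomputable def e4tl2D (u : ℕ) : ℕ := Nat.land (Nat.shiftRight e4tl2Dd (Nat.mul u (nat_lit 7))) (nat_lit 127)
noncomputable def e4tl2Pd : ℕ := nat_lit 0x42130ba987
noncomputable def e4tl2P (u : ℕ) : ℕ := Nat.land (Nat.shiftRight e4tl2Pd (Nat.mul u (nat_lit 4))) (nat_lit 15)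
noncomputable def e4tl2Qd : ℕ := nat_lit 0x432100096875
noncomputable def e4tl2Q (u : ℕ) : ℕ := Nat.land (Nat.shiftRight e4tl2Qd (Nat.mul u (nat_lit 4))) (nat_lit 15)
noncomputable def e4tl2 : Lev := ⟨10, 14, e4tl2D, e4tl2P, e4tl2Q⟩
noncomputable def e4tl3Dd : ℕ := nat_lit 0x63567078c1628480
noncomputable def e4tl3D (u : ℕ) : ℕ := Nat.land (Nat.shiftRight e4tl3Dd (Nat.mul u (nat_lit 7))) (nat_lit 127)
noncomputable def e4tl3Pd : ℕ := nat_lit 0x8934ba012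
noncomputable def e4tl3P (u : ℕ) : ℕ := Nat.land (Nat.shiftRight e4tl3Pd (Nat.mul u (nat_lit 4))) (nat_lit 15)
noncomputable def e4tl3Qd : ℕ := nat_lit 0x437800056012
noncomputable def e4tl3Q (u : ℕ) : ℕ := Nat.land (Nat.shiftRight e4tl3Qd (Nat.mul u (nat_lit 4))) (nat_lit 15)
noncomputable def e4tl3 : Lev := ⟨9, 13, e4tl3D, e4tl3P, e4tl3Q⟩
noncomputable def e4tl4Dd : ℕ := nat_lit 0x96499b30d200
noncomputable def e4tl4D (u : ℕ) : ℕ := Nat.land (Nat.shiftRight e4tl4Dd (Nat.mul u (nat_lit 6))) (nat_lit 63)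
noncomputable def e4tl4Pd : ℕ := nat_lit 0x1403ba98
noncomputable def e4tl4P (u : ℕ) : ℕ := Nat.land (Nat.shiftRight e4tl4Pd (Nat.mul u (nat_lit 4))) (nat_lit 15)
noncomputable def e4tl4Qd : ℕ := nat_lit 0x68800683d
noncomputable def e4tl4Q (u : ℕ) : ℕ := Nat.land (Nat.shiftRight e4tl4Qd (Nat.mul u (nat_lit 3))) (nat_lit 7)
noncomputable def e4tl4 : Lev := ⟨8, 9, e4tl4D, e4tl4P, e4tl4Q⟩
noncomputable def e4tl5Dd : ℕ := nat_lit 0x671a81480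
noncomputable def e4tl5D (u : ℕ) : ℕ := Nat.land (Nat.shiftRight e4tl5Dd (Nat.mul u (nat_lit 5))) (nat_lit 31)
noncomputable def e4tl5Pd : ℕ := nat_lit 0x1403b9a
noncomputable def e4tl5P (u : ℕ) : ℕ := Nat.land (Nat.shiftRight e4tl5Pd (Nat.mul u (nat_lit 4))) (nat_lit 15)
noncomputable def e4tl5Qd : ℕ := nat_lit 0x408005634
noncomputable def e4tl5Q (u : ℕ) : ℕ := Nat.land (Nat.shiftRight e4tl5Qd (Nat.mul u (nat_lit 3))) (nat_lit 7)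
noncomputable def e4tl5 : Lev := ⟨7, 8, e4tl5D, e4tl5P, e4tl5Q⟩
noncomputable def e4tl6Dd : ℕ := nat_lit 0x98a430
noncomputable def e4tl6D (u : ℕ) : ℕ := Nat.land (Nat.shiftRight e4tl6Dd (Nat.mul u (nat_lit 4))) (nat_lit 15)
noncomputable def e4tl6Pd : ℕ := nat_lit 0x1403b9
noncomputable def e4tl6P (u : ℕ) : ℕ := Nat.land (Nat.shiftRight e4tl6Pd (Nat.mul u (nat_lit 4))) (nat_lit 15)
noncomputable def e4tl6Qd : ℕ := nat_lit 0x20000442b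
noncomputable def e4tl6Q (u : ℕ) : ℕ := Nat.land (Nat.shiftRight e4tl6Qd (Nat.mul u (nat_lit 3))) (nat_lit 7)
noncomputable def e4tl6 : Lev := ⟨6, 4, e4tl6D, e4tl6P, e4tl6Q⟩
noncomputable def e4tl7Dd : ℕ := nat_lit 0x68d0
noncomputable def e4tl7D (u : ℕ) : ℕ := Nat.land (Nat.shiftRight e4tl7Dd (Nat.mul u (nat_lit 3))) (nat_lit 7)
noncomputable def e4tl7Pd : ℕ := nat_lit 0xb1430
noncomputable def e4tl7P (u : ℕ) : ℕ := Nat.land (Nat.shiftRight e4tl7Pd (Nat.mul u (nat_lit 4))) (nat_lit 15)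
noncomputable def e4tl7Qd : ℕ := nat_lit 0x800002218
noncomputable def e4tl7Q (u : ℕ) : ℕ := Nat.land (Nat.shiftRight e4tl7Qd (Nat.mul u (nat_lit 3))) (nat_lit 7)
noncomputable def e4tl7 : Lev := ⟨5, 3, e4tl7D, e4tl7P, e4tl7Q⟩
noncomputable def e4tl8Dd : ℕ := nat_lit 0xe4
noncomputable def e4tl8D (u : ℕ) : ℕ := Nat.land (Nat.shiftRight e4tl8Dd (Nat.mul u (nat_lit 2))) (nat_lit 3)
noncomputable def e4tl8Pd : ℕ := nat_lit 0x3b41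
noncomputable def e4tl8P (u : ℕ) : ℕ := Nat.land (Nat.shiftRight e4tl8Pd (Nat.mul u (nat_lit 4))) (nat_lit 15)
noncomputable def e4tl8Qd : ℕ := nat_lit 0x8001c0
noncomputable def e4tl8Q (u : ℕ) : ℕ := Nat.land (Nat.shiftRight e4tl8Qd (Nat.mul u (nat_lit 2))) (nat_lit 3)
noncomputable def e4tl8 : Lev := ⟨4, 2, e4tl8D, e4tl8P, e4tl8Q⟩
noncomputable def e4tl9Dd : ℕ := nat_lit 4
noncomputable def e4tl9D (u : ℕ) : ℕ := Nat.land (Nat.shiftRight e4tl9Dd (Nat.mul u (nat_lit 1))) (nat_lit 1)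
noncomputable def e4tl9Pd : ℕ := nat_lit 0xb43
noncomputable def e4tl9P (u : ℕ) : ℕ := Nat.land (Nat.shiftRight e4tl9Pd (Nat.mul u (nat_lit 4))) (nat_lit 15)
noncomputable def e4tl9Qd : ℕ := nat_lit 0x800100
noncomputable def e4tl9Q (u : ℕ) : ℕ := Nat.land (Nat.shiftRight e4tl9Qd (Nat.mul u (nat_lit 2))) (nat_lit 3)
noncomputable def e4tl9 : Lev := ⟨3, 1, e4tl9D, e4tl9P, e4tl9Q⟩
noncomputable def e4ce_W : List (List ℕ) := [[nat_lit 7],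
  [nat_lit 1, nat_lit 7, nat_lit 1]]
noncomputable def e4ce_P : ℕ → ℕ → ℕ := wdsP H16.HN3.X.P e4ce_W
noncomputable def e4tn0Fd : ℕ := nat_lit 6
noncomputable def e4tn0F (u : ℕ) : ℕ := Nat.land (Nat.shiftRight e4tn0Fd (Nat.mul u (nat_lit 1))) (nat_lit 1)
noncomputable def e4tn0 : Nd := ⟨e4tn0F, (nat_lit 2), (nat_lit 0), [[nat_lit 1]], [((nat_lit 0), []), ((nat_lit 1), [nat_lit 1])], []⟩
noncomputable def e4cc7Dd : ℕ := nat_lit 0xd0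
noncomputable def e4cc7D (u : ℕ) : ℕ := Nat.land (Nat.shiftRight e4cc7Dd (Nat.mul u (nat_lit 2))) (nat_lit 3)
noncomputable def e4cc7Pd : ℕ := nat_lit 0x318
noncomputable def e4cc7P (u : ℕ) : ℕ := Nat.land (Nat.shiftRight e4cc7Pd (Nat.mul u (nat_lit 3))) (nat_lit 7)
noncomputable def e4cc7Qd : ℕ := nat_lit 0x24c
noncomputable def e4cc7Q (u : ℕ) : ℕ := Nat.land (Nat.shiftRight e4cc7Qd (Nat.mul u (nat_lit 2))) (nat_lit 3)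
noncomputable def e4cc7 : Lev := ⟨4, 2, e4cc7D, e4cc7P, e4cc7Q⟩
noncomputable def e4tn1Fd : ℕ := nat_lit 0x10
noncomputable def e4tn1F (u : ℕ) : ℕ := Nat.land (Nat.shiftRight e4tn1Fd (Nat.mul u (nat_lit 1))) (nat_lit 1)
noncomputable def e4tn1 : Nd := ⟨e4tn1F, (nat_lit 2), (nat_lit 2), [[nat_lit 1]], [((nat_lit 0), [])], []⟩
noncomputable def e4tn2Fd : ℕ := nat_lit 0x2c9a89248
noncomputable def e4tn2F (u : ℕ) : ℕ := Nat.land (Nat.shiftRight e4tn2Fd (Nat.mul u (nat_lit 3))) (nat_lit 7)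
noncomputable def e4tn2 : Nd := ⟨e4tn2F, (nat_lit 2), (nat_lit 2), [[nat_lit 0],
  [nat_lit 2, nat_lit 0]], [((nat_lit 0), [])], []⟩
noncomputable def e4L : List (List ℕ) := [[nat_lit 1, nat_lit 7, nat_lit 1],
  [nat_lit 7],
  [nat_lit 18, nat_lit 2, nat_lit 19],
  []]
noncomputable def f72x_W : List (List ℕ) := [[nat_lit 10],
  [nat_lit 16],
  [nat_lit 19, nat_lit 21, nat_lit 18, nat_lit 20, nat_lit 19, nat_lit 21, nat_lit 18, nat_lit 20]]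
noncomputable def f72x_P : ℕ → ℕ → ℕ := wdsP H16.HN3.X.P f72x_W
noncomputable def f72th_W : List (List ℕ) := [[nat_lit 21, nat_lit 22, nat_lit 15],
  [nat_lit 14],
  [nat_lit 15],
  [nat_lit 1, nat_lit 2],
  [nat_lit 12],
  [nat_lit 13],
  [nat_lit 21],
  [nat_lit 22],
  [nat_lit 19, nat_lit 13, nat_lit 16, nat_lit 4, nat_lit 5, nat_lit 18],
  [nat_lit 20],
  [nat_lit 16],
  [nat_lit 17],
  [nat_lit 18],
  [nat_lit 19],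
  [nat_lit 12, nat_lit 15, nat_lit 4, nat_lit 5, nat_lit 22, nat_lit 12, nat_lit 20, nat_lit 1, nat_lit 0],
  [nat_lit 20, nat_lit 10, nat_lit 4, nat_lit 5, nat_lit 22, nat_lit 15, nat_lit 22, nat_lit 14, nat_lit 12, nat_lit 0, nat_lit 20],
  [nat_lit 0],
  [nat_lit 1],
  [nat_lit 2],
  [nat_lit 3],
  [nat_lit 4],
  [nat_lit 5],
  [nat_lit 6],
  [nat_lit 7],
  [nat_lit 10],
  [nat_lit 11],
  [nat_lit 23],
  [nat_lit 24]]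
noncomputable def f72th_P : ℕ → ℕ → ℕ := wdsP H16.HN3.X.P f72th_W
noncomputable def f72tl0Dd : ℕ := nat_lit 0x7b7a8e8d3d3c381a18171000
noncomputable def f72tl0D (u : ℕ) : ℕ := Nat.land (Nat.shiftRight f72tl0Dd (Nat.mul u (nat_lit 8))) (nat_lit 255)
noncomputable def f72tl0Pd : ℕ := nat_lit 0xab7845692310
noncomputable def f72tl0P (u : ℕ) : ℕ := Nat.land (Nat.shiftRight f72tl0Pd (Nat.mul u (nat_lit 4))) (nat_lit 15)
noncomputable def f72tl0Qd : ℕ := nat_lit 0xab4895672310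
noncomputable def f72tl0Q (u : ℕ) : ℕ := Nat.land (Nat.shiftRight f72tl0Qd (Nat.mul u (nat_lit 4))) (nat_lit 15)
noncomputable def f72tl0 : Lev := ⟨12, 28, f72tl0D, f72tl0P, f72tl0Q⟩
noncomputable def f72tl1Dd : ℕ := nat_lit 0x1b1eac62952203e78780
noncomputable def f72tl1D (u : ℕ) : ℕ := Nat.land (Nat.shiftRight f72tl1Dd (Nat.mul u (nat_lit 7))) (nat_lit 127)
noncomputable def f72tl1Pd : ℕ := nat_lit 0xab974568321
noncomputable def f72tl1P (u : ℕ) : ℕ := Nat.land (Nat.shiftRight f72tl1Pd (Nat.mul u (nat_lit 4))) (nat_lit 15)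
noncomputable def f72tl1Qd : ℕ := nat_lit 0x9a8374562100
noncomputable def f72tl1Q (u : ℕ) : ℕ := Nat.land (Nat.shiftRight f72tl1Qd (Nat.mul u (nat_lit 4))) (nat_lit 15)
noncomputable def f72tl1 : Lev := ⟨11, 16, f72tl1D, f72tl1P, f72tl1Q⟩
noncomputable def f72tl2Dd : ℕ := nat_lit 0x24393680f94263c700
noncomputable def f72tl2D (u : ℕ) : ℕ := Nat.land (Nat.shiftRight f72tl2Dd (Nat.mul u (nat_lit 7))) (nat_lit 127)
noncomputable def f72tl2Pd : ℕ := nat_lit 0xab97845632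
noncomputable def f72tl2P (u : ℕ) : ℕ := Nat.land (Nat.shiftRight f72tl2Pd (Nat.mul u (nat_lit 4))) (nat_lit 15)
noncomputable def f72tl2Qd : ℕ := nat_lit 0x897562341000
noncomputable def f72tl2Q (u : ℕ) : ℕ := Nat.land (Nat.shiftRight f72tl2Qd (Nat.mul u (nat_lit 4))) (nat_lit 15)
noncomputable def f72tl2 : Lev := ⟨10, 15, f72tl2D, f72tl2P, f72tl2Q⟩
noncomputable def f72tl3Dd : ℕ := nat_lit 0x3df2cacd30b280
noncomputable def f72tl3D (u : ℕ) : ℕ := Nat.land (Nat.shiftRight f72tl3Dd (Nat.mul u (nat_lit 6))) (nat_lit 63)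
noncomputable def f72tl3Pd : ℕ := nat_lit 0x457836ab9
noncomputable def f72tl3P (u : ℕ) : ℕ := Nat.land (Nat.shiftRight f72tl3Pd (Nat.mul u (nat_lit 4))) (nat_lit 15)
noncomputable def f72tl3Qd : ℕ := nat_lit 0x120563784000
noncomputable def f72tl3Q (u : ℕ) : ℕ := Nat.land (Nat.shiftRight f72tl3Qd (Nat.mul u (nat_lit 4))) (nat_lit 15)
noncomputable def f72tl3 : Lev := ⟨9, 14, f72tl3D, f72tl3P, f72tl3Q⟩
noncomputable def f72tl4Dd : ℕ := nat_lit 0x769657612240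
noncomputable def f72tl4D (u : ℕ) : ℕ := Nat.land (Nat.shiftRight f72tl4Dd (Nat.mul u (nat_lit 6))) (nat_lit 63)
noncomputable def f72tl4Pd : ℕ := nat_lit 0x783645ba
noncomputable def f72tl4P (u : ℕ) : ℕ := Nat.land (Nat.shiftRight f72tl4Pd (Nat.mul u (nat_lit 4))) (nat_lit 15)
noncomputable def f72tl4Qd : ℕ := nat_lit 0x206f13a00
noncomputable def f72tl4Q (u : ℕ) : ℕ := Nat.land (Nat.shiftRight f72tl4Qd (Nat.mul u (nat_lit 3))) (nat_lit 7)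
noncomputable def f72tl4 : Lev := ⟨8, 10, f72tl4D, f72tl4P, f72tl4Q⟩
noncomputable def f72tl5Dd : ℕ := nat_lit 0x778e63500
noncomputable def f72tl5D (u : ℕ) : ℕ := Nat.land (Nat.shiftRight f72tl5Dd (Nat.mul u (nat_lit 5))) (nat_lit 31)
noncomputable def f72tl5Pd : ℕ := nat_lit 0x783645b
noncomputable def f72tl5P (u : ℕ) : ℕ := Nat.land (Nat.shiftRight f72tl5Pd (Nat.mul u (nat_lit 4))) (nat_lit 15)
noncomputable def f72tl5Qd : ℕ := nat_lit 0x5cca800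
noncomputable def f72tl5Q (u : ℕ) : ℕ := Nat.land (Nat.shiftRight f72tl5Qd (Nat.mul u (nat_lit 3))) (nat_lit 7)
noncomputable def f72tl5 : Lev := ⟨7, 9, f72tl5D, f72tl5P, f72tl5Q⟩
noncomputable def f72tl6Dd : ℕ := nat_lit 0x35941480
noncomputable def f72tl6D (u : ℕ) : ℕ := Nat.land (Nat.shiftRight f72tl6Dd (Nat.mul u (nat_lit 5))) (nat_lit 31)
noncomputable def f72tl6Pd : ℕ := nat_lit 0x786534
noncomputable def f72tl6P (u : ℕ) : ℕ := Nat.land (Nat.shiftRight f72tl6Pd (Nat.mul u (nat_lit 4))) (nat_lit 15)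
noncomputable def f72tl6Qd : ℕ := nat_lit 0x4ad0200
noncomputable def f72tl6Q (u : ℕ) : ℕ := Nat.land (Nat.shiftRight f72tl6Qd (Nat.mul u (nat_lit 3))) (nat_lit 7)
noncomputable def f72tl6 : Lev := ⟨6, 8, f72tl6D, f72tl6P, f72tl6Q⟩
noncomputable def f72tl7Dd : ℕ := nat_lit 0x86530
noncomputable def f72tl7D (u : ℕ) : ℕ := Nat.land (Nat.shiftRight f72tl7Dd (Nat.mul u (nat_lit 4))) (nat_lit 15)
noncomputable def f72tl7Pd : ℕ := nat_lit 0x37865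
noncomputable def f72tl7P (u : ℕ) : ℕ := Nat.land (Nat.shiftRight f72tl7Pd (Nat.mul u (nat_lit 4))) (nat_lit 15)
noncomputable def f72tl7Qd : ℕ := nat_lit 0x2640800
noncomputable def f72tl7Q (u : ℕ) : ℕ := Nat.land (Nat.shiftRight f72tl7Qd (Nat.mul u (nat_lit 3))) (nat_lit 7)
noncomputable def f72tl7 : Lev := ⟨5, 4, f72tl7D, f72tl7P, f72tl7Q⟩
noncomputable def f72tl8Dd : ℕ := nat_lit 0xc88
noncomputable def f72tl8D (u : ℕ) : ℕ := Nat.land (Nat.shiftRight f72tl8Dd (Nat.mul u (nat_lit 3))) (nat_lit 7)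
noncomputable def f72tl8Pd : ℕ := nat_lit 0x3867
noncomputable def f72tl8P (u : ℕ) : ℕ := Nat.land (Nat.shiftRight f72tl8Pd (Nat.mul u (nat_lit 4))) (nat_lit 15)
noncomputable def f72tl8Qd : ℕ := nat_lit 0x210c0
noncomputable def f72tl8Q (u : ℕ) : ℕ := Nat.land (Nat.shiftRight f72tl8Qd (Nat.mul u (nat_lit 2))) (nat_lit 3)
noncomputable def f72tl8 : Lev := ⟨4, 3, f72tl8D, f72tl8P, f72tl8Q⟩
noncomputable def f72tl9Dd : ℕ := nat_lit 4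
noncomputable def f72tl9D (u : ℕ) : ℕ := Nat.land (Nat.shiftRight f72tl9Dd (Nat.mul u (nat_lit 1))) (nat_lit 1)
noncomputable def f72tl9Pd : ℕ := nat_lit 0x638
noncomputable def f72tl9P (u : ℕ) : ℕ := Nat.land (Nat.shiftRight f72tl9Pd (Nat.mul u (nat_lit 4))) (nat_lit 15)
noncomputable def f72tl9Qd : ℕ := nat_lit 0x2040
noncomputable def f72tl9Q (u : ℕ) : ℕ := Nat.land (Nat.shiftRight f72tl9Qd (Nat.mul u (nat_lit 2))) (nat_lit 3)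
noncomputable def f72tl9 : Lev := ⟨3, 1, f72tl9D, f72tl9P, f72tl9Q⟩
noncomputable def f72ce_W : List (List ℕ) := [[nat_lit 21, nat_lit 22],
  [nat_lit 21],
  [nat_lit 20, nat_lit 3, nat_lit 6],
  [nat_lit 17],
  [nat_lit 10]]
noncomputable def f72ce_P : ℕ → ℕ → ℕ := wdsP H16.HN3.X.P f72ce_W
noncomputable def f72cc8Dd : ℕ := nat_lit 0
noncomputable def f72cc8D (u : ℕ) : ℕ := Nat.land (Nat.shiftRight f72cc8Dd (Nat.mul u (nat_lit 1))) (nat_lit 1)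
noncomputable def f72cc8Pd : ℕ := nat_lit 0x87
noncomputable def f72cc8P (u : ℕ) : ℕ := Nat.land (Nat.shiftRight f72cc8Pd (Nat.mul u (nat_lit 4))) (nat_lit 15)
noncomputable def f72cc8Qd : ℕ := nat_lit 0x100
noncomputable def f72cc8Q (u : ℕ) : ℕ := Nat.land (Nat.shiftRight f72cc8Qd (Nat.mul u (nat_lit 1))) (nat_lit 1)
noncomputable def f72cc8 : Lev := ⟨2, 1, f72cc8D, f72cc8P, f72cc8Q⟩
noncomputable def f72tn0Fd : ℕ := nat_lit 0x84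
noncomputable def f72tn0F (u : ℕ) : ℕ := Nat.land (Nat.shiftRight f72tn0Fd (Nat.mul u (nat_lit 2))) (nat_lit 3)
noncomputable def f72tn0 : Nd := ⟨f72tn0F, (nat_lit 2), (nat_lit 1), [[nat_lit 2]], [((nat_lit 0), [])], []⟩
noncomputable def f72cc6Dd : ℕ := nat_lit 0xa88
noncomputable def f72cc6D (u : ℕ) : ℕ := Nat.land (Nat.shiftRight f72cc6Dd (Nat.mul u (nat_lit 3))) (nat_lit 7)
noncomputable def f72cc6Pd : ℕ := nat_lit 0x7854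
noncomputable def f72cc6P (u : ℕ) : ℕ := Nat.land (Nat.shiftRight f72cc6Pd (Nat.mul u (nat_lit 4))) (nat_lit 15)
noncomputable def f72cc6Qd : ℕ := nat_lit 0x2c400
noncomputable def f72cc6Q (u : ℕ) : ℕ := Nat.land (Nat.shiftRight f72cc6Qd (Nat.mul u (nat_lit 2))) (nat_lit 3)
noncomputable def f72cc6 : Lev := ⟨4, 3, f72cc6D, f72cc6P, f72cc6Q⟩
noncomputable def f72tn1Fd : ℕ := nat_lit 0xc4
noncomputable def f72tn1F (u : ℕ) : ℕ := Nat.land (Nat.shiftRight f72tn1Fd (Nat.mul u (nat_lit 2))) (nat_lit 3)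
noncomputable def f72tn1 : Nd := ⟨f72tn1F, (nat_lit 3), (nat_lit 3), [[nat_lit 2]], [((nat_lit 0), [])], []⟩
noncomputable def f72cc3Dd : ℕ := nat_lit 0x1d8
noncomputable def f72cc3D (u : ℕ) : ℕ := Nat.land (Nat.shiftRight f72cc3Dd (Nat.mul u (nat_lit 3))) (nat_lit 7)
noncomputable def f72cc3Pd : ℕ := nat_lit 0xba9
noncomputable def f72cc3P (u : ℕ) : ℕ := Nat.land (Nat.shiftRight f72cc3Pd (Nat.mul u (nat_lit 4))) (nat_lit 15)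
noncomputable def f72cc3Qd : ℕ := nat_lit 0x900000
noncomputable def f72cc3Q (u : ℕ) : ℕ := Nat.land (Nat.shiftRight f72cc3Qd (Nat.mul u (nat_lit 2))) (nat_lit 3)
noncomputable def f72cc3 : Lev := ⟨3, 4, f72cc3D, f72cc3P, f72cc3Q⟩
noncomputable def f72tn2Fd : ℕ := nat_lit 0xa65141000
noncomputable def f72tn2F (u : ℕ) : ℕ := Nat.land (Nat.shiftRight f72tn2Fd (Nat.mul u (nat_lit 4))) (nat_lit 15)
noncomputable def f72tn2 : Nd := ⟨f72tn2F, (nat_lit 4), (nat_lit 4), [[nat_lit 1]], [((nat_lit 0), [])], []⟩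
noncomputable def f72cc0Dd : ℕ := nat_lit 0x940
noncomputable def f72cc0D (u : ℕ) : ℕ := Nat.land (Nat.shiftRight f72cc0Dd (Nat.mul u (nat_lit 4))) (nat_lit 15)
noncomputable def f72cc0Pd : ℕ := nat_lit 0x18
noncomputable def f72cc0P (u : ℕ) : ℕ := Nat.land (Nat.shiftRight f72cc0Pd (Nat.mul u (nat_lit 2))) (nat_lit 3)
noncomputable def f72cc0Qd : ℕ := nat_lit 0x18
noncomputable def f72cc0Q (u : ℕ) : ℕ := Nat.land (Nat.shiftRight f72cc0Qd (Nat.mul u (nat_lit 2))) (nat_lit 3)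
noncomputable def f72cc0 : Lev := ⟨3, 5, f72cc0D, f72cc0P, f72cc0Q⟩
noncomputable def f72tn3Fd : ℕ := nat_lit 0x8d7c61510100
noncomputable def f72tn3F (u : ℕ) : ℕ := Nat.land (Nat.shiftRight f72tn3Fd (Nat.mul u (nat_lit 4))) (nat_lit 15)
noncomputable def f72tn3 : Nd := ⟨f72tn3F, (nat_lit 5), (nat_lit 5), [[nat_lit 0]], [((nat_lit 0), [])], []⟩
noncomputable def f72L : List (List ℕ) := [[nat_lit 21, nat_lit 5, nat_lit 3, nat_lit 20, nat_lit 10],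
  [nat_lit 20, nat_lit 17, nat_lit 5, nat_lit 3, nat_lit 11],
  [nat_lit 5, nat_lit 20, nat_lit 3],
  [nat_lit 5, nat_lit 3, nat_lit 20, nat_lit 10, nat_lit 22],
  [nat_lit 5, nat_lit 3, nat_lit 20, nat_lit 11, nat_lit 22],
  [nat_lit 5, nat_lit 3, nat_lit 20, nat_lit 22],
  [nat_lit 5, nat_lit 3, nat_lit 20, nat_lit 10],
  [nat_lit 5, nat_lit 3, nat_lit 20, nat_lit 11],
  [nat_lit 5, nat_lit 3, nat_lit 20],
  [nat_lit 22, nat_lit 5, nat_lit 3, nat_lit 20, nat_lit 10],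
  [nat_lit 5, nat_lit 3, nat_lit 22, nat_lit 11, nat_lit 20],
  [nat_lit 5, nat_lit 3, nat_lit 22, nat_lit 20],
  [nat_lit 17, nat_lit 22, nat_lit 10, nat_lit 21],
  [nat_lit 17, nat_lit 22, nat_lit 11, nat_lit 21],
  [nat_lit 17, nat_lit 22, nat_lit 21],
  [nat_lit 17, nat_lit 10, nat_lit 21],
  [nat_lit 17, nat_lit 11, nat_lit 21],
  [nat_lit 17, nat_lit 21],
  [nat_lit 17, nat_lit 22, nat_lit 10],
  [nat_lit 17, nat_lit 22, nat_lit 11],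
  [nat_lit 17, nat_lit 22],
  [nat_lit 17, nat_lit 10],
  [nat_lit 17, nat_lit 11],
  [nat_lit 17],
  [nat_lit 20, nat_lit 10, nat_lit 3, nat_lit 6],
  [nat_lit 20, nat_lit 3, nat_lit 6, nat_lit 11],
  [nat_lit 20, nat_lit 3, nat_lit 6],
  [nat_lit 22, nat_lit 6, nat_lit 20, nat_lit 3, nat_lit 10],
  [nat_lit 16, nat_lit 5, nat_lit 3, nat_lit 20, nat_lit 11, nat_lit 22],
  [nat_lit 16, nat_lit 5, nat_lit 3, nat_lit 20, nat_lit 22],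
  [nat_lit 6, nat_lit 3, nat_lit 20, nat_lit 10],
  [nat_lit 3, nat_lit 6, nat_lit 20, nat_lit 11],
  [nat_lit 6, nat_lit 3, nat_lit 20],
  [nat_lit 3, nat_lit 22, nat_lit 6, nat_lit 20, nat_lit 10],
  [nat_lit 6, nat_lit 20, nat_lit 3, nat_lit 22, nat_lit 11],
  [nat_lit 16, nat_lit 5, nat_lit 3, nat_lit 22, nat_lit 20],
  [nat_lit 22, nat_lit 10, nat_lit 21],
  [nat_lit 21, nat_lit 22, nat_lit 11],
  [nat_lit 21, nat_lit 22],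
  [nat_lit 10, nat_lit 21],
  [nat_lit 21, nat_lit 11],
  [nat_lit 21],
  [nat_lit 22, nat_lit 10],
  [nat_lit 22, nat_lit 11],
  [nat_lit 22],
  [nat_lit 10],
  [nat_lit 11],
  [],
  [nat_lit 20, nat_lit 5, nat_lit 3, nat_lit 10],
  [nat_lit 20, nat_lit 5, nat_lit 3, nat_lit 11],
  [nat_lit 20, nat_lit 5, nat_lit 3],
  [nat_lit 3, nat_lit 20, nat_lit 5, nat_lit 22, nat_lit 10],
  [nat_lit 17, nat_lit 5, nat_lit 3, nat_lit 20, nat_lit 11, nat_lit 22],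
  [nat_lit 17, nat_lit 5, nat_lit 3, nat_lit 20, nat_lit 22],
  [nat_lit 17, nat_lit 5, nat_lit 3, nat_lit 20, nat_lit 10],
  [nat_lit 3, nat_lit 20, nat_lit 5, nat_lit 11],
  [nat_lit 17, nat_lit 5, nat_lit 3, nat_lit 20],
  [nat_lit 20, nat_lit 22, nat_lit 10, nat_lit 5, nat_lit 3],
  [nat_lit 20, nat_lit 5, nat_lit 3, nat_lit 22, nat_lit 11],
  [nat_lit 20, nat_lit 5, nat_lit 3, nat_lit 22],
  [nat_lit 21, nat_lit 16, nat_lit 22, nat_lit 10],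
  [nat_lit 16, nat_lit 22, nat_lit 11, nat_lit 21],
  [nat_lit 21, nat_lit 16, nat_lit 22],
  [nat_lit 21, nat_lit 16, nat_lit 10],
  [nat_lit 21, nat_lit 16, nat_lit 11],
  [nat_lit 21, nat_lit 16],
  [nat_lit 16, nat_lit 22, nat_lit 10],
  [nat_lit 16, nat_lit 22, nat_lit 11],
  [nat_lit 16, nat_lit 22],
  [nat_lit 16, nat_lit 10],
  [nat_lit 16, nat_lit 11],
  [nat_lit 16]]

theorem e72x_lt : allL (ltAll 25) e72x_W = true := by decide +kernel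
theorem e72th_lt : allL (ltAll 25) e72th_W = true := by decide +kernel
theorem e72tl0_e_0 : allZ (dent e72tl0 e72th_P (nat_lit 12)) (nat_lit 0) (nat_lit 11) = true := by decide +kernel
theorem e72tl0_h : 0 < e72tl0.n ∧ 0 < e72tl0.K ∧ e72tl0.Pt 0 < 12 ∧ e72tl0.Q (e72tl0.Pt 0) = 0 := by decide +kernel
theorem e72tl1_e_0 : allZ (dent e72tl1 e72th_P (nat_lit 12)) (nat_lit 0) (nat_lit 10) = true := by decide +kernel
theorem e72tl1_h : 0 < e72tl1.n ∧ 0 < e72tl1.K ∧ e72tl1.Pt 0 < 12 ∧ e72tl1.Q (e72tl1.Pt 0) = 0 := by decide +kernel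
theorem e72tl2_e_0 : allZ (dent e72tl2 e72th_P (nat_lit 12)) (nat_lit 0) (nat_lit 9) = true := by decide +kernel
theorem e72tl2_h : 0 < e72tl2.n ∧ 0 < e72tl2.K ∧ e72tl2.Pt 0 < 12 ∧ e72tl2.Q (e72tl2.Pt 0) = 0 := by decide +kernel
theorem e72tl3_e_0 : allZ (dent e72tl3 e72th_P (nat_lit 12)) (nat_lit 0) (nat_lit 8) = true := by decide +kernel
theorem e72tl3_h : 0 < e72tl3.n ∧ 0 < e72tl3.K ∧ e72tl3.Pt 0 < 12 ∧ e72tl3.Q (e72tl3.Pt 0) = 0 := by decide +kernel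
theorem e72tl4_e_0 : allZ (dent e72tl4 e72th_P (nat_lit 12)) (nat_lit 0) (nat_lit 7) = true := by decide +kernel
theorem e72tl4_h : 0 < e72tl4.n ∧ 0 < e72tl4.K ∧ e72tl4.Pt 0 < 12 ∧ e72tl4.Q (e72tl4.Pt 0) = 0 := by decide +kernel
theorem e72tl5_e_0 : allZ (dent e72tl5 e72th_P (nat_lit 12)) (nat_lit 0) (nat_lit 6) = true := by decide +kernel
theorem e72tl5_h : 0 < e72tl5.n ∧ 0 < e72tl5.K ∧ e72tl5.Pt 0 < 12 ∧ e72tl5.Q (e72tl5.Pt 0) = 0 := by decide +kernel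
theorem e72tl6_e_0 : allZ (dent e72tl6 e72th_P (nat_lit 12)) (nat_lit 0) (nat_lit 5) = true := by decide +kernel
theorem e72tl6_h : 0 < e72tl6.n ∧ 0 < e72tl6.K ∧ e72tl6.Pt 0 < 12 ∧ e72tl6.Q (e72tl6.Pt 0) = 0 := by decide +kernel
theorem e72tl7_e_0 : allZ (dent e72tl7 e72th_P (nat_lit 12)) (nat_lit 0) (nat_lit 4) = true := by decide +kernel
theorem e72tl7_h : 0 < e72tl7.n ∧ 0 < e72tl7.K ∧ e72tl7.Pt 0 < 12 ∧ e72tl7.Q (e72tl7.Pt 0) = 0 := by decide +kernel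
theorem e72tl8_e_0 : allZ (dent e72tl8 e72th_P (nat_lit 12)) (nat_lit 0) (nat_lit 3) = true := by decide +kernel
theorem e72tl8_h : 0 < e72tl8.n ∧ 0 < e72tl8.K ∧ e72tl8.Pt 0 < 12 ∧ e72tl8.Q (e72tl8.Pt 0) = 0 := by decide +kernel
theorem e72tl9_e_0 : allZ (dent e72tl9 e72th_P (nat_lit 12)) (nat_lit 0) (nat_lit 2) = true := by decide +kernel
theorem e72tl9_h : 0 < e72tl9.n ∧ 0 < e72tl9.K ∧ e72tl9.Pt 0 < 12 ∧ e72tl9.Q (e72tl9.Pt 0) = 0 := by decide +kernel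
theorem e72t_f9 : (Nat.ble e72tl9.K 26 && Nat.ble (topK []) e72tl9.K && fixLetters e72th_P (topK []) (e72tl9.Pt 0)) = true := by decide +kernel
theorem e72t_f8 : (Nat.ble e72tl8.K 26 && Nat.ble (topK [e72tl9]) e72tl8.K && fixLetters e72th_P (topK [e72tl9]) (e72tl8.Pt 0)) = true := by decide +kernel
theorem e72t_f7 : (Nat.ble e72tl7.K 26 && Nat.ble (topK [e72tl8, e72tl9]) e72tl7.K && fixLetters e72th_P (topK [e72tl8, e72tl9]) (e72tl7.Pt 0)) = true := by decide +kernel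
theorem e72t_f6 : (Nat.ble e72tl6.K 26 && Nat.ble (topK [e72tl7, e72tl8, e72tl9]) e72tl6.K && fixLetters e72th_P (topK [e72tl7, e72tl8, e72tl9]) (e72tl6.Pt 0)) = true := by decide +kernel
theorem e72t_f5 : (Nat.ble e72tl5.K 26 && Nat.ble (topK [e72tl6, e72tl7, e72tl8, e72tl9]) e72tl5.K && fixLetters e72th_P (topK [e72tl6, e72tl7, e72tl8, e72tl9]) (e72tl5.Pt 0)) = true := by decide +kernel
theorem e72t_f4 : (Nat.ble e72tl4.K 26 && Nat.ble (topK [e72tl5, e72tl6, e72tl7, e72tl8, e72tl9]) e72tl4.K && fixLetters e72th_P (topK [e72tl5, e72tl6, e72tl7, e72tl8, e72tl9]) (e72tl4.Pt 0)) = true := by decide +kernel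
theorem e72t_f3 : (Nat.ble e72tl3.K 26 && Nat.ble (topK [e72tl4, e72tl5, e72tl6, e72tl7, e72tl8, e72tl9]) e72tl3.K && fixLetters e72th_P (topK [e72tl4, e72tl5, e72tl6, e72tl7, e72tl8, e72tl9]) (e72tl3.Pt 0)) = true := by decide +kernel
theorem e72t_f2 : (Nat.ble e72tl2.K 26 && Nat.ble (topK [e72tl3, e72tl4, e72tl5, e72tl6, e72tl7, e72tl8, e72tl9]) e72tl2.K && fixLetters e72th_P (topK [e72tl3, e72tl4, e72tl5, e72tl6, e72tl7, e72tl8, e72tl9]) (e72tl2.Pt 0)) = true := by decide +kernel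
theorem e72t_f1 : (Nat.ble e72tl1.K 26 && Nat.ble (topK [e72tl2, e72tl3, e72tl4, e72tl5, e72tl6, e72tl7, e72tl8, e72tl9]) e72tl1.K && fixLetters e72th_P (topK [e72tl2, e72tl3, e72tl4, e72tl5, e72tl6, e72tl7, e72tl8, e72tl9]) (e72tl1.Pt 0)) = true := by decide +kernel
theorem e72t_f0 : (Nat.ble e72tl0.K 26 && Nat.ble (topK [e72tl1, e72tl2, e72tl3, e72tl4, e72tl5, e72tl6, e72tl7, e72tl8, e72tl9]) e72tl0.K && fixLetters e72th_P (topK [e72tl1, e72tl2, e72tl3, e72tl4, e72tl5, e72tl6, e72tl7, e72tl8, e72tl9]) (e72tl0.Pt 0)) = true := by decide +kernel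
theorem e72t_c : chainCard [e72tl0, e72tl1, e72tl2, e72tl3, e72tl4, e72tl5, e72tl6, e72tl7, e72tl8, e72tl9] = 239500800 := by decide +kernel
theorem e72ce_lt : allL (ltAll 25) e72ce_W = true := by decide +kernel
theorem e72c_f9 : (Nat.ble e72tl9.K 26 && Nat.blt (nat_lit 3) 12 && fixLetters e72th_P e72tl9.K (nat_lit 3) && Nat.beq (ltAll 3 [nat_lit 2]) 0 && Nat.beq (apW e72x_P [nat_lit 2] (nat_lit 3)) (e72tl9.Pt 0)) = true := by decide +kernel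
theorem e72cc8_e_0 : allZ (dent e72cc8 e72ce_P (nat_lit 12)) (nat_lit 0) (nat_lit 1) = true := by decide +kernel
theorem e72cc8_h : 0 < e72cc8.n ∧ 0 < e72cc8.K ∧ e72cc8.Pt 0 < 12 ∧ e72cc8.Q (e72cc8.Pt 0) = 0 := by decide +kernel
theorem e72tn0_0 : (Nat.ble e72tl8.K 26 && Nat.beq (ltAll 12 [e72tl7.Pt 0, e72tl6.Pt 0, e72tl5.Pt 0, e72tl4.Pt 0, e72tl3.Pt 0, e72tl2.Pt 0, e72tl1.Pt 0, e72tl0.Pt 0]) 0 && kChk e72ce_P e72x_P e72tn0.Kn 3 H16.HN3.X.B [e72tl7.Pt 0, e72tl6.Pt 0, e72tl5.Pt 0, e72tl4.Pt 0, e72tl3.Pt 0, e72tl2.Pt 0, e72tl1.Pt 0, e72tl0.Pt 0] && allL (ltAll 3) e72tn0.pre && planOK e72th_P e72x_P 3 (e72tl8.Pt 0) e72tn0.plan [e72tl8, e72tl9]) = true := by decide +kernel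
theorem e72tn0_1_0 : allZ (e72tn0.ent H16.HN3.X.P e72th_P e72x_P e72x_P e72ce_P (nat_lit 25) (nat_lit 3) H16.HN3.X.B e72tl8 [e72tl9] (memO e72cc8)) (nat_lit 0) (nat_lit 4) = true := by decide +kernel
theorem e72c_f8 : (Nat.ble e72cc8.K 4 && Nat.ble (topK []) e72cc8.K && Nat.beq (e72cc8.Pt 0) (e72tl8.Pt 0) && Nat.beq (ltAll 12 [e72tl7.Pt 0, e72tl6.Pt 0, e72tl5.Pt 0, e72tl4.Pt 0, e72tl3.Pt 0, e72tl2.Pt 0, e72tl1.Pt 0, e72tl0.Pt 0]) 0 && kChk e72ce_P e72x_P e72cc8.K 3 H16.HN3.X.B [e72tl7.Pt 0, e72tl6.Pt 0, e72tl5.Pt 0, e72tl4.Pt 0, e72tl3.Pt 0, e72tl2.Pt 0, e72tl1.Pt 0, e72tl0.Pt 0]) = true := by decide +kernel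
theorem e72c_f7 : (Nat.ble e72tl7.K 26 && Nat.blt (nat_lit 0) 12 && fixLetters e72th_P e72tl7.K (nat_lit 0) && Nat.beq (ltAll 3 [nat_lit 2]) 0 && Nat.beq (apW e72x_P [nat_lit 2] (nat_lit 0)) (e72tl7.Pt 0)) = true := by decide +kernel
theorem e72cc6_e_0 : allZ (dent e72cc6 e72ce_P (nat_lit 12)) (nat_lit 0) (nat_lit 3) = true := by decide +kernel
theorem e72cc6_h : 0 < e72cc6.n ∧ 0 < e72cc6.K ∧ e72cc6.Pt 0 < 12 ∧ e72cc6.Q (e72cc6.Pt 0) = 0 := by decide +kernel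
theorem e72tn1_0 : (Nat.ble e72tl6.K 26 && Nat.beq (ltAll 12 [e72tl5.Pt 0, e72tl4.Pt 0, e72tl3.Pt 0, e72tl2.Pt 0, e72tl1.Pt 0, e72tl0.Pt 0]) 0 && kChk e72ce_P e72x_P e72tn1.Kn 3 H16.HN3.X.B [e72tl5.Pt 0, e72tl4.Pt 0, e72tl3.Pt 0, e72tl2.Pt 0, e72tl1.Pt 0, e72tl0.Pt 0] && allL (ltAll 3) e72tn1.pre && planOK e72th_P e72x_P 3 (e72tl6.Pt 0) e72tn1.plan [e72tl6, e72tl7, e72tl8, e72tl9]) = true := by decide +kernel
theorem e72tn1_1_0 : allZ (e72tn1.ent H16.HN3.X.P e72th_P e72x_P e72x_P e72ce_P (nat_lit 25) (nat_lit 3) H16.HN3.X.B e72tl6 [e72tl7, e72tl8, e72tl9] (memO e72cc6)) (nat_lit 0) (nat_lit 6) = true := by decide +kernel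
theorem e72c_f6 : (Nat.ble e72cc6.K 4 && Nat.ble (topK [e72cc8]) e72cc6.K && Nat.beq (e72cc6.Pt 0) (e72tl6.Pt 0) && Nat.beq (ltAll 12 [e72tl5.Pt 0, e72tl4.Pt 0, e72tl3.Pt 0, e72tl2.Pt 0, e72tl1.Pt 0, e72tl0.Pt 0]) 0 && kChk e72ce_P e72x_P e72cc6.K 3 H16.HN3.X.B [e72tl5.Pt 0, e72tl4.Pt 0, e72tl3.Pt 0, e72tl2.Pt 0, e72tl1.Pt 0, e72tl0.Pt 0]) = true := by decide +kernel
theorem e72c_f5 : (Nat.ble e72tl5.K 26 && Nat.blt (nat_lit 9) 12 && fixLetters e72th_P e72tl5.K (nat_lit 9) && Nat.beq (ltAll 3 [nat_lit 1, nat_lit 1]) 0 && Nat.beq (apW e72x_P [nat_lit 1, nat_lit 1] (nat_lit 9)) (e72tl5.Pt 0)) = true := by decide +kernel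
theorem e72c_f4 : (Nat.ble e72tl4.K 26 && Nat.blt (nat_lit 9) 12 && fixLetters e72th_P e72tl4.K (nat_lit 9) && Nat.beq (ltAll 3 [nat_lit 1]) 0 && Nat.beq (apW e72x_P [nat_lit 1] (nat_lit 9)) (e72tl4.Pt 0)) = true := by decide +kernel
theorem e72cc3_e_0 : allZ (dent e72cc3 e72ce_P (nat_lit 12)) (nat_lit 0) (nat_lit 2) = true := by decide +kernel
theorem e72cc3_h : 0 < e72cc3.n ∧ 0 < e72cc3.K ∧ e72cc3.Pt 0 < 12 ∧ e72cc3.Q (e72cc3.Pt 0) = 0 := by decide +kernel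
theorem e72tn2_0 : (Nat.ble e72tl3.K 26 && Nat.beq (ltAll 12 [e72tl2.Pt 0, e72tl1.Pt 0, e72tl0.Pt 0]) 0 && kChk e72ce_P e72x_P e72tn2.Kn 3 H16.HN3.X.B [e72tl2.Pt 0, e72tl1.Pt 0, e72tl0.Pt 0] && allL (ltAll 3) e72tn2.pre && planOK e72th_P e72x_P 3 (e72tl3.Pt 0) e72tn2.plan [e72tl3, e72tl4, e72tl5, e72tl6, e72tl7, e72tl8, e72tl9]) = true := by decide +kernel
theorem e72tn2_1_0 : allZ (e72tn2.ent H16.HN3.X.P e72th_P e72x_P e72x_P e72ce_P (nat_lit 25) (nat_lit 3) H16.HN3.X.B e72tl3 [e72tl4, e72tl5, e72tl6, e72tl7, e72tl8, e72tl9] (memO e72cc3)) (nat_lit 0) (nat_lit 9) = true := by decide +kernel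
theorem e72c_f3 : (Nat.ble e72cc3.K 4 && Nat.ble (topK [e72cc6, e72cc8]) e72cc3.K && Nat.beq (e72cc3.Pt 0) (e72tl3.Pt 0) && Nat.beq (ltAll 12 [e72tl2.Pt 0, e72tl1.Pt 0, e72tl0.Pt 0]) 0 && kChk e72ce_P e72x_P e72cc3.K 3 H16.HN3.X.B [e72tl2.Pt 0, e72tl1.Pt 0, e72tl0.Pt 0]) = true := by decide +kernel
theorem e72c_f2 : (Nat.ble e72tl2.K 26 && Nat.blt (nat_lit 6) 12 && fixLetters e72th_P e72tl2.K (nat_lit 6) && Nat.beq (ltAll 3 [nat_lit 0, nat_lit 0]) 0 && Nat.beq (apW e72x_P [nat_lit 0, nat_lit 0] (nat_lit 6)) (e72tl2.Pt 0)) = true := by decide +kernel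
theorem e72c_f1 : (Nat.ble e72tl1.K 26 && Nat.blt (nat_lit 6) 12 && fixLetters e72th_P e72tl1.K (nat_lit 6) && Nat.beq (ltAll 3 [nat_lit 0]) 0 && Nat.beq (apW e72x_P [nat_lit 0] (nat_lit 6)) (e72tl1.Pt 0)) = true := by decide +kernel
theorem e72cc0_e_0 : allZ (dent e72cc0 e72ce_P (nat_lit 12)) (nat_lit 0) (nat_lit 2) = true := by decide +kernel
theorem e72cc0_h : 0 < e72cc0.n ∧ 0 < e72cc0.K ∧ e72cc0.Pt 0 < 12 ∧ e72cc0.Q (e72cc0.Pt 0) = 0 := by decide +kernel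
theorem e72tn3_0 : (Nat.ble e72tl0.K 26 && Nat.beq (ltAll 12 []) 0 && kChk e72ce_P e72x_P e72tn3.Kn 3 H16.HN3.X.B [] && allL (ltAll 3) e72tn3.pre && planOK e72th_P e72x_P 3 (e72tl0.Pt 0) e72tn3.plan [e72tl0, e72tl1, e72tl2, e72tl3, e72tl4, e72tl5, e72tl6, e72tl7, e72tl8, e72tl9]) = true := by decide +kernel
theorem e72tn3_1_0 : allZ (e72tn3.ent H16.HN3.X.P e72th_P e72x_P e72x_P e72ce_P (nat_lit 25) (nat_lit 3) H16.HN3.X.B e72tl0 [e72tl1, e72tl2, e72tl3, e72tl4, e72tl5, e72tl6, e72tl7, e72tl8, e72tl9] (memO e72cc0)) (nat_lit 0) (nat_lit 12) = true := by decide +kernel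
theorem e72c_f0 : (Nat.ble e72cc0.K 4 && Nat.ble (topK [e72cc3, e72cc6, e72cc8]) e72cc0.K && Nat.beq (e72cc0.Pt 0) (e72tl0.Pt 0) && Nat.beq (ltAll 12 []) 0 && kChk e72ce_P e72x_P e72cc0.K 3 H16.HN3.X.B []) = true := by decide +kernel
theorem e72c_c : chainCard [e72cc0, e72cc3, e72cc6, e72cc8] = 72 ∧ topK [e72cc0, e72cc3, e72cc6, e72cc8] = 4 := by decide +kernel
theorem e72a : e72L.length = 72 ∧ H1.Am.incr κ e72L 0 = true := by decide +kernel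
theorem e72b : H1.Am.allB (fun W => H1.Am.allB (fun Z => H1.Am.cjK κ W Z Z) e72x_W) e72L = true := by decide +kernel
theorem e81x_lt : allL (ltAll 25) e81x_W = true := by decide +kernel
theorem e81th_lt : allL (ltAll 25) e81th_W = true := by decide +kernel
theorem e81tl0_e_0 : allZ (dent e81tl0 e81th_P (nat_lit 12)) (nat_lit 0) (nat_lit 11) = true := by decide +kernel
theorem e81tl0_h : 0 < e81tl0.n ∧ 0 < e81tl0.K ∧ e81tl0.Pt 0 < 12 ∧ e81tl0.Q (e81tl0.Pt 0) = 0 := by decide +kernel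
theorem e81tl1_e_0 : allZ (dent e81tl1 e81th_P (nat_lit 12)) (nat_lit 0) (nat_lit 10) = true := by decide +kernel
theorem e81tl1_h : 0 < e81tl1.n ∧ 0 < e81tl1.K ∧ e81tl1.Pt 0 < 12 ∧ e81tl1.Q (e81tl1.Pt 0) = 0 := by decide +kernel
theorem e81tl2_e_0 : allZ (dent e81tl2 e81th_P (nat_lit 12)) (nat_lit 0) (nat_lit 9) = true := by decide +kernel
theorem e81tl2_h : 0 < e81tl2.n ∧ 0 < e81tl2.K ∧ e81tl2.Pt 0 < 12 ∧ e81tl2.Q (e81tl2.Pt 0) = 0 := by decide +kernel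
theorem e81tl3_e_0 : allZ (dent e81tl3 e81th_P (nat_lit 12)) (nat_lit 0) (nat_lit 8) = true := by decide +kernel
theorem e81tl3_h : 0 < e81tl3.n ∧ 0 < e81tl3.K ∧ e81tl3.Pt 0 < 12 ∧ e81tl3.Q (e81tl3.Pt 0) = 0 := by decide +kernel
theorem e81tl4_e_0 : allZ (dent e81tl4 e81th_P (nat_lit 12)) (nat_lit 0) (nat_lit 7) = true := by decide +kernel
theorem e81tl4_h : 0 < e81tl4.n ∧ 0 < e81tl4.K ∧ e81tl4.Pt 0 < 12 ∧ e81tl4.Q (e81tl4.Pt 0) = 0 := by decide +kernel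
theorem e81tl5_e_0 : allZ (dent e81tl5 e81th_P (nat_lit 12)) (nat_lit 0) (nat_lit 6) = true := by decide +kernel
theorem e81tl5_h : 0 < e81tl5.n ∧ 0 < e81tl5.K ∧ e81tl5.Pt 0 < 12 ∧ e81tl5.Q (e81tl5.Pt 0) = 0 := by decide +kernel
theorem e81tl6_e_0 : allZ (dent e81tl6 e81th_P (nat_lit 12)) (nat_lit 0) (nat_lit 5) = true := by decide +kernel
theorem e81tl6_h : 0 < e81tl6.n ∧ 0 < e81tl6.K ∧ e81tl6.Pt 0 < 12 ∧ e81tl6.Q (e81tl6.Pt 0) = 0 := by decide +kernel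
theorem e81tl7_e_0 : allZ (dent e81tl7 e81th_P (nat_lit 12)) (nat_lit 0) (nat_lit 4) = true := by decide +kernel
theorem e81tl7_h : 0 < e81tl7.n ∧ 0 < e81tl7.K ∧ e81tl7.Pt 0 < 12 ∧ e81tl7.Q (e81tl7.Pt 0) = 0 := by decide +kernel
theorem e81tl8_e_0 : allZ (dent e81tl8 e81th_P (nat_lit 12)) (nat_lit 0) (nat_lit 3) = true := by decide +kernel
theorem e81tl8_h : 0 < e81tl8.n ∧ 0 < e81tl8.K ∧ e81tl8.Pt 0 < 12 ∧ e81tl8.Q (e81tl8.Pt 0) = 0 := by decide +kernel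
theorem e81tl9_e_0 : allZ (dent e81tl9 e81th_P (nat_lit 12)) (nat_lit 0) (nat_lit 2) = true := by decide +kernel
theorem e81tl9_h : 0 < e81tl9.n ∧ 0 < e81tl9.K ∧ e81tl9.Pt 0 < 12 ∧ e81tl9.Q (e81tl9.Pt 0) = 0 := by decide +kernel
theorem e81t_f9 : (Nat.ble e81tl9.K 28 && Nat.ble (topK []) e81tl9.K && fixLetters e81th_P (topK []) (e81tl9.Pt 0)) = true := by decide +kernel
theorem e81t_f8 : (Nat.ble e81tl8.K 28 && Nat.ble (topK [e81tl9]) e81tl8.K && fixLetters e81th_P (topK [e81tl9]) (e81tl8.Pt 0)) = true := by decide +kernel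
theorem e81t_f7 : (Nat.ble e81tl7.K 28 && Nat.ble (topK [e81tl8, e81tl9]) e81tl7.K && fixLetters e81th_P (topK [e81tl8, e81tl9]) (e81tl7.Pt 0)) = true := by decide +kernel
theorem e81t_f6 : (Nat.ble e81tl6.K 28 && Nat.ble (topK [e81tl7, e81tl8, e81tl9]) e81tl6.K && fixLetters e81th_P (topK [e81tl7, e81tl8, e81tl9]) (e81tl6.Pt 0)) = true := by decide +kernel
theorem e81t_f5 : (Nat.ble e81tl5.K 28 && Nat.ble (topK [e81tl6, e81tl7, e81tl8, e81tl9]) e81tl5.K && fixLetters e81th_P (topK [e81tl6, e81tl7, e81tl8, e81tl9]) (e81tl5.Pt 0)) = true := by decide +kernel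
theorem e81t_f4 : (Nat.ble e81tl4.K 28 && Nat.ble (topK [e81tl5, e81tl6, e81tl7, e81tl8, e81tl9]) e81tl4.K && fixLetters e81th_P (topK [e81tl5, e81tl6, e81tl7, e81tl8, e81tl9]) (e81tl4.Pt 0)) = true := by decide +kernel
theorem e81t_f3 : (Nat.ble e81tl3.K 28 && Nat.ble (topK [e81tl4, e81tl5, e81tl6, e81tl7, e81tl8, e81tl9]) e81tl3.K && fixLetters e81th_P (topK [e81tl4, e81tl5, e81tl6, e81tl7, e81tl8, e81tl9]) (e81tl3.Pt 0)) = true := by decide +kernel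
theorem e81t_f2 : (Nat.ble e81tl2.K 28 && Nat.ble (topK [e81tl3, e81tl4, e81tl5, e81tl6, e81tl7, e81tl8, e81tl9]) e81tl2.K && fixLetters e81th_P (topK [e81tl3, e81tl4, e81tl5, e81tl6, e81tl7, e81tl8, e81tl9]) (e81tl2.Pt 0)) = true := by decide +kernel
theorem e81t_f1 : (Nat.ble e81tl1.K 28 && Nat.ble (topK [e81tl2, e81tl3, e81tl4, e81tl5, e81tl6, e81tl7, e81tl8, e81tl9]) e81tl1.K && fixLetters e81th_P (topK [e81tl2, e81tl3, e81tl4, e81tl5, e81tl6, e81tl7, e81tl8, e81tl9]) (e81tl1.Pt 0)) = true := by decide +kernel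
theorem e81t_f0 : (Nat.ble e81tl0.K 28 && Nat.ble (topK [e81tl1, e81tl2, e81tl3, e81tl4, e81tl5, e81tl6, e81tl7, e81tl8, e81tl9]) e81tl0.K && fixLetters e81th_P (topK [e81tl1, e81tl2, e81tl3, e81tl4, e81tl5, e81tl6, e81tl7, e81tl8, e81tl9]) (e81tl0.Pt 0)) = true := by decide +kernel
theorem e81t_c : chainCard [e81tl0, e81tl1, e81tl2, e81tl3, e81tl4, e81tl5, e81tl6, e81tl7, e81tl8, e81tl9] = 239500800 := by decide +kernel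
theorem e81ce_lt : allL (ltAll 25) e81ce_W = true := by decide +kernel
theorem e81cc9_e_0 : allZ (dent e81cc9 e81ce_P (nat_lit 12)) (nat_lit 0) (nat_lit 2) = true := by decide +kernel
theorem e81cc9_h : 0 < e81cc9.n ∧ 0 < e81cc9.K ∧ e81cc9.Pt 0 < 12 ∧ e81cc9.Q (e81cc9.Pt 0) = 0 := by decide +kernel
theorem e81tn0_0 : (Nat.ble e81tl9.K 28 && Nat.beq (ltAll 12 [e81tl8.Pt 0, e81tl7.Pt 0, e81tl6.Pt 0, e81tl5.Pt 0, e81tl4.Pt 0, e81tl3.Pt 0, e81tl2.Pt 0, e81tl1.Pt 0, e81tl0.Pt 0]) 0 && kChk e81ce_P e81x_P e81tn0.Kn 4 H16.HN3.X.B [e81tl8.Pt 0, e81tl7.Pt 0, e81tl6.Pt 0, e81tl5.Pt 0, e81tl4.Pt 0, e81tl3.Pt 0, e81tl2.Pt 0, e81tl1.Pt 0, e81tl0.Pt 0] && allL (ltAll 4) e81tn0.pre && planOK e81th_P e81x_P 4 (e81tl9.Pt 0) e81tn0.plan [e81tl9]) = true := by decide +kernel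
theorem e81tn0_1_0 : allZ (e81tn0.ent H16.HN3.X.P e81th_P e81x_P e81x_P e81ce_P (nat_lit 25) (nat_lit 4) H16.HN3.X.B e81tl9 [] (memO e81cc9)) (nat_lit 0) (nat_lit 3) = true := by decide +kernel
theorem e81c_f9 : (Nat.ble e81cc9.K 4 && Nat.ble (topK []) e81cc9.K && Nat.beq (e81cc9.Pt 0) (e81tl9.Pt 0) && Nat.beq (ltAll 12 [e81tl8.Pt 0, e81tl7.Pt 0, e81tl6.Pt 0, e81tl5.Pt 0, e81tl4.Pt 0, e81tl3.Pt 0, e81tl2.Pt 0, e81tl1.Pt 0, e81tl0.Pt 0]) 0 && kChk e81ce_P e81x_P e81cc9.K 4 H16.HN3.X.B [e81tl8.Pt 0, e81tl7.Pt 0, e81tl6.Pt 0, e81tl5.Pt 0, e81tl4.Pt 0, e81tl3.Pt 0, e81tl2.Pt 0, e81tl1.Pt 0, e81tl0.Pt 0]) = true := by decide +kernel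
theorem e81c_f8 : (Nat.ble e81tl8.K 28 && Nat.blt (nat_lit 6) 12 && fixLetters e81th_P e81tl8.K (nat_lit 6) && Nat.beq (ltAll 4 [nat_lit 2, nat_lit 2]) 0 && Nat.beq (apW e81x_P [nat_lit 2, nat_lit 2] (nat_lit 6)) (e81tl8.Pt 0)) = true := by decide +kernel
theorem e81c_f7 : (Nat.ble e81tl7.K 28 && Nat.blt (nat_lit 6) 12 && fixLetters e81th_P e81tl7.K (nat_lit 6) && Nat.beq (ltAll 4 [nat_lit 2]) 0 && Nat.beq (apW e81x_P [nat_lit 2] (nat_lit 6)) (e81tl7.Pt 0)) = true := by decide +kernel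
theorem e81cc6_e_0 : allZ (dent e81cc6 e81ce_P (nat_lit 12)) (nat_lit 0) (nat_lit 2) = true := by decide +kernel
theorem e81cc6_h : 0 < e81cc6.n ∧ 0 < e81cc6.K ∧ e81cc6.Pt 0 < 12 ∧ e81cc6.Q (e81cc6.Pt 0) = 0 := by decide +kernel
theorem e81tn1_0 : (Nat.ble e81tl6.K 28 && Nat.beq (ltAll 12 [e81tl5.Pt 0, e81tl4.Pt 0, e81tl3.Pt 0, e81tl2.Pt 0, e81tl1.Pt 0, e81tl0.Pt 0]) 0 && kChk e81ce_P e81x_P e81tn1.Kn 4 H16.HN3.X.B [e81tl5.Pt 0, e81tl4.Pt 0, e81tl3.Pt 0, e81tl2.Pt 0, e81tl1.Pt 0, e81tl0.Pt 0] && allL (ltAll 4) e81tn1.pre && planOK e81th_P e81x_P 4 (e81tl6.Pt 0) e81tn1.plan [e81tl6, e81tl7, e81tl8, e81tl9]) = true := by decide +kernel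
theorem e81tn1_1_0 : allZ (e81tn1.ent H16.HN3.X.P e81th_P e81x_P e81x_P e81ce_P (nat_lit 25) (nat_lit 4) H16.HN3.X.B e81tl6 [e81tl7, e81tl8, e81tl9] (memO e81cc6)) (nat_lit 0) (nat_lit 6) = true := by decide +kernel
theorem e81c_f6 : (Nat.ble e81cc6.K 4 && Nat.ble (topK [e81cc9]) e81cc6.K && Nat.beq (e81cc6.Pt 0) (e81tl6.Pt 0) && Nat.beq (ltAll 12 [e81tl5.Pt 0, e81tl4.Pt 0, e81tl3.Pt 0, e81tl2.Pt 0, e81tl1.Pt 0, e81tl0.Pt 0]) 0 && kChk e81ce_P e81x_P e81cc6.K 4 H16.HN3.X.B [e81tl5.Pt 0, e81tl4.Pt 0, e81tl3.Pt 0, e81tl2.Pt 0, e81tl1.Pt 0, e81tl0.Pt 0]) = true := by decide +kernel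
theorem e81c_f5 : (Nat.ble e81tl5.K 28 && Nat.blt (nat_lit 3) 12 && fixLetters e81th_P e81tl5.K (nat_lit 3) && Nat.beq (ltAll 4 [nat_lit 1, nat_lit 1]) 0 && Nat.beq (apW e81x_P [nat_lit 1, nat_lit 1] (nat_lit 3)) (e81tl5.Pt 0)) = true := by decide +kernel
theorem e81c_f4 : (Nat.ble e81tl4.K 28 && Nat.blt (nat_lit 3) 12 && fixLetters e81th_P e81tl4.K (nat_lit 3) && Nat.beq (ltAll 4 [nat_lit 1]) 0 && Nat.beq (apW e81x_P [nat_lit 1] (nat_lit 3)) (e81tl4.Pt 0)) = true := by decide +kernel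
theorem e81cc3_e_0 : allZ (dent e81cc3 e81ce_P (nat_lit 12)) (nat_lit 0) (nat_lit 2) = true := by decide +kernel
theorem e81cc3_h : 0 < e81cc3.n ∧ 0 < e81cc3.K ∧ e81cc3.Pt 0 < 12 ∧ e81cc3.Q (e81cc3.Pt 0) = 0 := by decide +kernel
theorem e81tn2_0 : (Nat.ble e81tl3.K 28 && Nat.beq (ltAll 12 [e81tl2.Pt 0, e81tl1.Pt 0, e81tl0.Pt 0]) 0 && kChk e81ce_P e81x_P e81tn2.Kn 4 H16.HN3.X.B [e81tl2.Pt 0, e81tl1.Pt 0, e81tl0.Pt 0] && allL (ltAll 4) e81tn2.pre && planOK e81th_P e81x_P 4 (e81tl3.Pt 0) e81tn2.plan [e81tl3, e81tl4, e81tl5, e81tl6, e81tl7, e81tl8, e81tl9]) = true := by decide +kernel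
theorem e81tn2_1_0 : allZ (e81tn2.ent H16.HN3.X.P e81th_P e81x_P e81x_P e81ce_P (nat_lit 25) (nat_lit 4) H16.HN3.X.B e81tl3 [e81tl4, e81tl5, e81tl6, e81tl7, e81tl8, e81tl9] (memO e81cc3)) (nat_lit 0) (nat_lit 9) = true := by decide +kernel
theorem e81c_f3 : (Nat.ble e81cc3.K 4 && Nat.ble (topK [e81cc6, e81cc9]) e81cc3.K && Nat.beq (e81cc3.Pt 0) (e81tl3.Pt 0) && Nat.beq (ltAll 12 [e81tl2.Pt 0, e81tl1.Pt 0, e81tl0.Pt 0]) 0 && kChk e81ce_P e81x_P e81cc3.K 4 H16.HN3.X.B [e81tl2.Pt 0, e81tl1.Pt 0, e81tl0.Pt 0]) = true := by decide +kernel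
theorem e81c_f2 : (Nat.ble e81tl2.K 28 && Nat.blt (nat_lit 0) 12 && fixLetters e81th_P e81tl2.K (nat_lit 0) && Nat.beq (ltAll 4 [nat_lit 0, nat_lit 0]) 0 && Nat.beq (apW e81x_P [nat_lit 0, nat_lit 0] (nat_lit 0)) (e81tl2.Pt 0)) = true := by decide +kernel
theorem e81c_f1 : (Nat.ble e81tl1.K 28 && Nat.blt (nat_lit 0) 12 && fixLetters e81th_P e81tl1.K (nat_lit 0) && Nat.beq (ltAll 4 [nat_lit 0]) 0 && Nat.beq (apW e81x_P [nat_lit 0] (nat_lit 0)) (e81tl1.Pt 0)) = true := by decide +kernel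
theorem e81cc0_e_0 : allZ (dent e81cc0 e81ce_P (nat_lit 12)) (nat_lit 0) (nat_lit 2) = true := by decide +kernel
theorem e81cc0_h : 0 < e81cc0.n ∧ 0 < e81cc0.K ∧ e81cc0.Pt 0 < 12 ∧ e81cc0.Q (e81cc0.Pt 0) = 0 := by decide +kernel
theorem e81tn3_0 : (Nat.ble e81tl0.K 28 && Nat.beq (ltAll 12 []) 0 && kChk e81ce_P e81x_P e81tn3.Kn 4 H16.HN3.X.B [] && allL (ltAll 4) e81tn3.pre && planOK e81th_P e81x_P 4 (e81tl0.Pt 0) e81tn3.plan [e81tl0, e81tl1, e81tl2, e81tl3, e81tl4, e81tl5, e81tl6, e81tl7, e81tl8, e81tl9]) = true := by decide +kernel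
theorem e81tn3_1_0 : allZ (e81tn3.ent H16.HN3.X.P e81th_P e81x_P e81x_P e81ce_P (nat_lit 25) (nat_lit 4) H16.HN3.X.B e81tl0 [e81tl1, e81tl2, e81tl3, e81tl4, e81tl5, e81tl6, e81tl7, e81tl8, e81tl9] (memO e81cc0)) (nat_lit 0) (nat_lit 12) = true := by decide +kernel
theorem e81c_f0 : (Nat.ble e81cc0.K 4 && Nat.ble (topK [e81cc3, e81cc6, e81cc9]) e81cc0.K && Nat.beq (e81cc0.Pt 0) (e81tl0.Pt 0) && Nat.beq (ltAll 12 []) 0 && kChk e81ce_P e81x_P e81cc0.K 4 H16.HN3.X.B []) = true := by decide +kernel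
theorem e81c_c : chainCard [e81cc0, e81cc3, e81cc6, e81cc9] = 81 ∧ topK [e81cc0, e81cc3, e81cc6, e81cc9] = 4 := by decide +kernel
theorem e81a : e81L.length = 81 ∧ H1.Am.incr κ e81L 0 = true := by decide +kernel
theorem e81b : H1.Am.allB (fun W => H1.Am.allB (fun Z => H1.Am.cjK κ W Z Z) e81x_W) e81L = true := by decide +kernel
theorem e8x_lt : allL (ltAll 25) e8x_W = true := by decide +kernel
theorem e8th_lt : allL (ltAll 25) e8th_W = true := by decide +kernel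
theorem e8tl0_e_0 : allZ (dent e8tl0 e8th_P (nat_lit 12)) (nat_lit 0) (nat_lit 11) = true := by decide +kernel
theorem e8tl0_h : 0 < e8tl0.n ∧ 0 < e8tl0.K ∧ e8tl0.Pt 0 < 12 ∧ e8tl0.Q (e8tl0.Pt 0) = 0 := by decide +kernel
theorem e8tl1_e_0 : allZ (dent e8tl1 e8th_P (nat_lit 12)) (nat_lit 0) (nat_lit 10) = true := by decide +kernel
theorem e8tl1_h : 0 < e8tl1.n ∧ 0 < e8tl1.K ∧ e8tl1.Pt 0 < 12 ∧ e8tl1.Q (e8tl1.Pt 0) = 0 := by decide +kernel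
theorem e8tl2_e_0 : allZ (dent e8tl2 e8th_P (nat_lit 12)) (nat_lit 0) (nat_lit 9) = true := by decide +kernel
theorem e8tl2_h : 0 < e8tl2.n ∧ 0 < e8tl2.K ∧ e8tl2.Pt 0 < 12 ∧ e8tl2.Q (e8tl2.Pt 0) = 0 := by decide +kernel
theorem e8tl3_e_0 : allZ (dent e8tl3 e8th_P (nat_lit 12)) (nat_lit 0) (nat_lit 8) = true := by decide +kernel
theorem e8tl3_h : 0 < e8tl3.n ∧ 0 < e8tl3.K ∧ e8tl3.Pt 0 < 12 ∧ e8tl3.Q (e8tl3.Pt 0) = 0 := by decide +kernel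
theorem e8tl4_e_0 : allZ (dent e8tl4 e8th_P (nat_lit 12)) (nat_lit 0) (nat_lit 7) = true := by decide +kernel
theorem e8tl4_h : 0 < e8tl4.n ∧ 0 < e8tl4.K ∧ e8tl4.Pt 0 < 12 ∧ e8tl4.Q (e8tl4.Pt 0) = 0 := by decide +kernel
theorem e8tl5_e_0 : allZ (dent e8tl5 e8th_P (nat_lit 12)) (nat_lit 0) (nat_lit 6) = true := by decide +kernel
theorem e8tl5_h : 0 < e8tl5.n ∧ 0 < e8tl5.K ∧ e8tl5.Pt 0 < 12 ∧ e8tl5.Q (e8tl5.Pt 0) = 0 := by decide +kernel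
theorem e8tl6_e_0 : allZ (dent e8tl6 e8th_P (nat_lit 12)) (nat_lit 0) (nat_lit 5) = true := by decide +kernel
theorem e8tl6_h : 0 < e8tl6.n ∧ 0 < e8tl6.K ∧ e8tl6.Pt 0 < 12 ∧ e8tl6.Q (e8tl6.Pt 0) = 0 := by decide +kernel
theorem e8tl7_e_0 : allZ (dent e8tl7 e8th_P (nat_lit 12)) (nat_lit 0) (nat_lit 4) = true := by decide +kernel
theorem e8tl7_h : 0 < e8tl7.n ∧ 0 < e8tl7.K ∧ e8tl7.Pt 0 < 12 ∧ e8tl7.Q (e8tl7.Pt 0) = 0 := by decide +kernel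
theorem e8tl8_e_0 : allZ (dent e8tl8 e8th_P (nat_lit 12)) (nat_lit 0) (nat_lit 3) = true := by decide +kernel
theorem e8tl8_h : 0 < e8tl8.n ∧ 0 < e8tl8.K ∧ e8tl8.Pt 0 < 12 ∧ e8tl8.Q (e8tl8.Pt 0) = 0 := by decide +kernel
theorem e8tl9_e_0 : allZ (dent e8tl9 e8th_P (nat_lit 12)) (nat_lit 0) (nat_lit 2) = true := by decide +kernel
theorem e8tl9_h : 0 < e8tl9.n ∧ 0 < e8tl9.K ∧ e8tl9.Pt 0 < 12 ∧ e8tl9.Q (e8tl9.Pt 0) = 0 := by decide +kernel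
theorem e8t_f9 : (Nat.ble e8tl9.K 27 && Nat.ble (topK []) e8tl9.K && fixLetters e8th_P (topK []) (e8tl9.Pt 0)) = true := by decide +kernel
theorem e8t_f8 : (Nat.ble e8tl8.K 27 && Nat.ble (topK [e8tl9]) e8tl8.K && fixLetters e8th_P (topK [e8tl9]) (e8tl8.Pt 0)) = true := by decide +kernel
theorem e8t_f7 : (Nat.ble e8tl7.K 27 && Nat.ble (topK [e8tl8, e8tl9]) e8tl7.K && fixLetters e8th_P (topK [e8tl8, e8tl9]) (e8tl7.Pt 0)) = true := by decide +kernel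
theorem e8t_f6 : (Nat.ble e8tl6.K 27 && Nat.ble (topK [e8tl7, e8tl8, e8tl9]) e8tl6.K && fixLetters e8th_P (topK [e8tl7, e8tl8, e8tl9]) (e8tl6.Pt 0)) = true := by decide +kernel
theorem e8t_f5 : (Nat.ble e8tl5.K 27 && Nat.ble (topK [e8tl6, e8tl7, e8tl8, e8tl9]) e8tl5.K && fixLetters e8th_P (topK [e8tl6, e8tl7, e8tl8, e8tl9]) (e8tl5.Pt 0)) = true := by decide +kernel
theorem e8t_f4 : (Nat.ble e8tl4.K 27 && Nat.ble (topK [e8tl5, e8tl6, e8tl7, e8tl8, e8tl9]) e8tl4.K && fixLetters e8th_P (topK [e8tl5, e8tl6, e8tl7, e8tl8, e8tl9]) (e8tl4.Pt 0)) = true := by decide +kernel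
theorem e8t_f3 : (Nat.ble e8tl3.K 27 && Nat.ble (topK [e8tl4, e8tl5, e8tl6, e8tl7, e8tl8, e8tl9]) e8tl3.K && fixLetters e8th_P (topK [e8tl4, e8tl5, e8tl6, e8tl7, e8tl8, e8tl9]) (e8tl3.Pt 0)) = true := by decide +kernel
theorem e8t_f2 : (Nat.ble e8tl2.K 27 && Nat.ble (topK [e8tl3, e8tl4, e8tl5, e8tl6, e8tl7, e8tl8, e8tl9]) e8tl2.K && fixLetters e8th_P (topK [e8tl3, e8tl4, e8tl5, e8tl6, e8tl7, e8tl8, e8tl9]) (e8tl2.Pt 0)) = true := by decide +kernel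
theorem e8t_f1 : (Nat.ble e8tl1.K 27 && Nat.ble (topK [e8tl2, e8tl3, e8tl4, e8tl5, e8tl6, e8tl7, e8tl8, e8tl9]) e8tl1.K && fixLetters e8th_P (topK [e8tl2, e8tl3, e8tl4, e8tl5, e8tl6, e8tl7, e8tl8, e8tl9]) (e8tl1.Pt 0)) = true := by decide +kernel
theorem e8t_f0 : (Nat.ble e8tl0.K 27 && Nat.ble (topK [e8tl1, e8tl2, e8tl3, e8tl4, e8tl5, e8tl6, e8tl7, e8tl8, e8tl9]) e8tl0.K && fixLetters e8th_P (topK [e8tl1, e8tl2, e8tl3, e8tl4, e8tl5, e8tl6, e8tl7, e8tl8, e8tl9]) (e8tl0.Pt 0)) = true := by decide +kernel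
theorem e8t_c : chainCard [e8tl0, e8tl1, e8tl2, e8tl3, e8tl4, e8tl5, e8tl6, e8tl7, e8tl8, e8tl9] = 239500800 := by decide +kernel
theorem e8ce_lt : allL (ltAll 25) e8ce_W = true := by decide +kernel
theorem e8c_f9 : (Nat.ble e8tl9.K 27 && Nat.blt (nat_lit 9) 12 && fixLetters e8th_P e8tl9.K (nat_lit 9) && Nat.beq (ltAll 4 [nat_lit 3]) 0 && Nat.beq (apW e8x_P [nat_lit 3] (nat_lit 9)) (e8tl9.Pt 0)) = true := by decide +kernel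
theorem e8cc8_e_0 : allZ (dent e8cc8 e8ce_P (nat_lit 12)) (nat_lit 0) (nat_lit 1) = true := by decide +kernel
theorem e8cc8_h : 0 < e8cc8.n ∧ 0 < e8cc8.K ∧ e8cc8.Pt 0 < 12 ∧ e8cc8.Q (e8cc8.Pt 0) = 0 := by decide +kernel
theorem e8tn0_0 : (Nat.ble e8tl8.K 27 && Nat.beq (ltAll 12 [e8tl7.Pt 0, e8tl6.Pt 0, e8tl5.Pt 0, e8tl4.Pt 0, e8tl3.Pt 0, e8tl2.Pt 0, e8tl1.Pt 0, e8tl0.Pt 0]) 0 && kChk e8ce_P e8x_P e8tn0.Kn 4 H16.HN3.X.B [e8tl7.Pt 0, e8tl6.Pt 0, e8tl5.Pt 0, e8tl4.Pt 0, e8tl3.Pt 0, e8tl2.Pt 0, e8tl1.Pt 0, e8tl0.Pt 0] && allL (ltAll 4) e8tn0.pre && planOK e8th_P e8x_P 4 (e8tl8.Pt 0) e8tn0.plan [e8tl8, e8tl9]) = true := by decide +kernel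
theorem e8tn0_1_0 : allZ (e8tn0.ent H16.HN3.X.P e8th_P e8x_P e8x_P e8ce_P (nat_lit 25) (nat_lit 4) H16.HN3.X.B e8tl8 [e8tl9] (memO e8cc8)) (nat_lit 0) (nat_lit 4) = true := by decide +kernel
theorem e8c_f8 : (Nat.ble e8cc8.K 2 && Nat.ble (topK []) e8cc8.K && Nat.beq (e8cc8.Pt 0) (e8tl8.Pt 0) && Nat.beq (ltAll 12 [e8tl7.Pt 0, e8tl6.Pt 0, e8tl5.Pt 0, e8tl4.Pt 0, e8tl3.Pt 0, e8tl2.Pt 0, e8tl1.Pt 0, e8tl0.Pt 0]) 0 && kChk e8ce_P e8x_P e8cc8.K 4 H16.HN3.X.B [e8tl7.Pt 0, e8tl6.Pt 0, e8tl5.Pt 0, e8tl4.Pt 0, e8tl3.Pt 0, e8tl2.Pt 0, e8tl1.Pt 0, e8tl0.Pt 0]) = true := by decide +kernel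
theorem e8c_f7 : (Nat.ble e8tl7.K 27 && Nat.blt (nat_lit 6) 12 && fixLetters e8th_P e8tl7.K (nat_lit 6) && Nat.beq (ltAll 4 [nat_lit 3]) 0 && Nat.beq (apW e8x_P [nat_lit 3] (nat_lit 6)) (e8tl7.Pt 0)) = true := by decide +kernel
theorem e8cc6_e_0 : allZ (dent e8cc6 e8ce_P (nat_lit 12)) (nat_lit 0) (nat_lit 3) = true := by decide +kernel
theorem e8cc6_h : 0 < e8cc6.n ∧ 0 < e8cc6.K ∧ e8cc6.Pt 0 < 12 ∧ e8cc6.Q (e8cc6.Pt 0) = 0 := by decide +kernel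
theorem e8tn1_0 : (Nat.ble e8tl6.K 27 && Nat.beq (ltAll 12 [e8tl5.Pt 0, e8tl4.Pt 0, e8tl3.Pt 0, e8tl2.Pt 0, e8tl1.Pt 0, e8tl0.Pt 0]) 0 && kChk e8ce_P e8x_P e8tn1.Kn 4 H16.HN3.X.B [e8tl5.Pt 0, e8tl4.Pt 0, e8tl3.Pt 0, e8tl2.Pt 0, e8tl1.Pt 0, e8tl0.Pt 0] && allL (ltAll 4) e8tn1.pre && planOK e8th_P e8x_P 4 (e8tl6.Pt 0) e8tn1.plan [e8tl6, e8tl7, e8tl8, e8tl9]) = true := by decide +kernel
theorem e8tn1_1_0 : allZ (e8tn1.ent H16.HN3.X.P e8th_P e8x_P e8x_P e8ce_P (nat_lit 25) (nat_lit 4) H16.HN3.X.B e8tl6 [e8tl7, e8tl8, e8tl9] (memO e8cc6)) (nat_lit 0) (nat_lit 6) = true := by decide +kernel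
theorem e8c_f6 : (Nat.ble e8cc6.K 2 && Nat.ble (topK [e8cc8]) e8cc6.K && Nat.beq (e8cc6.Pt 0) (e8tl6.Pt 0) && Nat.beq (ltAll 12 [e8tl5.Pt 0, e8tl4.Pt 0, e8tl3.Pt 0, e8tl2.Pt 0, e8tl1.Pt 0, e8tl0.Pt 0]) 0 && kChk e8ce_P e8x_P e8cc6.K 4 H16.HN3.X.B [e8tl5.Pt 0, e8tl4.Pt 0, e8tl3.Pt 0, e8tl2.Pt 0, e8tl1.Pt 0, e8tl0.Pt 0]) = true := by decide +kernel
theorem e8c_f5 : (Nat.ble e8tl5.K 27 && Nat.blt (nat_lit 5) 12 && fixLetters e8th_P e8tl5.K (nat_lit 5) && Nat.beq (ltAll 4 [nat_lit 2, nat_lit 0, nat_lit 0]) 0 && Nat.beq (apW e8x_P [nat_lit 2, nat_lit 0, nat_lit 0] (nat_lit 5)) (e8tl5.Pt 0)) = true := by decide +kernel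
theorem e8c_f4 : (Nat.ble e8tl4.K 27 && Nat.blt (nat_lit 5) 12 && fixLetters e8th_P e8tl4.K (nat_lit 5) && Nat.beq (ltAll 4 [nat_lit 1, nat_lit 1]) 0 && Nat.beq (apW e8x_P [nat_lit 1, nat_lit 1] (nat_lit 5)) (e8tl4.Pt 0)) = true := by decide +kernel
theorem e8c_f3 : (Nat.ble e8tl3.K 27 && Nat.blt (nat_lit 5) 12 && fixLetters e8th_P e8tl3.K (nat_lit 5) && Nat.beq (ltAll 4 [nat_lit 2, nat_lit 0]) 0 && Nat.beq (apW e8x_P [nat_lit 2, nat_lit 0] (nat_lit 5)) (e8tl3.Pt 0)) = true := by decide +kernel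
theorem e8c_f2 : (Nat.ble e8tl2.K 27 && Nat.blt (nat_lit 5) 12 && fixLetters e8th_P e8tl2.K (nat_lit 5) && Nat.beq (ltAll 4 [nat_lit 1]) 0 && Nat.beq (apW e8x_P [nat_lit 1] (nat_lit 5)) (e8tl2.Pt 0)) = true := by decide +kernel
theorem e8c_f1 : (Nat.ble e8tl1.K 27 && Nat.blt (nat_lit 5) 12 && fixLetters e8th_P e8tl1.K (nat_lit 5) && Nat.beq (ltAll 4 [nat_lit 2]) 0 && Nat.beq (apW e8x_P [nat_lit 2] (nat_lit 5)) (e8tl1.Pt 0)) = true := by decide +kernel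
theorem e8tn2_0 : (Nat.ble e8tl0.K 27 && Nat.beq (ltAll 12 []) 0 && kChk e8ce_P e8x_P e8tn2.Kn 4 H16.HN3.X.B [] && allL (ltAll 4) e8tn2.pre && planOK e8th_P e8x_P 4 (e8tl0.Pt 0) e8tn2.plan [e8tl0, e8tl1, e8tl2, e8tl3, e8tl4, e8tl5, e8tl6, e8tl7, e8tl8, e8tl9]) = true := by decide +kernel
theorem e8tn2_1_0 : allZ (e8tn2.ent H16.HN3.X.P e8th_P e8x_P e8x_P e8ce_P (nat_lit 25) (nat_lit 4) H16.HN3.X.B e8tl0 [e8tl1, e8tl2, e8tl3, e8tl4, e8tl5, e8tl6, e8tl7, e8tl8, e8tl9] (fun w => Nat.xor w (e8tl0.Pt (nat_lit 0)))) (nat_lit 0) (nat_lit 12) = true := by decide +kernel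
theorem e8c_c : chainCard [e8cc6, e8cc8] = 8 ∧ topK [e8cc6, e8cc8] = 2 := by decide +kernel
theorem e8a : e8L.length = 8 ∧ H1.Am.incr κ e8L 0 = true := by decide +kernel
theorem e8b : H1.Am.allB (fun W => H1.Am.allB (fun Z => H1.Am.cjK κ W Z Z) e8x_W) e8L = true := by decide +kernel
theorem e16x_lt : allL (ltAll 25) e16x_W = true := by decide +kernel
theorem e16th_lt : allL (ltAll 25) e16th_W = true := by decide +kernel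
theorem e16tl0_e_0 : allZ (dent e16tl0 e16th_P (nat_lit 12)) (nat_lit 0) (nat_lit 11) = true := by decide +kernel
theorem e16tl0_h : 0 < e16tl0.n ∧ 0 < e16tl0.K ∧ e16tl0.Pt 0 < 12 ∧ e16tl0.Q (e16tl0.Pt 0) = 0 := by decide +kernel
theorem e16tl1_e_0 : allZ (dent e16tl1 e16th_P (nat_lit 12)) (nat_lit 0) (nat_lit 10) = true := by decide +kernel
theorem e16tl1_h : 0 < e16tl1.n ∧ 0 < e16tl1.K ∧ e16tl1.Pt 0 < 12 ∧ e16tl1.Q (e16tl1.Pt 0) = 0 := by decide +kernel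
theorem e16tl2_e_0 : allZ (dent e16tl2 e16th_P (nat_lit 12)) (nat_lit 0) (nat_lit 9) = true := by decide +kernel
theorem e16tl2_h : 0 < e16tl2.n ∧ 0 < e16tl2.K ∧ e16tl2.Pt 0 < 12 ∧ e16tl2.Q (e16tl2.Pt 0) = 0 := by decide +kernel
theorem e16tl3_e_0 : allZ (dent e16tl3 e16th_P (nat_lit 12)) (nat_lit 0) (nat_lit 8) = true := by decide +kernel
theorem e16tl3_h : 0 < e16tl3.n ∧ 0 < e16tl3.K ∧ e16tl3.Pt 0 < 12 ∧ e16tl3.Q (e16tl3.Pt 0) = 0 := by decide +kernel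
theorem e16tl4_e_0 : allZ (dent e16tl4 e16th_P (nat_lit 12)) (nat_lit 0) (nat_lit 7) = true := by decide +kernel
theorem e16tl4_h : 0 < e16tl4.n ∧ 0 < e16tl4.K ∧ e16tl4.Pt 0 < 12 ∧ e16tl4.Q (e16tl4.Pt 0) = 0 := by decide +kernel
theorem e16tl5_e_0 : allZ (dent e16tl5 e16th_P (nat_lit 12)) (nat_lit 0) (nat_lit 6) = true := by decide +kernel
theorem e16tl5_h : 0 < e16tl5.n ∧ 0 < e16tl5.K ∧ e16tl5.Pt 0 < 12 ∧ e16tl5.Q (e16tl5.Pt 0) = 0 := by decide +kernel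
theorem e16tl6_e_0 : allZ (dent e16tl6 e16th_P (nat_lit 12)) (nat_lit 0) (nat_lit 5) = true := by decide +kernel
theorem e16tl6_h : 0 < e16tl6.n ∧ 0 < e16tl6.K ∧ e16tl6.Pt 0 < 12 ∧ e16tl6.Q (e16tl6.Pt 0) = 0 := by decide +kernel
theorem e16tl7_e_0 : allZ (dent e16tl7 e16th_P (nat_lit 12)) (nat_lit 0) (nat_lit 4) = true := by decide +kernel
theorem e16tl7_h : 0 < e16tl7.n ∧ 0 < e16tl7.K ∧ e16tl7.Pt 0 < 12 ∧ e16tl7.Q (e16tl7.Pt 0) = 0 := by decide +kernel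
theorem e16tl8_e_0 : allZ (dent e16tl8 e16th_P (nat_lit 12)) (nat_lit 0) (nat_lit 3) = true := by decide +kernel
theorem e16tl8_h : 0 < e16tl8.n ∧ 0 < e16tl8.K ∧ e16tl8.Pt 0 < 12 ∧ e16tl8.Q (e16tl8.Pt 0) = 0 := by decide +kernel
theorem e16tl9_e_0 : allZ (dent e16tl9 e16th_P (nat_lit 12)) (nat_lit 0) (nat_lit 2) = true := by decide +kernel
theorem e16tl9_h : 0 < e16tl9.n ∧ 0 < e16tl9.K ∧ e16tl9.Pt 0 < 12 ∧ e16tl9.Q (e16tl9.Pt 0) = 0 := by decide +kernel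
theorem e16t_f9 : (Nat.ble e16tl9.K 28 && Nat.ble (topK []) e16tl9.K && fixLetters e16th_P (topK []) (e16tl9.Pt 0)) = true := by decide +kernel
theorem e16t_f8 : (Nat.ble e16tl8.K 28 && Nat.ble (topK [e16tl9]) e16tl8.K && fixLetters e16th_P (topK [e16tl9]) (e16tl8.Pt 0)) = true := by decide +kernel
theorem e16t_f7 : (Nat.ble e16tl7.K 28 && Nat.ble (topK [e16tl8, e16tl9]) e16tl7.K && fixLetters e16th_P (topK [e16tl8, e16tl9]) (e16tl7.Pt 0)) = true := by decide +kernel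
theorem e16t_f6 : (Nat.ble e16tl6.K 28 && Nat.ble (topK [e16tl7, e16tl8, e16tl9]) e16tl6.K && fixLetters e16th_P (topK [e16tl7, e16tl8, e16tl9]) (e16tl6.Pt 0)) = true := by decide +kernel
theorem e16t_f5 : (Nat.ble e16tl5.K 28 && Nat.ble (topK [e16tl6, e16tl7, e16tl8, e16tl9]) e16tl5.K && fixLetters e16th_P (topK [e16tl6, e16tl7, e16tl8, e16tl9]) (e16tl5.Pt 0)) = true := by decide +kernel
theorem e16t_f4 : (Nat.ble e16tl4.K 28 && Nat.ble (topK [e16tl5, e16tl6, e16tl7, e16tl8, e16tl9]) e16tl4.K && fixLetters e16th_P (topK [e16tl5, e16tl6, e16tl7, e16tl8, e16tl9]) (e16tl4.Pt 0)) = true := by decide +kernel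
theorem e16t_f3 : (Nat.ble e16tl3.K 28 && Nat.ble (topK [e16tl4, e16tl5, e16tl6, e16tl7, e16tl8, e16tl9]) e16tl3.K && fixLetters e16th_P (topK [e16tl4, e16tl5, e16tl6, e16tl7, e16tl8, e16tl9]) (e16tl3.Pt 0)) = true := by decide +kernel
theorem e16t_f2 : (Nat.ble e16tl2.K 28 && Nat.ble (topK [e16tl3, e16tl4, e16tl5, e16tl6, e16tl7, e16tl8, e16tl9]) e16tl2.K && fixLetters e16th_P (topK [e16tl3, e16tl4, e16tl5, e16tl6, e16tl7, e16tl8, e16tl9]) (e16tl2.Pt 0)) = true := by decide +kernel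
theorem e16t_f1 : (Nat.ble e16tl1.K 28 && Nat.ble (topK [e16tl2, e16tl3, e16tl4, e16tl5, e16tl6, e16tl7, e16tl8, e16tl9]) e16tl1.K && fixLetters e16th_P (topK [e16tl2, e16tl3, e16tl4, e16tl5, e16tl6, e16tl7, e16tl8, e16tl9]) (e16tl1.Pt 0)) = true := by decide +kernel
theorem e16t_f0 : (Nat.ble e16tl0.K 28 && Nat.ble (topK [e16tl1, e16tl2, e16tl3, e16tl4, e16tl5, e16tl6, e16tl7, e16tl8, e16tl9]) e16tl0.K && fixLetters e16th_P (topK [e16tl1, e16tl2, e16tl3, e16tl4, e16tl5, e16tl6, e16tl7, e16tl8, e16tl9]) (e16tl0.Pt 0)) = true := by decide +kernel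
theorem e16t_c : chainCard [e16tl0, e16tl1, e16tl2, e16tl3, e16tl4, e16tl5, e16tl6, e16tl7, e16tl8, e16tl9] = 239500800 := by decide +kernel
theorem e16ce_lt : allL (ltAll 25) e16ce_W = true := by decide +kernel
theorem e16c_f9 : (Nat.ble e16tl9.K 28 && Nat.blt (nat_lit 2) 12 && fixLetters e16th_P e16tl9.K (nat_lit 2) && Nat.beq (ltAll 5 [nat_lit 3]) 0 && Nat.beq (apW e16x_P [nat_lit 3] (nat_lit 2)) (e16tl9.Pt 0)) = true := by decide +kernel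
theorem e16cc8_e_0 : allZ (dent e16cc8 e16ce_P (nat_lit 12)) (nat_lit 0) (nat_lit 3) = true := by decide +kernel
theorem e16cc8_h : 0 < e16cc8.n ∧ 0 < e16cc8.K ∧ e16cc8.Pt 0 < 12 ∧ e16cc8.Q (e16cc8.Pt 0) = 0 := by decide +kernel
theorem e16tn0_0 : (Nat.ble e16tl8.K 28 && Nat.beq (ltAll 12 [e16tl7.Pt 0, e16tl6.Pt 0, e16tl5.Pt 0, e16tl4.Pt 0, e16tl3.Pt 0, e16tl2.Pt 0, e16tl1.Pt 0, e16tl0.Pt 0]) 0 && kChk e16ce_P e16x_P e16tn0.Kn 5 H16.HN3.X.B [e16tl7.Pt 0, e16tl6.Pt 0, e16tl5.Pt 0, e16tl4.Pt 0, e16tl3.Pt 0, e16tl2.Pt 0, e16tl1.Pt 0, e16tl0.Pt 0] && allL (ltAll 5) e16tn0.pre && planOK e16th_P e16x_P 5 (e16tl8.Pt 0) e16tn0.plan [e16tl8, e16tl9]) = true := by decide +kernel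
theorem e16tn0_1_0 : allZ (e16tn0.ent H16.HN3.X.P e16th_P e16x_P e16x_P e16ce_P (nat_lit 25) (nat_lit 5) H16.HN3.X.B e16tl8 [e16tl9] (memO e16cc8)) (nat_lit 0) (nat_lit 4) = true := by decide +kernel
theorem e16c_f8 : (Nat.ble e16cc8.K 4 && Nat.ble (topK []) e16cc8.K && Nat.beq (e16cc8.Pt 0) (e16tl8.Pt 0) && Nat.beq (ltAll 12 [e16tl7.Pt 0, e16tl6.Pt 0, e16tl5.Pt 0, e16tl4.Pt 0, e16tl3.Pt 0, e16tl2.Pt 0, e16tl1.Pt 0, e16tl0.Pt 0]) 0 && kChk e16ce_P e16x_P e16cc8.K 5 H16.HN3.X.B [e16tl7.Pt 0, e16tl6.Pt 0, e16tl5.Pt 0, e16tl4.Pt 0, e16tl3.Pt 0, e16tl2.Pt 0, e16tl1.Pt 0, e16tl0.Pt 0]) = true := by decide +kernel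
theorem e16c_f7 : (Nat.ble e16tl7.K 28 && Nat.blt (nat_lit 0) 12 && fixLetters e16th_P e16tl7.K (nat_lit 0) && Nat.beq (ltAll 5 [nat_lit 4]) 0 && Nat.beq (apW e16x_P [nat_lit 4] (nat_lit 0)) (e16tl7.Pt 0)) = true := by decide +kernel
theorem e16c_f6 : (Nat.ble e16tl6.K 28 && Nat.blt (nat_lit 0) 12 && fixLetters e16th_P e16tl6.K (nat_lit 0) && Nat.beq (ltAll 5 [nat_lit 1]) 0 && Nat.beq (apW e16x_P [nat_lit 1] (nat_lit 0)) (e16tl6.Pt 0)) = true := by decide +kernel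
theorem e16c_f5 : (Nat.ble e16tl5.K 28 && Nat.blt (nat_lit 0) 12 && fixLetters e16th_P e16tl5.K (nat_lit 0) && Nat.beq (ltAll 5 [nat_lit 0]) 0 && Nat.beq (apW e16x_P [nat_lit 0] (nat_lit 0)) (e16tl5.Pt 0)) = true := by decide +kernel
theorem e16cc4_e_0 : allZ (dent e16cc4 e16ce_P (nat_lit 12)) (nat_lit 0) (nat_lit 1) = true := by decide +kernel
theorem e16cc4_h : 0 < e16cc4.n ∧ 0 < e16cc4.K ∧ e16cc4.Pt 0 < 12 ∧ e16cc4.Q (e16cc4.Pt 0) = 0 := by decide +kernel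
theorem e16tn1_0 : (Nat.ble e16tl4.K 28 && Nat.beq (ltAll 12 [e16tl3.Pt 0, e16tl2.Pt 0, e16tl1.Pt 0, e16tl0.Pt 0]) 0 && kChk e16ce_P e16x_P e16tn1.Kn 5 H16.HN3.X.B [e16tl3.Pt 0, e16tl2.Pt 0, e16tl1.Pt 0, e16tl0.Pt 0] && allL (ltAll 5) e16tn1.pre && planOK e16th_P e16x_P 5 (e16tl4.Pt 0) e16tn1.plan [e16tl4, e16tl5, e16tl6, e16tl7, e16tl8, e16tl9]) = true := by decide +kernel
theorem e16tn1_1_0 : allZ (e16tn1.ent H16.HN3.X.P e16th_P e16x_P e16x_P e16ce_P (nat_lit 25) (nat_lit 5) H16.HN3.X.B e16tl4 [e16tl5, e16tl6, e16tl7, e16tl8, e16tl9] (memO e16cc4)) (nat_lit 0) (nat_lit 8) = true := by decide +kernel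
theorem e16c_f4 : (Nat.ble e16cc4.K 4 && Nat.ble (topK [e16cc8]) e16cc4.K && Nat.beq (e16cc4.Pt 0) (e16tl4.Pt 0) && Nat.beq (ltAll 12 [e16tl3.Pt 0, e16tl2.Pt 0, e16tl1.Pt 0, e16tl0.Pt 0]) 0 && kChk e16ce_P e16x_P e16cc4.K 5 H16.HN3.X.B [e16tl3.Pt 0, e16tl2.Pt 0, e16tl1.Pt 0, e16tl0.Pt 0]) = true := by decide +kernel
theorem e16c_f3 : (Nat.ble e16tl3.K 28 && Nat.blt (nat_lit 8) 12 && fixLetters e16th_P e16tl3.K (nat_lit 8) && Nat.beq (ltAll 5 [nat_lit 3, nat_lit 2, nat_lit 3]) 0 && Nat.beq (apW e16x_P [nat_lit 3, nat_lit 2, nat_lit 3] (nat_lit 8)) (e16tl3.Pt 0)) = true := by decide +kernel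
theorem e16c_f2 : (Nat.ble e16tl2.K 28 && Nat.blt (nat_lit 8) 12 && fixLetters e16th_P e16tl2.K (nat_lit 8) && Nat.beq (ltAll 5 [nat_lit 3, nat_lit 2]) 0 && Nat.beq (apW e16x_P [nat_lit 3, nat_lit 2] (nat_lit 8)) (e16tl2.Pt 0)) = true := by decide +kernel
theorem e16c_f1 : (Nat.ble e16tl1.K 28 && Nat.blt (nat_lit 8) 12 && fixLetters e16th_P e16tl1.K (nat_lit 8) && Nat.beq (ltAll 5 [nat_lit 3]) 0 && Nat.beq (apW e16x_P [nat_lit 3] (nat_lit 8)) (e16tl1.Pt 0)) = true := by decide +kernel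
theorem e16cc0_e_0 : allZ (dent e16cc0 e16ce_P (nat_lit 12)) (nat_lit 0) (nat_lit 1) = true := by decide +kernel
theorem e16cc0_h : 0 < e16cc0.n ∧ 0 < e16cc0.K ∧ e16cc0.Pt 0 < 12 ∧ e16cc0.Q (e16cc0.Pt 0) = 0 := by decide +kernel
theorem e16tn2_0 : (Nat.ble e16tl0.K 28 && Nat.beq (ltAll 12 []) 0 && kChk e16ce_P e16x_P e16tn2.Kn 5 H16.HN3.X.B [] && allL (ltAll 5) e16tn2.pre && planOK e16th_P e16x_P 5 (e16tl0.Pt 0) e16tn2.plan [e16tl0, e16tl1, e16tl2, e16tl3, e16tl4, e16tl5, e16tl6, e16tl7, e16tl8, e16tl9]) = true := by decide +kernel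
theorem e16tn2_1_0 : allZ (e16tn2.ent H16.HN3.X.P e16th_P e16x_P e16x_P e16ce_P (nat_lit 25) (nat_lit 5) H16.HN3.X.B e16tl0 [e16tl1, e16tl2, e16tl3, e16tl4, e16tl5, e16tl6, e16tl7, e16tl8, e16tl9] (memO e16cc0)) (nat_lit 0) (nat_lit 12) = true := by decide +kernel
theorem e16c_f0 : (Nat.ble e16cc0.K 4 && Nat.ble (topK [e16cc4, e16cc8]) e16cc0.K && Nat.beq (e16cc0.Pt 0) (e16tl0.Pt 0) && Nat.beq (ltAll 12 []) 0 && kChk e16ce_P e16x_P e16cc0.K 5 H16.HN3.X.B []) = true := by decide +kernel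
theorem e16c_c : chainCard [e16cc0, e16cc4, e16cc8] = 16 ∧ topK [e16cc0, e16cc4, e16cc8] = 4 := by decide +kernel
theorem e16a : e16L.length = 16 ∧ H1.Am.incr κ e16L 0 = true := by decide +kernel
theorem e16b : H1.Am.allB (fun W => H1.Am.allB (fun Z => H1.Am.cjK κ W Z Z) e16x_W) e16L = true := by decide +kernel
theorem e4x_lt : allL (ltAll 25) e4x_W = true := by decide +kernel
theorem e4th_lt : allL (ltAll 25) e4th_W = true := by decide +kernel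
theorem e4tl0_e_0 : allZ (dent e4tl0 e4th_P (nat_lit 12)) (nat_lit 0) (nat_lit 11) = true := by decide +kernel
theorem e4tl0_h : 0 < e4tl0.n ∧ 0 < e4tl0.K ∧ e4tl0.Pt 0 < 12 ∧ e4tl0.Q (e4tl0.Pt 0) = 0 := by decide +kernel
theorem e4tl1_e_0 : allZ (dent e4tl1 e4th_P (nat_lit 12)) (nat_lit 0) (nat_lit 10) = true := by decide +kernel
theorem e4tl1_h : 0 < e4tl1.n ∧ 0 < e4tl1.K ∧ e4tl1.Pt 0 < 12 ∧ e4tl1.Q (e4tl1.Pt 0) = 0 := by decide +kernel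
theorem e4tl2_e_0 : allZ (dent e4tl2 e4th_P (nat_lit 12)) (nat_lit 0) (nat_lit 9) = true := by decide +kernel
theorem e4tl2_h : 0 < e4tl2.n ∧ 0 < e4tl2.K ∧ e4tl2.Pt 0 < 12 ∧ e4tl2.Q (e4tl2.Pt 0) = 0 := by decide +kernel
theorem e4tl3_e_0 : allZ (dent e4tl3 e4th_P (nat_lit 12)) (nat_lit 0) (nat_lit 8) = true := by decide +kernel
theorem e4tl3_h : 0 < e4tl3.n ∧ 0 < e4tl3.K ∧ e4tl3.Pt 0 < 12 ∧ e4tl3.Q (e4tl3.Pt 0) = 0 := by decide +kernel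
theorem e4tl4_e_0 : allZ (dent e4tl4 e4th_P (nat_lit 12)) (nat_lit 0) (nat_lit 7) = true := by decide +kernel
theorem e4tl4_h : 0 < e4tl4.n ∧ 0 < e4tl4.K ∧ e4tl4.Pt 0 < 12 ∧ e4tl4.Q (e4tl4.Pt 0) = 0 := by decide +kernel
theorem e4tl5_e_0 : allZ (dent e4tl5 e4th_P (nat_lit 12)) (nat_lit 0) (nat_lit 6) = true := by decide +kernel
theorem e4tl5_h : 0 < e4tl5.n ∧ 0 < e4tl5.K ∧ e4tl5.Pt 0 < 12 ∧ e4tl5.Q (e4tl5.Pt 0) = 0 := by decide +kernel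
theorem e4tl6_e_0 : allZ (dent e4tl6 e4th_P (nat_lit 12)) (nat_lit 0) (nat_lit 5) = true := by decide +kernel
theorem e4tl6_h : 0 < e4tl6.n ∧ 0 < e4tl6.K ∧ e4tl6.Pt 0 < 12 ∧ e4tl6.Q (e4tl6.Pt 0) = 0 := by decide +kernel
theorem e4tl7_e_0 : allZ (dent e4tl7 e4th_P (nat_lit 12)) (nat_lit 0) (nat_lit 4) = true := by decide +kernel
theorem e4tl7_h : 0 < e4tl7.n ∧ 0 < e4tl7.K ∧ e4tl7.Pt 0 < 12 ∧ e4tl7.Q (e4tl7.Pt 0) = 0 := by decide +kernel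
theorem e4tl8_e_0 : allZ (dent e4tl8 e4th_P (nat_lit 12)) (nat_lit 0) (nat_lit 3) = true := by decide +kernel
theorem e4tl8_h : 0 < e4tl8.n ∧ 0 < e4tl8.K ∧ e4tl8.Pt 0 < 12 ∧ e4tl8.Q (e4tl8.Pt 0) = 0 := by decide +kernel
theorem e4tl9_e_0 : allZ (dent e4tl9 e4th_P (nat_lit 12)) (nat_lit 0) (nat_lit 2) = true := by decide +kernel
theorem e4tl9_h : 0 < e4tl9.n ∧ 0 < e4tl9.K ∧ e4tl9.Pt 0 < 12 ∧ e4tl9.Q (e4tl9.Pt 0) = 0 := by decide +kernel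
theorem e4t_f9 : (Nat.ble e4tl9.K 26 && Nat.ble (topK []) e4tl9.K && fixLetters e4th_P (topK []) (e4tl9.Pt 0)) = true := by decide +kernel
theorem e4t_f8 : (Nat.ble e4tl8.K 26 && Nat.ble (topK [e4tl9]) e4tl8.K && fixLetters e4th_P (topK [e4tl9]) (e4tl8.Pt 0)) = true := by decide +kernel
theorem e4t_f7 : (Nat.ble e4tl7.K 26 && Nat.ble (topK [e4tl8, e4tl9]) e4tl7.K && fixLetters e4th_P (topK [e4tl8, e4tl9]) (e4tl7.Pt 0)) = true := by decide +kernel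
theorem e4t_f6 : (Nat.ble e4tl6.K 26 && Nat.ble (topK [e4tl7, e4tl8, e4tl9]) e4tl6.K && fixLetters e4th_P (topK [e4tl7, e4tl8, e4tl9]) (e4tl6.Pt 0)) = true := by decide +kernel
theorem e4t_f5 : (Nat.ble e4tl5.K 26 && Nat.ble (topK [e4tl6, e4tl7, e4tl8, e4tl9]) e4tl5.K && fixLetters e4th_P (topK [e4tl6, e4tl7, e4tl8, e4tl9]) (e4tl5.Pt 0)) = true := by decide +kernel
theorem e4t_f4 : (Nat.ble e4tl4.K 26 && Nat.ble (topK [e4tl5, e4tl6, e4tl7, e4tl8, e4tl9]) e4tl4.K && fixLetters e4th_P (topK [e4tl5, e4tl6, e4tl7, e4tl8, e4tl9]) (e4tl4.Pt 0)) = true := by decide +kernel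
theorem e4t_f3 : (Nat.ble e4tl3.K 26 && Nat.ble (topK [e4tl4, e4tl5, e4tl6, e4tl7, e4tl8, e4tl9]) e4tl3.K && fixLetters e4th_P (topK [e4tl4, e4tl5, e4tl6, e4tl7, e4tl8, e4tl9]) (e4tl3.Pt 0)) = true := by decide +kernel
theorem e4t_f2 : (Nat.ble e4tl2.K 26 && Nat.ble (topK [e4tl3, e4tl4, e4tl5, e4tl6, e4tl7, e4tl8, e4tl9]) e4tl2.K && fixLetters e4th_P (topK [e4tl3, e4tl4, e4tl5, e4tl6, e4tl7, e4tl8, e4tl9]) (e4tl2.Pt 0)) = true := by decide +kernel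
theorem e4t_f1 : (Nat.ble e4tl1.K 26 && Nat.ble (topK [e4tl2, e4tl3, e4tl4, e4tl5, e4tl6, e4tl7, e4tl8, e4tl9]) e4tl1.K && fixLetters e4th_P (topK [e4tl2, e4tl3, e4tl4, e4tl5, e4tl6, e4tl7, e4tl8, e4tl9]) (e4tl1.Pt 0)) = true := by decide +kernel
theorem e4t_f0 : (Nat.ble e4tl0.K 26 && Nat.ble (topK [e4tl1, e4tl2, e4tl3, e4tl4, e4tl5, e4tl6, e4tl7, e4tl8, e4tl9]) e4tl0.K && fixLetters e4th_P (topK [e4tl1, e4tl2, e4tl3, e4tl4, e4tl5, e4tl6, e4tl7, e4tl8, e4tl9]) (e4tl0.Pt 0)) = true := by decide +kernel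
theorem e4t_c : chainCard [e4tl0, e4tl1, e4tl2, e4tl3, e4tl4, e4tl5, e4tl6, e4tl7, e4tl8, e4tl9] = 239500800 := by decide +kernel
theorem e4ce_lt : allL (ltAll 25) e4ce_W = true := by decide +kernel
theorem e4tn0_0 : (Nat.ble e4tl9.K 26 && Nat.beq (ltAll 12 [e4tl8.Pt 0, e4tl7.Pt 0, e4tl6.Pt 0, e4tl5.Pt 0, e4tl4.Pt 0, e4tl3.Pt 0, e4tl2.Pt 0, e4tl1.Pt 0, e4tl0.Pt 0]) 0 && kChk e4ce_P e4x_P e4tn0.Kn 3 H16.HN3.X.B [e4tl8.Pt 0, e4tl7.Pt 0, e4tl6.Pt 0, e4tl5.Pt 0, e4tl4.Pt 0, e4tl3.Pt 0, e4tl2.Pt 0, e4tl1.Pt 0, e4tl0.Pt 0] && allL (ltAll 3) e4tn0.pre && planOK e4th_P e4x_P 3 (e4tl9.Pt 0) e4tn0.plan [e4tl9]) = true := by decide +kernel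
theorem e4tn0_1_0 : allZ (e4tn0.ent H16.HN3.X.P e4th_P e4x_P e4x_P e4ce_P (nat_lit 25) (nat_lit 3) H16.HN3.X.B e4tl9 [] (fun w => Nat.xor w (e4tl9.Pt (nat_lit 0)))) (nat_lit 0) (nat_lit 3) = true := by decide +kernel
theorem e4c_f8 : (Nat.ble e4tl8.K 26 && Nat.blt (nat_lit 0) 12 && fixLetters e4th_P e4tl8.K (nat_lit 0) && Nat.beq (ltAll 3 [nat_lit 1]) 0 && Nat.beq (apW e4x_P [nat_lit 1] (nat_lit 0)) (e4tl8.Pt 0)) = true := by decide +kernel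
theorem e4cc7_e_0 : allZ (dent e4cc7 e4ce_P (nat_lit 12)) (nat_lit 0) (nat_lit 3) = true := by decide +kernel
theorem e4cc7_h : 0 < e4cc7.n ∧ 0 < e4cc7.K ∧ e4cc7.Pt 0 < 12 ∧ e4cc7.Q (e4cc7.Pt 0) = 0 := by decide +kernel
theorem e4tn1_0 : (Nat.ble e4tl7.K 26 && Nat.beq (ltAll 12 [e4tl6.Pt 0, e4tl5.Pt 0, e4tl4.Pt 0, e4tl3.Pt 0, e4tl2.Pt 0, e4tl1.Pt 0, e4tl0.Pt 0]) 0 && kChk e4ce_P e4x_P e4tn1.Kn 3 H16.HN3.X.B [e4tl6.Pt 0, e4tl5.Pt 0, e4tl4.Pt 0, e4tl3.Pt 0, e4tl2.Pt 0, e4tl1.Pt 0, e4tl0.Pt 0] && allL (ltAll 3) e4tn1.pre && planOK e4th_P e4x_P 3 (e4tl7.Pt 0) e4tn1.plan [e4tl7, e4tl8, e4tl9]) = true := by decide +kernel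
theorem e4tn1_1_0 : allZ (e4tn1.ent H16.HN3.X.P e4th_P e4x_P e4x_P e4ce_P (nat_lit 25) (nat_lit 3) H16.HN3.X.B e4tl7 [e4tl8, e4tl9] (memO e4cc7)) (nat_lit 0) (nat_lit 5) = true := by decide +kernel
theorem e4c_f7 : (Nat.ble e4cc7.K 2 && Nat.ble (topK []) e4cc7.K && Nat.beq (e4cc7.Pt 0) (e4tl7.Pt 0) && Nat.beq (ltAll 12 [e4tl6.Pt 0, e4tl5.Pt 0, e4tl4.Pt 0, e4tl3.Pt 0, e4tl2.Pt 0, e4tl1.Pt 0, e4tl0.Pt 0]) 0 && kChk e4ce_P e4x_P e4cc7.K 3 H16.HN3.X.B [e4tl6.Pt 0, e4tl5.Pt 0, e4tl4.Pt 0, e4tl3.Pt 0, e4tl2.Pt 0, e4tl1.Pt 0, e4tl0.Pt 0]) = true := by decide +kernel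
theorem e4c_f6 : (Nat.ble e4tl6.K 26 && Nat.blt (nat_lit 6) 12 && fixLetters e4th_P e4tl6.K (nat_lit 6) && Nat.beq (ltAll 3 [nat_lit 2, nat_lit 2, nat_lit 2, nat_lit 2]) 0 && Nat.beq (apW e4x_P [nat_lit 2, nat_lit 2, nat_lit 2, nat_lit 2] (nat_lit 6)) (e4tl6.Pt 0)) = true := by decide +kernel
theorem e4c_f5 : (Nat.ble e4tl5.K 26 && Nat.blt (nat_lit 6) 12 && fixLetters e4th_P e4tl5.K (nat_lit 6) && Nat.beq (ltAll 3 [nat_lit 2, nat_lit 2, nat_lit 2]) 0 && Nat.beq (apW e4x_P [nat_lit 2, nat_lit 2, nat_lit 2] (nat_lit 6)) (e4tl5.Pt 0)) = true := by decide +kernel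
theorem e4c_f4 : (Nat.ble e4tl4.K 26 && Nat.blt (nat_lit 6) 12 && fixLetters e4th_P e4tl4.K (nat_lit 6) && Nat.beq (ltAll 3 [nat_lit 0, nat_lit 0]) 0 && Nat.beq (apW e4x_P [nat_lit 0, nat_lit 0] (nat_lit 6)) (e4tl4.Pt 0)) = true := by decide +kernel
theorem e4c_f3 : (Nat.ble e4tl3.K 26 && Nat.blt (nat_lit 6) 12 && fixLetters e4th_P e4tl3.K (nat_lit 6) && Nat.beq (ltAll 3 [nat_lit 2, nat_lit 2]) 0 && Nat.beq (apW e4x_P [nat_lit 2, nat_lit 2] (nat_lit 6)) (e4tl3.Pt 0)) = true := by decide +kernel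
theorem e4c_f2 : (Nat.ble e4tl2.K 26 && Nat.blt (nat_lit 6) 12 && fixLetters e4th_P e4tl2.K (nat_lit 6) && Nat.beq (ltAll 3 [nat_lit 0]) 0 && Nat.beq (apW e4x_P [nat_lit 0] (nat_lit 6)) (e4tl2.Pt 0)) = true := by decide +kernel
theorem e4c_f1 : (Nat.ble e4tl1.K 26 && Nat.blt (nat_lit 6) 12 && fixLetters e4th_P e4tl1.K (nat_lit 6) && Nat.beq (ltAll 3 [nat_lit 2]) 0 && Nat.beq (apW e4x_P [nat_lit 2] (nat_lit 6)) (e4tl1.Pt 0)) = true := by decide +kernel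
theorem e4tn2_0 : (Nat.ble e4tl0.K 26 && Nat.beq (ltAll 12 []) 0 && kChk e4ce_P e4x_P e4tn2.Kn 3 H16.HN3.X.B [] && allL (ltAll 3) e4tn2.pre && planOK e4th_P e4x_P 3 (e4tl0.Pt 0) e4tn2.plan [e4tl0, e4tl1, e4tl2, e4tl3, e4tl4, e4tl5, e4tl6, e4tl7, e4tl8, e4tl9]) = true := by decide +kernel
theorem e4tn2_1_0 : allZ (e4tn2.ent H16.HN3.X.P e4th_P e4x_P e4x_P e4ce_P (nat_lit 25) (nat_lit 3) H16.HN3.X.B e4tl0 [e4tl1, e4tl2, e4tl3, e4tl4, e4tl5, e4tl6, e4tl7, e4tl8, e4tl9] (fun w => Nat.xor w (e4tl0.Pt (nat_lit 0)))) (nat_lit 0) (nat_lit 12) = true := by decide +kernel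
theorem e4c_c : chainCard [e4cc7] = 4 ∧ topK [e4cc7] = 2 := by decide +kernel
theorem e4a : e4L.length = 4 ∧ H1.Am.incr κ e4L 0 = true := by decide +kernel
theorem e4b : H1.Am.allB (fun W => H1.Am.allB (fun Z => H1.Am.cjK κ W Z Z) e4x_W) e4L = true := by decide +kernel
theorem f72x_lt : allL (ltAll 25) f72x_W = true := by decide +kernel
theorem f72th_lt : allL (ltAll 25) f72th_W = true := by decide +kernel
theorem f72tl0_e_0 : allZ (dent f72tl0 f72th_P (nat_lit 12)) (nat_lit 0) (nat_lit 11) = true := by decide +kernel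
theorem f72tl0_h : 0 < f72tl0.n ∧ 0 < f72tl0.K ∧ f72tl0.Pt 0 < 12 ∧ f72tl0.Q (f72tl0.Pt 0) = 0 := by decide +kernel
theorem f72tl1_e_0 : allZ (dent f72tl1 f72th_P (nat_lit 12)) (nat_lit 0) (nat_lit 10) = true := by decide +kernel
theorem f72tl1_h : 0 < f72tl1.n ∧ 0 < f72tl1.K ∧ f72tl1.Pt 0 < 12 ∧ f72tl1.Q (f72tl1.Pt 0) = 0 := by decide +kernel
theorem f72tl2_e_0 : allZ (dent f72tl2 f72th_P (nat_lit 12)) (nat_lit 0) (nat_lit 9) = true := by decide +kernel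
theorem f72tl2_h : 0 < f72tl2.n ∧ 0 < f72tl2.K ∧ f72tl2.Pt 0 < 12 ∧ f72tl2.Q (f72tl2.Pt 0) = 0 := by decide +kernel
theorem f72tl3_e_0 : allZ (dent f72tl3 f72th_P (nat_lit 12)) (nat_lit 0) (nat_lit 8) = true := by decide +kernel
theorem f72tl3_h : 0 < f72tl3.n ∧ 0 < f72tl3.K ∧ f72tl3.Pt 0 < 12 ∧ f72tl3.Q (f72tl3.Pt 0) = 0 := by decide +kernel
theorem f72tl4_e_0 : allZ (dent f72tl4 f72th_P (nat_lit 12)) (nat_lit 0) (nat_lit 7) = true := by decide +kernel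
theorem f72tl4_h : 0 < f72tl4.n ∧ 0 < f72tl4.K ∧ f72tl4.Pt 0 < 12 ∧ f72tl4.Q (f72tl4.Pt 0) = 0 := by decide +kernel
theorem f72tl5_e_0 : allZ (dent f72tl5 f72th_P (nat_lit 12)) (nat_lit 0) (nat_lit 6) = true := by decide +kernel
theorem f72tl5_h : 0 < f72tl5.n ∧ 0 < f72tl5.K ∧ f72tl5.Pt 0 < 12 ∧ f72tl5.Q (f72tl5.Pt 0) = 0 := by decide +kernel
theorem f72tl6_e_0 : allZ (dent f72tl6 f72th_P (nat_lit 12)) (nat_lit 0) (nat_lit 5) = true := by decide +kernel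
theorem f72tl6_h : 0 < f72tl6.n ∧ 0 < f72tl6.K ∧ f72tl6.Pt 0 < 12 ∧ f72tl6.Q (f72tl6.Pt 0) = 0 := by decide +kernel
theorem f72tl7_e_0 : allZ (dent f72tl7 f72th_P (nat_lit 12)) (nat_lit 0) (nat_lit 4) = true := by decide +kernel
theorem f72tl7_h : 0 < f72tl7.n ∧ 0 < f72tl7.K ∧ f72tl7.Pt 0 < 12 ∧ f72tl7.Q (f72tl7.Pt 0) = 0 := by decide +kernel
theorem f72tl8_e_0 : allZ (dent f72tl8 f72th_P (nat_lit 12)) (nat_lit 0) (nat_lit 3) = true := by decide +kernel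
theorem f72tl8_h : 0 < f72tl8.n ∧ 0 < f72tl8.K ∧ f72tl8.Pt 0 < 12 ∧ f72tl8.Q (f72tl8.Pt 0) = 0 := by decide +kernel
theorem f72tl9_e_0 : allZ (dent f72tl9 f72th_P (nat_lit 12)) (nat_lit 0) (nat_lit 2) = true := by decide +kernel
theorem f72tl9_h : 0 < f72tl9.n ∧ 0 < f72tl9.K ∧ f72tl9.Pt 0 < 12 ∧ f72tl9.Q (f72tl9.Pt 0) = 0 := by decide +kernel
theorem f72t_f9 : (Nat.ble f72tl9.K 28 && Nat.ble (topK []) f72tl9.K && fixLetters f72th_P (topK []) (f72tl9.Pt 0)) = true := by decide +kernel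
theorem f72t_f8 : (Nat.ble f72tl8.K 28 && Nat.ble (topK [f72tl9]) f72tl8.K && fixLetters f72th_P (topK [f72tl9]) (f72tl8.Pt 0)) = true := by decide +kernel
theorem f72t_f7 : (Nat.ble f72tl7.K 28 && Nat.ble (topK [f72tl8, f72tl9]) f72tl7.K && fixLetters f72th_P (topK [f72tl8, f72tl9]) (f72tl7.Pt 0)) = true := by decide +kernel
theorem f72t_f6 : (Nat.ble f72tl6.K 28 && Nat.ble (topK [f72tl7, f72tl8, f72tl9]) f72tl6.K && fixLetters f72th_P (topK [f72tl7, f72tl8, f72tl9]) (f72tl6.Pt 0)) = true := by decide +kernel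
theorem f72t_f5 : (Nat.ble f72tl5.K 28 && Nat.ble (topK [f72tl6, f72tl7, f72tl8, f72tl9]) f72tl5.K && fixLetters f72th_P (topK [f72tl6, f72tl7, f72tl8, f72tl9]) (f72tl5.Pt 0)) = true := by decide +kernel
theorem f72t_f4 : (Nat.ble f72tl4.K 28 && Nat.ble (topK [f72tl5, f72tl6, f72tl7, f72tl8, f72tl9]) f72tl4.K && fixLetters f72th_P (topK [f72tl5, f72tl6, f72tl7, f72tl8, f72tl9]) (f72tl4.Pt 0)) = true := by decide +kernel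
theorem f72t_f3 : (Nat.ble f72tl3.K 28 && Nat.ble (topK [f72tl4, f72tl5, f72tl6, f72tl7, f72tl8, f72tl9]) f72tl3.K && fixLetters f72th_P (topK [f72tl4, f72tl5, f72tl6, f72tl7, f72tl8, f72tl9]) (f72tl3.Pt 0)) = true := by decide +kernel
theorem f72t_f2 : (Nat.ble f72tl2.K 28 && Nat.ble (topK [f72tl3, f72tl4, f72tl5, f72tl6, f72tl7, f72tl8, f72tl9]) f72tl2.K && fixLetters f72th_P (topK [f72tl3, f72tl4, f72tl5, f72tl6, f72tl7, f72tl8, f72tl9]) (f72tl2.Pt 0)) = true := by decide +kernel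
theorem f72t_f1 : (Nat.ble f72tl1.K 28 && Nat.ble (topK [f72tl2, f72tl3, f72tl4, f72tl5, f72tl6, f72tl7, f72tl8, f72tl9]) f72tl1.K && fixLetters f72th_P (topK [f72tl2, f72tl3, f72tl4, f72tl5, f72tl6, f72tl7, f72tl8, f72tl9]) (f72tl1.Pt 0)) = true := by decide +kernel
theorem f72t_f0 : (Nat.ble f72tl0.K 28 && Nat.ble (topK [f72tl1, f72tl2, f72tl3, f72tl4, f72tl5, f72tl6, f72tl7, f72tl8, f72tl9]) f72tl0.K && fixLetters f72th_P (topK [f72tl1, f72tl2, f72tl3, f72tl4, f72tl5, f72tl6, f72tl7, f72tl8, f72tl9]) (f72tl0.Pt 0)) = true := by decide +kernel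
theorem f72t_c : chainCard [f72tl0, f72tl1, f72tl2, f72tl3, f72tl4, f72tl5, f72tl6, f72tl7, f72tl8, f72tl9] = 239500800 := by decide +kernel
theorem f72ce_lt : allL (ltAll 25) f72ce_W = true := by decide +kernel
theorem f72c_f9 : (Nat.ble f72tl9.K 28 && Nat.blt (nat_lit 7) 12 && fixLetters f72th_P f72tl9.K (nat_lit 7) && Nat.beq (ltAll 3 [nat_lit 2]) 0 && Nat.beq (apW f72x_P [nat_lit 2] (nat_lit 7)) (f72tl9.Pt 0)) = true := by decide +kernel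
theorem f72cc8_e_0 : allZ (dent f72cc8 f72ce_P (nat_lit 12)) (nat_lit 0) (nat_lit 1) = true := by decide +kernel
theorem f72cc8_h : 0 < f72cc8.n ∧ 0 < f72cc8.K ∧ f72cc8.Pt 0 < 12 ∧ f72cc8.Q (f72cc8.Pt 0) = 0 := by decide +kernel
theorem f72tn0_0 : (Nat.ble f72tl8.K 28 && Nat.beq (ltAll 12 [f72tl7.Pt 0, f72tl6.Pt 0, f72tl5.Pt 0, f72tl4.Pt 0, f72tl3.Pt 0, f72tl2.Pt 0, f72tl1.Pt 0, f72tl0.Pt 0]) 0 && kChk f72ce_P f72x_P f72tn0.Kn 3 H16.HN3.X.B [f72tl7.Pt 0, f72tl6.Pt 0, f72tl5.Pt 0, f72tl4.Pt 0, f72tl3.Pt 0, f72tl2.Pt 0, f72tl1.Pt 0, f72tl0.Pt 0] && allL (ltAll 3) f72tn0.pre && planOK f72th_P f72x_P 3 (f72tl8.Pt 0) f72tn0.plan [f72tl8, f72tl9]) = true := by decide +kernel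
theorem f72tn0_1_0 : allZ (f72tn0.ent H16.HN3.X.P f72th_P f72x_P f72x_P f72ce_P (nat_lit 25) (nat_lit 3) H16.HN3.X.B f72tl8 [f72tl9] (memO f72cc8)) (nat_lit 0) (nat_lit 4) = true := by decide +kernel
theorem f72c_f8 : (Nat.ble f72cc8.K 5 && Nat.ble (topK []) f72cc8.K && Nat.beq (f72cc8.Pt 0) (f72tl8.Pt 0) && Nat.beq (ltAll 12 [f72tl7.Pt 0, f72tl6.Pt 0, f72tl5.Pt 0, f72tl4.Pt 0, f72tl3.Pt 0, f72tl2.Pt 0, f72tl1.Pt 0, f72tl0.Pt 0]) 0 && kChk f72ce_P f72x_P f72cc8.K 3 H16.HN3.X.B [f72tl7.Pt 0, f72tl6.Pt 0, f72tl5.Pt 0, f72tl4.Pt 0, f72tl3.Pt 0, f72tl2.Pt 0, f72tl1.Pt 0, f72tl0.Pt 0]) = true := by decide +kernel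
theorem f72c_f7 : (Nat.ble f72tl7.K 28 && Nat.blt (nat_lit 4) 12 && fixLetters f72th_P f72tl7.K (nat_lit 4) && Nat.beq (ltAll 3 [nat_lit 2]) 0 && Nat.beq (apW f72x_P [nat_lit 2] (nat_lit 4)) (f72tl7.Pt 0)) = true := by decide +kernel
theorem f72cc6_e_0 : allZ (dent f72cc6 f72ce_P (nat_lit 12)) (nat_lit 0) (nat_lit 3) = true := by decide +kernel
theorem f72cc6_h : 0 < f72cc6.n ∧ 0 < f72cc6.K ∧ f72cc6.Pt 0 < 12 ∧ f72cc6.Q (f72cc6.Pt 0) = 0 := by decide +kernel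
theorem f72tn1_0 : (Nat.ble f72tl6.K 28 && Nat.beq (ltAll 12 [f72tl5.Pt 0, f72tl4.Pt 0, f72tl3.Pt 0, f72tl2.Pt 0, f72tl1.Pt 0, f72tl0.Pt 0]) 0 && kChk f72ce_P f72x_P f72tn1.Kn 3 H16.HN3.X.B [f72tl5.Pt 0, f72tl4.Pt 0, f72tl3.Pt 0, f72tl2.Pt 0, f72tl1.Pt 0, f72tl0.Pt 0] && allL (ltAll 3) f72tn1.pre && planOK f72th_P f72x_P 3 (f72tl6.Pt 0) f72tn1.plan [f72tl6, f72tl7, f72tl8, f72tl9]) = true := by decide +kernel
theorem f72tn1_1_0 : allZ (f72tn1.ent H16.HN3.X.P f72th_P f72x_P f72x_P f72ce_P (nat_lit 25) (nat_lit 3) H16.HN3.X.B f72tl6 [f72tl7, f72tl8, f72tl9] (memO f72cc6)) (nat_lit 0) (nat_lit 6) = true := by decide +kernel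
theorem f72c_f6 : (Nat.ble f72cc6.K 5 && Nat.ble (topK [f72cc8]) f72cc6.K && Nat.beq (f72cc6.Pt 0) (f72tl6.Pt 0) && Nat.beq (ltAll 12 [f72tl5.Pt 0, f72tl4.Pt 0, f72tl3.Pt 0, f72tl2.Pt 0, f72tl1.Pt 0, f72tl0.Pt 0]) 0 && kChk f72ce_P f72x_P f72cc6.K 3 H16.HN3.X.B [f72tl5.Pt 0, f72tl4.Pt 0, f72tl3.Pt 0, f72tl2.Pt 0, f72tl1.Pt 0, f72tl0.Pt 0]) = true := by decide +kernel
theorem f72c_f5 : (Nat.ble f72tl5.K 28 && Nat.blt (nat_lit 9) 12 && fixLetters f72th_P f72tl5.K (nat_lit 9) && Nat.beq (ltAll 3 [nat_lit 1, nat_lit 1]) 0 && Nat.beq (apW f72x_P [nat_lit 1, nat_lit 1] (nat_lit 9)) (f72tl5.Pt 0)) = true := by decide +kernel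
theorem f72c_f4 : (Nat.ble f72tl4.K 28 && Nat.blt (nat_lit 9) 12 && fixLetters f72th_P f72tl4.K (nat_lit 9) && Nat.beq (ltAll 3 [nat_lit 1]) 0 && Nat.beq (apW f72x_P [nat_lit 1] (nat_lit 9)) (f72tl4.Pt 0)) = true := by decide +kernel
theorem f72cc3_e_0 : allZ (dent f72cc3 f72ce_P (nat_lit 12)) (nat_lit 0) (nat_lit 2) = true := by decide +kernel
theorem f72cc3_h : 0 < f72cc3.n ∧ 0 < f72cc3.K ∧ f72cc3.Pt 0 < 12 ∧ f72cc3.Q (f72cc3.Pt 0) = 0 := by decide +kernel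
theorem f72tn2_0 : (Nat.ble f72tl3.K 28 && Nat.beq (ltAll 12 [f72tl2.Pt 0, f72tl1.Pt 0, f72tl0.Pt 0]) 0 && kChk f72ce_P f72x_P f72tn2.Kn 3 H16.HN3.X.B [f72tl2.Pt 0, f72tl1.Pt 0, f72tl0.Pt 0] && allL (ltAll 3) f72tn2.pre && planOK f72th_P f72x_P 3 (f72tl3.Pt 0) f72tn2.plan [f72tl3, f72tl4, f72tl5, f72tl6, f72tl7, f72tl8, f72tl9]) = true := by decide +kernel
theorem f72tn2_1_0 : allZ (f72tn2.ent H16.HN3.X.P f72th_P f72x_P f72x_P f72ce_P (nat_lit 25) (nat_lit 3) H16.HN3.X.B f72tl3 [f72tl4, f72tl5, f72tl6, f72tl7, f72tl8, f72tl9] (memO f72cc3)) (nat_lit 0) (nat_lit 9) = true := by decide +kernel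
theorem f72c_f3 : (Nat.ble f72cc3.K 5 && Nat.ble (topK [f72cc6, f72cc8]) f72cc3.K && Nat.beq (f72cc3.Pt 0) (f72tl3.Pt 0) && Nat.beq (ltAll 12 [f72tl2.Pt 0, f72tl1.Pt 0, f72tl0.Pt 0]) 0 && kChk f72ce_P f72x_P f72cc3.K 3 H16.HN3.X.B [f72tl2.Pt 0, f72tl1.Pt 0, f72tl0.Pt 0]) = true := by decide +kernel
theorem f72c_f2 : (Nat.ble f72tl2.K 28 && Nat.blt (nat_lit 0) 12 && fixLetters f72th_P f72tl2.K (nat_lit 0) && Nat.beq (ltAll 3 [nat_lit 0, nat_lit 0]) 0 && Nat.beq (apW f72x_P [nat_lit 0, nat_lit 0] (nat_lit 0)) (f72tl2.Pt 0)) = true := by decide +kernel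
theorem f72c_f1 : (Nat.ble f72tl1.K 28 && Nat.blt (nat_lit 0) 12 && fixLetters f72th_P f72tl1.K (nat_lit 0) && Nat.beq (ltAll 3 [nat_lit 0]) 0 && Nat.beq (apW f72x_P [nat_lit 0] (nat_lit 0)) (f72tl1.Pt 0)) = true := by decide +kernel
theorem f72cc0_e_0 : allZ (dent f72cc0 f72ce_P (nat_lit 12)) (nat_lit 0) (nat_lit 2) = true := by decide +kernel
theorem f72cc0_h : 0 < f72cc0.n ∧ 0 < f72cc0.K ∧ f72cc0.Pt 0 < 12 ∧ f72cc0.Q (f72cc0.Pt 0) = 0 := by decide +kernel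
theorem f72tn3_0 : (Nat.ble f72tl0.K 28 && Nat.beq (ltAll 12 []) 0 && kChk f72ce_P f72x_P f72tn3.Kn 3 H16.HN3.X.B [] && allL (ltAll 3) f72tn3.pre && planOK f72th_P f72x_P 3 (f72tl0.Pt 0) f72tn3.plan [f72tl0, f72tl1, f72tl2, f72tl3, f72tl4, f72tl5, f72tl6, f72tl7, f72tl8, f72tl9]) = true := by decide +kernel
theorem f72tn3_1_0 : allZ (f72tn3.ent H16.HN3.X.P f72th_P f72x_P f72x_P f72ce_P (nat_lit 25) (nat_lit 3) H16.HN3.X.B f72tl0 [f72tl1, f72tl2, f72tl3, f72tl4, f72tl5, f72tl6, f72tl7, f72tl8, f72tl9] (memO f72cc0)) (nat_lit 0) (nat_lit 12) = true := by decide +kernel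
theorem f72c_f0 : (Nat.ble f72cc0.K 5 && Nat.ble (topK [f72cc3, f72cc6, f72cc8]) f72cc0.K && Nat.beq (f72cc0.Pt 0) (f72tl0.Pt 0) && Nat.beq (ltAll 12 []) 0 && kChk f72ce_P f72x_P f72cc0.K 3 H16.HN3.X.B []) = true := by decide +kernel
theorem f72c_c : chainCard [f72cc0, f72cc3, f72cc6, f72cc8] = 72 ∧ topK [f72cc0, f72cc3, f72cc6, f72cc8] = 5 := by decide +kernel
theorem f72a : f72L.length = 72 ∧ H1.Am.incr κ f72L 0 = true := by decide +kernel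
theorem f72b : H1.Am.allB (fun W => H1.Am.allB (fun Z => H1.Am.cjK κ W Z Z) f72x_W) f72L = true := by decide +kernel

theorem e72x_act {G Ω : Type*} [Group G] [MulAction G Ω] {g : ℕ → G} {pt : ℕ → Ω}
    (M : Md g pt H16.HN3.X.P 12 25 H16.HN3.X.B 239500800) : Act (wds g e72x_W) pt e72x_P 12 3 :=
  M.wact e72x_lt
theorem e72th_act {G Ω : Type*} [Group G] [MulAction G Ω] {g : ℕ → G} {pt : ℕ → Ω}
    (M : Md g pt H16.HN3.X.P 12 25 H16.HN3.X.B 239500800) : Act (wds g e72th_W) pt e72th_P 12 26 :=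
  M.wact e72th_lt
theorem e72tl0_e : ∀ i < 11, (dent e72tl0 e72th_P (nat_lit 12)) i = 0 := allZ_sound0 e72tl0_e_0
theorem e72tl0_ok : DOK e72tl0 e72th_P 12 := ⟨e72tl0_h, e72tl0_e⟩
theorem e72tl1_e : ∀ i < 10, (dent e72tl1 e72th_P (nat_lit 12)) i = 0 := allZ_sound0 e72tl1_e_0
theorem e72tl1_ok : DOK e72tl1 e72th_P 12 := ⟨e72tl1_h, e72tl1_e⟩
theorem e72tl2_e : ∀ i < 9, (dent e72tl2 e72th_P (nat_lit 12)) i = 0 := allZ_sound0 e72tl2_e_0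
theorem e72tl2_ok : DOK e72tl2 e72th_P 12 := ⟨e72tl2_h, e72tl2_e⟩
theorem e72tl3_e : ∀ i < 8, (dent e72tl3 e72th_P (nat_lit 12)) i = 0 := allZ_sound0 e72tl3_e_0
theorem e72tl3_ok : DOK e72tl3 e72th_P 12 := ⟨e72tl3_h, e72tl3_e⟩
theorem e72tl4_e : ∀ i < 7, (dent e72tl4 e72th_P (nat_lit 12)) i = 0 := allZ_sound0 e72tl4_e_0
theorem e72tl4_ok : DOK e72tl4 e72th_P 12 := ⟨e72tl4_h, e72tl4_e⟩
theorem e72tl5_e : ∀ i < 6, (dent e72tl5 e72th_P (nat_lit 12)) i = 0 := allZ_sound0 e72tl5_e_0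
theorem e72tl5_ok : DOK e72tl5 e72th_P 12 := ⟨e72tl5_h, e72tl5_e⟩
theorem e72tl6_e : ∀ i < 5, (dent e72tl6 e72th_P (nat_lit 12)) i = 0 := allZ_sound0 e72tl6_e_0
theorem e72tl6_ok : DOK e72tl6 e72th_P 12 := ⟨e72tl6_h, e72tl6_e⟩
theorem e72tl7_e : ∀ i < 4, (dent e72tl7 e72th_P (nat_lit 12)) i = 0 := allZ_sound0 e72tl7_e_0
theorem e72tl7_ok : DOK e72tl7 e72th_P 12 := ⟨e72tl7_h, e72tl7_e⟩
theorem e72tl8_e : ∀ i < 3, (dent e72tl8 e72th_P (nat_lit 12)) i = 0 := allZ_sound0 e72tl8_e_0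
theorem e72tl8_ok : DOK e72tl8 e72th_P 12 := ⟨e72tl8_h, e72tl8_e⟩
theorem e72tl9_e : ∀ i < 2, (dent e72tl9 e72th_P (nat_lit 12)) i = 0 := allZ_sound0 e72tl9_e_0
theorem e72tl9_ok : DOK e72tl9 e72th_P 12 := ⟨e72tl9_h, e72tl9_e⟩
theorem e72t_low {G Ω : Type*} [Group G] [MulAction G Ω] {g : ℕ → G} {pt : ℕ → Ω}
    (M : Md g pt H16.HN3.X.P 12 25 H16.HN3.X.B 239500800) : SLow (gi (wds g e72th_W)) pt 12 [e72tl0, e72tl1, e72tl2, e72tl3, e72tl4, e72tl5, e72tl6, e72tl7, e72tl8, e72tl9] :=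
  ((((((((((SLow.nil).cons e72tl9_ok (e72th_act M) e72t_f9).cons e72tl8_ok (e72th_act M) e72t_f8).cons e72tl7_ok (e72th_act M) e72t_f7).cons e72tl6_ok (e72th_act M) e72t_f6).cons e72tl5_ok (e72th_act M) e72t_f5).cons e72tl4_ok (e72th_act M) e72t_f4).cons e72tl3_ok (e72th_act M) e72t_f3).cons e72tl2_ok (e72th_act M) e72t_f2).cons e72tl1_ok (e72th_act M) e72t_f1).cons e72tl0_ok (e72th_act M) e72t_f0
theorem e72t_S0 {G Ω : Type*} [Group G] [MulAction G Ω] {g : ℕ → G} {pt : ℕ → Ω}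
    (M : Md g pt H16.HN3.X.P 12 25 H16.HN3.X.B 239500800) : Stage ⊤ (wds g e72th_W) pt 12 [e72tl0, e72tl1, e72tl2, e72tl3, e72tl4, e72tl5, e72tl6, e72tl7, e72tl8, e72tl9] [] :=
  M.stage (e72t_low M) e72t_c
theorem e72t_S1 {G Ω : Type*} [Group G] [MulAction G Ω] {g : ℕ → G} {pt : ℕ → Ω}
    (M : Md g pt H16.HN3.X.P 12 25 H16.HN3.X.B 239500800) : Stage ⊤ (wds g e72th_W) pt 12 [e72tl1, e72tl2, e72tl3, e72tl4, e72tl5, e72tl6, e72tl7, e72tl8, e72tl9] [e72tl0.Pt 0] :=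
  (e72t_S0 M).next
theorem e72t_S2 {G Ω : Type*} [Group G] [MulAction G Ω] {g : ℕ → G} {pt : ℕ → Ω}
    (M : Md g pt H16.HN3.X.P 12 25 H16.HN3.X.B 239500800) : Stage ⊤ (wds g e72th_W) pt 12 [e72tl2, e72tl3, e72tl4, e72tl5, e72tl6, e72tl7, e72tl8, e72tl9] [e72tl1.Pt 0, e72tl0.Pt 0] :=
  (e72t_S1 M).next
theorem e72t_S3 {G Ω : Type*} [Group G] [MulAction G Ω] {g : ℕ → G} {pt : ℕ → Ω}
    (M : Md g pt H16.HN3.X.P 12 25 H16.HN3.X.B 239500800) : Stage ⊤ (wds g e72th_W) pt 12 [e72tl3, e72tl4, e72tl5, e72tl6, e72tl7, e72tl8, e72tl9] [e72tl2.Pt 0, e72tl1.Pt 0, e72tl0.Pt 0] :=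
  (e72t_S2 M).next
theorem e72t_S4 {G Ω : Type*} [Group G] [MulAction G Ω] {g : ℕ → G} {pt : ℕ → Ω}
    (M : Md g pt H16.HN3.X.P 12 25 H16.HN3.X.B 239500800) : Stage ⊤ (wds g e72th_W) pt 12 [e72tl4, e72tl5, e72tl6, e72tl7, e72tl8, e72tl9] [e72tl3.Pt 0, e72tl2.Pt 0, e72tl1.Pt 0, e72tl0.Pt 0] :=
  (e72t_S3 M).next
theorem e72t_S5 {G Ω : Type*} [Group G] [MulAction G Ω] {g : ℕ → G} {pt : ℕ → Ω}
    (M : Md g pt H16.HN3.X.P 12 25 H16.HN3.X.B 239500800) : Stage ⊤ (wds g e72th_W) pt 12 [e72tl5, e72tl6, e72tl7, e72tl8, e72tl9] [e72tl4.Pt 0, e72tl3.Pt 0, e72tl2.Pt 0, e72tl1.Pt 0, e72tl0.Pt 0] :=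
  (e72t_S4 M).next
theorem e72t_S6 {G Ω : Type*} [Group G] [MulAction G Ω] {g : ℕ → G} {pt : ℕ → Ω}
    (M : Md g pt H16.HN3.X.P 12 25 H16.HN3.X.B 239500800) : Stage ⊤ (wds g e72th_W) pt 12 [e72tl6, e72tl7, e72tl8, e72tl9] [e72tl5.Pt 0, e72tl4.Pt 0, e72tl3.Pt 0, e72tl2.Pt 0, e72tl1.Pt 0, e72tl0.Pt 0] :=
  (e72t_S5 M).next
theorem e72t_S7 {G Ω : Type*} [Group G] [MulAction G Ω] {g : ℕ → G} {pt : ℕ → Ω}
    (M : Md g pt H16.HN3.X.P 12 25 H16.HN3.X.B 239500800) : Stage ⊤ (wds g e72th_W) pt 12 [e72tl7, e72tl8, e72tl9] [e72tl6.Pt 0, e72tl5.Pt 0, e72tl4.Pt 0, e72tl3.Pt 0, e72tl2.Pt 0, e72tl1.Pt 0, e72tl0.Pt 0] :=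
  (e72t_S6 M).next
theorem e72t_S8 {G Ω : Type*} [Group G] [MulAction G Ω] {g : ℕ → G} {pt : ℕ → Ω}
    (M : Md g pt H16.HN3.X.P 12 25 H16.HN3.X.B 239500800) : Stage ⊤ (wds g e72th_W) pt 12 [e72tl8, e72tl9] [e72tl7.Pt 0, e72tl6.Pt 0, e72tl5.Pt 0, e72tl4.Pt 0, e72tl3.Pt 0, e72tl2.Pt 0, e72tl1.Pt 0, e72tl0.Pt 0] :=
  (e72t_S7 M).next
theorem e72t_S9 {G Ω : Type*} [Group G] [MulAction G Ω] {g : ℕ → G} {pt : ℕ → Ω}
    (M : Md g pt H16.HN3.X.P 12 25 H16.HN3.X.B 239500800) : Stage ⊤ (wds g e72th_W) pt 12 [e72tl9] [e72tl8.Pt 0, e72tl7.Pt 0, e72tl6.Pt 0, e72tl5.Pt 0, e72tl4.Pt 0, e72tl3.Pt 0, e72tl2.Pt 0, e72tl1.Pt 0, e72tl0.Pt 0] :=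
  (e72t_S8 M).next
theorem e72t_S10 {G Ω : Type*} [Group G] [MulAction G Ω] {g : ℕ → G} {pt : ℕ → Ω}
    (M : Md g pt H16.HN3.X.P 12 25 H16.HN3.X.B 239500800) : Stage ⊤ (wds g e72th_W) pt 12 [] [e72tl9.Pt 0, e72tl8.Pt 0, e72tl7.Pt 0, e72tl6.Pt 0, e72tl5.Pt 0, e72tl4.Pt 0, e72tl3.Pt 0, e72tl2.Pt 0, e72tl1.Pt 0, e72tl0.Pt 0] :=
  (e72t_S9 M).next
theorem e72ce_act {G Ω : Type*} [Group G] [MulAction G Ω] {g : ℕ → G} {pt : ℕ → Ω}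
    (M : Md g pt H16.HN3.X.P 12 25 H16.HN3.X.B 239500800) : Act (wds g e72ce_W) pt e72ce_P 12 4 :=
  M.wact e72ce_lt
theorem e72cc8_e : ∀ i < 1, (dent e72cc8 e72ce_P (nat_lit 12)) i = 0 := allZ_sound0 e72cc8_e_0
theorem e72cc8_ok : DOK e72cc8 e72ce_P 12 := ⟨e72cc8_h, e72cc8_e⟩
theorem e72tn0_1 : ∀ i < 4, (e72tn0.ent H16.HN3.X.P e72th_P e72x_P e72x_P e72ce_P (nat_lit 25) (nat_lit 3) H16.HN3.X.B e72tl8 [e72tl9] (memO e72cc8)) i = 0 := allZ_sound0 e72tn0_1_0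
theorem e72tn0_t {G Ω : Type*} [Group G] [MulAction G Ω] {g : ℕ → G} {pt : ℕ → Ω}
    (M : Md g pt H16.HN3.X.P 12 25 H16.HN3.X.B 239500800) : TrO (gen (wds g e72th_W) e72tl8.K) (wds g e72x_W) (wds g e72x_W) 3 pt 12 (e72tl8.Pt 0) (memO e72cc8) :=
  node M (e72t_S8 M) (e72th_act M) (e72x_act M) (e72x_act M) e72tn0 ((e72ce_act M).mono (by decide)) (fun _ _ => trivial) e72tn0_0 e72tn0_1 (List.forall_mem_nil _)
theorem e72cc6_e : ∀ i < 3, (dent e72cc6 e72ce_P (nat_lit 12)) i = 0 := allZ_sound0 e72cc6_e_0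
theorem e72cc6_ok : DOK e72cc6 e72ce_P 12 := ⟨e72cc6_h, e72cc6_e⟩
theorem e72tn1_1 : ∀ i < 6, (e72tn1.ent H16.HN3.X.P e72th_P e72x_P e72x_P e72ce_P (nat_lit 25) (nat_lit 3) H16.HN3.X.B e72tl6 [e72tl7, e72tl8, e72tl9] (memO e72cc6)) i = 0 := allZ_sound0 e72tn1_1_0
theorem e72tn1_t {G Ω : Type*} [Group G] [MulAction G Ω] {g : ℕ → G} {pt : ℕ → Ω}
    (M : Md g pt H16.HN3.X.P 12 25 H16.HN3.X.B 239500800) : TrO (gen (wds g e72th_W) e72tl6.K) (wds g e72x_W) (wds g e72x_W) 3 pt 12 (e72tl6.Pt 0) (memO e72cc6) :=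
  node M (e72t_S6 M) (e72th_act M) (e72x_act M) (e72x_act M) e72tn1 ((e72ce_act M).mono (by decide)) (fun _ _ => trivial) e72tn1_0 e72tn1_1 (List.forall_mem_nil _)
theorem e72cc3_e : ∀ i < 2, (dent e72cc3 e72ce_P (nat_lit 12)) i = 0 := allZ_sound0 e72cc3_e_0
theorem e72cc3_ok : DOK e72cc3 e72ce_P 12 := ⟨e72cc3_h, e72cc3_e⟩
theorem e72tn2_1 : ∀ i < 9, (e72tn2.ent H16.HN3.X.P e72th_P e72x_P e72x_P e72ce_P (nat_lit 25) (nat_lit 3) H16.HN3.X.B e72tl3 [e72tl4, e72tl5, e72tl6, e72tl7, e72tl8, e72tl9] (memO e72cc3)) i = 0 := allZ_sound0 e72tn2_1_0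
theorem e72tn2_t {G Ω : Type*} [Group G] [MulAction G Ω] {g : ℕ → G} {pt : ℕ → Ω}
    (M : Md g pt H16.HN3.X.P 12 25 H16.HN3.X.B 239500800) : TrO (gen (wds g e72th_W) e72tl3.K) (wds g e72x_W) (wds g e72x_W) 3 pt 12 (e72tl3.Pt 0) (memO e72cc3) :=
  node M (e72t_S3 M) (e72th_act M) (e72x_act M) (e72x_act M) e72tn2 ((e72ce_act M).mono (by decide)) (fun _ _ => trivial) e72tn2_0 e72tn2_1 (List.forall_mem_nil _)
theorem e72cc0_e : ∀ i < 2, (dent e72cc0 e72ce_P (nat_lit 12)) i = 0 := allZ_sound0 e72cc0_e_0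
theorem e72cc0_ok : DOK e72cc0 e72ce_P 12 := ⟨e72cc0_h, e72cc0_e⟩
theorem e72tn3_1 : ∀ i < 12, (e72tn3.ent H16.HN3.X.P e72th_P e72x_P e72x_P e72ce_P (nat_lit 25) (nat_lit 3) H16.HN3.X.B e72tl0 [e72tl1, e72tl2, e72tl3, e72tl4, e72tl5, e72tl6, e72tl7, e72tl8, e72tl9] (memO e72cc0)) i = 0 := allZ_sound0 e72tn3_1_0
theorem e72tn3_t {G Ω : Type*} [Group G] [MulAction G Ω] {g : ℕ → G} {pt : ℕ → Ω}
    (M : Md g pt H16.HN3.X.P 12 25 H16.HN3.X.B 239500800) : TrO (gen (wds g e72th_W) e72tl0.K) (wds g e72x_W) (wds g e72x_W) 3 pt 12 (e72tl0.Pt 0) (memO e72cc0) :=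
  node M (e72t_S0 M) (e72th_act M) (e72x_act M) (e72x_act M) e72tn3 ((e72ce_act M).mono (by decide)) (fun _ _ => trivial) e72tn3_0 e72tn3_1 (List.forall_mem_nil _)
theorem e72c {G Ω : Type*} [Group G] [MulAction G Ω] {g : ℕ → G} {pt : ℕ → Ω}
    (M : Md g pt H16.HN3.X.P 12 25 H16.HN3.X.B 239500800) : Cen ⊤ (wds g e72x_W) 3 (wds g e72ce_W) pt 12 [e72cc0, e72cc3, e72cc6, e72cc8] :=
  (e72t_S0 M).top ▸ Cen.lev M (e72t_S0 M) (Cen.triv (e72t_S1 M) (Cen.triv (e72t_S2 M) (Cen.lev M (e72t_S3 M) (Cen.triv (e72t_S4 M) (Cen.triv (e72t_S5 M) (Cen.lev M (e72t_S6 M) (Cen.triv (e72t_S7 M) (Cen.lev M (e72t_S8 M) (Cen.triv (e72t_S9 M) (Cen.bot) (forced (e72t_S9 M) (e72th_act M) (e72x_act M) _ _ e72c_f9)) (e72tn0_t M) (e72x_act M) (e72ce_act M) (fun _ _ => trivial) e72cc8_ok e72c_f8) (forced (e72t_S7 M) (e72th_act M) (e72x_act M) _ _ e72c_f7)) (e72tn1_t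 M) (e72x_act M) (e72ce_act M) (fun _ _ => trivial) e72cc6_ok e72c_f6) (forced (e72t_S5 M) (e72th_act M) (e72x_act M) _ _ e72c_f5)) (forced (e72t_S4 M) (e72th_act M) (e72x_act M) _ _ e72c_f4)) (e72tn2_t M) (e72x_act M) (e72ce_act M) (fun _ _ => trivial) e72cc3_ok e72c_f3) (forced (e72t_S2 M) (e72th_act M) (e72x_act M) _ _ e72c_f2)) (forced (e72t_S1 M) (e72th_act M) (e72x_act M) _ _ e72c_f1)) (e72tn3_t M) (e72x_act M) (e72ce_act M) (fun _ _ => trivial) e72cc0_ok e72c_f0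
theorem e72c_eq {G Ω : Type*} [Group G] [MulAction G Ω] {g : ℕ → G} {pt : ℕ → Ω}
    (M : Md g pt H16.HN3.X.P 12 25 H16.HN3.X.B 239500800) : Subgroup.centralizer (gen (wds g e72x_W) 3) = gen (wds g e72ce_W) 4 ∧ Nat.card (gen (wds g e72ce_W) 4) = 72 :=
  e72c_c.1 ▸ e72c_c.2 ▸ ⟨(e72c M).cent, (e72c M).card M.inj⟩
theorem e81x_act {G Ω : Type*} [Group G] [MulAction G Ω] {g : ℕ → G} {pt : ℕ → Ω}
    (M : Md g pt H16.HN3.X.P 12 25 H16.HN3.X.B 239500800) : Act (wds g e81x_W) pt e81x_P 12 4 :=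
  M.wact e81x_lt
theorem e81th_act {G Ω : Type*} [Group G] [MulAction G Ω] {g : ℕ → G} {pt : ℕ → Ω}
    (M : Md g pt H16.HN3.X.P 12 25 H16.HN3.X.B 239500800) : Act (wds g e81th_W) pt e81th_P 12 28 :=
  M.wact e81th_lt
theorem e81tl0_e : ∀ i < 11, (dent e81tl0 e81th_P (nat_lit 12)) i = 0 := allZ_sound0 e81tl0_e_0
theorem e81tl0_ok : DOK e81tl0 e81th_P 12 := ⟨e81tl0_h, e81tl0_e⟩
theorem e81tl1_e : ∀ i < 10, (dent e81tl1 e81th_P (nat_lit 12)) i = 0 := allZ_sound0 e81tl1_e_0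
theorem e81tl1_ok : DOK e81tl1 e81th_P 12 := ⟨e81tl1_h, e81tl1_e⟩
theorem e81tl2_e : ∀ i < 9, (dent e81tl2 e81th_P (nat_lit 12)) i = 0 := allZ_sound0 e81tl2_e_0
theorem e81tl2_ok : DOK e81tl2 e81th_P 12 := ⟨e81tl2_h, e81tl2_e⟩
theorem e81tl3_e : ∀ i < 8, (dent e81tl3 e81th_P (nat_lit 12)) i = 0 := allZ_sound0 e81tl3_e_0
theorem e81tl3_ok : DOK e81tl3 e81th_P 12 := ⟨e81tl3_h, e81tl3_e⟩
theorem e81tl4_e : ∀ i < 7, (dent e81tl4 e81th_P (nat_lit 12)) i = 0 := allZ_sound0 e81tl4_e_0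
theorem e81tl4_ok : DOK e81tl4 e81th_P 12 := ⟨e81tl4_h, e81tl4_e⟩
theorem e81tl5_e : ∀ i < 6, (dent e81tl5 e81th_P (nat_lit 12)) i = 0 := allZ_sound0 e81tl5_e_0
theorem e81tl5_ok : DOK e81tl5 e81th_P 12 := ⟨e81tl5_h, e81tl5_e⟩
theorem e81tl6_e : ∀ i < 5, (dent e81tl6 e81th_P (nat_lit 12)) i = 0 := allZ_sound0 e81tl6_e_0
theorem e81tl6_ok : DOK e81tl6 e81th_P 12 := ⟨e81tl6_h, e81tl6_e⟩
theorem e81tl7_e : ∀ i < 4, (dent e81tl7 e81th_P (nat_lit 12)) i = 0 := allZ_sound0 e81tl7_e_0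
theorem e81tl7_ok : DOK e81tl7 e81th_P 12 := ⟨e81tl7_h, e81tl7_e⟩
theorem e81tl8_e : ∀ i < 3, (dent e81tl8 e81th_P (nat_lit 12)) i = 0 := allZ_sound0 e81tl8_e_0
theorem e81tl8_ok : DOK e81tl8 e81th_P 12 := ⟨e81tl8_h, e81tl8_e⟩
theorem e81tl9_e : ∀ i < 2, (dent e81tl9 e81th_P (nat_lit 12)) i = 0 := allZ_sound0 e81tl9_e_0
theorem e81tl9_ok : DOK e81tl9 e81th_P 12 := ⟨e81tl9_h, e81tl9_e⟩
theorem e81t_low {G Ω : Type*} [Group G] [MulAction G Ω] {g : ℕ → G} {pt : ℕ → Ω}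
    (M : Md g pt H16.HN3.X.P 12 25 H16.HN3.X.B 239500800) : SLow (gi (wds g e81th_W)) pt 12 [e81tl0, e81tl1, e81tl2, e81tl3, e81tl4, e81tl5, e81tl6, e81tl7, e81tl8, e81tl9] :=
  ((((((((((SLow.nil).cons e81tl9_ok (e81th_act M) e81t_f9).cons e81tl8_ok (e81th_act M) e81t_f8).cons e81tl7_ok (e81th_act M) e81t_f7).cons e81tl6_ok (e81th_act M) e81t_f6).cons e81tl5_ok (e81th_act M) e81t_f5).cons e81tl4_ok (e81th_act M) e81t_f4).cons e81tl3_ok (e81th_act M) e81t_f3).cons e81tl2_ok (e81th_act M) e81t_f2).cons e81tl1_ok (e81th_act M) e81t_f1).cons e81tl0_ok (e81th_act M) e81t_f0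
theorem e81t_S0 {G Ω : Type*} [Group G] [MulAction G Ω] {g : ℕ → G} {pt : ℕ → Ω}
    (M : Md g pt H16.HN3.X.P 12 25 H16.HN3.X.B 239500800) : Stage ⊤ (wds g e81th_W) pt 12 [e81tl0, e81tl1, e81tl2, e81tl3, e81tl4, e81tl5, e81tl6, e81tl7, e81tl8, e81tl9] [] :=
  M.stage (e81t_low M) e81t_c
theorem e81t_S1 {G Ω : Type*} [Group G] [MulAction G Ω] {g : ℕ → G} {pt : ℕ → Ω}
    (M : Md g pt H16.HN3.X.P 12 25 H16.HN3.X.B 239500800) : Stage ⊤ (wds g e81th_W) pt 12 [e81tl1, e81tl2, e81tl3, e81tl4, e81tl5, e81tl6, e81tl7, e81tl8, e81tl9] [e81tl0.Pt 0] :=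
  (e81t_S0 M).next
theorem e81t_S2 {G Ω : Type*} [Group G] [MulAction G Ω] {g : ℕ → G} {pt : ℕ → Ω}
    (M : Md g pt H16.HN3.X.P 12 25 H16.HN3.X.B 239500800) : Stage ⊤ (wds g e81th_W) pt 12 [e81tl2, e81tl3, e81tl4, e81tl5, e81tl6, e81tl7, e81tl8, e81tl9] [e81tl1.Pt 0, e81tl0.Pt 0] :=
  (e81t_S1 M).next
theorem e81t_S3 {G Ω : Type*} [Group G] [MulAction G Ω] {g : ℕ → G} {pt : ℕ → Ω}
    (M : Md g pt H16.HN3.X.P 12 25 H16.HN3.X.B 239500800) : Stage ⊤ (wds g e81th_W) pt 12 [e81tl3, e81tl4, e81tl5, e81tl6, e81tl7, e81tl8, e81tl9] [e81tl2.Pt 0, e81tl1.Pt 0, e81tl0.Pt 0] :=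
  (e81t_S2 M).next
theorem e81t_S4 {G Ω : Type*} [Group G] [MulAction G Ω] {g : ℕ → G} {pt : ℕ → Ω}
    (M : Md g pt H16.HN3.X.P 12 25 H16.HN3.X.B 239500800) : Stage ⊤ (wds g e81th_W) pt 12 [e81tl4, e81tl5, e81tl6, e81tl7, e81tl8, e81tl9] [e81tl3.Pt 0, e81tl2.Pt 0, e81tl1.Pt 0, e81tl0.Pt 0] :=
  (e81t_S3 M).next
theorem e81t_S5 {G Ω : Type*} [Group G] [MulAction G Ω] {g : ℕ → G} {pt : ℕ → Ω}
    (M : Md g pt H16.HN3.X.P 12 25 H16.HN3.X.B 239500800) : Stage ⊤ (wds g e81th_W) pt 12 [e81tl5, e81tl6, e81tl7, e81tl8, e81tl9] [e81tl4.Pt 0, e81tl3.Pt 0, e81tl2.Pt 0, e81tl1.Pt 0, e81tl0.Pt 0] :=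
  (e81t_S4 M).next
theorem e81t_S6 {G Ω : Type*} [Group G] [MulAction G Ω] {g : ℕ → G} {pt : ℕ → Ω}
    (M : Md g pt H16.HN3.X.P 12 25 H16.HN3.X.B 239500800) : Stage ⊤ (wds g e81th_W) pt 12 [e81tl6, e81tl7, e81tl8, e81tl9] [e81tl5.Pt 0, e81tl4.Pt 0, e81tl3.Pt 0, e81tl2.Pt 0, e81tl1.Pt 0, e81tl0.Pt 0] :=
  (e81t_S5 M).next
theorem e81t_S7 {G Ω : Type*} [Group G] [MulAction G Ω] {g : ℕ → G} {pt : ℕ → Ω}
    (M : Md g pt H16.HN3.X.P 12 25 H16.HN3.X.B 239500800) : Stage ⊤ (wds g e81th_W) pt 12 [e81tl7, e81tl8, e81tl9] [e81tl6.Pt 0, e81tl5.Pt 0, e81tl4.Pt 0, e81tl3.Pt 0, e81tl2.Pt 0, e81tl1.Pt 0, e81tl0.Pt 0] :=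
  (e81t_S6 M).next
theorem e81t_S8 {G Ω : Type*} [Group G] [MulAction G Ω] {g : ℕ → G} {pt : ℕ → Ω}
    (M : Md g pt H16.HN3.X.P 12 25 H16.HN3.X.B 239500800) : Stage ⊤ (wds g e81th_W) pt 12 [e81tl8, e81tl9] [e81tl7.Pt 0, e81tl6.Pt 0, e81tl5.Pt 0, e81tl4.Pt 0, e81tl3.Pt 0, e81tl2.Pt 0, e81tl1.Pt 0, e81tl0.Pt 0] :=
  (e81t_S7 M).next
theorem e81t_S9 {G Ω : Type*} [Group G] [MulAction G Ω] {g : ℕ → G} {pt : ℕ → Ω}
    (M : Md g pt H16.HN3.X.P 12 25 H16.HN3.X.B 239500800) : Stage ⊤ (wds g e81th_W) pt 12 [e81tl9] [e81tl8.Pt 0, e81tl7.Pt 0, e81tl6.Pt 0, e81tl5.Pt 0, e81tl4.Pt 0, e81tl3.Pt 0, e81tl2.Pt 0, e81tl1.Pt 0, e81tl0.Pt 0] :=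
  (e81t_S8 M).next
theorem e81t_S10 {G Ω : Type*} [Group G] [MulAction G Ω] {g : ℕ → G} {pt : ℕ → Ω}
    (M : Md g pt H16.HN3.X.P 12 25 H16.HN3.X.B 239500800) : Stage ⊤ (wds g e81th_W) pt 12 [] [e81tl9.Pt 0, e81tl8.Pt 0, e81tl7.Pt 0, e81tl6.Pt 0, e81tl5.Pt 0, e81tl4.Pt 0, e81tl3.Pt 0, e81tl2.Pt 0, e81tl1.Pt 0, e81tl0.Pt 0] :=
  (e81t_S9 M).next
theorem e81ce_act {G Ω : Type*} [Group G] [MulAction G Ω] {g : ℕ → G} {pt : ℕ → Ω}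
    (M : Md g pt H16.HN3.X.P 12 25 H16.HN3.X.B 239500800) : Act (wds g e81ce_W) pt e81ce_P 12 4 :=
  M.wact e81ce_lt
theorem e81cc9_e : ∀ i < 2, (dent e81cc9 e81ce_P (nat_lit 12)) i = 0 := allZ_sound0 e81cc9_e_0
theorem e81cc9_ok : DOK e81cc9 e81ce_P 12 := ⟨e81cc9_h, e81cc9_e⟩
theorem e81tn0_1 : ∀ i < 3, (e81tn0.ent H16.HN3.X.P e81th_P e81x_P e81x_P e81ce_P (nat_lit 25) (nat_lit 4) H16.HN3.X.B e81tl9 [] (memO e81cc9)) i = 0 := allZ_sound0 e81tn0_1_0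
theorem e81tn0_t {G Ω : Type*} [Group G] [MulAction G Ω] {g : ℕ → G} {pt : ℕ → Ω}
    (M : Md g pt H16.HN3.X.P 12 25 H16.HN3.X.B 239500800) : TrO (gen (wds g e81th_W) e81tl9.K) (wds g e81x_W) (wds g e81x_W) 4 pt 12 (e81tl9.Pt 0) (memO e81cc9) :=
  node M (e81t_S9 M) (e81th_act M) (e81x_act M) (e81x_act M) e81tn0 ((e81ce_act M).mono (by decide)) (fun _ _ => trivial) e81tn0_0 e81tn0_1 (List.forall_mem_nil _)
theorem e81cc6_e : ∀ i < 2, (dent e81cc6 e81ce_P (nat_lit 12)) i = 0 := allZ_sound0 e81cc6_e_0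
theorem e81cc6_ok : DOK e81cc6 e81ce_P 12 := ⟨e81cc6_h, e81cc6_e⟩
theorem e81tn1_1 : ∀ i < 6, (e81tn1.ent H16.HN3.X.P e81th_P e81x_P e81x_P e81ce_P (nat_lit 25) (nat_lit 4) H16.HN3.X.B e81tl6 [e81tl7, e81tl8, e81tl9] (memO e81cc6)) i = 0 := allZ_sound0 e81tn1_1_0
theorem e81tn1_t {G Ω : Type*} [Group G] [MulAction G Ω] {g : ℕ → G} {pt : ℕ → Ω}
    (M : Md g pt H16.HN3.X.P 12 25 H16.HN3.X.B 239500800) : TrO (gen (wds g e81th_W) e81tl6.K) (wds g e81x_W) (wds g e81x_W) 4 pt 12 (e81tl6.Pt 0) (memO e81cc6) :=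
  node M (e81t_S6 M) (e81th_act M) (e81x_act M) (e81x_act M) e81tn1 ((e81ce_act M).mono (by decide)) (fun _ _ => trivial) e81tn1_0 e81tn1_1 (List.forall_mem_nil _)
theorem e81cc3_e : ∀ i < 2, (dent e81cc3 e81ce_P (nat_lit 12)) i = 0 := allZ_sound0 e81cc3_e_0
theorem e81cc3_ok : DOK e81cc3 e81ce_P 12 := ⟨e81cc3_h, e81cc3_e⟩
theorem e81tn2_1 : ∀ i < 9, (e81tn2.ent H16.HN3.X.P e81th_P e81x_P e81x_P e81ce_P (nat_lit 25) (nat_lit 4) H16.HN3.X.B e81tl3 [e81tl4, e81tl5, e81tl6, e81tl7, e81tl8, e81tl9] (memO e81cc3)) i = 0 := allZ_sound0 e81tn2_1_0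
theorem e81tn2_t {G Ω : Type*} [Group G] [MulAction G Ω] {g : ℕ → G} {pt : ℕ → Ω}
    (M : Md g pt H16.HN3.X.P 12 25 H16.HN3.X.B 239500800) : TrO (gen (wds g e81th_W) e81tl3.K) (wds g e81x_W) (wds g e81x_W) 4 pt 12 (e81tl3.Pt 0) (memO e81cc3) :=
  node M (e81t_S3 M) (e81th_act M) (e81x_act M) (e81x_act M) e81tn2 ((e81ce_act M).mono (by decide)) (fun _ _ => trivial) e81tn2_0 e81tn2_1 (List.forall_mem_nil _)
theorem e81cc0_e : ∀ i < 2, (dent e81cc0 e81ce_P (nat_lit 12)) i = 0 := allZ_sound0 e81cc0_e_0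
theorem e81cc0_ok : DOK e81cc0 e81ce_P 12 := ⟨e81cc0_h, e81cc0_e⟩
theorem e81tn3_1 : ∀ i < 12, (e81tn3.ent H16.HN3.X.P e81th_P e81x_P e81x_P e81ce_P (nat_lit 25) (nat_lit 4) H16.HN3.X.B e81tl0 [e81tl1, e81tl2, e81tl3, e81tl4, e81tl5, e81tl6, e81tl7, e81tl8, e81tl9] (memO e81cc0)) i = 0 := allZ_sound0 e81tn3_1_0
theorem e81tn3_t {G Ω : Type*} [Group G] [MulAction G Ω] {g : ℕ → G} {pt : ℕ → Ω}
    (M : Md g pt H16.HN3.X.P 12 25 H16.HN3.X.B 239500800) : TrO (gen (wds g e81th_W) e81tl0.K) (wds g e81x_W) (wds g e81x_W) 4 pt 12 (e81tl0.Pt 0) (memO e81cc0) :=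
  node M (e81t_S0 M) (e81th_act M) (e81x_act M) (e81x_act M) e81tn3 ((e81ce_act M).mono (by decide)) (fun _ _ => trivial) e81tn3_0 e81tn3_1 (List.forall_mem_nil _)
theorem e81c {G Ω : Type*} [Group G] [MulAction G Ω] {g : ℕ → G} {pt : ℕ → Ω}
    (M : Md g pt H16.HN3.X.P 12 25 H16.HN3.X.B 239500800) : Cen ⊤ (wds g e81x_W) 4 (wds g e81ce_W) pt 12 [e81cc0, e81cc3, e81cc6, e81cc9] :=
  (e81t_S0 M).top ▸ Cen.lev M (e81t_S0 M) (Cen.triv (e81t_S1 M) (Cen.triv (e81t_S2 M) (Cen.lev M (e81t_S3 M) (Cen.triv (e81t_S4 M) (Cen.triv (e81t_S5 M) (Cen.lev M (e81t_S6 M) (Cen.triv (e81t_S7 M) (Cen.triv (e81t_S8 M) (Cen.lev M (e81t_S9 M) (Cen.bot) (e81tn0_t M) (e81x_act M) (e81ce_act M) (fun _ _ => trivial) e81cc9_ok e81c_f9) (forced (e81t_S8 M) (e81th_act M) (e81x_act M) _ _ e81c_f8)) (forced (e81t_S7 M) (e81th_act M) (e81x_act M) _ _ e81c_f7)) (e81tn1_t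 M) (e81x_act M) (e81ce_act M) (fun _ _ => trivial) e81cc6_ok e81c_f6) (forced (e81t_S5 M) (e81th_act M) (e81x_act M) _ _ e81c_f5)) (forced (e81t_S4 M) (e81th_act M) (e81x_act M) _ _ e81c_f4)) (e81tn2_t M) (e81x_act M) (e81ce_act M) (fun _ _ => trivial) e81cc3_ok e81c_f3) (forced (e81t_S2 M) (e81th_act M) (e81x_act M) _ _ e81c_f2)) (forced (e81t_S1 M) (e81th_act M) (e81x_act M) _ _ e81c_f1)) (e81tn3_t M) (e81x_act M) (e81ce_act M) (fun _ _ => trivial) e81cc0_ok e81c_f0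
theorem e81c_eq {G Ω : Type*} [Group G] [MulAction G Ω] {g : ℕ → G} {pt : ℕ → Ω}
    (M : Md g pt H16.HN3.X.P 12 25 H16.HN3.X.B 239500800) : Subgroup.centralizer (gen (wds g e81x_W) 4) = gen (wds g e81ce_W) 4 ∧ Nat.card (gen (wds g e81ce_W) 4) = 81 :=
  e81c_c.1 ▸ e81c_c.2 ▸ ⟨(e81c M).cent, (e81c M).card M.inj⟩
theorem e8x_act {G Ω : Type*} [Group G] [MulAction G Ω] {g : ℕ → G} {pt : ℕ → Ω}
    (M : Md g pt H16.HN3.X.P 12 25 H16.HN3.X.B 239500800) : Act (wds g e8x_W) pt e8x_P 12 4 :=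
  M.wact e8x_lt
theorem e8th_act {G Ω : Type*} [Group G] [MulAction G Ω] {g : ℕ → G} {pt : ℕ → Ω}
    (M : Md g pt H16.HN3.X.P 12 25 H16.HN3.X.B 239500800) : Act (wds g e8th_W) pt e8th_P 12 27 :=
  M.wact e8th_lt
theorem e8tl0_e : ∀ i < 11, (dent e8tl0 e8th_P (nat_lit 12)) i = 0 := allZ_sound0 e8tl0_e_0
theorem e8tl0_ok : DOK e8tl0 e8th_P 12 := ⟨e8tl0_h, e8tl0_e⟩
theorem e8tl1_e : ∀ i < 10, (dent e8tl1 e8th_P (nat_lit 12)) i = 0 := allZ_sound0 e8tl1_e_0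
theorem e8tl1_ok : DOK e8tl1 e8th_P 12 := ⟨e8tl1_h, e8tl1_e⟩
theorem e8tl2_e : ∀ i < 9, (dent e8tl2 e8th_P (nat_lit 12)) i = 0 := allZ_sound0 e8tl2_e_0
theorem e8tl2_ok : DOK e8tl2 e8th_P 12 := ⟨e8tl2_h, e8tl2_e⟩
theorem e8tl3_e : ∀ i < 8, (dent e8tl3 e8th_P (nat_lit 12)) i = 0 := allZ_sound0 e8tl3_e_0
theorem e8tl3_ok : DOK e8tl3 e8th_P 12 := ⟨e8tl3_h, e8tl3_e⟩
theorem e8tl4_e : ∀ i < 7, (dent e8tl4 e8th_P (nat_lit 12)) i = 0 := allZ_sound0 e8tl4_e_0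
theorem e8tl4_ok : DOK e8tl4 e8th_P 12 := ⟨e8tl4_h, e8tl4_e⟩
theorem e8tl5_e : ∀ i < 6, (dent e8tl5 e8th_P (nat_lit 12)) i = 0 := allZ_sound0 e8tl5_e_0
theorem e8tl5_ok : DOK e8tl5 e8th_P 12 := ⟨e8tl5_h, e8tl5_e⟩
theorem e8tl6_e : ∀ i < 5, (dent e8tl6 e8th_P (nat_lit 12)) i = 0 := allZ_sound0 e8tl6_e_0
theorem e8tl6_ok : DOK e8tl6 e8th_P 12 := ⟨e8tl6_h, e8tl6_e⟩
theorem e8tl7_e : ∀ i < 4, (dent e8tl7 e8th_P (nat_lit 12)) i = 0 := allZ_sound0 e8tl7_e_0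
theorem e8tl7_ok : DOK e8tl7 e8th_P 12 := ⟨e8tl7_h, e8tl7_e⟩
theorem e8tl8_e : ∀ i < 3, (dent e8tl8 e8th_P (nat_lit 12)) i = 0 := allZ_sound0 e8tl8_e_0
theorem e8tl8_ok : DOK e8tl8 e8th_P 12 := ⟨e8tl8_h, e8tl8_e⟩
theorem e8tl9_e : ∀ i < 2, (dent e8tl9 e8th_P (nat_lit 12)) i = 0 := allZ_sound0 e8tl9_e_0
theorem e8tl9_ok : DOK e8tl9 e8th_P 12 := ⟨e8tl9_h, e8tl9_e⟩
theorem e8t_low {G Ω : Type*} [Group G] [MulAction G Ω] {g : ℕ → G} {pt : ℕ → Ω}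
    (M : Md g pt H16.HN3.X.P 12 25 H16.HN3.X.B 239500800) : SLow (gi (wds g e8th_W)) pt 12 [e8tl0, e8tl1, e8tl2, e8tl3, e8tl4, e8tl5, e8tl6, e8tl7, e8tl8, e8tl9] :=
  ((((((((((SLow.nil).cons e8tl9_ok (e8th_act M) e8t_f9).cons e8tl8_ok (e8th_act M) e8t_f8).cons e8tl7_ok (e8th_act M) e8t_f7).cons e8tl6_ok (e8th_act M) e8t_f6).cons e8tl5_ok (e8th_act M) e8t_f5).cons e8tl4_ok (e8th_act M) e8t_f4).cons e8tl3_ok (e8th_act M) e8t_f3).cons e8tl2_ok (e8th_act M) e8t_f2).cons e8tl1_ok (e8th_act M) e8t_f1).cons e8tl0_ok (e8th_act M) e8t_f0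
theorem e8t_S0 {G Ω : Type*} [Group G] [MulAction G Ω] {g : ℕ → G} {pt : ℕ → Ω}
    (M : Md g pt H16.HN3.X.P 12 25 H16.HN3.X.B 239500800) : Stage ⊤ (wds g e8th_W) pt 12 [e8tl0, e8tl1, e8tl2, e8tl3, e8tl4, e8tl5, e8tl6, e8tl7, e8tl8, e8tl9] [] :=
  M.stage (e8t_low M) e8t_c
theorem e8t_S1 {G Ω : Type*} [Group G] [MulAction G Ω] {g : ℕ → G} {pt : ℕ → Ω}
    (M : Md g pt H16.HN3.X.P 12 25 H16.HN3.X.B 239500800) : Stage ⊤ (wds g e8th_W) pt 12 [e8tl1, e8tl2, e8tl3, e8tl4, e8tl5, e8tl6, e8tl7, e8tl8, e8tl9] [e8tl0.Pt 0] :=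
  (e8t_S0 M).next
theorem e8t_S2 {G Ω : Type*} [Group G] [MulAction G Ω] {g : ℕ → G} {pt : ℕ → Ω}
    (M : Md g pt H16.HN3.X.P 12 25 H16.HN3.X.B 239500800) : Stage ⊤ (wds g e8th_W) pt 12 [e8tl2, e8tl3, e8tl4, e8tl5, e8tl6, e8tl7, e8tl8, e8tl9] [e8tl1.Pt 0, e8tl0.Pt 0] :=
  (e8t_S1 M).next
theorem e8t_S3 {G Ω : Type*} [Group G] [MulAction G Ω] {g : ℕ → G} {pt : ℕ → Ω}
    (M : Md g pt H16.HN3.X.P 12 25 H16.HN3.X.B 239500800) : Stage ⊤ (wds g e8th_W) pt 12 [e8tl3, e8tl4, e8tl5, e8tl6, e8tl7, e8tl8, e8tl9] [e8tl2.Pt 0, e8tl1.Pt 0, e8tl0.Pt 0] :=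
  (e8t_S2 M).next
theorem e8t_S4 {G Ω : Type*} [Group G] [MulAction G Ω] {g : ℕ → G} {pt : ℕ → Ω}
    (M : Md g pt H16.HN3.X.P 12 25 H16.HN3.X.B 239500800) : Stage ⊤ (wds g e8th_W) pt 12 [e8tl4, e8tl5, e8tl6, e8tl7, e8tl8, e8tl9] [e8tl3.Pt 0, e8tl2.Pt 0, e8tl1.Pt 0, e8tl0.Pt 0] :=
  (e8t_S3 M).next
theorem e8t_S5 {G Ω : Type*} [Group G] [MulAction G Ω] {g : ℕ → G} {pt : ℕ → Ω}
    (M : Md g pt H16.HN3.X.P 12 25 H16.HN3.X.B 239500800) : Stage ⊤ (wds g e8th_W) pt 12 [e8tl5, e8tl6, e8tl7, e8tl8, e8tl9] [e8tl4.Pt 0, e8tl3.Pt 0, e8tl2.Pt 0, e8tl1.Pt 0, e8tl0.Pt 0] :=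
  (e8t_S4 M).next
theorem e8t_S6 {G Ω : Type*} [Group G] [MulAction G Ω] {g : ℕ → G} {pt : ℕ → Ω}
    (M : Md g pt H16.HN3.X.P 12 25 H16.HN3.X.B 239500800) : Stage ⊤ (wds g e8th_W) pt 12 [e8tl6, e8tl7, e8tl8, e8tl9] [e8tl5.Pt 0, e8tl4.Pt 0, e8tl3.Pt 0, e8tl2.Pt 0, e8tl1.Pt 0, e8tl0.Pt 0] :=
  (e8t_S5 M).next
theorem e8t_S7 {G Ω : Type*} [Group G] [MulAction G Ω] {g : ℕ → G} {pt : ℕ → Ω}
    (M : Md g pt H16.HN3.X.P 12 25 H16.HN3.X.B 239500800) : Stage ⊤ (wds g e8th_W) pt 12 [e8tl7, e8tl8, e8tl9] [e8tl6.Pt 0, e8tl5.Pt 0, e8tl4.Pt 0, e8tl3.Pt 0, e8tl2.Pt 0, e8tl1.Pt 0, e8tl0.Pt 0] :=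
  (e8t_S6 M).next
theorem e8t_S8 {G Ω : Type*} [Group G] [MulAction G Ω] {g : ℕ → G} {pt : ℕ → Ω}
    (M : Md g pt H16.HN3.X.P 12 25 H16.HN3.X.B 239500800) : Stage ⊤ (wds g e8th_W) pt 12 [e8tl8, e8tl9] [e8tl7.Pt 0, e8tl6.Pt 0, e8tl5.Pt 0, e8tl4.Pt 0, e8tl3.Pt 0, e8tl2.Pt 0, e8tl1.Pt 0, e8tl0.Pt 0] :=
  (e8t_S7 M).next
theorem e8t_S9 {G Ω : Type*} [Group G] [MulAction G Ω] {g : ℕ → G} {pt : ℕ → Ω}
    (M : Md g pt H16.HN3.X.P 12 25 H16.HN3.X.B 239500800) : Stage ⊤ (wds g e8th_W) pt 12 [e8tl9] [e8tl8.Pt 0, e8tl7.Pt 0, e8tl6.Pt 0, e8tl5.Pt 0, e8tl4.Pt 0, e8tl3.Pt 0, e8tl2.Pt 0, e8tl1.Pt 0, e8tl0.Pt 0] :=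
  (e8t_S8 M).next
theorem e8t_S10 {G Ω : Type*} [Group G] [MulAction G Ω] {g : ℕ → G} {pt : ℕ → Ω}
    (M : Md g pt H16.HN3.X.P 12 25 H16.HN3.X.B 239500800) : Stage ⊤ (wds g e8th_W) pt 12 [] [e8tl9.Pt 0, e8tl8.Pt 0, e8tl7.Pt 0, e8tl6.Pt 0, e8tl5.Pt 0, e8tl4.Pt 0, e8tl3.Pt 0, e8tl2.Pt 0, e8tl1.Pt 0, e8tl0.Pt 0] :=
  (e8t_S9 M).next
theorem e8ce_act {G Ω : Type*} [Group G] [MulAction G Ω] {g : ℕ → G} {pt : ℕ → Ω}
    (M : Md g pt H16.HN3.X.P 12 25 H16.HN3.X.B 239500800) : Act (wds g e8ce_W) pt e8ce_P 12 2 :=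
  M.wact e8ce_lt
theorem e8cc8_e : ∀ i < 1, (dent e8cc8 e8ce_P (nat_lit 12)) i = 0 := allZ_sound0 e8cc8_e_0
theorem e8cc8_ok : DOK e8cc8 e8ce_P 12 := ⟨e8cc8_h, e8cc8_e⟩
theorem e8tn0_1 : ∀ i < 4, (e8tn0.ent H16.HN3.X.P e8th_P e8x_P e8x_P e8ce_P (nat_lit 25) (nat_lit 4) H16.HN3.X.B e8tl8 [e8tl9] (memO e8cc8)) i = 0 := allZ_sound0 e8tn0_1_0
theorem e8tn0_t {G Ω : Type*} [Group G] [MulAction G Ω] {g : ℕ → G} {pt : ℕ → Ω}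
    (M : Md g pt H16.HN3.X.P 12 25 H16.HN3.X.B 239500800) : TrO (gen (wds g e8th_W) e8tl8.K) (wds g e8x_W) (wds g e8x_W) 4 pt 12 (e8tl8.Pt 0) (memO e8cc8) :=
  node M (e8t_S8 M) (e8th_act M) (e8x_act M) (e8x_act M) e8tn0 ((e8ce_act M).mono (by decide)) (fun _ _ => trivial) e8tn0_0 e8tn0_1 (List.forall_mem_nil _)
theorem e8cc6_e : ∀ i < 3, (dent e8cc6 e8ce_P (nat_lit 12)) i = 0 := allZ_sound0 e8cc6_e_0
theorem e8cc6_ok : DOK e8cc6 e8ce_P 12 := ⟨e8cc6_h, e8cc6_e⟩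
theorem e8tn1_1 : ∀ i < 6, (e8tn1.ent H16.HN3.X.P e8th_P e8x_P e8x_P e8ce_P (nat_lit 25) (nat_lit 4) H16.HN3.X.B e8tl6 [e8tl7, e8tl8, e8tl9] (memO e8cc6)) i = 0 := allZ_sound0 e8tn1_1_0
theorem e8tn1_t {G Ω : Type*} [Group G] [MulAction G Ω] {g : ℕ → G} {pt : ℕ → Ω}
    (M : Md g pt H16.HN3.X.P 12 25 H16.HN3.X.B 239500800) : TrO (gen (wds g e8th_W) e8tl6.K) (wds g e8x_W) (wds g e8x_W) 4 pt 12 (e8tl6.Pt 0) (memO e8cc6) :=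
  node M (e8t_S6 M) (e8th_act M) (e8x_act M) (e8x_act M) e8tn1 ((e8ce_act M).mono (by decide)) (fun _ _ => trivial) e8tn1_0 e8tn1_1 (List.forall_mem_nil _)
theorem e8tn2_1 : ∀ i < 12, (e8tn2.ent H16.HN3.X.P e8th_P e8x_P e8x_P e8ce_P (nat_lit 25) (nat_lit 4) H16.HN3.X.B e8tl0 [e8tl1, e8tl2, e8tl3, e8tl4, e8tl5, e8tl6, e8tl7, e8tl8, e8tl9] (fun w => Nat.xor w (e8tl0.Pt (nat_lit 0)))) i = 0 := allZ_sound0 e8tn2_1_0
theorem e8tn2_t {G Ω : Type*} [Group G] [MulAction G Ω] {g : ℕ → G} {pt : ℕ → Ω}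
    (M : Md g pt H16.HN3.X.P 12 25 H16.HN3.X.B 239500800) : TrO (gen (wds g e8th_W) e8tl0.K) (wds g e8x_W) (wds g e8x_W) 4 pt 12 (e8tl0.Pt 0) (fun w => Nat.xor w (e8tl0.Pt (nat_lit 0))) :=
  node M (e8t_S0 M) (e8th_act M) (e8x_act M) (e8x_act M) e8tn2 ((e8ce_act M).mono (by decide)) (fun _ _ => trivial) e8tn2_0 e8tn2_1 (List.forall_mem_nil _)
theorem e8c {G Ω : Type*} [Group G] [MulAction G Ω] {g : ℕ → G} {pt : ℕ → Ω}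
    (M : Md g pt H16.HN3.X.P 12 25 H16.HN3.X.B 239500800) : Cen ⊤ (wds g e8x_W) 4 (wds g e8ce_W) pt 12 [e8cc6, e8cc8] :=
  (e8t_S0 M).top ▸ Cen.triv (e8t_S0 M) (Cen.triv (e8t_S1 M) (Cen.triv (e8t_S2 M) (Cen.triv (e8t_S3 M) (Cen.triv (e8t_S4 M) (Cen.triv (e8t_S5 M) (Cen.lev M (e8t_S6 M) (Cen.triv (e8t_S7 M) (Cen.lev M (e8t_S8 M) (Cen.triv (e8t_S9 M) (Cen.bot) (forced (e8t_S9 M) (e8th_act M) (e8x_act M) _ _ e8c_f9)) (e8tn0_t M) (e8x_act M) (e8ce_act M) (fun _ _ => trivial) e8cc8_ok e8c_f8) (forced (e8t_S7 M) (e8th_act M) (e8x_act M) _ _ e8c_f7)) (e8tn1_t M) (e8x_act M) (e8ce_act M) (fun _ _ => trivial) e8cc6_ok e8c_f6) (forced (e8t_S5 M) (e8th_act M) (e8x_act M) _ _ e8c_f5)) (forced (e8t_S4 M) (e8th_act M) (e8x_act M) _ _ e8c_f4)) (forced (e8t_S3 M) (e8th_act M) (e8x_act M) _ _ e8c_f3)) (forced (e8t_S2 M) (e8th_act M) (e8x_act M) _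 _ e8c_f2)) (forced (e8t_S1 M) (e8th_act M) (e8x_act M) _ _ e8c_f1)) (e8tn2_t M)
theorem e8c_eq {G Ω : Type*} [Group G] [MulAction G Ω] {g : ℕ → G} {pt : ℕ → Ω}
    (M : Md g pt H16.HN3.X.P 12 25 H16.HN3.X.B 239500800) : Subgroup.centralizer (gen (wds g e8x_W) 4) = gen (wds g e8ce_W) 2 ∧ Nat.card (gen (wds g e8ce_W) 2) = 8 :=
  e8c_c.1 ▸ e8c_c.2 ▸ ⟨(e8c M).cent, (e8c M).card M.inj⟩
theorem e16x_act {G Ω : Type*} [Group G] [MulAction G Ω] {g : ℕ → G} {pt : ℕ → Ω}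
    (M : Md g pt H16.HN3.X.P 12 25 H16.HN3.X.B 239500800) : Act (wds g e16x_W) pt e16x_P 12 5 :=
  M.wact e16x_lt
theorem e16th_act {G Ω : Type*} [Group G] [MulAction G Ω] {g : ℕ → G} {pt : ℕ → Ω}
    (M : Md g pt H16.HN3.X.P 12 25 H16.HN3.X.B 239500800) : Act (wds g e16th_W) pt e16th_P 12 28 :=
  M.wact e16th_lt
theorem e16tl0_e : ∀ i < 11, (dent e16tl0 e16th_P (nat_lit 12)) i = 0 := allZ_sound0 e16tl0_e_0
theorem e16tl0_ok : DOK e16tl0 e16th_P 12 := ⟨e16tl0_h, e16tl0_e⟩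
theorem e16tl1_e : ∀ i < 10, (dent e16tl1 e16th_P (nat_lit 12)) i = 0 := allZ_sound0 e16tl1_e_0
theorem e16tl1_ok : DOK e16tl1 e16th_P 12 := ⟨e16tl1_h, e16tl1_e⟩
theorem e16tl2_e : ∀ i < 9, (dent e16tl2 e16th_P (nat_lit 12)) i = 0 := allZ_sound0 e16tl2_e_0
theorem e16tl2_ok : DOK e16tl2 e16th_P 12 := ⟨e16tl2_h, e16tl2_e⟩
theorem e16tl3_e : ∀ i < 8, (dent e16tl3 e16th_P (nat_lit 12)) i = 0 := allZ_sound0 e16tl3_e_0
theorem e16tl3_ok : DOK e16tl3 e16th_P 12 := ⟨e16tl3_h, e16tl3_e⟩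
theorem e16tl4_e : ∀ i < 7, (dent e16tl4 e16th_P (nat_lit 12)) i = 0 := allZ_sound0 e16tl4_e_0
theorem e16tl4_ok : DOK e16tl4 e16th_P 12 := ⟨e16tl4_h, e16tl4_e⟩
theorem e16tl5_e : ∀ i < 6, (dent e16tl5 e16th_P (nat_lit 12)) i = 0 := allZ_sound0 e16tl5_e_0
theorem e16tl5_ok : DOK e16tl5 e16th_P 12 := ⟨e16tl5_h, e16tl5_e⟩
theorem e16tl6_e : ∀ i < 5, (dent e16tl6 e16th_P (nat_lit 12)) i = 0 := allZ_sound0 e16tl6_e_0
theorem e16tl6_ok : DOK e16tl6 e16th_P 12 := ⟨e16tl6_h, e16tl6_e⟩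
theorem e16tl7_e : ∀ i < 4, (dent e16tl7 e16th_P (nat_lit 12)) i = 0 := allZ_sound0 e16tl7_e_0
theorem e16tl7_ok : DOK e16tl7 e16th_P 12 := ⟨e16tl7_h, e16tl7_e⟩
theorem e16tl8_e : ∀ i < 3, (dent e16tl8 e16th_P (nat_lit 12)) i = 0 := allZ_sound0 e16tl8_e_0
theorem e16tl8_ok : DOK e16tl8 e16th_P 12 := ⟨e16tl8_h, e16tl8_e⟩
theorem e16tl9_e : ∀ i < 2, (dent e16tl9 e16th_P (nat_lit 12)) i = 0 := allZ_sound0 e16tl9_e_0
theorem e16tl9_ok : DOK e16tl9 e16th_P 12 := ⟨e16tl9_h, e16tl9_e⟩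
theorem e16t_low {G Ω : Type*} [Group G] [MulAction G Ω] {g : ℕ → G} {pt : ℕ → Ω}
    (M : Md g pt H16.HN3.X.P 12 25 H16.HN3.X.B 239500800) : SLow (gi (wds g e16th_W)) pt 12 [e16tl0, e16tl1, e16tl2, e16tl3, e16tl4, e16tl5, e16tl6, e16tl7, e16tl8, e16tl9] :=
  ((((((((((SLow.nil).cons e16tl9_ok (e16th_act M) e16t_f9).cons e16tl8_ok (e16th_act M) e16t_f8).cons e16tl7_ok (e16th_act M) e16t_f7).cons e16tl6_ok (e16th_act M) e16t_f6).cons e16tl5_ok (e16th_act M) e16t_f5).cons e16tl4_ok (e16th_act M) e16t_f4).cons e16tl3_ok (e16th_act M) e16t_f3).cons e16tl2_ok (e16th_act M) e16t_f2).cons e16tl1_ok (e16th_act M) e16t_f1).cons e16tl0_ok (e16th_act M) e16t_f0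
theorem e16t_S0 {G Ω : Type*} [Group G] [MulAction G Ω] {g : ℕ → G} {pt : ℕ → Ω}
    (M : Md g pt H16.HN3.X.P 12 25 H16.HN3.X.B 239500800) : Stage ⊤ (wds g e16th_W) pt 12 [e16tl0, e16tl1, e16tl2, e16tl3, e16tl4, e16tl5, e16tl6, e16tl7, e16tl8, e16tl9] [] :=
  M.stage (e16t_low M) e16t_c
theorem e16t_S1 {G Ω : Type*} [Group G] [MulAction G Ω] {g : ℕ → G} {pt : ℕ → Ω}
    (M : Md g pt H16.HN3.X.P 12 25 H16.HN3.X.B 239500800) : Stage ⊤ (wds g e16th_W) pt 12 [e16tl1, e16tl2, e16tl3, e16tl4, e16tl5, e16tl6, e16tl7, e16tl8, e16tl9] [e16tl0.Pt 0] :=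
  (e16t_S0 M).next
theorem e16t_S2 {G Ω : Type*} [Group G] [MulAction G Ω] {g : ℕ → G} {pt : ℕ → Ω}
    (M : Md g pt H16.HN3.X.P 12 25 H16.HN3.X.B 239500800) : Stage ⊤ (wds g e16th_W) pt 12 [e16tl2, e16tl3, e16tl4, e16tl5, e16tl6, e16tl7, e16tl8, e16tl9] [e16tl1.Pt 0, e16tl0.Pt 0] :=
  (e16t_S1 M).next
theorem e16t_S3 {G Ω : Type*} [Group G] [MulAction G Ω] {g : ℕ → G} {pt : ℕ → Ω}
    (M : Md g pt H16.HN3.X.P 12 25 H16.HN3.X.B 239500800) : Stage ⊤ (wds g e16th_W) pt 12 [e16tl3, e16tl4, e16tl5, e16tl6, e16tl7, e16tl8, e16tl9] [e16tl2.Pt 0, e16tl1.Pt 0, e16tl0.Pt 0] :=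
  (e16t_S2 M).next
theorem e16t_S4 {G Ω : Type*} [Group G] [MulAction G Ω] {g : ℕ → G} {pt : ℕ → Ω}
    (M : Md g pt H16.HN3.X.P 12 25 H16.HN3.X.B 239500800) : Stage ⊤ (wds g e16th_W) pt 12 [e16tl4, e16tl5, e16tl6, e16tl7, e16tl8, e16tl9] [e16tl3.Pt 0, e16tl2.Pt 0, e16tl1.Pt 0, e16tl0.Pt 0] :=
  (e16t_S3 M).next
theorem e16t_S5 {G Ω : Type*} [Group G] [MulAction G Ω] {g : ℕ → G} {pt : ℕ → Ω}
    (M : Md g pt H16.HN3.X.P 12 25 H16.HN3.X.B 239500800) : Stage ⊤ (wds g e16th_W) pt 12 [e16tl5, e16tl6, e16tl7, e16tl8, e16tl9] [e16tl4.Pt 0, e16tl3.Pt 0, e16tl2.Pt 0, e16tl1.Pt 0, e16tl0.Pt 0] :=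
  (e16t_S4 M).next
theorem e16t_S6 {G Ω : Type*} [Group G] [MulAction G Ω] {g : ℕ → G} {pt : ℕ → Ω}
    (M : Md g pt H16.HN3.X.P 12 25 H16.HN3.X.B 239500800) : Stage ⊤ (wds g e16th_W) pt 12 [e16tl6, e16tl7, e16tl8, e16tl9] [e16tl5.Pt 0, e16tl4.Pt 0, e16tl3.Pt 0, e16tl2.Pt 0, e16tl1.Pt 0, e16tl0.Pt 0] :=
  (e16t_S5 M).next
theorem e16t_S7 {G Ω : Type*} [Group G] [MulAction G Ω] {g : ℕ → G} {pt : ℕ → Ω}
    (M : Md g pt H16.HN3.X.P 12 25 H16.HN3.X.B 239500800) : Stage ⊤ (wds g e16th_W) pt 12 [e16tl7, e16tl8, e16tl9] [e16tl6.Pt 0, e16tl5.Pt 0, e16tl4.Pt 0, e16tl3.Pt 0, e16tl2.Pt 0, e16tl1.Pt 0, e16tl0.Pt 0] :=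
  (e16t_S6 M).next
theorem e16t_S8 {G Ω : Type*} [Group G] [MulAction G Ω] {g : ℕ → G} {pt : ℕ → Ω}
    (M : Md g pt H16.HN3.X.P 12 25 H16.HN3.X.B 239500800) : Stage ⊤ (wds g e16th_W) pt 12 [e16tl8, e16tl9] [e16tl7.Pt 0, e16tl6.Pt 0, e16tl5.Pt 0, e16tl4.Pt 0, e16tl3.Pt 0, e16tl2.Pt 0, e16tl1.Pt 0, e16tl0.Pt 0] :=
  (e16t_S7 M).next
theorem e16t_S9 {G Ω : Type*} [Group G] [MulAction G Ω] {g : ℕ → G} {pt : ℕ → Ω}
    (M : Md g pt H16.HN3.X.P 12 25 H16.HN3.X.B 239500800) : Stage ⊤ (wds g e16th_W) pt 12 [e16tl9] [e16tl8.Pt 0, e16tl7.Pt 0, e16tl6.Pt 0, e16tl5.Pt 0, e16tl4.Pt 0, e16tl3.Pt 0, e16tl2.Pt 0, e16tl1.Pt 0, e16tl0.Pt 0] :=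
  (e16t_S8 M).next
theorem e16t_S10 {G Ω : Type*} [Group G] [MulAction G Ω] {g : ℕ → G} {pt : ℕ → Ω}
    (M : Md g pt H16.HN3.X.P 12 25 H16.HN3.X.B 239500800) : Stage ⊤ (wds g e16th_W) pt 12 [] [e16tl9.Pt 0, e16tl8.Pt 0, e16tl7.Pt 0, e16tl6.Pt 0, e16tl5.Pt 0, e16tl4.Pt 0, e16tl3.Pt 0, e16tl2.Pt 0, e16tl1.Pt 0, e16tl0.Pt 0] :=
  (e16t_S9 M).next
theorem e16ce_act {G Ω : Type*} [Group G] [MulAction G Ω] {g : ℕ → G} {pt : ℕ → Ω}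
    (M : Md g pt H16.HN3.X.P 12 25 H16.HN3.X.B 239500800) : Act (wds g e16ce_W) pt e16ce_P 12 4 :=
  M.wact e16ce_lt
theorem e16cc8_e : ∀ i < 3, (dent e16cc8 e16ce_P (nat_lit 12)) i = 0 := allZ_sound0 e16cc8_e_0
theorem e16cc8_ok : DOK e16cc8 e16ce_P 12 := ⟨e16cc8_h, e16cc8_e⟩
theorem e16tn0_1 : ∀ i < 4, (e16tn0.ent H16.HN3.X.P e16th_P e16x_P e16x_P e16ce_P (nat_lit 25) (nat_lit 5) H16.HN3.X.B e16tl8 [e16tl9] (memO e16cc8)) i = 0 := allZ_sound0 e16tn0_1_0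
theorem e16tn0_t {G Ω : Type*} [Group G] [MulAction G Ω] {g : ℕ → G} {pt : ℕ → Ω}
    (M : Md g pt H16.HN3.X.P 12 25 H16.HN3.X.B 239500800) : TrO (gen (wds g e16th_W) e16tl8.K) (wds g e16x_W) (wds g e16x_W) 5 pt 12 (e16tl8.Pt 0) (memO e16cc8) :=
  node M (e16t_S8 M) (e16th_act M) (e16x_act M) (e16x_act M) e16tn0 ((e16ce_act M).mono (by decide)) (fun _ _ => trivial) e16tn0_0 e16tn0_1 (List.forall_mem_nil _)
theorem e16cc4_e : ∀ i < 1, (dent e16cc4 e16ce_P (nat_lit 12)) i = 0 := allZ_sound0 e16cc4_e_0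
theorem e16cc4_ok : DOK e16cc4 e16ce_P 12 := ⟨e16cc4_h, e16cc4_e⟩
theorem e16tn1_1 : ∀ i < 8, (e16tn1.ent H16.HN3.X.P e16th_P e16x_P e16x_P e16ce_P (nat_lit 25) (nat_lit 5) H16.HN3.X.B e16tl4 [e16tl5, e16tl6, e16tl7, e16tl8, e16tl9] (memO e16cc4)) i = 0 := allZ_sound0 e16tn1_1_0
theorem e16tn1_t {G Ω : Type*} [Group G] [MulAction G Ω] {g : ℕ → G} {pt : ℕ → Ω}
    (M : Md g pt H16.HN3.X.P 12 25 H16.HN3.X.B 239500800) : TrO (gen (wds g e16th_W) e16tl4.K) (wds g e16x_W) (wds g e16x_W) 5 pt 12 (e16tl4.Pt 0) (memO e16cc4) :=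
  node M (e16t_S4 M) (e16th_act M) (e16x_act M) (e16x_act M) e16tn1 ((e16ce_act M).mono (by decide)) (fun _ _ => trivial) e16tn1_0 e16tn1_1 (List.forall_mem_nil _)
theorem e16cc0_e : ∀ i < 1, (dent e16cc0 e16ce_P (nat_lit 12)) i = 0 := allZ_sound0 e16cc0_e_0
theorem e16cc0_ok : DOK e16cc0 e16ce_P 12 := ⟨e16cc0_h, e16cc0_e⟩
theorem e16tn2_1 : ∀ i < 12, (e16tn2.ent H16.HN3.X.P e16th_P e16x_P e16x_P e16ce_P (nat_lit 25) (nat_lit 5) H16.HN3.X.B e16tl0 [e16tl1, e16tl2, e16tl3, e16tl4, e16tl5, e16tl6, e16tl7, e16tl8, e16tl9] (memO e16cc0)) i = 0 := allZ_sound0 e16tn2_1_0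
theorem e16tn2_t {G Ω : Type*} [Group G] [MulAction G Ω] {g : ℕ → G} {pt : ℕ → Ω}
    (M : Md g pt H16.HN3.X.P 12 25 H16.HN3.X.B 239500800) : TrO (gen (wds g e16th_W) e16tl0.K) (wds g e16x_W) (wds g e16x_W) 5 pt 12 (e16tl0.Pt 0) (memO e16cc0) :=
  node M (e16t_S0 M) (e16th_act M) (e16x_act M) (e16x_act M) e16tn2 ((e16ce_act M).mono (by decide)) (fun _ _ => trivial) e16tn2_0 e16tn2_1 (List.forall_mem_nil _)
theorem e16c {G Ω : Type*} [Group G] [MulAction G Ω] {g : ℕ → G} {pt : ℕ → Ω}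
    (M : Md g pt H16.HN3.X.P 12 25 H16.HN3.X.B 239500800) : Cen ⊤ (wds g e16x_W) 5 (wds g e16ce_W) pt 12 [e16cc0, e16cc4, e16cc8] :=
  (e16t_S0 M).top ▸ Cen.lev M (e16t_S0 M) (Cen.triv (e16t_S1 M) (Cen.triv (e16t_S2 M) (Cen.triv (e16t_S3 M) (Cen.lev M (e16t_S4 M) (Cen.triv (e16t_S5 M) (Cen.triv (e16t_S6 M) (Cen.triv (e16t_S7 M) (Cen.lev M (e16t_S8 M) (Cen.triv (e16t_S9 M) (Cen.bot) (forced (e16t_S9 M) (e16th_act M) (e16x_act M) _ _ e16c_f9)) (e16tn0_t M) (e16x_act M) (e16ce_act M) (fun _ _ => trivial) e16cc8_ok e16c_f8) (forced (e16t_S7 M) (e16th_act M) (e16x_act M) _ _ e16c_f7)) (forced (e16t_S6 M) (e16th_act M) (e16x_act M) _ _ e16c_f6)) (forced (e16t_S5 M) (e16th_act M) (e16x_act M) _ _ e16c_f5)) (e16tn1_t M) (e16x_act M) (e16ce_act M) (fun _ _ => trivial) e16cc4_ok e16c_f4) (forced (e16t_S3 M) (e16th_act M) (e16x_act M) _ _ e16c_f3))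 (forced (e16t_S2 M) (e16th_act M) (e16x_act M) _ _ e16c_f2)) (forced (e16t_S1 M) (e16th_act M) (e16x_act M) _ _ e16c_f1)) (e16tn2_t M) (e16x_act M) (e16ce_act M) (fun _ _ => trivial) e16cc0_ok e16c_f0
theorem e16c_eq {G Ω : Type*} [Group G] [MulAction G Ω] {g : ℕ → G} {pt : ℕ → Ω}
    (M : Md g pt H16.HN3.X.P 12 25 H16.HN3.X.B 239500800) : Subgroup.centralizer (gen (wds g e16x_W) 5) = gen (wds g e16ce_W) 4 ∧ Nat.card (gen (wds g e16ce_W) 4) = 16 :=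
  e16c_c.1 ▸ e16c_c.2 ▸ ⟨(e16c M).cent, (e16c M).card M.inj⟩
theorem e4x_act {G Ω : Type*} [Group G] [MulAction G Ω] {g : ℕ → G} {pt : ℕ → Ω}
    (M : Md g pt H16.HN3.X.P 12 25 H16.HN3.X.B 239500800) : Act (wds g e4x_W) pt e4x_P 12 3 :=
  M.wact e4x_lt
theorem e4th_act {G Ω : Type*} [Group G] [MulAction G Ω] {g : ℕ → G} {pt : ℕ → Ω}
    (M : Md g pt H16.HN3.X.P 12 25 H16.HN3.X.B 239500800) : Act (wds g e4th_W) pt e4th_P 12 26 :=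
  M.wact e4th_lt
theorem e4tl0_e : ∀ i < 11, (dent e4tl0 e4th_P (nat_lit 12)) i = 0 := allZ_sound0 e4tl0_e_0
theorem e4tl0_ok : DOK e4tl0 e4th_P 12 := ⟨e4tl0_h, e4tl0_e⟩
theorem e4tl1_e : ∀ i < 10, (dent e4tl1 e4th_P (nat_lit 12)) i = 0 := allZ_sound0 e4tl1_e_0
theorem e4tl1_ok : DOK e4tl1 e4th_P 12 := ⟨e4tl1_h, e4tl1_e⟩
theorem e4tl2_e : ∀ i < 9, (dent e4tl2 e4th_P (nat_lit 12)) i = 0 := allZ_sound0 e4tl2_e_0
theorem e4tl2_ok : DOK e4tl2 e4th_P 12 := ⟨e4tl2_h, e4tl2_e⟩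
theorem e4tl3_e : ∀ i < 8, (dent e4tl3 e4th_P (nat_lit 12)) i = 0 := allZ_sound0 e4tl3_e_0
theorem e4tl3_ok : DOK e4tl3 e4th_P 12 := ⟨e4tl3_h, e4tl3_e⟩
theorem e4tl4_e : ∀ i < 7, (dent e4tl4 e4th_P (nat_lit 12)) i = 0 := allZ_sound0 e4tl4_e_0
theorem e4tl4_ok : DOK e4tl4 e4th_P 12 := ⟨e4tl4_h, e4tl4_e⟩
theorem e4tl5_e : ∀ i < 6, (dent e4tl5 e4th_P (nat_lit 12)) i = 0 := allZ_sound0 e4tl5_e_0
theorem e4tl5_ok : DOK e4tl5 e4th_P 12 := ⟨e4tl5_h, e4tl5_e⟩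
theorem e4tl6_e : ∀ i < 5, (dent e4tl6 e4th_P (nat_lit 12)) i = 0 := allZ_sound0 e4tl6_e_0
theorem e4tl6_ok : DOK e4tl6 e4th_P 12 := ⟨e4tl6_h, e4tl6_e⟩
theorem e4tl7_e : ∀ i < 4, (dent e4tl7 e4th_P (nat_lit 12)) i = 0 := allZ_sound0 e4tl7_e_0
theorem e4tl7_ok : DOK e4tl7 e4th_P 12 := ⟨e4tl7_h, e4tl7_e⟩
theorem e4tl8_e : ∀ i < 3, (dent e4tl8 e4th_P (nat_lit 12)) i = 0 := allZ_sound0 e4tl8_e_0
theorem e4tl8_ok : DOK e4tl8 e4th_P 12 := ⟨e4tl8_h, e4tl8_e⟩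
theorem e4tl9_e : ∀ i < 2, (dent e4tl9 e4th_P (nat_lit 12)) i = 0 := allZ_sound0 e4tl9_e_0
theorem e4tl9_ok : DOK e4tl9 e4th_P 12 := ⟨e4tl9_h, e4tl9_e⟩
theorem e4t_low {G Ω : Type*} [Group G] [MulAction G Ω] {g : ℕ → G} {pt : ℕ → Ω}
    (M : Md g pt H16.HN3.X.P 12 25 H16.HN3.X.B 239500800) : SLow (gi (wds g e4th_W)) pt 12 [e4tl0, e4tl1, e4tl2, e4tl3, e4tl4, e4tl5, e4tl6, e4tl7, e4tl8, e4tl9] :=
  ((((((((((SLow.nil).cons e4tl9_ok (e4th_act M) e4t_f9).cons e4tl8_ok (e4th_act M) e4t_f8).cons e4tl7_ok (e4th_act M) e4t_f7).cons e4tl6_ok (e4th_act M) e4t_f6).cons e4tl5_ok (e4th_act M) e4t_f5).cons e4tl4_ok (e4th_act M) e4t_f4).cons e4tl3_ok (e4th_act M) e4t_f3).cons e4tl2_ok (e4th_act M) e4t_f2).cons e4tl1_ok (e4th_act M) e4t_f1).cons e4tl0_ok (e4th_act M) e4t_f0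
theorem e4t_S0 {G Ω : Type*} [Group G] [MulAction G Ω] {g : ℕ → G} {pt : ℕ → Ω}
    (M : Md g pt H16.HN3.X.P 12 25 H16.HN3.X.B 239500800) : Stage ⊤ (wds g e4th_W) pt 12 [e4tl0, e4tl1, e4tl2, e4tl3, e4tl4, e4tl5, e4tl6, e4tl7, e4tl8, e4tl9] [] :=
  M.stage (e4t_low M) e4t_c
theorem e4t_S1 {G Ω : Type*} [Group G] [MulAction G Ω] {g : ℕ → G} {pt : ℕ → Ω}
    (M : Md g pt H16.HN3.X.P 12 25 H16.HN3.X.B 239500800) : Stage ⊤ (wds g e4th_W) pt 12 [e4tl1, e4tl2, e4tl3, e4tl4, e4tl5, e4tl6, e4tl7, e4tl8, e4tl9] [e4tl0.Pt 0] :=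
  (e4t_S0 M).next
theorem e4t_S2 {G Ω : Type*} [Group G] [MulAction G Ω] {g : ℕ → G} {pt : ℕ → Ω}
    (M : Md g pt H16.HN3.X.P 12 25 H16.HN3.X.B 239500800) : Stage ⊤ (wds g e4th_W) pt 12 [e4tl2, e4tl3, e4tl4, e4tl5, e4tl6, e4tl7, e4tl8, e4tl9] [e4tl1.Pt 0, e4tl0.Pt 0] :=
  (e4t_S1 M).next
theorem e4t_S3 {G Ω : Type*} [Group G] [MulAction G Ω] {g : ℕ → G} {pt : ℕ → Ω}
    (M : Md g pt H16.HN3.X.P 12 25 H16.HN3.X.B 239500800) : Stage ⊤ (wds g e4th_W) pt 12 [e4tl3, e4tl4, e4tl5, e4tl6, e4tl7, e4tl8, e4tl9] [e4tl2.Pt 0, e4tl1.Pt 0, e4tl0.Pt 0] :=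
  (e4t_S2 M).next
theorem e4t_S4 {G Ω : Type*} [Group G] [MulAction G Ω] {g : ℕ → G} {pt : ℕ → Ω}
    (M : Md g pt H16.HN3.X.P 12 25 H16.HN3.X.B 239500800) : Stage ⊤ (wds g e4th_W) pt 12 [e4tl4, e4tl5, e4tl6, e4tl7, e4tl8, e4tl9] [e4tl3.Pt 0, e4tl2.Pt 0, e4tl1.Pt 0, e4tl0.Pt 0] :=
  (e4t_S3 M).next
theorem e4t_S5 {G Ω : Type*} [Group G] [MulAction G Ω] {g : ℕ → G} {pt : ℕ → Ω}
    (M : Md g pt H16.HN3.X.P 12 25 H16.HN3.X.B 239500800) : Stage ⊤ (wds g e4th_W) pt 12 [e4tl5, e4tl6, e4tl7, e4tl8, e4tl9] [e4tl4.Pt 0, e4tl3.Pt 0, e4tl2.Pt 0, e4tl1.Pt 0, e4tl0.Pt 0] :=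
  (e4t_S4 M).next
theorem e4t_S6 {G Ω : Type*} [Group G] [MulAction G Ω] {g : ℕ → G} {pt : ℕ → Ω}
    (M : Md g pt H16.HN3.X.P 12 25 H16.HN3.X.B 239500800) : Stage ⊤ (wds g e4th_W) pt 12 [e4tl6, e4tl7, e4tl8, e4tl9] [e4tl5.Pt 0, e4tl4.Pt 0, e4tl3.Pt 0, e4tl2.Pt 0, e4tl1.Pt 0, e4tl0.Pt 0] :=
  (e4t_S5 M).next
theorem e4t_S7 {G Ω : Type*} [Group G] [MulAction G Ω] {g : ℕ → G} {pt : ℕ → Ω}
    (M : Md g pt H16.HN3.X.P 12 25 H16.HN3.X.B 239500800) : Stage ⊤ (wds g e4th_W) pt 12 [e4tl7, e4tl8, e4tl9] [e4tl6.Pt 0, e4tl5.Pt 0, e4tl4.Pt 0, e4tl3.Pt 0, e4tl2.Pt 0, e4tl1.Pt 0, e4tl0.Pt 0] :=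
  (e4t_S6 M).next
theorem e4t_S8 {G Ω : Type*} [Group G] [MulAction G Ω] {g : ℕ → G} {pt : ℕ → Ω}
    (M : Md g pt H16.HN3.X.P 12 25 H16.HN3.X.B 239500800) : Stage ⊤ (wds g e4th_W) pt 12 [e4tl8, e4tl9] [e4tl7.Pt 0, e4tl6.Pt 0, e4tl5.Pt 0, e4tl4.Pt 0, e4tl3.Pt 0, e4tl2.Pt 0, e4tl1.Pt 0, e4tl0.Pt 0] :=
  (e4t_S7 M).next
theorem e4t_S9 {G Ω : Type*} [Group G] [MulAction G Ω] {g : ℕ → G} {pt : ℕ → Ω}
    (M : Md g pt H16.HN3.X.P 12 25 H16.HN3.X.B 239500800) : Stage ⊤ (wds g e4th_W) pt 12 [e4tl9] [e4tl8.Pt 0, e4tl7.Pt 0, e4tl6.Pt 0, e4tl5.Pt 0, e4tl4.Pt 0, e4tl3.Pt 0, e4tl2.Pt 0, e4tl1.Pt 0, e4tl0.Pt 0] :=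
  (e4t_S8 M).next
theorem e4t_S10 {G Ω : Type*} [Group G] [MulAction G Ω] {g : ℕ → G} {pt : ℕ → Ω}
    (M : Md g pt H16.HN3.X.P 12 25 H16.HN3.X.B 239500800) : Stage ⊤ (wds g e4th_W) pt 12 [] [e4tl9.Pt 0, e4tl8.Pt 0, e4tl7.Pt 0, e4tl6.Pt 0, e4tl5.Pt 0, e4tl4.Pt 0, e4tl3.Pt 0, e4tl2.Pt 0, e4tl1.Pt 0, e4tl0.Pt 0] :=
  (e4t_S9 M).next
theorem e4ce_act {G Ω : Type*} [Group G] [MulAction G Ω] {g : ℕ → G} {pt : ℕ → Ω}
    (M : Md g pt H16.HN3.X.P 12 25 H16.HN3.X.B 239500800) : Act (wds g e4ce_W) pt e4ce_P 12 2 :=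
  M.wact e4ce_lt
theorem e4tn0_1 : ∀ i < 3, (e4tn0.ent H16.HN3.X.P e4th_P e4x_P e4x_P e4ce_P (nat_lit 25) (nat_lit 3) H16.HN3.X.B e4tl9 [] (fun w => Nat.xor w (e4tl9.Pt (nat_lit 0)))) i = 0 := allZ_sound0 e4tn0_1_0
theorem e4tn0_t {G Ω : Type*} [Group G] [MulAction G Ω] {g : ℕ → G} {pt : ℕ → Ω}
    (M : Md g pt H16.HN3.X.P 12 25 H16.HN3.X.B 239500800) : TrO (gen (wds g e4th_W) e4tl9.K) (wds g e4x_W) (wds g e4x_W) 3 pt 12 (e4tl9.Pt 0) (fun w => Nat.xor w (e4tl9.Pt (nat_lit 0))) :=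
  node M (e4t_S9 M) (e4th_act M) (e4x_act M) (e4x_act M) e4tn0 ((e4ce_act M).mono (by decide)) (fun _ _ => trivial) e4tn0_0 e4tn0_1 (List.forall_mem_nil _)
theorem e4cc7_e : ∀ i < 3, (dent e4cc7 e4ce_P (nat_lit 12)) i = 0 := allZ_sound0 e4cc7_e_0
theorem e4cc7_ok : DOK e4cc7 e4ce_P 12 := ⟨e4cc7_h, e4cc7_e⟩
theorem e4tn1_1 : ∀ i < 5, (e4tn1.ent H16.HN3.X.P e4th_P e4x_P e4x_P e4ce_P (nat_lit 25) (nat_lit 3) H16.HN3.X.B e4tl7 [e4tl8, e4tl9] (memO e4cc7)) i = 0 := allZ_sound0 e4tn1_1_0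
theorem e4tn1_t {G Ω : Type*} [Group G] [MulAction G Ω] {g : ℕ → G} {pt : ℕ → Ω}
    (M : Md g pt H16.HN3.X.P 12 25 H16.HN3.X.B 239500800) : TrO (gen (wds g e4th_W) e4tl7.K) (wds g e4x_W) (wds g e4x_W) 3 pt 12 (e4tl7.Pt 0) (memO e4cc7) :=
  node M (e4t_S7 M) (e4th_act M) (e4x_act M) (e4x_act M) e4tn1 ((e4ce_act M).mono (by decide)) (fun _ _ => trivial) e4tn1_0 e4tn1_1 (List.forall_mem_nil _)
theorem e4tn2_1 : ∀ i < 12, (e4tn2.ent H16.HN3.X.P e4th_P e4x_P e4x_P e4ce_P (nat_lit 25) (nat_lit 3) H16.HN3.X.B e4tl0 [e4tl1, e4tl2, e4tl3, e4tl4, e4tl5, e4tl6, e4tl7, e4tl8, e4tl9] (fun w => Nat.xor w (e4tl0.Pt (nat_lit 0)))) i = 0 := allZ_sound0 e4tn2_1_0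
theorem e4tn2_t {G Ω : Type*} [Group G] [MulAction G Ω] {g : ℕ → G} {pt : ℕ → Ω}
    (M : Md g pt H16.HN3.X.P 12 25 H16.HN3.X.B 239500800) : TrO (gen (wds g e4th_W) e4tl0.K) (wds g e4x_W) (wds g e4x_W) 3 pt 12 (e4tl0.Pt 0) (fun w => Nat.xor w (e4tl0.Pt (nat_lit 0))) :=
  node M (e4t_S0 M) (e4th_act M) (e4x_act M) (e4x_act M) e4tn2 ((e4ce_act M).mono (by decide)) (fun _ _ => trivial) e4tn2_0 e4tn2_1 (List.forall_mem_nil _)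
theorem e4c {G Ω : Type*} [Group G] [MulAction G Ω] {g : ℕ → G} {pt : ℕ → Ω}
    (M : Md g pt H16.HN3.X.P 12 25 H16.HN3.X.B 239500800) : Cen ⊤ (wds g e4x_W) 3 (wds g e4ce_W) pt 12 [e4cc7] :=
  (e4t_S0 M).top ▸ Cen.triv (e4t_S0 M) (Cen.triv (e4t_S1 M) (Cen.triv (e4t_S2 M) (Cen.triv (e4t_S3 M) (Cen.triv (e4t_S4 M) (Cen.triv (e4t_S5 M) (Cen.triv (e4t_S6 M) (Cen.lev M (e4t_S7 M) (Cen.triv (e4t_S8 M) (Cen.triv (e4t_S9 M) (Cen.bot) (e4tn0_t M)) (forced (e4t_S8 M) (e4th_act M) (e4x_act M) _ _ e4c_f8)) (e4tn1_t M) (e4x_act M) (e4ce_act M) (fun _ _ => trivial) e4cc7_ok e4c_f7) (forced (e4t_S6 M) (e4th_act M) (e4x_act M) _ _ e4c_f6)) (forced (e4t_S5 M) (e4th_act M) (e4x_act M) _ _ e4c_f5)) (forced (e4t_S4 M) (e4th_act M) (e4x_act M) _ _ e4c_f4)) (forced (e4t_S3 M) (e4th_act M) (e4x_act M) _ _ e4c_f3)) (forced (e4t_S2 M) (e4th_act M) (e4x_act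 M) _ _ e4c_f2)) (forced (e4t_S1 M) (e4th_act M) (e4x_act M) _ _ e4c_f1)) (e4tn2_t M)
theorem e4c_eq {G Ω : Type*} [Group G] [MulAction G Ω] {g : ℕ → G} {pt : ℕ → Ω}
    (M : Md g pt H16.HN3.X.P 12 25 H16.HN3.X.B 239500800) : Subgroup.centralizer (gen (wds g e4x_W) 3) = gen (wds g e4ce_W) 2 ∧ Nat.card (gen (wds g e4ce_W) 2) = 4 :=
  e4c_c.1 ▸ e4c_c.2 ▸ ⟨(e4c M).cent, (e4c M).card M.inj⟩
theorem f72x_act {G Ω : Type*} [Group G] [MulAction G Ω] {g : ℕ → G} {pt : ℕ → Ω}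
    (M : Md g pt H16.HN3.X.P 12 25 H16.HN3.X.B 239500800) : Act (wds g f72x_W) pt f72x_P 12 3 :=
  M.wact f72x_lt
theorem f72th_act {G Ω : Type*} [Group G] [MulAction G Ω] {g : ℕ → G} {pt : ℕ → Ω}
    (M : Md g pt H16.HN3.X.P 12 25 H16.HN3.X.B 239500800) : Act (wds g f72th_W) pt f72th_P 12 28 :=
  M.wact f72th_lt
theorem f72tl0_e : ∀ i < 11, (dent f72tl0 f72th_P (nat_lit 12)) i = 0 := allZ_sound0 f72tl0_e_0
theorem f72tl0_ok : DOK f72tl0 f72th_P 12 := ⟨f72tl0_h, f72tl0_e⟩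
theorem f72tl1_e : ∀ i < 10, (dent f72tl1 f72th_P (nat_lit 12)) i = 0 := allZ_sound0 f72tl1_e_0
theorem f72tl1_ok : DOK f72tl1 f72th_P 12 := ⟨f72tl1_h, f72tl1_e⟩
theorem f72tl2_e : ∀ i < 9, (dent f72tl2 f72th_P (nat_lit 12)) i = 0 := allZ_sound0 f72tl2_e_0
theorem f72tl2_ok : DOK f72tl2 f72th_P 12 := ⟨f72tl2_h, f72tl2_e⟩
theorem f72tl3_e : ∀ i < 8, (dent f72tl3 f72th_P (nat_lit 12)) i = 0 := allZ_sound0 f72tl3_e_0
theorem f72tl3_ok : DOK f72tl3 f72th_P 12 := ⟨f72tl3_h, f72tl3_e⟩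
theorem f72tl4_e : ∀ i < 7, (dent f72tl4 f72th_P (nat_lit 12)) i = 0 := allZ_sound0 f72tl4_e_0
theorem f72tl4_ok : DOK f72tl4 f72th_P 12 := ⟨f72tl4_h, f72tl4_e⟩
theorem f72tl5_e : ∀ i < 6, (dent f72tl5 f72th_P (nat_lit 12)) i = 0 := allZ_sound0 f72tl5_e_0
theorem f72tl5_ok : DOK f72tl5 f72th_P 12 := ⟨f72tl5_h, f72tl5_e⟩
theorem f72tl6_e : ∀ i < 5, (dent f72tl6 f72th_P (nat_lit 12)) i = 0 := allZ_sound0 f72tl6_e_0
theorem f72tl6_ok : DOK f72tl6 f72th_P 12 := ⟨f72tl6_h, f72tl6_e⟩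
theorem f72tl7_e : ∀ i < 4, (dent f72tl7 f72th_P (nat_lit 12)) i = 0 := allZ_sound0 f72tl7_e_0
theorem f72tl7_ok : DOK f72tl7 f72th_P 12 := ⟨f72tl7_h, f72tl7_e⟩
theorem f72tl8_e : ∀ i < 3, (dent f72tl8 f72th_P (nat_lit 12)) i = 0 := allZ_sound0 f72tl8_e_0
theorem f72tl8_ok : DOK f72tl8 f72th_P 12 := ⟨f72tl8_h, f72tl8_e⟩
theorem f72tl9_e : ∀ i < 2, (dent f72tl9 f72th_P (nat_lit 12)) i = 0 := allZ_sound0 f72tl9_e_0
theorem f72tl9_ok : DOK f72tl9 f72th_P 12 := ⟨f72tl9_h, f72tl9_e⟩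
theorem f72t_low {G Ω : Type*} [Group G] [MulAction G Ω] {g : ℕ → G} {pt : ℕ → Ω}
    (M : Md g pt H16.HN3.X.P 12 25 H16.HN3.X.B 239500800) : SLow (gi (wds g f72th_W)) pt 12 [f72tl0, f72tl1, f72tl2, f72tl3, f72tl4, f72tl5, f72tl6, f72tl7, f72tl8, f72tl9] :=
  ((((((((((SLow.nil).cons f72tl9_ok (f72th_act M) f72t_f9).cons f72tl8_ok (f72th_act M) f72t_f8).cons f72tl7_ok (f72th_act M) f72t_f7).cons f72tl6_ok (f72th_act M) f72t_f6).cons f72tl5_ok (f72th_act M) f72t_f5).cons f72tl4_ok (f72th_act M) f72t_f4).cons f72tl3_ok (f72th_act M) f72t_f3).cons f72tl2_ok (f72th_act M) f72t_f2).cons f72tl1_ok (f72th_act M) f72t_f1).cons f72tl0_ok (f72th_act M) f72t_f0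
theorem f72t_S0 {G Ω : Type*} [Group G] [MulAction G Ω] {g : ℕ → G} {pt : ℕ → Ω}
    (M : Md g pt H16.HN3.X.P 12 25 H16.HN3.X.B 239500800) : Stage ⊤ (wds g f72th_W) pt 12 [f72tl0, f72tl1, f72tl2, f72tl3, f72tl4, f72tl5, f72tl6, f72tl7, f72tl8, f72tl9] [] :=
  M.stage (f72t_low M) f72t_c
theorem f72t_S1 {G Ω : Type*} [Group G] [MulAction G Ω] {g : ℕ → G} {pt : ℕ → Ω}
    (M : Md g pt H16.HN3.X.P 12 25 H16.HN3.X.B 239500800) : Stage ⊤ (wds g f72th_W) pt 12 [f72tl1, f72tl2, f72tl3, f72tl4, f72tl5, f72tl6, f72tl7, f72tl8, f72tl9] [f72tl0.Pt 0] :=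
  (f72t_S0 M).next
theorem f72t_S2 {G Ω : Type*} [Group G] [MulAction G Ω] {g : ℕ → G} {pt : ℕ → Ω}
    (M : Md g pt H16.HN3.X.P 12 25 H16.HN3.X.B 239500800) : Stage ⊤ (wds g f72th_W) pt 12 [f72tl2, f72tl3, f72tl4, f72tl5, f72tl6, f72tl7, f72tl8, f72tl9] [f72tl1.Pt 0, f72tl0.Pt 0] :=
  (f72t_S1 M).next
theorem f72t_S3 {G Ω : Type*} [Group G] [MulAction G Ω] {g : ℕ → G} {pt : ℕ → Ω}
    (M : Md g pt H16.HN3.X.P 12 25 H16.HN3.X.B 239500800) : Stage ⊤ (wds g f72th_W) pt 12 [f72tl3, f72tl4, f72tl5, f72tl6, f72tl7, f72tl8, f72tl9] [f72tl2.Pt 0, f72tl1.Pt 0, f72tl0.Pt 0] :=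
  (f72t_S2 M).next
theorem f72t_S4 {G Ω : Type*} [Group G] [MulAction G Ω] {g : ℕ → G} {pt : ℕ → Ω}
    (M : Md g pt H16.HN3.X.P 12 25 H16.HN3.X.B 239500800) : Stage ⊤ (wds g f72th_W) pt 12 [f72tl4, f72tl5, f72tl6, f72tl7, f72tl8, f72tl9] [f72tl3.Pt 0, f72tl2.Pt 0, f72tl1.Pt 0, f72tl0.Pt 0] :=
  (f72t_S3 M).next
theorem f72t_S5 {G Ω : Type*} [Group G] [MulAction G Ω] {g : ℕ → G} {pt : ℕ → Ω}
    (M : Md g pt H16.HN3.X.P 12 25 H16.HN3.X.B 239500800) : Stage ⊤ (wds g f72th_W) pt 12 [f72tl5, f72tl6, f72tl7, f72tl8, f72tl9] [f72tl4.Pt 0, f72tl3.Pt 0, f72tl2.Pt 0, f72tl1.Pt 0, f72tl0.Pt 0] :=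
  (f72t_S4 M).next
theorem f72t_S6 {G Ω : Type*} [Group G] [MulAction G Ω] {g : ℕ → G} {pt : ℕ → Ω}
    (M : Md g pt H16.HN3.X.P 12 25 H16.HN3.X.B 239500800) : Stage ⊤ (wds g f72th_W) pt 12 [f72tl6, f72tl7, f72tl8, f72tl9] [f72tl5.Pt 0, f72tl4.Pt 0, f72tl3.Pt 0, f72tl2.Pt 0, f72tl1.Pt 0, f72tl0.Pt 0] :=
  (f72t_S5 M).next
theorem f72t_S7 {G Ω : Type*} [Group G] [MulAction G Ω] {g : ℕ → G} {pt : ℕ → Ω}
    (M : Md g pt H16.HN3.X.P 12 25 H16.HN3.X.B 239500800) : Stage ⊤ (wds g f72th_W) pt 12 [f72tl7, f72tl8, f72tl9] [f72tl6.Pt 0, f72tl5.Pt 0, f72tl4.Pt 0, f72tl3.Pt 0, f72tl2.Pt 0, f72tl1.Pt 0, f72tl0.Pt 0] :=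
  (f72t_S6 M).next
theorem f72t_S8 {G Ω : Type*} [Group G] [MulAction G Ω] {g : ℕ → G} {pt : ℕ → Ω}
    (M : Md g pt H16.HN3.X.P 12 25 H16.HN3.X.B 239500800) : Stage ⊤ (wds g f72th_W) pt 12 [f72tl8, f72tl9] [f72tl7.Pt 0, f72tl6.Pt 0, f72tl5.Pt 0, f72tl4.Pt 0, f72tl3.Pt 0, f72tl2.Pt 0, f72tl1.Pt 0, f72tl0.Pt 0] :=
  (f72t_S7 M).next
theorem f72t_S9 {G Ω : Type*} [Group G] [MulAction G Ω] {g : ℕ → G} {pt : ℕ → Ω}
    (M : Md g pt H16.HN3.X.P 12 25 H16.HN3.X.B 239500800) : Stage ⊤ (wds g f72th_W) pt 12 [f72tl9] [f72tl8.Pt 0, f72tl7.Pt 0, f72tl6.Pt 0, f72tl5.Pt 0, f72tl4.Pt 0, f72tl3.Pt 0, f72tl2.Pt 0, f72tl1.Pt 0, f72tl0.Pt 0] :=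
  (f72t_S8 M).next
theorem f72t_S10 {G Ω : Type*} [Group G] [MulAction G Ω] {g : ℕ → G} {pt : ℕ → Ω}
    (M : Md g pt H16.HN3.X.P 12 25 H16.HN3.X.B 239500800) : Stage ⊤ (wds g f72th_W) pt 12 [] [f72tl9.Pt 0, f72tl8.Pt 0, f72tl7.Pt 0, f72tl6.Pt 0, f72tl5.Pt 0, f72tl4.Pt 0, f72tl3.Pt 0, f72tl2.Pt 0, f72tl1.Pt 0, f72tl0.Pt 0] :=
  (f72t_S9 M).next
theorem f72ce_act {G Ω : Type*} [Group G] [MulAction G Ω] {g : ℕ → G} {pt : ℕ → Ω}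
    (M : Md g pt H16.HN3.X.P 12 25 H16.HN3.X.B 239500800) : Act (wds g f72ce_W) pt f72ce_P 12 5 :=
  M.wact f72ce_lt
theorem f72cc8_e : ∀ i < 1, (dent f72cc8 f72ce_P (nat_lit 12)) i = 0 := allZ_sound0 f72cc8_e_0
theorem f72cc8_ok : DOK f72cc8 f72ce_P 12 := ⟨f72cc8_h, f72cc8_e⟩
theorem f72tn0_1 : ∀ i < 4, (f72tn0.ent H16.HN3.X.P f72th_P f72x_P f72x_P f72ce_P (nat_lit 25) (nat_lit 3) H16.HN3.X.B f72tl8 [f72tl9] (memO f72cc8)) i = 0 := allZ_sound0 f72tn0_1_0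
theorem f72tn0_t {G Ω : Type*} [Group G] [MulAction G Ω] {g : ℕ → G} {pt : ℕ → Ω}
    (M : Md g pt H16.HN3.X.P 12 25 H16.HN3.X.B 239500800) : TrO (gen (wds g f72th_W) f72tl8.K) (wds g f72x_W) (wds g f72x_W) 3 pt 12 (f72tl8.Pt 0) (memO f72cc8) :=
  node M (f72t_S8 M) (f72th_act M) (f72x_act M) (f72x_act M) f72tn0 ((f72ce_act M).mono (by decide)) (fun _ _ => trivial) f72tn0_0 f72tn0_1 (List.forall_mem_nil _)
theorem f72cc6_e : ∀ i < 3, (dent f72cc6 f72ce_P (nat_lit 12)) i = 0 := allZ_sound0 f72cc6_e_0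
theorem f72cc6_ok : DOK f72cc6 f72ce_P 12 := ⟨f72cc6_h, f72cc6_e⟩
theorem f72tn1_1 : ∀ i < 6, (f72tn1.ent H16.HN3.X.P f72th_P f72x_P f72x_P f72ce_P (nat_lit 25) (nat_lit 3) H16.HN3.X.B f72tl6 [f72tl7, f72tl8, f72tl9] (memO f72cc6)) i = 0 := allZ_sound0 f72tn1_1_0
theorem f72tn1_t {G Ω : Type*} [Group G] [MulAction G Ω] {g : ℕ → G} {pt : ℕ → Ω}
    (M : Md g pt H16.HN3.X.P 12 25 H16.HN3.X.B 239500800) : TrO (gen (wds g f72th_W) f72tl6.K) (wds g f72x_W) (wds g f72x_W) 3 pt 12 (f72tl6.Pt 0) (memO f72cc6) :=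
  node M (f72t_S6 M) (f72th_act M) (f72x_act M) (f72x_act M) f72tn1 ((f72ce_act M).mono (by decide)) (fun _ _ => trivial) f72tn1_0 f72tn1_1 (List.forall_mem_nil _)
theorem f72cc3_e : ∀ i < 2, (dent f72cc3 f72ce_P (nat_lit 12)) i = 0 := allZ_sound0 f72cc3_e_0
theorem f72cc3_ok : DOK f72cc3 f72ce_P 12 := ⟨f72cc3_h, f72cc3_e⟩
theorem f72tn2_1 : ∀ i < 9, (f72tn2.ent H16.HN3.X.P f72th_P f72x_P f72x_P f72ce_P (nat_lit 25) (nat_lit 3) H16.HN3.X.B f72tl3 [f72tl4, f72tl5, f72tl6, f72tl7, f72tl8, f72tl9] (memO f72cc3)) i = 0 := allZ_sound0 f72tn2_1_0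
theorem f72tn2_t {G Ω : Type*} [Group G] [MulAction G Ω] {g : ℕ → G} {pt : ℕ → Ω}
    (M : Md g pt H16.HN3.X.P 12 25 H16.HN3.X.B 239500800) : TrO (gen (wds g f72th_W) f72tl3.K) (wds g f72x_W) (wds g f72x_W) 3 pt 12 (f72tl3.Pt 0) (memO f72cc3) :=
  node M (f72t_S3 M) (f72th_act M) (f72x_act M) (f72x_act M) f72tn2 ((f72ce_act M).mono (by decide)) (fun _ _ => trivial) f72tn2_0 f72tn2_1 (List.forall_mem_nil _)
theorem f72cc0_e : ∀ i < 2, (dent f72cc0 f72ce_P (nat_lit 12)) i = 0 := allZ_sound0 f72cc0_e_0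
theorem f72cc0_ok : DOK f72cc0 f72ce_P 12 := ⟨f72cc0_h, f72cc0_e⟩
theorem f72tn3_1 : ∀ i < 12, (f72tn3.ent H16.HN3.X.P f72th_P f72x_P f72x_P f72ce_P (nat_lit 25) (nat_lit 3) H16.HN3.X.B f72tl0 [f72tl1, f72tl2, f72tl3, f72tl4, f72tl5, f72tl6, f72tl7, f72tl8, f72tl9] (memO f72cc0)) i = 0 := allZ_sound0 f72tn3_1_0
theorem f72tn3_t {G Ω : Type*} [Group G] [MulAction G Ω] {g : ℕ → G} {pt : ℕ → Ω}
    (M : Md g pt H16.HN3.X.P 12 25 H16.HN3.X.B 239500800) : TrO (gen (wds g f72th_W) f72tl0.K) (wds g f72x_W) (wds g f72x_W) 3 pt 12 (f72tl0.Pt 0) (memO f72cc0) :=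
  node M (f72t_S0 M) (f72th_act M) (f72x_act M) (f72x_act M) f72tn3 ((f72ce_act M).mono (by decide)) (fun _ _ => trivial) f72tn3_0 f72tn3_1 (List.forall_mem_nil _)
theorem f72c {G Ω : Type*} [Group G] [MulAction G Ω] {g : ℕ → G} {pt : ℕ → Ω}
    (M : Md g pt H16.HN3.X.P 12 25 H16.HN3.X.B 239500800) : Cen ⊤ (wds g f72x_W) 3 (wds g f72ce_W) pt 12 [f72cc0, f72cc3, f72cc6, f72cc8] :=
  (f72t_S0 M).top ▸ Cen.lev M (f72t_S0 M) (Cen.triv (f72t_S1 M) (Cen.triv (f72t_S2 M) (Cen.lev M (f72t_S3 M) (Cen.triv (f72t_S4 M) (Cen.triv (f72t_S5 M) (Cen.lev M (f72t_S6 M) (Cen.triv (f72t_S7 M) (Cen.lev M (f72t_S8 M) (Cen.triv (f72t_S9 M) (Cen.bot) (forced (f72t_S9 M) (f72th_act M) (f72x_act M) _ _ f72c_f9)) (f72tn0_t M) (f72x_act M) (f72ce_act M) (fun _ _ => trivial) f72cc8_ok f72c_f8) (forced (f72t_S7 M) (f72th_act M) (f72x_act M) _ _ f72c_f7)) (f72tn1_t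 M) (f72x_act M) (f72ce_act M) (fun _ _ => trivial) f72cc6_ok f72c_f6) (forced (f72t_S5 M) (f72th_act M) (f72x_act M) _ _ f72c_f5)) (forced (f72t_S4 M) (f72th_act M) (f72x_act M) _ _ f72c_f4)) (f72tn2_t M) (f72x_act M) (f72ce_act M) (fun _ _ => trivial) f72cc3_ok f72c_f3) (forced (f72t_S2 M) (f72th_act M) (f72x_act M) _ _ f72c_f2)) (forced (f72t_S1 M) (f72th_act M) (f72x_act M) _ _ f72c_f1)) (f72tn3_t M) (f72x_act M) (f72ce_act M) (fun _ _ => trivial) f72cc0_ok f72c_f0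
theorem f72c_eq {G Ω : Type*} [Group G] [MulAction G Ω] {g : ℕ → G} {pt : ℕ → Ω}
    (M : Md g pt H16.HN3.X.P 12 25 H16.HN3.X.B 239500800) : Subgroup.centralizer (gen (wds g f72x_W) 3) = gen (wds g f72ce_W) 5 ∧ Nat.card (gen (wds g f72ce_W) 5) = 72 :=
  f72c_c.1 ▸ f72c_c.2 ▸ ⟨(f72c M).cent, (f72c M).card M.inj⟩

end H16.HN3.X
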