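import Cfsg.Agent.H16.D.HNn
import Cfsg.Agent.H0.TR
import Cfsg.Statements.S1674

/-! Chunk statements for the three-local characterization of the Harada-Norton group. -/

set_option autoImplicit false

namespace H16.HN3
open Subgroup Equiv H0.TR

universe u

abbrev A12 := alternatingGroup (Fin 12)

/-- the even permutation `(i j)(k l)`, composed as functions -/
def sw (i j k l : Fin 12) (h : i ≠ j ∧ k ≠ l := by decide) : A12 :=
  ⟨swap i j * swap k l, by simp [Perm.mem_alternatingGroup, h.1, h.2]⟩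

/-- `(0 1 2)` -/
def a₁ : A12 := sw 0 2 0 1
/-- `(3 4 5)` -/
def a₂ : A12 := sw 3 5 3 4
/-- `(6 7 8)` -/
def a₃ : A12 := sw 6 8 6 7
/-- `(9 10 11)` -/
def a₄ : A12 := sw 9 11 9 10
def r : A12 := sw 0 1 3 4
def v : A12 := sw 0 3 1 4
/-- generators of the centraliser of `r` in `A12` (order 161280) -/
def cs (i : ℕ) : A12 :=
  [sw 0 1 2 5, sw 0 1 5 6, sw 0 1 6 7, sw 0 1 7 8, sw 0 1 8 9, sw 0 1 9 10, sw 0 1 10 11, v].getD i 1
/-- the same generators as words in the letters `x, x⁻¹, y, y⁻¹, z` of the model of `2.HS:2` -/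
noncomputable def WN : List (List ℕ) := [[0, 3, 0, 3, 1, 2, 2, 2, 4, 2, 2, 2, 0, 2, 0, 2, 1],
  [0, 3, 0, 3, 3, 1, 3, 1, 4, 2, 0, 2, 2, 0, 2, 1],
  [4, 3, 3, 4, 2, 4, 0, 2, 4, 3, 4, 3, 4, 2, 1, 4, 2, 0, 3, 1, 2],
  [3, 0, 3, 0, 3, 3, 0, 2, 1, 2, 1, 2, 0, 3, 3, 3, 1, 2, 2, 0, 3, 0, 4],
  [0, 2, 0, 2, 2, 2, 1, 3, 1, 2, 0, 3, 3, 3, 1, 3, 1, 4],
  [3, 0, 3, 3, 0, 3, 0, 3, 1, 2, 2, 1, 2, 2, 0, 3, 0, 4],
  [2, 0, 3, 1, 2, 2, 0, 3, 1, 2, 0, 4, 2, 0, 3, 0, 2],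
  [4],
  [4, 3, 3, 4, 3, 3, 4, 3, 3, 4, 2, 0, 3, 1, 3]]

variable {G : Type*} [Group G]

/-- a copy of `A12` containing the centralisers of its three-cycles -/
structure A0 (ι : A12 →* G) : Prop where
  inj : Function.Injective ι
  ca : ∀ y, y * ι a₁ = ι a₁ * y → y ∈ ι.range

/-- and an element fusing three-cycles with products of two three-cycles -/
structure AX (ι : A12 →* G) (g : G) : Prop extends A0 ι where
  gr : g * ι r = ι r * g
  g1 : g * ι a₁ * g⁻¹ = ι a₁ * (ι a₂)⁻¹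
  g2 : g * ι a₂ * g⁻¹ = ι a₁ * ι a₂
  g3 : g * ι a₃ * g⁻¹ = ι a₃ * ι a₄
  g4 : g * ι a₄ * g⁻¹ = ι a₃ * (ι a₄)⁻¹

/-- the centraliser of the four-group `⟨r, v⟩` lies in the copy of `A12` -/
def CV (ι : A12 →* G) : Prop := ∀ y, y * ι r = ι r * y → y * ι v = ι v * y → y ∈ ι.range

/-- a copy of `2.HS:2` glued along the centraliser of `r` in `A12` -/
structure HM (ι : A12 →* G) (μ : gen HNn.T.π 5 →* G) : Prop where
  inj : Function.Injective μ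
  e : ∀ i < 8, ∀ x : gen HNn.T.π 5, x.1 = evA HNn.T.π (nth [] WN i) → μ x = ι (cs i)

def K1 : Prop := ∀ {G : Type u} [Group G] [Finite G] (ι : A12 →* G) (g : G), AX ι g → CV ι

def K2 : Prop := ∀ {G : Type u} [Group G] [Finite G] (ι : A12 →* G) (g : G), AX ι g → CV ι →
  ∃ μ, HM ι μ

def K3 : Prop := ∀ {G : Type u} [Group G] [Finite G] (ι : A12 →* G) (μ : gen HNn.T.π 5 →* G),
  A0 ι → CV ι → HM ι μ → ∃ M : Subgroup (centralizer ({ι r} : Set G)), M.Normal ∧ M.index = 2 ∧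
    centralizer (M : Set (centralizer ({ι r} : Set G))) ≤ M ∧ Cfsg.IsNonsplitDoubleCover M Cfsg.Spor.HS

theorem r_eq : r = cs 7 * cs 0 * cs 7 * cs 0 := by decide

end H16.HN3
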